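import Groth.Agent.Etrest.LqfStalk
import Groth.Agent.Etrest.EtExtStalk
import Groth.Agent.Etrest.LqfLocal
import Groth.Agent.Etcore.Stalks
import Groth.Agent.EtpbcB.BCCalc
import Groth.Agent.Sga4h.PushDer

/-!
# The counit `f⁻¹ f_* F ⟶ F` is an epimorphism for finite (separated lqf) `f`

* `epi_counit`;
* `isZero_of_isZero_push`.
-/

set_option autoImplicit false
universe u
open CategoryTheory CategoryTheory.Limits AlgebraicGeometry Opposite

namespace Groth.Agent.Sga4h.FinCounit

open EtCoh Groth.Agent.Etrest Groth.Agent.Etcore.Stalks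

variable {X Y : Scheme.{u}}

/-- The unit on sections. -/
lemma counit_unit_apply (f : X ⟶ Y) (F : Ab X) (V : Y.Etale) (t : sect F ((bc f).obj V)) :
    ((pullPushAdj f).counit.app F).hom.app (op ((bc f).obj V))
      (((pullPushAdj f).unit.app ((push f).obj F)).hom.app (op V) t) = t := by
  have h := (pullPushAdj f).right_triangle_components F
  have h2 := congrArg (fun φ => (φ.hom.app (op V)) t) h
  exact h2

theorem epi_counit (f : X ⟶ Y) [IsSeparated f] [LocallyOfFiniteType f] [LocallyQuasiFinite f]
    (F : Ab X) : Epi ((pullPushAdj f).counit.app F) := by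
  have : Sheaf.IsLocallySurjective ((pullPushAdj f).counit.app F) := by
    refine ⟨fun {U} s => ?_⟩
    refine mem_of_geom _ fun x => ?_
    obtain ⟨Ω, i1, i2, ξ, hξ⟩ := EtExtStalk.exists_geom_algClosed x
    refine ⟨Ω, i1, inferInstance, ξ, hξ, fun u => ?_⟩
    obtain ⟨V, g, hg, v, W, j, r, w, h1, hj, hj', hW, hr, hw, hw', -⟩ :=
      LqfLocal.exists_clopen_piece f U.hom u.left
    let V' : Y.Etale := Scheme.Etale.mk g
    let T : X.Etale := (bc f).obj V'
    have hT : Etale T.hom := T.prop
    have hj2 : Etale j := inferInstance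
    have hjT : Etale (j ≫ T.hom) := MorphismProperty.comp_mem @Etale j T.hom hj2 hT
    let W' : X.Etale := Scheme.Etale.mk (j ≫ T.hom)
    let jj : W' ⟶ T := MorphismProperty.Over.homMk j rfl trivial
    let rr : W' ⟶ U := MorphismProperty.Over.homMk r hr trivial
    have : IsOpenImmersion jj.left := hj
    obtain ⟨t, ht, -⟩ := LqfStalk.exists_extend_zero F jj
      (Scheme.Hom.isClosedEmbedding j).isClosed_range (F.obj.map rr.op s)
    have hu : u.left ≫ U.hom = ξ := Over.w u
    have hw2 : w ≫ W'.hom = ξ := by
      change w ≫ j ≫ T.hom = ξ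
      have : j ≫ T.hom = r ≫ U.hom := hr.symm
      rw [this, ← Category.assoc, hw]
      exact hu
    refine ⟨W', rr, Over.homMk w hw2, ?_, ?_⟩
    · -- `s|W` is in the image
      refine ⟨((pull f).obj ((push f).obj F)).obj.map jj.op
        (((pullPushAdj f).unit.app ((push f).obj F)).hom.app (op V') t), ?_⟩
      have h2 := ConcreteCategory.congr_hom
        (((pullPushAdj f).counit.app F).hom.naturality jj.op)
        (((pullPushAdj f).unit.app ((push f).obj F)).hom.app (op V') t)
      refine h2.trans ?_
      refine (congrArg (F.obj.map jj.op) (counit_unit_apply f F V' t)).trans ht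
    · apply Over.OverMorphism.ext
      exact hw
  infer_instance

/-- `f_*` reflects zero objects for `f` finite. -/
theorem isZero_of_isZero_push (f : X ⟶ Y) [IsSeparated f] [LocallyOfFiniteType f]
    [LocallyQuasiFinite f] (F : Ab X) (h : IsZero ((push f).obj F)) : IsZero F := by
  have := epi_counit f F
  have h2 : IsZero ((pull f).obj ((push f).obj F)) := by
    rw [IsZero.iff_id_eq_zero] at h ⊢
    rw [← CategoryTheory.Functor.map_id, h, Functor.map_zero]
  exact IsZero.of_epi ((pullPushAdj f).counit.app F) h2

end Groth.Agent.Sga4h.FinCounit
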