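import Groth.Agent.Sga4h.PushDer

/-!
# Sheaves `F` on `S` with `F = f_* f^* F` and `R^q f_* f^* F = 0`

`Acyc f F` and its behaviour under isomorphism, finite sums and direct image along a base change map.
-/

set_option autoImplicit false
set_option linter.dupNamespace false
universe u

open CategoryTheory CategoryTheory.Limits AlgebraicGeometry Opposite

namespace Groth.Agent.Sga4h.Acyc

open PushDer

variable {X Y S T : Scheme.{u}}

/-- `F → f_* f^* F` is an isomorphism and `R^q f_* f^* F = 0` for `q > 0`. -/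
def Acyc (f : X ⟶ S) (F : EtCoh.Ab S) : Prop :=
  IsIso ((EtCoh.pullPushAdj f).unit.app F) ∧
    ∀ q : ℕ, 0 < q → IsZero ((EtCoh.Rpush f q).obj ((EtCoh.pull f).obj F))

theorem Acyc.of_iso {f : X ⟶ S} {F G : EtCoh.Ab S} (e : F ≅ G) (h : Acyc f F) : Acyc f G := by
  refine ⟨?_, fun q hq => (h.2 q hq).of_iso ((EtCoh.Rpush f q).mapIso ((EtCoh.pull f).mapIso e.symm))⟩
  have := h.1
  have e1 : (EtCoh.pullPushAdj f).unit.app G =
      e.inv ≫ (EtCoh.pullPushAdj f).unit.app F ≫ (EtCoh.push f).map ((EtCoh.pull f).map e.hom) := by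
    have := (EtCoh.pullPushAdj f).unit.naturality e.hom
    simp only [Functor.id_map, Functor.comp_map] at this
    rw [← this, e.inv_hom_id_assoc]
  rw [e1]
  infer_instance

/-- the unit at `π_* M` in terms of the unit at `M`, for a commutative square -/
theorem unit_push (π : T ⟶ S) (f : X ⟶ S) (fT : Y ⟶ T) (π' : Y ⟶ X) (w : fT ≫ π = π' ≫ f)
    (M : EtCoh.Ab T) :
    (EtCoh.pullPushAdj f).unit.app ((EtCoh.push π).obj M) ≫
        (EtCoh.push f).map (EtCoh.baseChange0 π f π' fT w M) =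
      (EtCoh.push π).map ((EtCoh.pullPushAdj fT).unit.app M) ≫ (EtCoh.pushComp π fT).hom.app _ ≫
        (EtCoh.pushCongr w).hom.app _ ≫ (EtCoh.pushComp f π').inv.app _ := by
  have := ((EtCoh.pullPushAdj f).homEquiv_unit (X := (EtCoh.push π).obj M)
    (f := EtCoh.baseChange0 π f π' fT w M)).symm
  refine this.trans ?_
  exact Equiv.apply_symm_apply _ _

theorem isIso_unit_push_iff (π : T ⟶ S) (f : X ⟶ S) (fT : Y ⟶ T) (π' : Y ⟶ X) (w : fT ≫ π = π' ≫ f)
    (M : EtCoh.Ab T) [IsIso (EtCoh.baseChange0 π f π' fT w M)] :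
    IsIso ((EtCoh.pullPushAdj f).unit.app ((EtCoh.push π).obj M)) ↔
      IsIso ((EtCoh.push π).map ((EtCoh.pullPushAdj fT).unit.app M)) := by
  have h := unit_push π f fT π' w M
  have h1 : IsIso ((EtCoh.pushComp π fT).hom.app ((EtCoh.pull fT).obj M) ≫
        (EtCoh.pushCongr w).hom.app _ ≫ (EtCoh.pushComp f π').inv.app _) := inferInstance
  constructor
  · intro h2
    have : IsIso ((EtCoh.push π).map ((EtCoh.pullPushAdj fT).unit.app M) ≫ (EtCoh.pushComp π fT).hom.app _ ≫
        (EtCoh.pushCongr w).hom.app _ ≫ (EtCoh.pushComp f π').inv.app _) := by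
      rw [← h]; infer_instance
    exact IsIso.of_isIso_comp_right _ ((EtCoh.pushComp π fT).hom.app _ ≫
        (EtCoh.pushCongr w).hom.app _ ≫ (EtCoh.pushComp f π').inv.app _)
  · intro h2
    have : IsIso ((EtCoh.pullPushAdj f).unit.app ((EtCoh.push π).obj M) ≫
        (EtCoh.push f).map (EtCoh.baseChange0 π f π' fT w M)) := by
      rw [h]; infer_instance
    exact IsIso.of_isIso_comp_right _ ((EtCoh.push f).map (EtCoh.baseChange0 π f π' fT w M))

/-- higher direct images along `f` of `f^* π_* M`, when base change holds and `π_*`, `π'_*` are exact -/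
noncomputable def rpushPushIso (π : T ⟶ S) (f : X ⟶ S) (fT : Y ⟶ T) (π' : Y ⟶ X) (w : fT ≫ π = π' ≫ f)
    (M : EtCoh.Ab T) [IsIso (EtCoh.baseChange0 π f π' fT w M)]
    [PreservesFiniteColimits (EtCoh.push π)]
    (hπ' : ∀ (F : EtCoh.Ab Y) (p : ℕ), 0 < p → IsZero ((EtCoh.Rpush π' p).obj F)) (q : ℕ) :
    (EtCoh.Rpush f q).obj ((EtCoh.pull f).obj ((EtCoh.push π).obj M)) ≅
      (EtCoh.push π).obj ((EtCoh.Rpush fT q).obj ((EtCoh.pull fT).obj M)) :=
  (EtCoh.Rpush f q).mapIso (asIso (EtCoh.baseChange0 π f π' fT w M)) ≪≫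
    rpushCompIso π' f _ (hπ' _) q ≪≫ (rpushCongr w.symm q).app _ ≪≫ rpushExactIso fT π _ q

/-- Acyclicity for `π_* M` follows from acyclicity of `M` after base change. -/
theorem acyc_push (π : T ⟶ S) (f : X ⟶ S) (fT : Y ⟶ T) (π' : Y ⟶ X) (w : fT ≫ π = π' ≫ f)
    (M : EtCoh.Ab T) [IsIso (EtCoh.baseChange0 π f π' fT w M)]
    [PreservesFiniteColimits (EtCoh.push π)]
    (hπ' : ∀ (F : EtCoh.Ab Y) (p : ℕ), 0 < p → IsZero ((EtCoh.Rpush π' p).obj F))
    (h : Acyc fT M) : Acyc f ((EtCoh.push π).obj M) := by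
  refine ⟨(isIso_unit_push_iff π f fT π' w M).2 ?_, fun q hq => ?_⟩
  · have := h.1
    infer_instance
  · refine IsZero.of_iso ?_ (rpushPushIso π f fT π' w M hπ' q)
    exact (EtCoh.push π).map_isZero (h.2 q hq)

/-- Converse of `acyc_push` when `π_*` is exact and reflects zero objects. -/
theorem acyc_of_push (π : T ⟶ S) (f : X ⟶ S) (fT : Y ⟶ T) (π' : Y ⟶ X) (w : fT ≫ π = π' ≫ f)
    (M : EtCoh.Ab T) [IsIso (EtCoh.baseChange0 π f π' fT w M)]
    [PreservesFiniteColimits (EtCoh.push π)]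
    (hπ' : ∀ (F : EtCoh.Ab Y) (p : ℕ), 0 < p → IsZero ((EtCoh.Rpush π' p).obj F))
    (h0 : ∀ F : EtCoh.Ab T, IsZero ((EtCoh.push π).obj F) → IsZero F)
    (h : Acyc f ((EtCoh.push π).obj M)) : Acyc fT M := by
  refine ⟨?_, fun q hq => h0 _ ((h.2 q hq).of_iso (rpushPushIso π f fT π' w M hπ' q).symm)⟩
  have h1 := (isIso_unit_push_iff π f fT π' w M).1 h.1
  set u := (EtCoh.pullPushAdj fT).unit.app M with hu
  have hk : Mono u := by
    rw [Preadditive.mono_iff_isZero_kernel]
    exact h0 _ ((isZero_kernel_of_mono ((EtCoh.push π).map u)).of_iso (PreservesKernel.iso _ _))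
  have hc : Epi u := by
    rw [Preadditive.epi_iff_isZero_cokernel]
    exact h0 _ ((isZero_cokernel_of_epi ((EtCoh.push π).map u)).of_iso
      (PreservesCokernel.iso _ _))
  exact isIso_of_mono_of_epi u

section Biproduct

variable {C : Type*} {D : Type*} [Category* C] [Category* D] [Preadditive C] [Preadditive D]
  [HasFiniteBiproducts C]

theorem isZero_map_biproduct [HasZeroObject D] {ι : Type} [Finite ι] (F : C ⥤ D) [F.Additive] (G : ι → C)
    (h : ∀ i, IsZero (F.obj (G i))) : IsZero (F.obj (⨁ G)) := by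
  have := Fintype.ofFinite ι
  rw [IsZero.iff_id_eq_zero, ← F.map_id, ← biproduct.total, F.map_sum]
  refine Finset.sum_eq_zero fun i _ => ?_
  rw [F.map_comp, (h i).eq_zero_of_tgt (F.map (biproduct.π G i)), zero_comp]

theorem isIso_app_biproduct {ι : Type} [Finite ι] {F F' : C ⥤ D} [F.Additive] [F'.Additive] (η : F ⟶ F')
    (G : ι → C) (h : ∀ i, IsIso (η.app (G i))) : IsIso (η.app (⨁ G)) := by
  have := Fintype.ofFinite ι
  refine ⟨∑ i, F'.map (biproduct.π G i) ≫ inv (η.app (G i)) ≫ F.map (biproduct.ι G i), ?_, ?_⟩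
  · rw [Preadditive.comp_sum]
    have : ∀ i, η.app (⨁ G) ≫ F'.map (biproduct.π G i) ≫ inv (η.app (G i)) ≫ F.map (biproduct.ι G i) =
        F.map (biproduct.π G i ≫ biproduct.ι G i) := by
      intro i
      rw [← NatTrans.naturality_assoc, IsIso.hom_inv_id_assoc, F.map_comp]
    simp only [this]
    rw [← F.map_sum, biproduct.total, F.map_id]
  · rw [Preadditive.sum_comp]
    have : ∀ i, (F'.map (biproduct.π G i) ≫ inv (η.app (G i)) ≫ F.map (biproduct.ι G i)) ≫ η.app (⨁ G) =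
        F'.map (biproduct.π G i ≫ biproduct.ι G i) := by
      intro i
      rw [Category.assoc, Category.assoc, η.naturality, IsIso.inv_hom_id_assoc, F'.map_comp]
    simp only [this]
    rw [← F'.map_sum, biproduct.total, F'.map_id]

end Biproduct

theorem acyc_biproduct (f : X ⟶ S) {ι : Type} [Finite ι] (G : ι → EtCoh.Ab S) (h : ∀ i, Acyc f (G i)) :
    Acyc f (⨁ G) := by
  refine ⟨isIso_app_biproduct (EtCoh.pullPushAdj f).unit G fun i => (h i).1, fun q hq => ?_⟩
  exact isZero_map_biproduct (EtCoh.pull f ⋙ EtCoh.Rpush f q) G fun i => (h i).2 q hq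

end Groth.Agent.Sga4h.Acyc
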