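import Groth.Agent.Sga4h.Acyc
import Groth.Agent.EtpbcB.BCCalc

/-!
# Acyclicity and composition of morphisms

For `f : X ⟶ Y`, `g : Y ⟶ Z` and `M` on `Z` with `g^* M` acyclic for `f`: `M` is acyclic for `g` iff it is
acyclic for `f ≫ g`.
-/

set_option autoImplicit false
universe u

open CategoryTheory CategoryTheory.Limits AlgebraicGeometry Opposite

namespace Groth.Agent.Sga4h.AcycComp

open Groth.Agent.Sga4h.Acyc Groth.Agent.Sga4h.PushDer Groth.Agent.EtpbcB

variable {X Y Z : Scheme.{u}} (f : X ⟶ Y) (g : Y ⟶ Z) (M : EtCoh.Ab Z)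

/-- `R^q g_* (g^* M) ≅ R^q (f ≫ g)_* ((f ≫ g)^* M)` when `g^* M` is acyclic for `f`. -/
noncomputable def rpushIso (h : Acyc f ((EtCoh.pull g).obj M)) (q : ℕ) :
    (EtCoh.Rpush g q).obj ((EtCoh.pull g).obj M) ≅
      (EtCoh.Rpush (f ≫ g) q).obj ((EtCoh.pull (f ≫ g)).obj M) :=
  have := h.1
  (EtCoh.Rpush g q).mapIso (asIso ((EtCoh.pullPushAdj f).unit.app ((EtCoh.pull g).obj M))) ≪≫
    rpushCompIso f g _ h.2 q ≪≫ (EtCoh.Rpush (f ≫ g) q).mapIso ((BCCalc.pullComp g f).app M)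

theorem isIso_unit_iff (h : Acyc f ((EtCoh.pull g).obj M)) :
    IsIso ((EtCoh.pullPushAdj (f ≫ g)).unit.app M) ↔ IsIso ((EtCoh.pullPushAdj g).unit.app M) := by
  have := h.1
  have e := BCCalc.unit_pullComp g f M
  rw [e]
  constructor
  · intro h1
    exact IsIso.of_isIso_comp_right _ ((EtCoh.push g).map ((EtCoh.pullPushAdj f).unit.app ((EtCoh.pull g).obj M)) ≫
        (EtCoh.push g).map ((EtCoh.push f).map ((BCCalc.pullComp g f).hom.app M)) ≫
        (EtCoh.pushComp g f).hom.app ((EtCoh.pull (f ≫ g)).obj M))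
  · intro h1
    infer_instance

theorem acyc_comp_iff (h : Acyc f ((EtCoh.pull g).obj M)) : Acyc (f ≫ g) M ↔ Acyc g M := by
  constructor
  · intro h1
    exact ⟨(isIso_unit_iff f g M h).1 h1.1, fun q hq => (h1.2 q hq).of_iso (rpushIso f g M h q)⟩
  · intro h1
    exact ⟨(isIso_unit_iff f g M h).2 h1.1, fun q hq => (h1.2 q hq).of_iso (rpushIso f g M h q).symm⟩

theorem acyc_congr {X Y : Scheme.{u}} {f f' : X ⟶ Y} (h : f = f') (M : EtCoh.Ab Y) (hM : Acyc f M) :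
    Acyc f' M := by
  subst h; exact hM

end Groth.Agent.Sga4h.AcycComp
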