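import Mathlib.GroupTheory.FiniteAbelian.Duality
import Mathlib.RingTheory.RootsOfUnity.EnoughRootsOfUnity
import Mathlib.Algebra.Module.ULift
import Mathlib.LinearAlgebra.Dual.Defs
import Mathlib.Algebra.Module.ZMod

/-!
# Finite modules over `ℤ/n` are reflexive
-/

set_option autoImplicit false

universe u v

namespace Groth.Agent.Sga4h.X144Alg

section Grp

variable (n : ℕ) [NeZero n]

instance hasEnough : HasEnoughRootsOfUnity (Multiplicative (ZMod n)) n where
  prim := by
    refine ⟨Multiplicative.ofAdd 1, ?_⟩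
    have h : orderOf (Multiplicative.ofAdd (1 : ZMod n)) = n := by
      rw [orderOf_ofAdd_eq_addOrderOf, ZMod.addOrderOf_one]
    have := IsPrimitiveRoot.orderOf (Multiplicative.ofAdd (1 : ZMod n))
    rwa [h] at this
  cyc := by
    have : IsCyclic (Multiplicative (ZMod n))ˣ :=
      isCyclic_of_surjective (toUnits : Multiplicative (ZMod n) ≃* _) toUnits.surjective
    infer_instance

variable {A : Type v} [AddCommGroup A] [Finite A] (hA : ∀ a : A, n • a = 0)

include hA

theorem hasEnough_exponent : HasEnoughRootsOfUnity (Multiplicative (ZMod n))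
    (Monoid.exponent (Multiplicative A)) := by
  refine HasEnoughRootsOfUnity.of_dvd _ (n := n) ?_
  refine Monoid.exponent_dvd_of_forall_pow_eq_one fun a => ?_
  exact congrArg Multiplicative.ofAdd (hA a.toAdd)

theorem exists_hom_ne_zero {a : A} (ha : a ≠ 0) : ∃ f : A →+ ZMod n, f a ≠ 0 := by
  have := hasEnough_exponent n hA
  obtain ⟨φ, hφ⟩ := CommGroup.exists_apply_ne_one_of_hasEnoughRootsOfUnity (Multiplicative A)
    (Multiplicative (ZMod n)) (a := Multiplicative.ofAdd a) (fun h => ha (congrArg Multiplicative.toAdd h))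
  refine ⟨AddMonoidHom.toMultiplicative.symm
    ((toUnits (G := Multiplicative (ZMod n))).symm.toMonoidHom.comp φ), ?_⟩
  intro h
  apply hφ
  have h1 : (toUnits (G := Multiplicative (ZMod n))).symm (φ (Multiplicative.ofAdd a)) = 1 := h
  rwa [map_eq_one_iff _ (MulEquiv.injective _)] at h1

theorem card_hom : Nat.card (A →+ ZMod n) = Nat.card A := by
  have := hasEnough_exponent n hA
  rw [← Nat.card_congr (Multiplicative.toAdd (α := A)),
    ← CommGroup.card_monoidHom_of_hasEnoughRootsOfUnity (Multiplicative A)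
      (Multiplicative (ZMod n))]
  refine Nat.card_congr ?_
  refine AddMonoidHom.toMultiplicative.trans ?_
  exact (MulEquiv.monoidHomCongrRight (toUnits (G := Multiplicative (ZMod n)))).toEquiv

end Grp

section Mod

variable (n : ℕ) [NeZero n] (M : Type v) [AddCommGroup M] [Module (ULift.{u} (ZMod n)) M]

theorem nsmul_eq_zero (a : M) : n • a = 0 := by
  have h : (n : ULift.{u} (ZMod n)) = 0 := by
    apply ULift.ext
    exact ZMod.natCast_self n
  have h1 : (n : ULift.{u} (ZMod n)) • a = n • a := Nat.cast_smul_eq_nsmul _ n a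
  rw [← h1, h, zero_smul]

/-- Linear forms are additive maps to `ℤ/n`. -/
noncomputable def dualEquiv : (M →ₗ[ULift.{u} (ZMod n)] ULift.{u} (ZMod n)) ≃ (M →+ ZMod n) where
  toFun f := AddEquiv.ulift.toAddMonoidHom.comp f.toAddMonoidHom
  invFun f :=
    { toFun := fun m => ULift.up (f m)
      map_add' := fun a b => by rw [map_add]; rfl
      map_smul' := fun c m => by
        apply ULift.ext
        obtain ⟨k, hk⟩ : ∃ k : ℕ, c = (k : ULift.{u} (ZMod n)) := by
          refine ⟨c.down.val, ?_⟩
          apply ULift.ext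
          change c.down = ((c.down.val : ℕ) : ZMod n)
          rw [ZMod.natCast_val, ZMod.cast_id]
        subst hk
        change f ((k : ULift.{u} (ZMod n)) • m) = ((k : ULift.{u} (ZMod n)) • (ULift.up (f m) : ULift.{u} (ZMod n))).down
        rw [Nat.cast_smul_eq_nsmul, Nat.cast_smul_eq_nsmul, map_nsmul]
        rfl }
  left_inv f := rfl
  right_inv f := rfl

theorem dualEquiv_apply (f : M →ₗ[ULift.{u} (ZMod n)] ULift.{u} (ZMod n)) (m : M) :
    dualEquiv n M f m = (f m).down := rfl

theorem card_dual [Finite M] :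
    Nat.card (M →ₗ[ULift.{u} (ZMod n)] ULift.{u} (ZMod n)) = Nat.card M :=
  (Nat.card_congr (dualEquiv n M)).trans (card_hom n (nsmul_eq_zero n M))

theorem finite_dual [Finite M] : Finite (M →ₗ[ULift.{u} (ZMod n)] ULift.{u} (ZMod n)) := by
  have : Finite (M → ULift.{u} (ZMod n)) := inferInstance
  exact Finite.of_injective (fun f : M →ₗ[ULift.{u} (ZMod n)] ULift.{u} (ZMod n) => (f : M → _))
    DFunLike.coe_injective

theorem eval_bijective [Finite M] :
    Function.Bijective (Module.Dual.eval (ULift.{u} (ZMod n)) M) := by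
  have h1 := finite_dual.{u} n M
  have h2 := finite_dual.{u} n (M →ₗ[ULift.{u} (ZMod n)] ULift.{u} (ZMod n))
  refine (Nat.bijective_iff_injective_and_card _).2 ⟨?_, ?_⟩
  · rw [injective_iff_map_eq_zero]
    intro a ha
    by_contra hne
    obtain ⟨f, hf⟩ := exists_hom_ne_zero n (nsmul_eq_zero.{u} n M) hne
    apply hf
    have h := LinearMap.congr_fun ha ((dualEquiv.{u} n M).symm f)
    exact congrArg ULift.down h
  · exact ((card_dual.{u} n (M →ₗ[ULift.{u} (ZMod n)] ULift.{u} (ZMod n))).trans
      (card_dual.{u} n M)).symm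

end Mod

end Groth.Agent.Sga4h.X144Alg
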