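import Groth.Agent.Sga4h.BidGlobSky
import Groth.Agent.LoccohB.Devissage

/-!
# Objects of `D⁺(X, Λ)` whose cohomology sheaves live on closed points

`X` locally of finite type over an algebraically closed field, `K` a bounded below object of the derived category of
sheaves of `Λ`-modules on the small etale site, whose cohomology sheaves have vanishing stalks at the non-closed
points. If `Hom(Λ_X[-i], K) = 0` for all `i`, then `K = 0` (`isZero_of_hom`).
-/

set_option autoImplicit false
universe u w v u'

open CategoryTheory CategoryTheory.Limits AlgebraicGeometry Opposite Pretriangulated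
open Groth.Agent.Sga4h.EtPts Groth.Agent.LoccohB.Devissage

namespace Groth.Agent.Sga4h.BidGlobFin

section abstract

open DerivedCategory

variable {C : Type u} [Category.{v} C] [Abelian C] [HasDerivedCategory.{w} C]

/-- Maps from an object to the lowest cohomology object of `X` vanish as soon as all maps from its shift to `X`
vanish. -/
lemma eq_zero_of_isGE (Z : C) (X : DerivedCategory C) (i : ℤ) [X.IsGE i]
    (h : ∀ f : (singleFunctor C i).obj Z ⟶ X, f = 0) (φ : Z ⟶ (homologyFunctor C i).obj X) : φ = 0 := by
  obtain ⟨T, hT, rfl, h1, h3, hi1, hi3⟩ := exists_trunc X i (i + 1) rfl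
  have hGE : T.obj₁.IsGE i := by
    rw [isGE_iff]
    intro j hj
    have := hi1 j (by lia)
    exact (T.obj₂.isZero_of_isGE i j hj).of_iso (asIso ((homologyFunctor C j).map T.mor₁))
  obtain ⟨e⟩ := nonempty_iso_single T.obj₁ i
  have hiso := hi1 i le_rfl
  let ψ : Z ⟶ (homologyFunctor C i).obj T.obj₁ := φ ≫ inv ((homologyFunctor C i).map T.mor₁)
  have h0 := h ((singleFunctor C i).map ψ ≫ e.inv ≫ T.mor₁)
  have h4 : (homologyFunctor C i).map ((singleFunctor C i).map ψ) = 0 := by
    have : Mono ((homologyFunctor C i).map (e.inv ≫ T.mor₁)) := by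
      rw [Functor.map_comp]
      infer_instance
    rw [← cancel_mono ((homologyFunctor C i).map (e.inv ≫ T.mor₁)), ← Functor.map_comp, h0, Functor.map_zero,
      zero_comp]
  have h6 : ψ = 0 := by
    have h7 := (singleFunctorCompHomologyFunctorIso C i).hom.naturality ψ
    dsimp at h7
    rw [h4, zero_comp] at h7
    rw [← cancel_epi ((singleFunctorCompHomologyFunctorIso C i).hom.app Z)]
    rw [← h7, comp_zero]
  have h8 : φ = ψ ≫ (homologyFunctor C i).map T.mor₁ := by simp [ψ]
  rw [h8, h6, zero_comp]

lemma isZero_of_homology (X : DerivedCategory C) (h : ∀ i, IsZero ((homologyFunctor C i).obj X)) : IsZero X := by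
  have : X.IsGE 1 := (isGE_iff X 1).2 (fun i _ => h i)
  have : X.IsLE 0 := (isLE_iff X 0).2 (fun i _ => h i)
  exact isZero_of_isGE_of_isLE X 1 0 (by lia)

/-- A bounded below object is zero if inductively its lowest cohomology object vanishes. -/
lemma isZero_of_isGE (X : DerivedCategory C) (a : ℤ) [X.IsGE a]
    (h : ∀ i : ℤ, X.IsGE i → IsZero ((homologyFunctor C i).obj X)) : IsZero X := by
  have hGE : ∀ n : ℕ, X.IsGE (a + n) := by
    intro n
    induction n with
    | zero => simpa
    | succ n ih =>
      rw [isGE_iff]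
      intro j hj
      by_cases hj' : j < a + n
      · exact X.isZero_of_isGE (a + n) j hj'
      · obtain rfl : j = a + n := by push_cast at hj; lia
        exact h _ ih
  refine isZero_of_homology X (fun i => ?_)
  by_cases hi : i < a
  · exact X.isZero_of_isGE a i hi
  · have := hGE (i + 1 - a).toNat
    exact X.isZero_of_isGE (a + (i + 1 - a).toNat) i (by rw [Int.toNat_of_nonneg (by lia)]; lia)

end abstract

section

variable {Λ : Type (u + 1)} [CommRing Λ] {X : Scheme.{u}}

/-- `Hom(Λ_X, G) = 0` implies `G(X) = 0`. -/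
lemma isZero_sections (G : EtModW.Mod Λ X) (h : ∀ φ : EtModW.constMod Λ X Λ ⟶ G, φ = 0) :
    IsZero (G.obj.obj (op (EtCoh.top X))) := by
  let adj := constantSheafAdj X.smallEtaleTopology (ModuleCat.{u + 1} Λ) (EtCore.topIsTerminal X)
  have key : ∀ a : ModuleCat.of Λ Λ ⟶ G.obj.obj (op (EtCoh.top X)), a = 0 := fun a => by
    have h1 : (adj.homEquiv (ModuleCat.of Λ Λ) G).symm a = 0 := h _
    have h2 := (Equiv.symm_apply_eq _).1 h1
    rw [h2, Adjunction.homEquiv_unit]
    have h3 : ((sheafSections X.smallEtaleTopology (ModuleCat.{u + 1} Λ)).obj (op (EtCoh.top X))).map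
      (0 : (constantSheaf X.smallEtaleTopology (ModuleCat.{u + 1} Λ)).obj (ModuleCat.of Λ Λ) ⟶ G) = 0 := rfl
    rw [h3, comp_zero]
  have : Subsingleton (G.obj.obj (op (EtCoh.top X))) := by
    refine ⟨fun a b => ?_⟩
    have h0 : ∀ s : G.obj.obj (op (EtCoh.top X)), s = 0 := fun s => by
      have h1 := key (ModuleCat.ofHom (LinearMap.toSpanSingleton Λ _ s))
      have h2 := congrArg (fun f => f.hom (1 : Λ)) h1
      simpa using h2
    rw [h0 a, h0 b]
  exact ModuleCat.isZero_of_subsingleton _

attribute [local instance] HasDerivedCategory.standard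

/-- A bounded below object of `D(X, Λ)` whose cohomology sheaves have vanishing stalks at the non-closed points and
without cohomology is zero. -/
theorem isZero_of_hom {k : Type u} [Field k] [IsAlgClosed k] (g : X ⟶ Spec (.of k)) [LocallyOfFiniteType g]
    (K : DerivedCategory (EtModW.Mod Λ X)) (a : ℤ) [K.IsGE a]
    (hst : ∀ (i : ℤ) (x : X), ¬ IsClosed {x} →
      IsZero ((stk Λ x).obj ((DerivedCategory.homologyFunctor (EtModW.Mod Λ X) i).obj K)))
    (h0 : ∀ (i : ℤ) (f : (DerivedCategory.singleFunctor (EtModW.Mod Λ X) i).obj (EtModW.constMod Λ X Λ) ⟶ K), f = 0) :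
    IsZero K :=
  isZero_of_isGE K a (fun i _ => BidGlobSky.isZero_of_closed_points g (hst i)
    (isZero_sections _ (fun φ => eq_zero_of_isGE _ K i (h0 i) φ)))

end

end Groth.Agent.Sga4h.BidGlobFin
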