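import Groth.Agent.Sga4h.WayOut
import Groth.Agent.Sga4h.PushDer
import Groth.Agent.Sga5.EtKilled
import Groth.Agent.EtpbcA.ConsExact
import Groth.Agent.EtpbcA.NoethSub
import Groth.Agent.S0141
import Groth.Agent.S0476
import Groth.Agent.Dcoh.DerComp

/-!
# The weak Serre class of constructible sheaves killed by a power of `n`; way-out for direct images

* `Cn n X F` : `F` is constructible and killed by a power of `n`; `weakSerre_Cn`; `Cn.of_mono`, `Cn.of_epi`
  (`X` locally Noetherian).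
* `rpush_comp` : `R^q f_* F ∈ P` for all `q` and `R^p g_* P ⊆ Q` imply `R^n (f ≫ g)_* F ∈ Q`.
-/

set_option autoImplicit false
universe u
open CategoryTheory CategoryTheory.Limits AlgebraicGeometry Opposite

namespace Groth.Agent.Sga4h.ConsWO

open Groth.Agent.Sga4h.WayOut Groth.Agent.EtpbcA.ConsExact Groth.Agent.Sga5.EtKilled
open Groth.Agent.Sga4h.PushDer Groth.Agent.Etrest

/-- Constructible and killed by a power of `n`. -/
def Cn (n : ℕ) (X : Scheme.{u}) : ObjectProperty (EtCoh.Ab X) := fun F =>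
  EtPBC.IsConstructible F ∧ ∃ k : ℕ, EtCoh.KilledBy (n ^ k) F

variable {n : ℕ} {X : Scheme.{u}}

theorem killedBy_iso {F G : EtCoh.Ab X} (e : F ≅ G) {m : ℕ} (h : EtCoh.KilledBy m F) :
    EtCoh.KilledBy m G := killedBy_of_epi e.hom h

theorem killedBy_isZero {F : EtCoh.Ab X} (hF : IsZero F) (m : ℕ) : EtCoh.KilledBy m F := by
  rw [killedBy_iff]
  exact hF.eq_of_src _ _

/-- An extension of sheaves killed by `a` and `b` is killed by `a * b`. -/
theorem killedBy_ext (S : ShortComplex (EtCoh.Ab X)) (hS : S.ShortExact) {a b : ℕ}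
    (h1 : EtCoh.KilledBy a S.X₁) (h3 : EtCoh.KilledBy b S.X₃) : EtCoh.KilledBy (a * b) S.X₂ := by
  rw [killedBy_iff] at h1 h3 ⊢
  have := hS.mono_f
  have hb : (b • 𝟙 S.X₂) ≫ S.g = 0 := by
    rw [Preadditive.nsmul_comp, Category.id_comp, ← Category.comp_id S.g, ← Preadditive.comp_nsmul, h3,
      comp_zero]
  obtain ⟨l, hl⟩ := hS.exact.lift' (b • 𝟙 S.X₂) hb
  have h2 : a • l = 0 := by
    rw [← Category.comp_id l, ← Preadditive.comp_nsmul, h1, comp_zero]
  rw [mul_smul, ← hl, ← Preadditive.nsmul_comp, h2, zero_comp]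

theorem Cn.iso {F G : EtCoh.Ab X} (e : F ≅ G) (h : Cn n X F) : Cn n X G :=
  ⟨EtpbcA.StrataGlob.isConstructible_of_iso e h.1, h.2.imp fun _ hk => killedBy_iso e hk⟩

theorem weakSerre_Cn (n : ℕ) (X : Scheme.{u}) : WeakSerre (Cn n X) where
  iso := Cn.iso
  zero F hF := ⟨isConstructible_of_isZero hF, 0, killedBy_isZero hF _⟩
  ker φ h h' := ⟨isConstructible_kernel φ h.1 h'.1, h.2.imp fun _ hk => killedBy_of_mono (kernel.ι φ) hk⟩
  coker φ h h' := ⟨isConstructible_cokernel φ h.1 h'.1,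
    h'.2.imp fun _ hk => killedBy_of_epi (cokernel.π φ) hk⟩
  ext S hS h h' := by
    obtain ⟨a, ha⟩ := h.2
    obtain ⟨b, hb⟩ := h'.2
    refine ⟨isConstructible_extension hS h.1 h'.1, a + b, ?_⟩
    rw [pow_add]
    exact killedBy_ext S hS ha hb

theorem Cn.of_mono [IsLocallyNoetherian X] {F G : EtCoh.Ab X} (ι : G ⟶ F) [Mono ι] (h : Cn n X F) :
    Cn n X G :=
  ⟨EtpbcA.NoethSub.isConstructible_of_mono ι h.1, h.2.imp fun _ hk => killedBy_of_mono ι hk⟩

/-- A direct summand. -/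
theorem Cn.of_retract {F G : EtCoh.Ab X} (i : G ⟶ F) (r : F ⟶ G) (hir : i ≫ r = 𝟙 G) (h : Cn n X F) :
    Cn n X G := by
  -- `G` is the kernel of the idempotent `1 - r i`
  have hi : Mono i := mono_of_mono_fac hir
  have e : G ≅ kernel (𝟙 F - r ≫ i) :=
    { hom := kernel.lift _ i (by rw [Preadditive.comp_sub, Category.comp_id, reassoc_of% hir, sub_self])
      inv := kernel.ι _ ≫ r
      hom_inv_id := by simp [hir]
      inv_hom_id := by
        rw [← cancel_mono (kernel.ι _)]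
        have := kernel.condition (𝟙 F - r ≫ i)
        rw [Preadditive.comp_sub, Category.comp_id, sub_eq_zero] at this
        simp only [Category.assoc, kernel.lift_ι, Category.id_comp]
        exact this.symm }
  exact Cn.iso e.symm ((weakSerre_Cn n X).ker _ h h)

instance hasKInj (X : Scheme.{u}) : RDer3.HasKInj (EtCoh.Ab X) :=
  ⟨fun K => by
    obtain ⟨I, f, h1, h2, -⟩ := Groth.Agent.S0476.result K
    exact ⟨I, f, h1, h2⟩⟩

/-- `f_*` preserves K-injective complexes. -/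
theorem isKInjective_push {Y : Scheme.{u}} (f : X ⟶ Y) (I : CochainComplex (EtCoh.Ab X) ℤ)
    (hI : I.IsKInjective) :
    CochainComplex.IsKInjective (((EtCoh.push f).mapHomologicalComplex (.up ℤ)).obj I) :=
  Dcoh.DerComp.isKInjective_map (EtCoh.pullPushAdj f) (Dcoh.DerComp.acyclic_map_exact _) I hI

/-- `R^q f_* F ∈ P` for all `q` and `R^p g_* P ⊆ Q` imply `R^m (f ≫ g)_* F ∈ Q`. -/
theorem rpush_comp {Y Z : Scheme.{u}} (f : X ⟶ Y) (g : Y ⟶ Z) {P : ObjectProperty (EtCoh.Ab Y)}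
    {Q : ObjectProperty (EtCoh.Ab Z)} (hQ : WeakSerre Q) (hP : ∀ {M N : EtCoh.Ab Y}, (M ≅ N) → P M → P N)
    (h : ∀ M : EtCoh.Ab Y, P M → ∀ q : ℕ, Q ((EtCoh.Rpush g q).obj M)) (F : EtCoh.Ab X)
    (hF : ∀ q : ℕ, P ((EtCoh.Rpush f q).obj F)) (m : ℕ) : Q ((EtCoh.Rpush (f ≫ g) m).obj F) :=
  hQ.iso ((LerayAcyc.rightDerivedCongr (EtCoh.pushComp g f) m).app F)
    (rightDerived_comp (EtCoh.push f) (EtCoh.push g) (isKInjective_push f) hQ hP h F hF m)

/-- `R^q f_* F` is killed by what kills `F`. -/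
theorem killedBy_rpush {Y : Scheme.{u}} (f : X ⟶ Y) {F : EtCoh.Ab X} {m : ℕ} (h : EtCoh.KilledBy m F)
    (q : ℕ) : EtCoh.KilledBy m ((EtCoh.Rpush f q).obj F) := by
  rw [killedBy_iff] at h ⊢
  have : ((EtCoh.push f).rightDerived q).Additive := inferInstance
  rw [← CategoryTheory.Functor.map_id, ← Functor.map_nsmul, h, Functor.map_zero]

/-- `g^* F` is killed by what kills `F`. -/
theorem killedBy_pull {Y : Scheme.{u}} (f : X ⟶ Y) {F : EtCoh.Ab Y} {m : ℕ} (h : EtCoh.KilledBy m F) :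
    EtCoh.KilledBy m ((EtCoh.pull f).obj F) := by
  rw [killedBy_iff] at h ⊢
  rw [← CategoryTheory.Functor.map_id, ← Functor.map_nsmul, h, Functor.map_zero]

end Groth.Agent.Sga4h.ConsWO
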