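import Groth.Agent.Sga4h.OpenTri
import Groth.Agent.Sga4h.ConsWO
import Groth.Agent.EtpbcA.ArtinSupp
import Groth.Agent.EtpbcA.ClosedEpi
import Groth.Agent.EtpbcA.ClosedPushExact
import Groth.Agent.EtpbcA.FinPush
import Groth.Agent.Sga4B.NoethStrata
import Groth.Agent.S0127
import Groth.Agent.Etcore.ShriekBasic
import Groth.Agent.Sga4h.EtaleRes

/-!
# Finiteness of direct images: open-closed devissage

`j : X₁ ⟶ X` open immersion, `i : X₀ ⟶ X` closed immersion with complementary ranges.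

* `isZero_of_open_closed`, `nonempty_iso_push_pull`, `isConstructible_of_open_closed`;
* `cn_rpush` : `R^q f_* F` is constructible for all `F` when the `R^q j_* G`, `R^q (j ≫ f)_* G` and the
  direct images along `f₀ : X₀ ⟶ Y₀` are.
-/

set_option autoImplicit false
universe u
open CategoryTheory CategoryTheory.Limits AlgebraicGeometry Opposite

namespace Groth.Agent.Sga4h.FinD

open Groth.Agent.Sga4h.WayOut Groth.Agent.Sga4h.ConsWO Groth.Agent.Sga4h.PushDer
open Groth.Agent.Etrest Groth.Agent.Etrest.RDer3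

attribute [local instance] HasDerivedCategory.standard

section Basic

variable {X₁ X₀ X : Scheme.{u}} (j : X₁ ⟶ X) [IsOpenImmersion j] (i : X₀ ⟶ X) [IsClosedImmersion i]
  (h : Set.range i = (Set.range j)ᶜ)

include h

omit [IsOpenImmersion j] [IsClosedImmersion i] in
theorem isZero_of_open_closed (M : EtCoh.Ab X) (h1 : IsZero ((EtCoh.pull j).obj M))
    (h0 : IsZero ((EtCoh.pull i).obj M)) : IsZero M := by
  refine EtpbcA.Artin.isZero_of_forall M fun x hx => ?_
  by_cases hxj : x ∈ Set.range j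
  · obtain ⟨y, rfl⟩ := hxj
    have := EtpbcA.Artin.supp_eq_empty_of_isZero h1 y
    rw [EtpbcA.Artin.supp_pull] at this
    exact this hx
  · have hxi : x ∈ Set.range i := by rw [h]; exact hxj
    obtain ⟨y, rfl⟩ := hxi
    have := EtpbcA.Artin.supp_eq_empty_of_isZero h0 y
    rw [EtpbcA.Artin.supp_pull] at this
    exact this hx

omit [IsOpenImmersion j] in
/-- A sheaf vanishing on the open part is the direct image of its restriction to the closed part. -/
theorem nonempty_iso_push_pull (M : EtCoh.Ab X) (h1 : IsZero ((EtCoh.pull j).obj M)) :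
    Nonempty (M ≅ (EtCoh.push i).obj ((EtCoh.pull i).obj M)) := by
  let η := (EtCoh.pullPushAdj i).unit.app M
  have he : Epi η := EtpbcA.ClosedEpi.epi_unit i M
  have hp : IsIso ((EtCoh.pull i).map η) := EtpbcA.ClosedEpi.isIso_pull_unit i M
  have hm : Mono η := by
    rw [Preadditive.mono_iff_isZero_kernel]
    refine isZero_of_open_closed j i h _ ?_ ?_
    · exact IsZero.of_mono ((EtCoh.pull j).map (kernel.ι η)) h1
    · have e : (EtCoh.pull i).obj (kernel η) ≅ kernel ((EtCoh.pull i).map η) :=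
        PreservesKernel.iso (EtCoh.pull i) η
      exact (isZero_kernel_of_mono ((EtCoh.pull i).map η)).of_iso e
  have : IsIso η := isIso_of_mono_of_epi η
  exact ⟨asIso η⟩

/-- Gluing of constructibility. -/
theorem isConstructible_of_open_closed [IsNoetherian X] (M : EtCoh.Ab X)
    (h1 : EtPBC.IsConstructible ((EtCoh.pull j).obj M))
    (h0 : EtPBC.IsConstructible ((EtCoh.pull i).obj M)) : EtPBC.IsConstructible M := by
  let T : Bool → Scheme.{u} := fun b => if b then X₁ else X₀
  let g : ∀ b, T b ⟶ X := fun b => match b with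
    | true => j
    | false => i
  have hg : ∀ b, IsImmersion (g b) := by
    rintro (_ | _)
    · exact (inferInstance : IsImmersion i)
    · exact (inferInstance : IsImmersion j)
  refine EtpbcA.StrataGlob.isConstructible_of_strata M T g (fun b => ?_) ?_ ?_
  · exact Groth.Agent.Sga4B.NoethStrata.isConstructible_of_isLocallyClosed_noetherian
      (g b).isLocallyClosed_range
  · ext x
    simp only [Set.mem_iUnion, Set.mem_univ, iff_true]
    by_cases hx : x ∈ Set.range j
    · exact ⟨true, hx⟩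
    · refine ⟨false, ?_⟩
      have : x ∈ Set.range i := by rw [h]; exact hx
      exact this
  · rintro (_ | _)
    · exact h0
    · exact h1

end Basic

section Main

variable {n : ℕ}

/-- Direct images along a closed immersion into a locally Noetherian scheme. -/
theorem cn_push_closed {X₀ X : Scheme.{u}} (i : X₀ ⟶ X) [IsClosedImmersion i] [IsLocallyNoetherian X]
    {M : EtCoh.Ab X₀} (hM : Cn n X₀ M) : Cn n X ((EtCoh.push i).obj M) := by
  have : LocallyOfFinitePresentation i := inferInstance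
  refine ⟨EtpbcA.FinPush.isConstructible_push i M hM.1, hM.2.imp fun k hk => ?_⟩
  exact killedBy_iso ((rpushZeroIso i).app M) (killedBy_rpush i hk 0)

theorem cn_pull {X Y : Scheme.{u}} (f : X ⟶ Y) {M : EtCoh.Ab Y} (hM : Cn n Y M) :
    Cn n X ((EtCoh.pull f).obj M) :=
  ⟨Groth.Agent.S0127.result f M hM.1, hM.2.imp fun _ hk => killedBy_pull f hk⟩

variable {X₁ X₀ X Y₀ Y : Scheme.{u}} (j : X₁ ⟶ X) [IsOpenImmersion j] (i : X₀ ⟶ X)
  [IsClosedImmersion i] (h : Set.range i = (Set.range j)ᶜ) (f : X ⟶ Y) (iY : Y₀ ⟶ Y)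
  [IsClosedImmersion iY] (f₀ : X₀ ⟶ Y₀) (w : i ≫ f = f₀ ≫ iY)

include h w

omit [IsOpenImmersion j] in
/-- Direct images of sheaves vanishing on the open part. -/
theorem cn_rpush_of_isZero [IsLocallyNoetherian Y]
    (h0 : ∀ G : EtCoh.Ab X₀, Cn n X₀ G → ∀ q : ℕ, Cn n Y₀ ((EtCoh.Rpush f₀ q).obj G))
    (M : EtCoh.Ab X) (hM : Cn n X M) (h1 : IsZero ((EtCoh.pull j).obj M)) (q : ℕ) :
    Cn n Y ((EtCoh.Rpush f q).obj M) := by
  obtain ⟨e⟩ := nonempty_iso_push_pull j i h M h1
  have hN : Cn n X₀ ((EtCoh.pull i).obj M) := cn_pull i hM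
  have := EtpbcA.ClosedPushExact.push_preservesFiniteColimits iY
  refine Cn.iso ?_ (cn_push_closed iY (h0 _ hN q))
  exact (rpushExactIso f₀ iY _ q).symm ≪≫ (rpushCongr w.symm q).app _ ≪≫
    (rpushCompIso i f _ (fun p hp => EtpbcA.ClosedPushExact.isZero_Rpush i _ p hp) q).symm ≪≫
    (EtCoh.Rpush f q).mapIso e.symm

/-- Open-closed devissage for the finiteness of direct images. -/
theorem cn_rpush [IsLocallyNoetherian Y]
    (hJ : ∀ G : EtCoh.Ab X₁, Cn n X₁ G → ∀ q : ℕ, Cn n X ((EtCoh.Rpush j q).obj G))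
    (h1 : ∀ G : EtCoh.Ab X₁, Cn n X₁ G → ∀ q : ℕ, Cn n Y ((EtCoh.Rpush (j ≫ f) q).obj G))
    (h0 : ∀ G : EtCoh.Ab X₀, Cn n X₀ G → ∀ q : ℕ, Cn n Y₀ ((EtCoh.Rpush f₀ q).obj G))
    (M : EtCoh.Ab X) (hM : Cn n X M) (q : ℕ) :
    Cn n Y ((EtCoh.Rpush f q).obj M) := by
  have hLM : Cn n X₁ ((EtCoh.pull j).obj M) := cn_pull j hM
  refine OpenTri.rightDerived_of_triangle (EtCoh.pullPushAdj j) (fun N => ?_) (isKInjective_push j)
    (EtCoh.push f) (weakSerre_Cn n X) (weakSerre_Cn n Y) M hM (hJ _ hLM) (fun q => ?_)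
    (fun N hN hN' q => cn_rpush_of_isZero j i h f iY f₀ w h0 N hN hN' q) q
  · have := Groth.Agent.Sga4h.EtaleRes.jCont j
    have h2 := Groth.Agent.Etcore.ShriekBasic.isIso_pullPushAdj_counit j
    infer_instance
  · exact Cn.iso ((LerayAcyc.rightDerivedCongr (EtCoh.pushComp f j) q).app _).symm (h1 _ hLM q)

end Main

end Groth.Agent.Sga4h.FinD
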