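import Groth.Agent.Sga4h.RPairTri

/-!
# Universal pairs and equivalences

* `isUniv_iff_isIso`: for an equivalence `Φ`, a pair is universal iff `ε` is an isomorphism;
* `Sq.bc_isUniv_iff`: for a square whose horizontal functors are equivalences, `s.bc ε` is universal iff
  `ε` is;
* `Sq.BC.of_equiv`, `Sq.BC.of_hcomp_equiv`;
* `Sq.BC.of_local`: base change may be checked after a jointly conservative family of base changes.
-/

set_option autoImplicit false

namespace Groth.Agent.Sga4h.RPair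

open CategoryTheory Category Limits

universe v₁ v₂ v₃ v₄ v₅ v₆ u₁ u₂ u₃ u₄ u₅ u₆

section

variable {A : Type u₁} [Category.{v₁} A] {B : Type u₂} [Category.{v₂} B]

/-- For an equivalence, universal means isomorphism. -/
theorem isUniv_iff_isIso (Φ : A ⥤ B) [Φ.IsEquivalence] {M : A} {K : B} (ε : Φ.obj M ⟶ K) :
    IsUniv Φ ε ↔ IsIso ε := by
  constructor
  · intro h
    let e := Φ.objObjPreimageIso K
    obtain ⟨φ, hφ⟩ := (h (Φ.objPreimage K)).2 e.hom
    dsimp at hφ
    -- `ε` is a split epi and `φ` is an isomorphism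
    have h1 : IsUniv Φ e.hom := by
      intro N
      constructor
      · intro a b hab
        exact Φ.map_injective ((cancel_mono e.hom).1 hab)
      · intro x
        refine ⟨Φ.preimage (x ≫ e.inv), ?_⟩
        dsimp
        rw [Φ.map_preimage, assoc, e.inv_hom_id, comp_id]
    have h2 : φ = (h1.iso h).hom := h.lift_unique _ _ hφ
    have h3 : IsIso φ := h2 ▸ inferInstance
    have h4 : ε = Φ.map (inv φ) ≫ e.hom := by
      rw [← hφ, ← assoc, ← Φ.map_comp, IsIso.inv_hom_id, Φ.map_id, id_comp]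
    rw [h4]
    infer_instance
  · intro h N
    constructor
    · intro a b hab
      exact Φ.map_injective ((cancel_mono ε).1 hab)
    · intro x
      refine ⟨Φ.preimage (x ≫ inv ε), ?_⟩
      dsimp
      rw [Φ.map_preimage, assoc, IsIso.inv_hom_id, comp_id]

end

section

variable {A : Type u₁} [Category.{v₁} A] {B : Type u₂} [Category.{v₂} B]
  {A' : Type u₃} [Category.{v₃} A'] {B' : Type u₄} [Category.{v₄} B']
  {Φ : A ⥤ B} {G : A ⥤ A'} {G' : B ⥤ B'} {Φ' : A' ⥤ B'} (s : Sq Φ G G' Φ')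

namespace Sq

/-- The pulled back pair is universal iff the pair is, when the horizontal functors are equivalences. -/
theorem bc_isUniv_iff [G.IsEquivalence] [G'.Full] [G'.Faithful] {M : A} {K : B} (ε : Φ.obj M ⟶ K) :
    IsUniv Φ' (s.bc ε) ↔ IsUniv Φ ε := by
  have key : ∀ N : A, (fun φ : G.obj N ⟶ G.obj M => Φ'.map φ ≫ s.bc ε) ∘ (fun φ : N ⟶ M => G.map φ) =
      (fun x : G'.obj (Φ.obj N) ⟶ G'.obj K => s.σ.hom.app N ≫ x) ∘ (fun x => G'.map x) ∘
        (fun φ : N ⟶ M => Φ.map φ ≫ ε) := by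
    intro N
    funext φ
    have h := s.σ.hom.naturality φ
    dsimp at h ⊢
    rw [bc, reassoc_of% h, G'.map_comp]
  have hG : ∀ N : A, Function.Bijective (fun φ : N ⟶ M => G.map φ) := fun N =>
    ⟨fun a b h => G.map_injective h, fun x => G.map_surjective x⟩
  have hG' : ∀ L : B, Function.Bijective (fun x : L ⟶ K => G'.map x) := fun N =>
    ⟨fun a b h => G'.map_injective h, fun x => G'.map_surjective x⟩
  have hσ : ∀ N : A, Function.Bijective (fun x : G'.obj (Φ.obj N) ⟶ G'.obj K => s.σ.hom.app N ≫ x) :=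
    fun N => Equiv.bijective ⟨fun x => s.σ.hom.app N ≫ x, fun x => s.σ.inv.app N ≫ x,
      fun x => by simp, fun x => by simp⟩
  have h1 : ∀ N : A, Function.Bijective (fun φ : G.obj N ⟶ G.obj M => Φ'.map φ ≫ s.bc ε) ↔
      Function.Bijective (fun φ : N ⟶ M => Φ.map φ ≫ ε) := by
    intro N
    rw [← Function.Bijective.of_comp_iff _ (hG N), key N, Function.Bijective.of_comp_iff' (hσ N),
      Function.Bijective.of_comp_iff' (hG' _)]
  constructor
  · intro h N
    exact (h1 N).1 (h _)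
  · intro h N'
    let e := G.objObjPreimageIso N'
    have h2 := (h1 (G.objPreimage N')).2 (h _)
    have h3 : (fun φ : N' ⟶ G.obj M => Φ'.map φ ≫ s.bc ε) =
        (fun x : Φ'.obj (G.obj (G.objPreimage N')) ⟶ G'.obj K => Φ'.map e.inv ≫ x) ∘
          (fun φ : G.obj (G.objPreimage N') ⟶ G.obj M => Φ'.map φ ≫ s.bc ε) ∘
            (fun φ : N' ⟶ G.obj M => e.hom ≫ φ) := by
      funext φ
      dsimp
      rw [Φ'.map_comp, assoc, ← assoc (Φ'.map e.inv), ← Φ'.map_comp, e.inv_hom_id, Φ'.map_id, id_comp]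
    rw [h3]
    exact (Equiv.bijective ⟨fun x => Φ'.map e.inv ≫ x, fun x => Φ'.map e.hom ≫ x,
      fun x => by
        dsimp
        rw [← assoc, ← Φ'.map_comp, e.hom_inv_id, Φ'.map_id, id_comp],
      fun x => by
        dsimp
        rw [← assoc, ← Φ'.map_comp, e.inv_hom_id, Φ'.map_id, id_comp]⟩).comp
      (h2.comp (Equiv.bijective ⟨fun x => e.hom ≫ x, fun x => e.inv ≫ x, fun x => by simp,
        fun x => by simp⟩))

/-- Base change along equivalences. -/
theorem BC.of_equiv [G.IsEquivalence] [G'.Full] [G'.Faithful] {K : B} (h : HasUniv Φ K) : s.BC K := by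
  obtain ⟨M, ε, h⟩ := h
  exact ⟨M, ε, h, (s.bc_isUniv_iff ε).2 h⟩

/-- Base change when the vertical functors are equivalences. -/
theorem BC.of_vertical_equiv [Φ.IsEquivalence] [Φ'.IsEquivalence] {K : B} : s.BC K := by
  refine ⟨Φ.objPreimage K, (Φ.objObjPreimageIso K).hom, (isUniv_iff_isIso Φ _).2 inferInstance,
    (isUniv_iff_isIso Φ' _).2 ?_⟩
  rw [bc]
  infer_instance

section

variable {s} {A'' : Type u₅} [Category.{v₅} A''] {B'' : Type u₆} [Category.{v₆} B'']
  {H : A' ⥤ A''} {H' : B' ⥤ B''} {Φ'' : A'' ⥤ B''} (t : Sq Φ' H H' Φ'')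

/-- Base change can be checked after base change along equivalences. -/
theorem BC.of_hcomp_equiv [H.IsEquivalence] [H'.Full] [H'.Faithful] {K : B} (h : (s.hcomp t).BC K) :
    s.BC K := by
  obtain ⟨M, ε, h₁, h₂⟩ := h
  rw [hcomp_bc] at h₂
  exact ⟨M, ε, h₁, (t.bc_isUniv_iff _).1 h₂⟩

end

/-- Base change can be checked after a jointly conservative family of base changes which satisfy base
change themselves. -/
theorem BC.of_local {ι : Type*} {A'' : ι → Type u₅} [∀ i, Category.{v₅} (A'' i)] {B'' : ι → Type u₆}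
    [∀ i, Category.{v₆} (B'' i)]
    {H : ∀ i, A' ⥤ A'' i} {H' : ∀ i, B' ⥤ B'' i} {Φ'' : ∀ i, A'' i ⥤ B'' i}
    (t : ∀ i, Sq Φ' (H i) (H' i) (Φ'' i))
    (hH : ∀ {M N : A'} (φ : M ⟶ N), (∀ i, IsIso ((H i).map φ)) → IsIso φ) {K : B}
    (hK : HasUniv Φ K) (hK' : HasUniv Φ' (G'.obj K)) (ht : ∀ i, (t i).BC (G'.obj K))
    (h : ∀ i, (s.hcomp (t i)).BC K) : s.BC K := by
  obtain ⟨M, ε, hε⟩ := hK
  obtain ⟨M', δ, hδ⟩ := hK'
  refine ⟨M, ε, hε, ?_⟩
  have h1 : Φ'.map (hδ.lift (s.bc ε)) ≫ δ = s.bc ε := hδ.fac _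
  rw [← h1, ← hδ.isIso_iff]
  refine hH _ fun i => ?_
  have h2 := (ht i).isUniv hδ
  rw [h2.isIso_iff]
  have h3 := (t i).bc_naturality (hδ.lift (s.bc ε)) (𝟙 (G'.obj K)) (ε := s.bc ε) (ε₁ := δ)
    (by rw [comp_id, h1])
  rw [h3, CategoryTheory.Functor.map_id, comp_id, ← hcomp_bc]
  exact (h i).isUniv hε

end Sq

end

end Groth.Agent.Sga4h.RPair
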