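import Groth.Agent.Sga4h.TotBridge
import Groth.Agent.Sga4h.RPairEq
import Groth.Agent.Etcore.PullJoint
import Groth.Agent.S0631

/-!
# Base change for special squares

* `bc_of_etale`: étale base change; `bc_of_isEquivalence`: `pull g`, `pull g'` equivalences;
  `bc_of_vert`: `pull f`, `pull f'` equivalences; `BC.of_hcomp_equiv`;
* `isIso_of_pullD`: joint conservativity of derived inverse images;
* `BC.of_local`: base change is étale local on the target of the base change.
-/

set_option autoImplicit false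
universe u

open CategoryTheory CategoryTheory.Limits Opposite AlgebraicGeometry

attribute [local instance] HasDerivedCategory.standard

noncomputable section
namespace Groth.Agent.Sga4h.GSq

open Groth.Agent.Etrest.RDer3 Groth.Agent.Etrest.RDer4 Groth.Agent.Etrest.RDer5
  Groth.Agent.Etrest.DEtPush Groth.Agent.Etrest.DEtMate Groth.Agent.EtpbcB Groth.Agent.Sga4h.RPair
  Pretriangulated

variable {X Y Z X' Y' X'' Y'' Z' : Scheme.{u}}

section equiv

/-- The functor on derived categories induced by an equivalence is an equivalence. -/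
theorem isEquivalence_mapDer {A B : Type*} [Category* A] [Category* B] [Abelian A] [Abelian B]
    [HasDerivedCategory A] [HasDerivedCategory B] (F : A ⥤ B) [F.Additive] [PreservesFiniteLimits F]
    [PreservesFiniteColimits F] [F.IsEquivalence] : F.mapDerivedCategory.IsEquivalence := by
  let G := F.inv
  have hG : G.IsEquivalence := inferInstance
  have h1 : G.Additive := Functor.additive_of_preserves_binary_products _
  let e1 : F.mapDerivedCategory ⋙ G.mapDerivedCategory ≅ 𝟭 _ :=
    Dcoh.MapDer.mapDerCompIso F.asEquivalence.unitIso.symm ≪≫ Dcoh.MapDer.mapDerId A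
  let e2 : G.mapDerivedCategory ⋙ F.mapDerivedCategory ≅ 𝟭 _ :=
    Dcoh.MapDer.mapDerCompIso F.asEquivalence.counitIso ≪≫ Dcoh.MapDer.mapDerId B
  exact (CategoryTheory.Equivalence.mk F.mapDerivedCategory G.mapDerivedCategory e1.symm e2).isEquivalence_functor

theorem isEquivalence_pullD (f : X ⟶ Y) [(EtCoh.pull f).IsEquivalence] : (pullD f).IsEquivalence :=
  isEquivalence_mapDer _

/-- Topological invariance: universal homeomorphisms induce equivalences on étale sheaves. -/
theorem isEquivalence_pull (i : X ⟶ Y) [IsIntegralHom i] [UniversallyInjective i] [Surjective i] :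
    (EtCoh.pull i).IsEquivalence := by
  obtain ⟨h1, h2, h3, -⟩ := S0631.result i
  have h4 : (EtCoh.push i).EssSurj := ⟨fun G => by
    obtain ⟨Y, hY⟩ := (h3 G).2 (by
      rw [i.surjective.range_eq]
      exact Set.subset_univ _)
    exact ⟨Y, hY⟩⟩
  have h5 : (EtCoh.push i).IsEquivalence := {}
  exact (EtCoh.pullPushAdj i).isEquivalence_left_of_isEquivalence_right

theorem isEquivalence_pull_of_isIso (i : X ⟶ Y) [IsIso i] : (EtCoh.pull i).IsEquivalence :=
  isEquivalence_pull i

end equiv

section etale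

variable {f : X ⟶ Y} {g : Y' ⟶ Y} {f' : X' ⟶ Y'} {g' : X' ⟶ X}

/-- Étale base change. -/
theorem bc_of_etale (h : IsPullback g' f' f g) [Etale g] (K : DCoh.DEt X) : BC h.w K := by
  rw [BC_iff]
  have hg' : Etale g' := MorphismProperty.of_isPullback (P := @Etale) h.flip inferInstance
  obtain ⟨I, hI, ⟨e⟩⟩ := TotCat.exists_kinj K
  have h2 := TotCat.isKInjective_pull g' I
  exact isIso_bcD_of_iso _ e.symm (isIso_bcD_Q _ I (isIso_unitQ_of_isKInjective _ I hI)
    (isIso_unitQ_of_isKInjective _ _ h2)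
    (fun i => TotCat.isIso_baseChange0_etale h (I.X i)))

/-- Base change along morphisms inducing equivalences of categories of étale sheaves. -/
theorem bc_of_isEquivalence (w : g' ≫ f = f' ≫ g) [(EtCoh.pull g).IsEquivalence]
    [(EtCoh.pull g').IsEquivalence] (K : DCoh.DEt X) : BC w K := by
  have := isEquivalence_pullD g
  have := isEquivalence_pullD g'
  exact Sq.BC.of_equiv _ (hasUniv (EtCoh.pullPushAdj f) K)

/-- Base change when `pull f` and `pull f'` are equivalences. -/
theorem bc_of_vert (w : g' ≫ f = f' ≫ g) [(EtCoh.pull f).IsEquivalence]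
    [(EtCoh.pull f').IsEquivalence] (K : DCoh.DEt X) : BC w K := by
  have := isEquivalence_pullD f
  have := isEquivalence_pullD f'
  exact Sq.BC.of_vertical_equiv _

end etale

section local'

theorem isIso_of_pullD {ι : Type*} {U : ι → Scheme.{u}} (u : ∀ i, U i ⟶ Y)
    (hu : ∀ y : Y, ∃ (i : ι) (x : U i), (u i) x = y) {K L : DCoh.DEt Y} (φ : K ⟶ L)
    (h : ∀ i, IsIso ((pullD (u i)).map φ)) : IsIso φ := by
  rw [DerivedCategory.isIso_iff]
  intro n
  refine Etcore.PullJoint.isIso_of_pull u hu _ fun i => ?_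
  have h1 := h i
  exact (Dcoh.MapDer.isIso_homology_map_iff (EtCoh.pull (u i)) φ n).1 inferInstance

variable {f : X ⟶ Y} {g : Y' ⟶ Y} {f' : X' ⟶ Y'} {g' : X' ⟶ X} {w : g' ≫ f = f' ≫ g}

/-- Base change may be checked after a jointly surjective family of base changes `u i : U i ⟶ Y'`
which satisfy base change themselves for `f'` and `g'^* K`. -/
theorem BC.of_cover {ι : Type*} {U : ι → Scheme.{u}} (u : ∀ i, U i ⟶ Y')
    (hu : ∀ y : Y', ∃ (i : ι) (x : U i), (u i) x = y) {V : ι → Scheme.{u}} (v : ∀ i, V i ⟶ X')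
    (f'' : ∀ i, V i ⟶ U i) (w₂ : ∀ i, v i ≫ f' = f'' i ≫ u i) (K : DCoh.DEt X)
    (h₂ : ∀ i, BC (w₂ i) ((pullD g').obj K))
    (h : ∀ i, BC (show (v i ≫ g') ≫ f = f'' i ≫ (u i ≫ g) by
      rw [Category.assoc, w, reassoc_of% (w₂ i)]) K) : BC w K := by
  refine Sq.BC.of_local (RPair.sq (cmp w)) (fun i => RPair.sq (cmp (w₂ i))) (fun φ hφ => isIso_of_pullD u hu φ hφ)
    (hasUniv (EtCoh.pullPushAdj f) K) (hasUniv (EtCoh.pullPushAdj f') _) h₂ (fun i => ?_)
  exact (bc_hcomp_iff w (w₂ i) _ K).2 (h i)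

/-- Base change is étale local on the target of the base change. -/
theorem BC.of_etale_cover {ι : Type*} {U : ι → Scheme.{u}} (u : ∀ i, U i ⟶ Y') [∀ i, Etale (u i)]
    (hu : ∀ y : Y', ∃ (i : ι) (x : U i), (u i) x = y) {V : ι → Scheme.{u}} (v : ∀ i, V i ⟶ X')
    (f'' : ∀ i, V i ⟶ U i) (w₂ : ∀ i, IsPullback (v i) (f'' i) f' (u i)) (K : DCoh.DEt X)
    (h : ∀ i, BC (show (v i ≫ g') ≫ f = f'' i ≫ (u i ≫ g) by
      rw [Category.assoc, w, reassoc_of% (w₂ i).w]) K) : BC w K :=
  BC.of_cover u hu v f'' (fun i => (w₂ i).w) K (fun i => bc_of_etale (w₂ i) _) h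

/-- Base change along `g` follows from base change along `h ≫ g` when `pull h` and `pull h'` are
equivalences. -/
theorem BC.of_hcomp_equiv {f'' : X'' ⟶ Y''} {h : Y'' ⟶ Y'} {h' : X'' ⟶ X'} (w₂ : h' ≫ f' = f'' ≫ h)
    [(EtCoh.pull h).IsEquivalence] [(EtCoh.pull h').IsEquivalence] {K : DCoh.DEt X}
    (hK : BC (show (h' ≫ g') ≫ f = f'' ≫ (h ≫ g) by rw [Category.assoc, w, reassoc_of% w₂]) K) :
    BC w K := by
  have := isEquivalence_pullD h
  have := isEquivalence_pullD h'
  exact Sq.BC.of_hcomp_equiv (RPair.sq (cmp w₂)) ((bc_hcomp_iff w w₂ _ K).2 hK)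

end local'

end Groth.Agent.Sga4h.GSq
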