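import Groth.Agent.Sga4h.GeoDim2
import Groth.Agent.CycA.GenProd
import Mathlib.AlgebraicGeometry.AffineSpace

/-!
# Generic relative dimension: bounds by numbers of generators, affine spaces
-/

set_option autoImplicit false

universe u

open CategoryTheory CategoryTheory.Limits AlgebraicGeometry

namespace Groth.Agent.Sga4h.GeoDim

open Groth.Agent.CycB Groth.Agent.CycB.RelDim Groth.Agent.CycB.TrdegAlg Algebra
open Groth.Agent.CycA.GenProd

variable {X Y Z S : Scheme.{u}}

/-- If `L` is generated, in the strong sense `FracGen`, by the image of `ψ : B → L` and `B` is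
generated by `s` over `A`, then the transcendence degree of `L` over `K` is at most `#s`. -/
theorem trd_le_of_generators {A B K L : Type u} [CommRing A] [CommRing B] [Field K] [Field L]
    (φ : A →+* B) (ψA : A →+* K) (ψB : B →+* L) (θ : K →+* L)
    (comm : θ.comp ψA = ψB.comp φ) (hB : FracGen ψB) (s : Set B)
    (hs : ∀ T : Subring B, φ.range ≤ T → s ⊆ T → T = ⊤) :
    trd θ ≤ Cardinal.mk s := by
  let _ : Algebra K L := θ.toAlgebra
  let s' : Set L := ψB '' s
  have hle : Cardinal.mk s' ≤ Cardinal.mk s := Cardinal.mk_image_le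
  refine le_trans ?_ hle
  have hmem : ∀ b : B, ψB b ∈ Algebra.adjoin K s' := by
    intro b
    have h1 : (Algebra.adjoin K s').toSubring.comap ψB = ⊤ := by
      apply hs
      · rintro b ⟨a, rfl⟩
        change ψB (φ a) ∈ Algebra.adjoin K s'
        have := RingHom.congr_fun comm a
        simp only [RingHom.comp_apply] at this
        rw [← this]
        exact (Algebra.adjoin K s').algebraMap_mem (ψA a)
      · intro b hb
        exact Algebra.subset_adjoin ⟨b, hb, rfl⟩
    have h2 : b ∈ (Algebra.adjoin K s').toSubring.comap ψB := by rw [h1]; trivial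
    exact h2
  have : Algebra.IsAlgebraic (Algebra.adjoin K s') L := ⟨fun z => by
    obtain ⟨a, b, hb, hab⟩ := hB z
    refine ⟨Polynomial.C (⟨ψB b, hmem b⟩ : Algebra.adjoin K s') * Polynomial.X -
      Polynomial.C (⟨ψB a, hmem a⟩ : Algebra.adjoin K s'), ?_, ?_⟩
    · intro h0
      have := congrArg (fun P => Polynomial.coeff P 1) h0
      simp at this
      apply hb
      exact congrArg Subtype.val this
    · simp only [map_sub, map_mul, Polynomial.aeval_X, Polynomial.aeval_C]
      change ψB b * z - ψB a = 0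
      rw [← hab, mul_comm, sub_self]⟩
  exact Algebra.IsAlgebraic.trdeg_le_cardinalMk K s'

/-- A bound of the transcendence degree by the number of algebra generators. -/
theorem trdegAt_le_of_generators (f : X ⟶ Y) {U : Y.Opens}
    {V : X.Opens} (hV : IsAffineOpen V) (e : V ≤ f ⁻¹ᵁ U) (s : Set Γ(X, V))
    (hs : ∀ T : Subring Γ(X, V), (f.appLE U V e).hom.range ≤ T → s ⊆ T → T = ⊤) (x : X)
    (hx : x ∈ V) : trdegAt f x ≤ Cardinal.mk s := by
  refine trd_le_of_generators (f.appLE U V e).hom (Y.evaluation U (f x) (e hx)).hom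
    (X.evaluation V x hx).hom (f.residueFieldMap x).hom ?_ (fracGen_evaluation hV _ _) s hs
  rw [← CommRingCat.hom_comp, ← CommRingCat.hom_comp]
  congr 1
  exact evaluation_comp_residueFieldMap f U V e x hx (e hx)

/-- Local boundedness of the transcendence degrees. -/
theorem exists_nhds_bound (f : X ⟶ Y) [LocallyOfFiniteType f] (x : X) :
    ∃ (V : X.Opens) (n : ℕ), x ∈ V ∧ ∀ y ∈ V, trdegAt f y ≤ (n : Cardinal.{u}) := by
  obtain ⟨U, V, hU, hV, e, hx⟩ := exists_affine_nhds f x
  have hft : (f.appLE U V e).hom.FiniteType := f.finiteType_appLE hU hV e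
  obtain ⟨s, hs⟩ := hft
  refine ⟨V, s.card, hx, fun y hy => ?_⟩
  refine (trdegAt_le_of_generators f hV e (s : Set Γ(X, V)) ?_ y hy).trans ?_
  · intro T hT hsT
    let _ := (f.appLE U V e).hom.toAlgebra
    rw [_root_.eq_top_iff]
    intro b _
    let T' : Subalgebra Γ(Y, U) Γ(X, V) := { T with
      algebraMap_mem' := fun r => hT ⟨r, rfl⟩ }
    have h1 : Algebra.adjoin Γ(Y, U) (s : Set Γ(X, V)) ≤ T' := Algebra.adjoin_le hsT
    have h2 : b ∈ Algebra.adjoin Γ(Y, U) (s : Set Γ(X, V)) := by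
      have : Algebra.adjoin Γ(Y, U) (s : Set Γ(X, V)) = ⊤ := hs
      rw [this]; trivial
    exact h1 h2
  · simp

/-- The generic relative dimension of a finite type morphism is finite. -/
theorem exists_gDimLE [IrreducibleSpace S] (f : X ⟶ S) [LocallyOfFiniteType f] [QuasiCompact f] :
    ∃ n : ℕ, GDimLE f n := by
  obtain ⟨U, hU, hxU, -⟩ := exists_isAffineOpen_mem_and_subset (X := S) (x := genericPoint S)
    (U := ⊤) trivial
  have hc : IsCompact ((f ⁻¹ᵁ U : X.Opens) : Set X) :=
    QuasiCompact.isCompact_preimage (f := f) _ U.2 hU.isCompact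
  suffices H : ∃ n : ℕ, ∀ x ∈ ((f ⁻¹ᵁ U : X.Opens) : Set X), trdegAt f x ≤ (n : Cardinal.{u}) by
    obtain ⟨n, hn⟩ := H
    exact ⟨n, fun x hx => hn x (by change f x ∈ U; rwa [hx])⟩
  refine hc.induction_on (p := fun s => ∃ n : ℕ, ∀ x ∈ s, trdegAt f x ≤ (n : Cardinal.{u}))
    ⟨0, fun x hx => hx.elim⟩ ?_ ?_ ?_
  · rintro s t hst ⟨n, hn⟩
    exact ⟨n, fun x hx => hn x (hst hx)⟩
  · rintro s t ⟨m, hm⟩ ⟨n, hn⟩
    refine ⟨max m n, fun x hx => ?_⟩
    rcases hx with hx | hx
    · exact (hm x hx).trans (by exact_mod_cast le_max_left m n)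
    · exact (hn x hx).trans (by exact_mod_cast le_max_right m n)
  · intro x hx
    obtain ⟨V, n, hxV, hV⟩ := exists_nhds_bound f x
    exact ⟨V, mem_nhdsWithin_of_mem_nhds (V.2.mem_nhds hxV), n, hV⟩

theorem trdegAt_Spec_mvPolynomial_le (m : ℕ) (R : CommRingCat.{u})
    (x : Spec (.of (MvPolynomial (ULift.{u} (Fin m)) R))) :
    trdegAt (Spec.map (CommRingCat.ofHom
      (MvPolynomial.C (σ := ULift.{u} (Fin m)) (R := R)))) x ≤ (m : Cardinal.{u}) := by
  let φ : R ⟶ .of (MvPolynomial (ULift.{u} (Fin m)) R) :=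
    CommRingCat.ofHom (MvPolynomial.C (σ := ULift.{u} (Fin m)) (R := R))
  have h := congrArg CommRingCat.Hom.hom (toRes_comp φ x)
  rw [CommRingCat.hom_comp, CommRingCat.hom_comp] at h
  refine (trd_le_of_generators φ.hom (toRes R (Spec.map φ x)).hom (toRes _ x).hom
    ((Spec.map φ).residueFieldMap x).hom h (fracGen_toRes _ _)
    (Set.range (MvPolynomial.X : ULift.{u} (Fin m) → MvPolynomial (ULift.{u} (Fin m)) R))
    ?_).trans ?_
  · intro T hT hXT
    rw [_root_.eq_top_iff]
    intro b _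
    refine MvPolynomial.induction_on (R := R) (σ := ULift.{u} (Fin m)) (motive := fun q => q ∈ T) b
      (fun a => hT ⟨a, rfl⟩)
      (fun p q hp hq => T.add_mem hp hq) (fun p i hp => T.mul_mem hp (hXT ⟨i, rfl⟩))
  · exact Cardinal.mk_range_le.trans (by simp)

instance isOpenImmersion_affineSpace_map (n : Type u) {U S : Scheme.{u}} (j : U ⟶ S)
    [IsOpenImmersion j] : IsOpenImmersion (AffineSpace.map n j) :=
  MorphismProperty.of_isPullback (AffineSpace.isPullback_map (n := n) j).flip inferInstance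

theorem trdegAt_affineSpace_map (n : Type u) {U S : Scheme.{u}} (j : U ⟶ S) [IsOpenImmersion j]
    (x : 𝔸(n; U)) : trdegAt (𝔸(n; U) ↘ U) x = trdegAt (𝔸(n; S) ↘ S) (AffineSpace.map n j x) :=
  trdegAt_square _ _ _ j (AffineSpace.map_over j) x
      (trdegAt_eq_zero_of_isPreimmersion _ _) (trdegAt_eq_zero_of_isPreimmersion _ _)

theorem exists_affineSpace_map_eq (n : Type u) {U S : Scheme.{u}} (j : U ⟶ S) [IsOpenImmersion j]
    (x : 𝔸(n; S)) (hx : (𝔸(n; S) ↘ S) x ∈ j.opensRange) :
    ∃ x' : 𝔸(n; U), AffineSpace.map n j x' = x := by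
  obtain ⟨y, hy⟩ := hx
  have hpb := AffineSpace.isPullback_map (n := n) j
  obtain ⟨x', hx', -⟩ := Scheme.Pullback.exists_preimage_pullback x y hy.symm
  refine ⟨hpb.isoPullback.inv x', ?_⟩
  rw [← hx', ← hpb.isoPullback_inv_fst]
  rfl

theorem exists_Spec_openImmersion (S : Scheme.{u}) (s : S) :
    ∃ (R : CommRingCat.{u}) (j : Spec R ⟶ S) (_ : IsOpenImmersion j), s ∈ j.opensRange := by
  obtain ⟨R, j, hj, hs, -⟩ := Scheme.exists_affine_mem_range_and_range_subset
    (X := S) (U := ⊤) (x := s) trivial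
  exact ⟨R, j, hj, hs⟩

/-- Points of affine space have transcendence degree at most the number of variables. -/
theorem trdegAt_affineSpace_le (m : ℕ) (S : Scheme.{u})
    (x : 𝔸(ULift.{u} (Fin m); S)) :
    trdegAt (𝔸(ULift.{u} (Fin m); S) ↘ S) x ≤ (m : Cardinal.{u}) := by
  obtain ⟨R, j, hj, hs⟩ := exists_Spec_openImmersion S ((𝔸(ULift.{u} (Fin m); S) ↘ S) x)
  obtain ⟨x', rfl⟩ := exists_affineSpace_map_eq _ j x hs
  rw [← trdegAt_affineSpace_map]
  have h1 := AffineSpace.SpecIso_inv_over (n := ULift.{u} (Fin m)) R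
  obtain ⟨y, rfl⟩ : ∃ y, (AffineSpace.SpecIso (ULift.{u} (Fin m)) R).inv y = x' :=
    ⟨(AffineSpace.SpecIso (ULift.{u} (Fin m)) R).hom x', by
      rw [← Scheme.Hom.comp_apply, Iso.hom_inv_id]; rfl⟩
  have h2 := trdegAt_comp (AffineSpace.SpecIso (ULift.{u} (Fin m)) R).inv
    (𝔸(ULift.{u} (Fin m); Spec R) ↘ Spec R) y
  rw [h1, trdegAt_eq_zero_of_isPreimmersion (AffineSpace.SpecIso (ULift.{u} (Fin m)) R).inv,
    add_zero] at h2
  rw [← h2]
  exact trdegAt_Spec_mvPolynomial_le m R y

theorem gDimLE_affineSpace (m : ℕ) (S : Scheme.{u}) [IrreducibleSpace S] :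
    GDimLE (𝔸(ULift.{u} (Fin m); S) ↘ S) m :=
  fun x _ => trdegAt_affineSpace_le m S x

/-- Residue transcendence degree at the generic point of the spectrum of a domain. -/
theorem trdegAt_genericPoint_Spec {A B : CommRingCat.{u}} (φ : A ⟶ B) [IsDomain A] [IsDomain B]
    (hφ : Function.Injective φ.hom) :
    trdegAt (Spec.map φ) (genericPoint (Spec B)) = trd φ.hom := by
  have hB := toRes_genericPoint_injective B
  have h := congrArg CommRingCat.Hom.hom (toRes_comp φ (genericPoint (Spec B)))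
  rw [CommRingCat.hom_comp, CommRingCat.hom_comp] at h
  have hinjA : Function.Injective (toRes A (Spec.map φ (genericPoint (Spec B)))).hom := by
    have h3 : Function.Injective
        (((Spec.map φ).residueFieldMap (genericPoint (Spec B))).hom.comp
          (toRes A (Spec.map φ (genericPoint (Spec B)))).hom) := by
      rw [h]; exact hB.comp hφ
    rw [RingHom.coe_comp] at h3
    exact Function.Injective.of_comp h3
  have h1 := trd_comp' (toRes A (Spec.map φ (genericPoint (Spec B)))).hom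
    ((Spec.map φ).residueFieldMap (genericPoint (Spec B))).hom hinjA
    ((Spec.map φ).residueFieldMap (genericPoint (Spec B))).hom.injective
  have h2 := trd_comp' φ.hom (toRes B (genericPoint (Spec B))).hom hφ hB
  rw [trd_eq_zero_of_fracGen (fracGen_toRes _ _) hinjA, zero_add] at h1
  rw [trd_eq_zero_of_fracGen (fracGen_toRes _ _) hB, add_zero] at h2
  rw [trdegAt_eq_rtd]
  unfold rtd
  rw [← h1, ← h2, h]

theorem trdegAt_affineSpace_genericPoint (m : ℕ) (S : Scheme.{u}) [IsIntegral S] :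
    trdegAt (𝔸(ULift.{u} (Fin m); S) ↘ S) (genericPoint 𝔸(ULift.{u} (Fin m); S)) =
      (m : Cardinal.{u}) := by
  obtain ⟨R, j, hj, hs⟩ := exists_Spec_openImmersion S (genericPoint S)
  have hne : Nonempty (Spec R) := ⟨hs.choose⟩
  have hint : IsIntegral (Spec R) := isIntegral_of_isOpenImmersion j
  have hdom : IsDomain R := (affine_isIntegral_iff R).mp hint
  rw [← genericPoint_eq_of_isOpenImmersion (AffineSpace.map (ULift.{u} (Fin m)) j),
    ← trdegAt_affineSpace_map]
  have h1 := AffineSpace.SpecIso_inv_over (n := ULift.{u} (Fin m)) R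
  rw [← genericPoint_eq_of_isOpenImmersion (AffineSpace.SpecIso (ULift.{u} (Fin m)) R).inv]
  have h2 := trdegAt_comp (AffineSpace.SpecIso (ULift.{u} (Fin m)) R).inv
    (𝔸(ULift.{u} (Fin m); Spec R) ↘ Spec R) (genericPoint _)
  rw [h1, trdegAt_eq_zero_of_isPreimmersion (AffineSpace.SpecIso (ULift.{u} (Fin m)) R).inv,
    add_zero] at h2
  rw [← h2, trdegAt_genericPoint_Spec]
  · change trd (MvPolynomial.C (σ := ULift.{u} (Fin m)) (R := R)) = _
    rw [← MvPolynomial.algebraMap_eq, trd_algebraMap, MvPolynomial.trdeg_of_isDomain]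
    simp
  · exact MvPolynomial.C_injective _ _

theorem affineSpace_genericPoint (n : Type u) (S : Scheme.{u}) [IrreducibleSpace S] :
    (𝔸(n; S) ↘ S) (genericPoint 𝔸(n; S)) = genericPoint S := by
  have h1 := (genericPoint_spec 𝔸(n; S)).image (𝔸(n; S) ↘ S).continuous
  have h2 : Set.range (𝔸(n; S) ↘ S) = Set.univ := (𝔸(n; S) ↘ S).surjective.range_eq
  rw [Set.image_univ, h2, closure_univ] at h1
  exact h1.eq (genericPoint_spec S)

/-- An `S`-morphism to the affine line over `S`: the generic relative dimension drops by one. -/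
theorem GDimLE.of_affineSpace [IsIntegral S] {m n : ℕ}
    (g : X ⟶ 𝔸(ULift.{u} (Fin m); S)) (h : GDimLE (g ≫ (𝔸(ULift.{u} (Fin m); S) ↘ S)) (n + m)) :
    GDimLE g n :=
  GDimLE.of_comp g _ h (affineSpace_genericPoint _ _)
    (trdegAt_affineSpace_genericPoint m S).symm.le

end Groth.Agent.Sga4h.GeoDim
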