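import Groth.Agent.Ega2.GeoCompact
import Groth.Agent.Ega2.GeoCompactField

/-!
# Generic smooth compactification of a relative curve after a radicial base change
-/

set_option autoImplicit false

universe u

open CategoryTheory CategoryTheory.Limits AlgebraicGeometry

namespace Groth.Agent.Sga4h.GeoCompact

/-- A smooth separated finite type relative curve `f : C ⟶ Y` over an integral affine noetherian
base has, after shrinking `Y` and a finite radicial surjective base change, a smooth proper
compactification whose boundary is finite etale over the base. -/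
theorem exists_smooth_compactification {C Y : Scheme.{u}} (f : C ⟶ Y)
    [SmoothOfRelativeDimension 1 f] [IsSeparated f] [QuasiCompact f]
    [IsAffine Y] [IsIntegral Y] [IsLocallyNoetherian Y] :
    ∃ (Y₁ : Y.Opens) (_ : (Y₁ : Set Y).Nonempty) (_ : IsAffineOpen Y₁) (Yt : Scheme.{u}) (a : Yt ⟶ Y₁.toScheme)
      (Q E C' : Scheme.{u}) (p : Q ⟶ Yt) (j : C' ⟶ Q) (i : E ⟶ Q) (b : C' ⟶ C),
      IsIntegral Yt ∧ IsFinite a ∧ UniversallyInjective a ∧ Surjective a ∧
      IsPullback b (j ≫ p) f (a ≫ Y₁.ι) ∧
      IsProper p ∧ SmoothOfRelativeDimension 1 p ∧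
      IsOpenImmersion j ∧ IsClosedImmersion i ∧ IsFinite (i ≫ p) ∧ Etale (i ≫ p) ∧
      Set.range i.base = (Set.range j.base)ᶜ :=
  Ega2.GeoCompact.exists_smooth_compactification_of_fieldCase
    (fun k _ _ _ f _ _ _ ↦ Ega2.GeoCompactField.exists_compactification k f) f

end Groth.Agent.Sga4h.GeoCompact
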