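import Groth.Agent.Sga4h.PrimeDev219
import Groth.Agent.Etcore.OpenClosed

/-!
# Dévissage of finite locally constant sheaves to `ρ_* ℤ/ℓ`, `ρ` finite étale: Noetherian schemes
-/

set_option autoImplicit false
universe u
open CategoryTheory CategoryTheory.Limits AlgebraicGeometry Opposite

namespace Groth.Agent.Sga4h.PrimeDevN219

open PrimeDev219 Groth.Agent.Etcore

theorem isIso_map_lift_left {C D : Type*} [Category* C] [Category* D] [Abelian C] [Abelian D]
    (S : C ⥤ D) [S.Additive] {F A B : C} (a : F ⟶ A) (b : F ⟶ B) (ha : IsIso (S.map a))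
    (hB : IsZero (S.obj B)) : IsIso (S.map (biprod.lift a b)) := by
  have h1 : S.map (biprod.inl : A ⟶ A ⊞ B) ≫ S.map biprod.fst = 𝟙 _ := by
    rw [← CategoryTheory.Functor.map_comp, biprod.inl_fst, CategoryTheory.Functor.map_id]
  have h2 : S.map (biprod.fst : A ⊞ B ⟶ A) ≫ S.map biprod.inl = 𝟙 _ := by
    have h3 : S.map (biprod.snd : A ⊞ B ⟶ B) = 0 := hB.eq_of_tgt _ _
    have h4 := congrArg S.map (biprod.total (X := A) (Y := B))
    rw [S.map_add, CategoryTheory.Functor.map_comp, CategoryTheory.Functor.map_comp, h3, zero_comp,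
      add_zero, CategoryTheory.Functor.map_id] at h4
    exact h4
  have h5 : IsIso (S.map (biprod.fst : A ⊞ B ⟶ A)) := ⟨_, h2, h1⟩
  have h6 : S.map (biprod.lift a b) ≫ S.map biprod.fst = S.map a := by
    rw [← CategoryTheory.Functor.map_comp, biprod.lift_fst]
  have h7 : IsIso (S.map (biprod.lift a b) ≫ S.map biprod.fst) := by rw [h6]; exact ha
  exact IsIso.of_isIso_comp_right _ (S.map (biprod.fst : A ⊞ B ⟶ A))

theorem isIso_map_lift_right {C D : Type*} [Category* C] [Category* D] [Abelian C] [Abelian D]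
    (S : C ⥤ D) [S.Additive] {F A B : C} (a : F ⟶ A) (b : F ⟶ B) (hb : IsIso (S.map b))
    (hA : IsZero (S.obj A)) : IsIso (S.map (biprod.lift a b)) := by
  have h1 : S.map (biprod.inr : B ⟶ A ⊞ B) ≫ S.map biprod.snd = 𝟙 _ := by
    rw [← CategoryTheory.Functor.map_comp, biprod.inr_snd, CategoryTheory.Functor.map_id]
  have h2 : S.map (biprod.snd : A ⊞ B ⟶ B) ≫ S.map biprod.inr = 𝟙 _ := by
    have h3 : S.map (biprod.fst : A ⊞ B ⟶ A) = 0 := hA.eq_of_tgt _ _
    have h4 := congrArg S.map (biprod.total (X := A) (Y := B))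
    rw [S.map_add, CategoryTheory.Functor.map_comp, CategoryTheory.Functor.map_comp, h3, zero_comp,
      zero_add, CategoryTheory.Functor.map_id] at h4
    exact h4
  have h5 : IsIso (S.map (biprod.snd : A ⊞ B ⟶ B)) := ⟨_, h2, h1⟩
  have h6 : S.map (biprod.lift a b) ≫ S.map biprod.snd = S.map b := by
    rw [← CategoryTheory.Functor.map_comp, biprod.lift_snd]
  have h7 : IsIso (S.map (biprod.lift a b) ≫ S.map biprod.snd) := by rw [h6]; exact hb
  exact IsIso.of_isIso_comp_right _ (S.map (biprod.snd : A ⊞ B ⟶ B))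

variable {X : Scheme.{u}}

/-- Decomposition along a clopen decomposition. -/
theorem isIso_lift {U V : Scheme.{u}} (i : U ⟶ X) (j : V ⟶ X) [IsOpenImmersion i]
    [IsClosedImmersion i] [IsOpenImmersion j] [IsClosedImmersion j]
    (hd : IsCompl (Set.range i) (Set.range j)) (F : EtCoh.Ab X) :
    IsIso (biprod.lift ((EtCoh.pullPushAdj i).unit.app F) ((EtCoh.pullPushAdj j).unit.app F)) := by
  rw [Stalks.isIso_iff_stalks]
  intro Ω _ _ ξ
  by_cases h : ξ default ∈ Set.range i
  · exact isIso_map_lift_left (EtCoh.stalk ξ) _ _ (OpenClosed.isIso_stalk_unit i ξ h F)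
      (OpenClosed.isZero_stalk_push j i hd.symm.disjoint ξ h _)
  · have h' : ξ default ∈ Set.range j :=
      (hd.codisjoint.top_le (Set.mem_univ (ξ default))).resolve_left h
    exact isIso_map_lift_right (EtCoh.stalk ξ) _ _ (OpenClosed.isIso_stalk_unit j ξ h' F)
      (OpenClosed.isZero_stalk_push i j hd.disjoint ξ h' _)

theorem P_of_compl {P : EtCoh.Ab X → Prop} (h : Cl P) {U V : Scheme.{u}} (i : U ⟶ X) (j : V ⟶ X)
    [IsOpenImmersion i] [IsClosedImmersion i] [IsOpenImmersion j] [IsClosedImmersion j]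
    (hd : IsCompl (Set.range i) (Set.range j)) (F : EtCoh.Ab X)
    (hi : P ((EtCoh.push i).obj ((EtCoh.pull i).obj F)))
    (hj : P ((EtCoh.push j).obj ((EtCoh.pull j).obj F))) : P F := by
  have := isIso_lift i j hd F
  refine h.of_iso (asIso (biprod.lift ((EtCoh.pullPushAdj i).unit.app F)
    ((EtCoh.pullPushAdj j).unit.app F))) ?_
  let S : ShortComplex (EtCoh.Ab X) :=
    ShortComplex.mk (biprod.inl : (EtCoh.push i).obj ((EtCoh.pull i).obj F) ⟶
      (EtCoh.push i).obj ((EtCoh.pull i).obj F) ⊞ (EtCoh.push j).obj ((EtCoh.pull j).obj F))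
      biprod.snd biprod.inl_snd
  have hS : S.ShortExact := (ShortComplex.Splitting.ofHasBinaryBiproduct _ _).shortExact
  exact h.ext hS hi hj

theorem isClosedImmersion_of_isClopen {T : Scheme.{u}} (A : T.Opens) (hA : IsClosed (A : Set T)) :
    IsClosedImmersion A.ι :=
  IsClosedImmersion.of_isPreimmersion A.ι (by rw [Scheme.Opens.range_ι]; exact hA)

/-- Sheaves killed by a positive integer on a Noetherian scheme. -/
theorem of_killed [IsNoetherian X] (m : ℕ) (hm : m ≠ 0) {P : EtCoh.Ab X → Prop} (h : Cl P)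
    (hz : ∀ F : EtCoh.Ab X, IsZero F → P F)
    (hb : ∀ ℓ : ℕ, ℓ.Prime → ℓ ∣ m → ∀ {T : Scheme.{u}} (ρ : T ⟶ X) [IsFinite ρ] [Etale ρ],
      P ((EtCoh.push ρ).obj (EtCoh.const T (ZMod ℓ))))
    (F : EtCoh.Ab X) (hF : EtCoh.IsFiniteLocallyConstant F) (hk : EtCoh.KilledBy m F) : P F := by
  have key : ∀ Z : TopologicalSpace.Closeds X, ∀ (T : Scheme.{u}) (t : T ⟶ X) [IsOpenImmersion t]
      [IsClosedImmersion t], Set.range t = Z → P ((EtCoh.push t).obj ((EtCoh.pull t).obj F)) := by
    intro Z
    induction Z using WellFoundedLT.induction with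
    | _ Z ih =>
      intro T t _ _ hZ
      have hFT : EtCoh.IsFiniteLocallyConstant ((EtCoh.pull t).obj F) :=
        Groth.Agent.EtpbcA.PullFLC.isFLC_pull t F hF
      have hkT : EtCoh.KilledBy m ((EtCoh.pull t).obj F) :=
        Groth.Agent.Etcore.PrimeFilt.killedBy_pull t m F hk
      by_cases hT : ConnectedSpace T
      · refine PrimeDev219.of_killed m hm (h.push t) (fun G hG => hz _ ((EtCoh.push t).map_isZero hG))
          (fun ℓ hℓ hdvd T' ρ _ _ => ?_) _ hFT hkT
        exact h.of_iso ((EtCoh.pushComp t ρ).app _) (hb ℓ hℓ hdvd (ρ ≫ t))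
      by_cases hE : IsEmpty T
      · refine hz _ ((EtCoh.push t).map_isZero ?_)
        rw [Stalks.isZero_iff_stalks]
        intro Ω _ _ ξ
        exact (hE.false (ξ default)).elim
      · have hE' : Nonempty T := not_isEmpty_iff.1 hE
        have hpc : ¬ PreconnectedSpace T := fun h' => hT { toPreconnectedSpace := h', toNonempty := hE' }
        rw [preconnectedSpace_iff_clopen] at hpc
        push Not at hpc
        obtain ⟨A, hA, hA0, hA1⟩ := hpc
        let U : T.Opens := ⟨A, hA.isOpen⟩
        let V : T.Opens := ⟨Aᶜ, hA.compl.isOpen⟩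
        have hU : IsClosedImmersion U.ι := isClosedImmersion_of_isClopen U hA.isClosed
        have hV : IsClosedImmersion V.ι := isClosedImmersion_of_isClopen V hA.compl.isClosed
        have htinj : Function.Injective t := t.isClosedEmbedding.injective
        have hcomp : ∀ W : T.Opens, (W : Set T) ≠ Set.univ → IsClosedImmersion W.ι →
            P ((EtCoh.push t).obj ((EtCoh.push W.ι).obj ((EtCoh.pull W.ι).obj
              ((EtCoh.pull t).obj F)))) := by
          intro W hW hWc
          have hr : Set.range (W.ι ≫ t) = t '' (W : Set T) := by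
            rw [Scheme.Hom.comp_base, TopCat.coe_comp, Set.range_comp, Scheme.Opens.range_ι]
          let Z' : TopologicalSpace.Closeds X :=
            ⟨Set.range (W.ι ≫ t), (W.ι ≫ t).isClosedEmbedding.isClosed_range⟩
          have hlt : Z' < Z := by
            rw [← SetLike.coe_ssubset_coe]
            change Set.range (W.ι ≫ t) ⊂ (Z : Set X)
            rw [hr, ← hZ, ← Set.image_univ]
            refine HasSubset.Subset.ssubset_of_ne (Set.image_mono (Set.subset_univ _)) fun he => ?_
            exact hW (Set.image_injective.2 htinj he)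
          have h2 := ih Z' hlt W (W.ι ≫ t) rfl
          refine h.of_iso ?_ h2
          exact (EtCoh.push t).mapIso ((EtCoh.push W.ι).mapIso
            ((Groth.Agent.EtpbcA.PullFLC.pullComp W.ι t).app F)) ≪≫ (EtCoh.pushComp t W.ι).app _
        refine P_of_compl (h.push t) U.ι V.ι ?_ ((EtCoh.pull t).obj F) ?_ ?_
        · rw [Scheme.Opens.range_ι, Scheme.Opens.range_ι]
          exact isCompl_compl
        · refine hcomp U hA1 hU
        · refine hcomp V ?_ hV
          change Aᶜ ≠ Set.univ
          rw [Ne, Set.compl_univ_iff]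
          exact hA0.ne_empty
  have h1 := key ⊤ X (𝟙 X) (by simp)
  exact h.of_iso ((Groth.Agent.EtpbcA.PullFLC.pushId X).app _ ≪≫
    (Groth.Agent.EtpbcA.PullFLC.pullId X).app F).symm h1

end Groth.Agent.Sga4h.PrimeDevN219
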