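import Groth.Agent.Sga4h.GeoLocalAlg
import Mathlib.AlgebraicGeometry.Morphisms.Etale
import Mathlib.AlgebraicGeometry.Morphisms.Smooth
import Mathlib.AlgebraicGeometry.Morphisms.ClosedImmersion
import Mathlib.AlgebraicGeometry.IdealSheaf.Basic
import Mathlib.AlgebraicGeometry.IdealSheaf.Subscheme

/-!
# Smooth relative curve with an etale divisor: Zariski local etale coordinates
-/

set_option autoImplicit false

universe u

open CategoryTheory AlgebraicGeometry

namespace Groth.Agent.Sga4h.GeoLocal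

/-- Let `p : Q → Y` be smooth of relative dimension one and `i : E → Q` a closed immersion with
`E → Y` etale.  Around any point `e` of `E` there are affine opens `V` of `Y` and `U ≤ p⁻¹ V` of `Q`
and a function `t` on `U` such that `Γ(Y, V)[X] → Γ(Q, U)`, `X ↦ t`, is etale and `E ∩ U` is the
closed subscheme `t = 0`. -/
theorem exists_etale_coordinate {Q Y E : Scheme.{u}} (p : Q ⟶ Y) [SmoothOfRelativeDimension 1 p]
    (i : E ⟶ Q) [IsClosedImmersion i] [Etale (i ≫ p)] (e : E) :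
    ∃ (V : Y.Opens) (_ : IsAffineOpen V) (U : Q.Opens) (_ : IsAffineOpen U) (hUV : U ≤ p ⁻¹ᵁ V)
      (t : Γ(Q, U)), i.base e ∈ U ∧
      (Polynomial.eval₂RingHom (p.appLE V U hUV).hom t).Etale ∧
      RingHom.ker (i.app U).hom = Ideal.span {t} := by
  obtain ⟨V, hV, U, hU, heU, hUV, hstd⟩ :=
    SmoothOfRelativeDimension.exists_isStandardSmoothOfRelativeDimension (n := 1) (f := p) (i.base e)
  let algRB : Algebra Γ(Y, V) Γ(Q, U) := (p.appLE V U hUV).hom.toAlgebra
  have hRB : algebraMap Γ(Y, V) Γ(Q, U) = (p.appLE V U hUV).hom := rfl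
  have hstd' : Algebra.IsStandardSmoothOfRelativeDimension 1 Γ(Y, V) Γ(Q, U) := hstd
  have hsm : Algebra.Smooth Γ(Y, V) Γ(Q, U) := by
    have := hstd'.isStandardSmooth
    infer_instance
  have hsurj : Function.Surjective (i.app U).hom := Scheme.Hom.app_surjective i U hU
  set I : Ideal Γ(Q, U) := RingHom.ker (i.app U).hom with hI
  -- the quotient is etale over `Γ(Y, V)`
  have het : (( i ≫ p).appLE V (i ⁻¹ᵁ U) (by
      intro x hx; exact hUV hx)).hom.Etale :=
    Scheme.Hom.etale_appLE (i ≫ p) hV (hU.preimage i) _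
  have hfac : ((i ≫ p).appLE V (i ⁻¹ᵁ U) (by intro x hx; exact hUV hx)).hom =
      (i.app U).hom.comp (p.appLE V U hUV).hom := by
    rw [← CommRingCat.hom_comp, Scheme.Hom.app_eq_appLE, Scheme.Hom.appLE_comp_appLE]
  let eq : (Γ(Q, U) ⧸ I) ≃+* Γ(E, i ⁻¹ᵁ U) := RingHom.quotientKerEquivOfSurjective hsurj
  have hetI : Algebra.Etale Γ(Y, V) (Γ(Q, U) ⧸ I) := by
    rw [hfac] at het
    let algRE : Algebra Γ(Y, V) Γ(E, i ⁻¹ᵁ U) := ((i.app U).hom.comp (p.appLE V U hUV).hom).toAlgebra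
    have h1 : Algebra.Etale Γ(Y, V) Γ(E, i ⁻¹ᵁ U) := het
    let eq' : (Γ(Q, U) ⧸ I) ≃ₐ[Γ(Y, V)] Γ(E, i ⁻¹ᵁ U) :=
      { eq with commutes' := fun r => rfl }
    exact Algebra.Etale.of_equiv eq'.symm
  obtain ⟨e'⟩ := GeoLocalAlg.exists_equiv_of_isStandardSmooth_one Γ(Y, V) Γ(Q, U)
  obtain ⟨t, g, htI, hgI, H⟩ := GeoLocalAlg.exists_etale_coordinate Γ(Y, V) Γ(Q, U) e' I
  have hg1 : (i.app U).hom g = 1 := by
    have := hgI
    rw [hI, RingHom.mem_ker, map_sub, map_one, sub_eq_zero] at this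
    exact this
  have hgb : i.base e ∈ Q.basicOpen g := by
    have h1 : e ∈ i ⁻¹ᵁ Q.basicOpen g := by
      rw [Scheme.preimage_basicOpen]
      erw [hg1]
      rw [Scheme.basicOpen_of_isUnit _ isUnit_one]
      exact heU
    exact h1
  have hU' : IsAffineOpen (Q.basicOpen g) := hU.basicOpen g
  have hle : Q.basicOpen g ≤ U := Q.basicOpen_le g
  have hloc : IsLocalization.Away g Γ(Q, Q.basicOpen g) := hU.isLocalization_basicOpen g
  let algRB' : Algebra Γ(Y, V) Γ(Q, Q.basicOpen g) :=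
    ((algebraMap Γ(Q, U) Γ(Q, Q.basicOpen g)).comp (p.appLE V U hUV).hom).toAlgebra
  have tow : IsScalarTower Γ(Y, V) Γ(Q, U) Γ(Q, Q.basicOpen g) :=
    IsScalarTower.of_algebraMap_eq fun r => rfl
  obtain ⟨H1, H2⟩ := H Γ(Q, Q.basicOpen g)
  refine ⟨V, hV, Q.basicOpen g, hU', hle.trans hUV, algebraMap Γ(Q, U) Γ(Q, Q.basicOpen g) t,
    hgb, ?_, ?_⟩
  · have h3 : (p.appLE V (Q.basicOpen g) (hle.trans hUV)).hom =
      algebraMap Γ(Y, V) Γ(Q, Q.basicOpen g) := by
      have h4 := Scheme.Hom.appLE_map p hUV (homOfLE hle).op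
      rw [← h4]
      rfl
    rw [h3]
    exact H1
  · rw [← H2, hI]
    have h5 := i.ker.map_ideal_basicOpen ⟨U, hU⟩ g
    rw [Scheme.Hom.ker_apply, Scheme.Hom.ker_apply] at h5
    exact h5.symm

end Groth.Agent.Sga4h.GeoLocal
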