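import Groth.Agent.Sga4h.ConsWO
import Groth.Agent.EtpbcB.RDerLES

/-!
# Right derived functors of the first term of a short exact sequence

`derived_X₁` : `S` short exact, `R^q G S.X₂`, `R^q G S.X₃` in a weak Serre class for all `q`, then so are the
`R^q G S.X₁`.  `WeakSerre.comap` : inverse image of a weak Serre class under an exact functor.
-/

set_option autoImplicit false
universe v u v' u'
open CategoryTheory CategoryTheory.Limits

namespace Groth.Agent.Sga4h.DerX1

open Groth.Agent.Sga4h.WayOut Groth.Agent.EtpbcB ZeroObject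

variable {C : Type u} [Category.{v} C] [Abelian C]
variable {D : Type u'} [Category.{v'} D] [Abelian D]

theorem comap (G : C ⥤ D) [G.Additive] [PreservesFiniteLimits G] [PreservesFiniteColimits G]
    {Q : ObjectProperty D} (hQ : WeakSerre Q) : WeakSerre (fun M : C => Q (G.obj M)) where
  iso e h := hQ.iso (G.mapIso e) h
  zero _ hX := hQ.zero _ (G.map_isZero hX)
  ker f h h' := hQ.iso (PreservesKernel.iso G f).symm (hQ.ker (G.map f) h h')
  coker f h h' := hQ.iso (PreservesCokernel.iso G f).symm (hQ.coker (G.map f) h h')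
  ext S hS h h' := hQ.ext (S.map G) (hS.map_of_exact G) h h'

theorem derived_X₁ [HasInjectiveResolutions C] (G : C ⥤ D) [G.Additive] [PreservesFiniteLimits G]
    {Q : ObjectProperty D} (hQ : WeakSerre Q) {S : ShortComplex C} (hS : S.ShortExact)
    (h₂ : ∀ n, Q ((G.rightDerived n).obj S.X₂)) (h₃ : ∀ n, Q ((G.rightDerived n).obj S.X₃)) (q : ℕ) :
    Q ((G.rightDerived q).obj S.X₁) := by
  obtain _ | q := q
  · have hm : Mono (G.map S.f) := by
      have := hS.mono_f
      infer_instance
    have hm' : Mono ((G.rightDerived 0).map S.f) := by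
      have h1 : (G.rightDerived 0).map S.f = (G.rightDerivedZeroIsoSelf.hom.app S.X₁) ≫ G.map S.f ≫
          (G.rightDerivedZeroIsoSelf.inv.app S.X₂) := by
        have h2 := G.rightDerivedZeroIsoSelf.inv.naturality S.f
        rw [h2, Iso.hom_inv_id_app_assoc]
      rw [h1]
      infer_instance
    refine hQ.mid (X₀ := (0 : D)) (X₁ := (0 : D)) 0 0 ((G.rightDerived 0).map S.f)
      ((G.rightDerived 0).map S.g) zero_comp zero_comp (RDerLES.map_comp_zero G (S := S) 0)
      ?_ ?_ (RDerLES.exact₂ G hS 0) (hQ.zero _ (isZero_zero D)) (hQ.zero _ (isZero_zero D)) (h₂ 0) (h₃ 0)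
    · exact ShortComplex.exact_of_isZero_X₂ _ (isZero_zero D)
    · exact (ShortComplex.exact_iff_mono _ rfl).2 hm'
  · exact hQ.mid _ _ _ _ _ _ _ (RDerLES.exact₃ G hS q) (RDerLES.exact₁ G hS q) (RDerLES.exact₂ G hS (q + 1))
      (h₂ q) (h₃ q) (h₂ (q + 1)) (h₃ (q + 1))

end Groth.Agent.Sga4h.DerX1
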