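import Groth.Agent.Sga4h.FinD
import Groth.Agent.Models.DVRGeneric

/-!
# Finiteness of direct images over a discrete valuation ring

* `FieldFin n k` : direct images along morphisms of `k`-schemes of finite type preserve `Cn n`;
* `JFin n R K` : direct images along `X_K ⟶ X` preserve `Cn n`, for `X` of finite type over `R`;
* `cn_rpush_dvr` : `FieldFin` for the fraction field and the residue field and `JFin` imply the finiteness
  over `R`.
-/

set_option autoImplicit false
universe u
open CategoryTheory CategoryTheory.Limits AlgebraicGeometry Opposite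

namespace Groth.Agent.Sga4h.FinDVR

open Groth.Agent.Sga4h.WayOut Groth.Agent.Sga4h.ConsWO Groth.Agent.Sga4h.PushDer
open Groth.Agent.Sga4h.FinD

/-- Finiteness of direct images for schemes of finite type over `S`. -/
def Fin (n : ℕ) (S : Scheme.{u}) : Prop :=
  ∀ ⦃X Y : Scheme.{u}⦄ (a : X ⟶ S) (b : Y ⟶ S) [LocallyOfFiniteType a] [QuasiCompact a]
    [LocallyOfFiniteType b] [QuasiCompact b] (f : X ⟶ Y), f ≫ b = a → ∀ F : EtCoh.Ab X, Cn n X F →
    ∀ q : ℕ, Cn n Y ((EtCoh.Rpush f q).obj F)

/-- Finiteness of the direct images of the inclusion of the generic fibre. -/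
def JFin (n : ℕ) (R K : Type u) [CommRing R] [Field K] [Algebra R K] : Prop :=
  ∀ ⦃X : Scheme.{u}⦄ (f : X ⟶ Spec (CommRingCat.of R)) [LocallyOfFiniteType f] [QuasiCompact f]
    (G : EtCoh.Ab (pullback f (Spec.map (CommRingCat.ofHom (algebraMap R K))))), Cn n _ G →
    ∀ q : ℕ, Cn n X ((EtCoh.Rpush (pullback.fst f (Spec.map (CommRingCat.ofHom (algebraMap R K)))) q).obj G)

variable {n : ℕ} (R K : Type u) [CommRing R] [IsDomain R] [IsDiscreteValuationRing R] [Field K]
  [Algebra R K] [IsFractionRing R K]

theorem range_residue : Set.range (Spec.map (CommRingCat.ofHom (IsLocalRing.residue R))) =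
    (Set.range (Spec.map (CommRingCat.ofHom (algebraMap R K))))ᶜ := by
  ext x
  have h1 : x ∈ Set.range (Spec.map (CommRingCat.ofHom (IsLocalRing.residue R))) ↔
      x = IsLocalRing.closedPoint R := by
    constructor
    · rintro ⟨y, rfl⟩
      have : y = IsLocalRing.closedPoint _ := Subsingleton.elim (α := PrimeSpectrum _) _ _
      rw [this]
      exact IsLocalRing.comap_closedPoint (IsLocalRing.residue R)
    · rintro rfl
      exact ⟨IsLocalRing.closedPoint (IsLocalRing.ResidueField R),
        IsLocalRing.comap_closedPoint (IsLocalRing.residue R)⟩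
  rw [h1, Set.mem_compl_iff]
  constructor
  · rintro rfl ⟨y, hy⟩
    have h2 : (IsLocalRing.closedPoint R).asIdeal = ⊥ := by
      rw [← hy]
      have hy0 : (y : PrimeSpectrum K).asIdeal = ⊥ := (Ideal.eq_bot_or_top _).resolve_right y.isPrime.ne_top
      change (PrimeSpectrum.comap (algebraMap R K) y).asIdeal = ⊥
      rw [PrimeSpectrum.comap_asIdeal, hy0, ← RingHom.ker_eq_comap_bot]
      exact (RingHom.injective_iff_ker_eq_bot _).mp (IsFractionRing.injective R K)
    exact IsDiscreteValuationRing.not_a_field R h2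
  · intro h
    by_contra hx
    exact h (Groth.Agent.Models.DVRGeneric.range_generic R K x hx)

theorem range_pullback_fst {X S T₀ T₁ : Scheme.{u}} (f : X ⟶ S) (t₀ : T₀ ⟶ S) (t₁ : T₁ ⟶ S)
    (h : Set.range t₀ = (Set.range t₁)ᶜ) :
    Set.range (pullback.fst f t₀) = (Set.range (pullback.fst f t₁))ᶜ := by
  rw [Scheme.Pullback.range_fst, Scheme.Pullback.range_fst, h, Set.preimage_compl]

/-- Finiteness over a discrete valuation ring. -/
theorem fin_dvr (hη : Fin n (Spec (CommRingCat.of K)))
    (hs : Fin n (Spec (CommRingCat.of (IsLocalRing.ResidueField R)))) (hJ : JFin n R K) :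
    Fin n (Spec (CommRingCat.of R)) := by
  intro X Y a b _ _ _ _ f w F hF q
  let tη : Spec (CommRingCat.of K) ⟶ Spec (CommRingCat.of R) := Spec.map (CommRingCat.ofHom (algebraMap R K))
  let ts : Spec (CommRingCat.of (IsLocalRing.ResidueField R)) ⟶ Spec (CommRingCat.of R) :=
    Spec.map (CommRingCat.ofHom (IsLocalRing.residue R))
  have h1 : IsOpenImmersion tη := Groth.Agent.Models.DVRGeneric.isOpenImmersion_generic R K
  have h2 : IsClosedImmersion ts := IsClosedImmersion.spec_of_surjective _ IsLocalRing.residue_surjective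
  have hN : IsNoetherian (Spec (CommRingCat.of R)) := inferInstance
  have hY : IsLocallyNoetherian Y := LocallyOfFiniteType.isLocallyNoetherian b
  have hR := range_pullback_fst a ts tη (range_residue R K)
  let fη : pullback a tη ⟶ pullback b tη := pullback.map a tη b tη f (𝟙 _) (𝟙 _)
    (by rw [w, Category.comp_id]) (by rw [Category.comp_id, Category.id_comp])
  let fs : pullback a ts ⟶ pullback b ts := pullback.map a ts b ts f (𝟙 _) (𝟙 _)
    (by rw [w, Category.comp_id]) (by rw [Category.comp_id, Category.id_comp])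
  have eη : fη ≫ pullback.fst b tη = pullback.fst a tη ≫ f := pullback.lift_fst _ _ _
  have es : pullback.fst a ts ≫ f = fs ≫ pullback.fst b ts := (pullback.lift_fst _ _ _).symm
  refine cn_rpush (pullback.fst a tη) (pullback.fst a ts) hR f (pullback.fst b ts) fs es
    (hJ a) (fun G hG q => ?_) (fun G hG q => ?_) F hF q
  · refine Cn.iso ((rpushCongr eη q).app G) ?_
    refine rpush_comp fη (pullback.fst b tη) (weakSerre_Cn n Y) Cn.iso (hJ b) G (fun q => ?_) q
    exact hη (pullback.snd a tη) (pullback.snd b tη) fη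
      ((pullback.lift_snd _ _ _).trans (Category.comp_id _)) G hG q
  · exact hs (pullback.snd a ts) (pullback.snd b ts) fs
      ((pullback.lift_snd _ _ _).trans (Category.comp_id _)) G hG q

end Groth.Agent.Sga4h.FinDVR
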