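import Groth.Agent.Sga4h.NcTD
import Groth.Prelude.Def_SGA4h
import Groth.Prelude.Def_EtCore

/-!
# Nearby cycles: fibre data
-/

set_option autoImplicit false

universe u

open CategoryTheory CategoryTheory.Limits AlgebraicGeometry

noncomputable section

namespace Groth.Agent.Sga4h.NcPsi

open Groth.Agent.Sga4h.NcTD Groth.Agent.Sga4h.NcDefs

variable {n : ℕ}

/-- `Spec` of a ring homomorphism. -/
abbrev SM {A B : Type u} [CommRing A] [CommRing B] (φ : A →+* B) :
    Spec (CommRingCat.of B) ⟶ Spec (CommRingCat.of A) := Spec.map (CommRingCat.ofHom φ)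

/-- The fibres of `f : X ⟶ Spec R` over `K`, `L` and the residue field. -/
structure Fib (T : TD.{u} n) {X : Scheme.{u}} (f : X ⟶ Spec (CommRingCat.of T.R)) where
  /-- the generic fibre -/
  XK : Scheme.{u}
  /-- the fibre over `L` -/
  XL : Scheme.{u}
  /-- the special fibre -/
  Xs : Scheme.{u}
  jK : XK ⟶ X
  fK : XK ⟶ Spec (CommRingCat.of T.K)
  hK : IsPullback jK fK f (SM (algebraMap T.R T.K))
  c : XL ⟶ XK
  fL : XL ⟶ Spec (CommRingCat.of T.L)
  hL : IsPullback c fL fK (SM (algebraMap T.K T.L))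
  i : Xs ⟶ X
  fs : Xs ⟶ Spec (CommRingCat.of (IsLocalRing.ResidueField T.R))
  hs : IsPullback i fs f (SM (IsLocalRing.residue T.R))

/-- Nearby cycles sheaves. -/
def Fib.Psi {T : TD.{u} n} {X : Scheme.{u}} {f : X ⟶ Spec (CommRingCat.of T.R)} (D : Fib T f)
    (F : EtCoh.Ab D.XK) (q : ℕ) : EtCoh.Ab D.Xs :=
  (EtCoh.pull D.i).obj ((EtCoh.Rpush (D.c ≫ D.jK) q).obj ((EtCoh.pull D.c).obj F))

/-- Nearby cycles of constructible sheaves killed by `n` on the generic fibre of `f` are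
constructible. -/
def NC (T : TD.{u} n) {X : Scheme.{u}} (f : X ⟶ Spec (CommRingCat.of T.R)) : Prop :=
  ∀ (D : Fib T f) (F : EtCoh.Ab D.XK), EtPBC.IsConstructible F → EtCoh.KilledBy n F →
    ∀ q : ℕ, EtPBC.IsConstructible (D.Psi F q)

/-- Morphisms of root-closed traits: `R → R'` local, `K → K'`, `L → L'` with `L' = R' ⊗[R] L`. -/
structure TDHom (T T' : TD.{u} n) where
  /-- rings -/
  ρ : T.R →+* T'.R
  /-- fraction fields -/
  κ : T.K →+* T'.K
  /-- extensions -/
  lam : T.L →+* T'.L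
  h0 : IsLocalHom ρ
  h1 : κ.comp (algebraMap T.R T.K) = (algebraMap T'.R T'.K).comp ρ
  h2 : lam.comp (algebraMap T.K T.L) = (algebraMap T'.K T'.L).comp κ
  h3 : IsPushout (CommRingCat.ofHom (algebraMap T.R T.L)) (CommRingCat.ofHom ρ)
    (CommRingCat.ofHom lam) (CommRingCat.ofHom (algebraMap T'.R T'.L))

/-- The identity. -/
def TDHom.id (T : TD.{u} n) : TDHom T T where
  ρ := RingHom.id _
  κ := RingHom.id _
  lam := RingHom.id _
  h0 := inferInstance
  h1 := rfl
  h2 := rfl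
  h3 := by
    have h1 : CommRingCat.ofHom (RingHom.id T.R) = 𝟙 _ := rfl
    have h2 : CommRingCat.ofHom (RingHom.id T.L) = 𝟙 _ := rfl
    rw [h1, h2]
    exact IsPushout.of_vert_isIso ⟨by rw [Category.comp_id, Category.id_comp]⟩

/-- The structure map of a hull. -/
def _root_.Groth.Agent.Sga4h.NcTD.Hull.hom {T : TD.{u} n} (H : Hull T) : TDHom T H.T' where
  ρ := H.ρ.comp Polynomial.C
  κ := H.κ
  lam := H.lam
  h0 := by
    constructor
    intro r hr
    by_contra h
    have h1 : r ∈ IsLocalRing.maximalIdeal T.R := (IsLocalRing.mem_maximalIdeal r).mpr h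
    have h2 : Polynomial.C r ∈ (IsLocalRing.maximalIdeal T.R).map Polynomial.C := Ideal.mem_map_of_mem _ h1
    rw [← H.h5, Ideal.mem_comap] at h2
    exact (IsLocalRing.mem_maximalIdeal _).mp h2 hr
  h1 := H.h1
  h2 := H.h2
  h3 := H.h3

end Groth.Agent.Sga4h.NcPsi
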