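import Groth.Agent.Sga4h.WildPro
import Mathlib.FieldTheory.KummerExtension
import Mathlib.Algebra.Algebra.Subalgebra.Directed

/-!
# The tower of roots of a uniformizer

`R` strictly henselian DVR with fraction field `K`, `n` invertible in `R`: the extension
`L = ⋃ K(π ^ (1 / n ^ a))` of `K`, with a topological generator `σ` of its Galois group.
-/

set_option autoImplicit false

universe u

namespace Groth.Agent.Sga4h.RootTower

open IsLocalRing Polynomial IntermediateField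

section abstract

variable {K L : Type u} [Field K] [Field L] [Algebra K L] {n : ℕ} {p : K} {z : ℕ → L} {ζ : ℕ → K}

theorem pow_sub (hz : ∀ a, z (a + 1) ^ n = z a) {a b : ℕ} (h : a ≤ b) : z b ^ n ^ (b - a) = z a := by
  obtain ⟨c, rfl⟩ := Nat.exists_eq_add_of_le h
  rw [Nat.add_sub_cancel_left]
  clear h
  induction c with
  | zero => simp
  | succ c ih => rw [pow_succ', pow_mul, ← Nat.add_assoc, hz, ih]

theorem pow_eq (h0 : z 0 = algebraMap K L p) (hz : ∀ a, z (a + 1) ^ n = z a) (a : ℕ) :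
    z a ^ n ^ a = algebraMap K L p := by
  have := pow_sub hz (Nat.zero_le a)
  rwa [Nat.sub_zero, h0] at this

theorem isIntegral (hn : n ≠ 0) (h0 : z 0 = algebraMap K L p) (hz : ∀ a, z (a + 1) ^ n = z a) (a : ℕ) :
    IsIntegral K (z a) := by
  refine IsIntegral.of_pow (Nat.pos_of_ne_zero (pow_ne_zero a hn)) ?_
  rw [pow_eq h0 hz]
  exact isIntegral_algebraMap

theorem minpoly_eq (hn : n ≠ 0) (h0 : z 0 = algebraMap K L p) (hz : ∀ a, z (a + 1) ^ n = z a)
    (hirr : ∀ m : ℕ, m ≠ 0 → Irreducible (X ^ m - C p : K[X])) (a : ℕ) :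
    minpoly K (z a) = X ^ n ^ a - C p := by
  symm
  apply minpoly.eq_of_irreducible_of_monic (hirr _ (pow_ne_zero a hn))
  · simp [pow_eq h0 hz]
  · exact monic_X_pow_sub_C _ (pow_ne_zero a hn)

theorem finrank_eq (hn : n ≠ 0) (h0 : z 0 = algebraMap K L p) (hz : ∀ a, z (a + 1) ^ n = z a)
    (hirr : ∀ m : ℕ, m ≠ 0 → Irreducible (X ^ m - C p : K[X])) (a : ℕ) :
    Module.finrank K K⟮z a⟯ = n ^ a := by
  rw [adjoin.finrank (isIntegral hn h0 hz a), minpoly_eq hn h0 hz hirr, natDegree_X_pow_sub_C]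

theorem adjoin_mono (hz : ∀ a, z (a + 1) ^ n = z a) : Monotone fun a => K⟮z a⟯ := by
  intro a b hab
  simp only [adjoin_le_iff, Set.singleton_subset_iff]
  rw [← pow_sub hz hab]
  exact pow_mem (mem_adjoin_simple_self K (z b)) _

theorem isGalois (hn : n ≠ 0) (h0 : z 0 = algebraMap K L p) (hz : ∀ a, z (a + 1) ^ n = z a)
    (hirr : ∀ m : ℕ, m ≠ 0 → Irreducible (X ^ m - C p : K[X]))
    (hζ : ∀ a, IsPrimitiveRoot (ζ a) (n ^ a)) (a : ℕ) : IsGalois K K⟮z a⟯ := by
  have hfd : FiniteDimensional K K⟮z a⟯ := adjoin.finiteDimensional (isIntegral hn h0 hz a)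
  have hf := finrank_eq hn h0 hz hirr a
  have hprim : (primitiveRoots (Module.finrank K K⟮z a⟯) K).Nonempty := by
    refine ⟨ζ a, ?_⟩
    rw [hf, mem_primitiveRoots (Nat.pos_of_ne_zero (pow_ne_zero a hn))]
    exact hζ a
  have hgen : (AdjoinSimple.gen K (z a)) ^ (Module.finrank K K⟮z a⟯) = algebraMap K K⟮z a⟯ p := by
    rw [hf]
    apply (algebraMap K⟮z a⟯ L).injective
    rw [map_pow, AdjoinSimple.algebraMap_gen, pow_eq h0 hz]
    rfl
  have htop : K⟮AdjoinSimple.gen K (z a)⟯ = ⊤ := by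
    apply IntermediateField.map_injective (K⟮z a⟯).val
    rw [adjoin_map, Set.image_singleton]
    simp [← AlgHom.fieldRange_eq_map]
  have := isSplittingField_X_pow_sub_C_of_root_adjoin_eq_top hprim hgen htop
  exact isGalois_of_isSplittingField_X_pow_sub_C hprim
    (irreducible_X_pow_sub_C_of_root_adjoin_eq_top hgen htop) K⟮z a⟯

/-- The `K`-embedding `z a ↦ ζ a • z a`. -/
theorem exists_algHom (hn : n ≠ 0) (h0 : z 0 = algebraMap K L p) (hz : ∀ a, z (a + 1) ^ n = z a)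
    (hirr : ∀ m : ℕ, m ≠ 0 → Irreducible (X ^ m - C p : K[X])) (a : ℕ)
    (hζ : ζ a ^ n ^ a = 1) :
    ∃ f : K⟮z a⟯ →ₐ[K] L, f (AdjoinSimple.gen K (z a)) = algebraMap K L (ζ a) * z a := by
  have hroot : algebraMap K L (ζ a) * z a ∈ (minpoly K (z a)).aroots L := by
    rw [mem_aroots, minpoly_eq hn h0 hz hirr]
    refine ⟨(monic_X_pow_sub_C _ (pow_ne_zero a hn)).ne_zero, ?_⟩
    rw [map_sub, map_pow, aeval_X, aeval_C, mul_pow, pow_eq h0 hz, ← map_pow, hζ, map_one, one_mul, sub_self]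
  refine ⟨(algHomAdjoinIntegralEquiv K (isIntegral hn h0 hz a)).symm ⟨_, hroot⟩, ?_⟩
  rw [algHomAdjoinIntegralEquiv_symm_apply_gen]

theorem algHom_ext_of_gen (hn : n ≠ 0) (h0 : z 0 = algebraMap K L p) (hz : ∀ a, z (a + 1) ^ n = z a) {a : ℕ}
    {f g : K⟮z a⟯ →ₐ[K] L} (h : f (AdjoinSimple.gen K (z a)) = g (AdjoinSimple.gen K (z a))) : f = g :=
  (adjoin.powerBasis (isIntegral hn h0 hz a)).algHom_ext (by simpa using h)

theorem exists_sigma [Algebra.IsAlgebraic K L] (hn : n ≠ 0) (h0 : z 0 = algebraMap K L p)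
    (hz : ∀ a, z (a + 1) ^ n = z a)
    (hirr : ∀ m : ℕ, m ≠ 0 → Irreducible (X ^ m - C p : K[X]))
    (hgen : ∀ x : L, ∃ a, x ∈ K⟮z a⟯)
    (hζ0 : ζ 0 = 1) (hζ : ∀ a, ζ (a + 1) ^ n = ζ a) :
    ∃ σ : L ≃ₐ[K] L, ∀ a, σ (z a) = algebraMap K L (ζ a) * z a := by
  have hζ1 : ∀ a, ζ a ^ n ^ a = 1 := by
    intro a
    have := pow_sub hζ (Nat.zero_le a)
    rwa [Nat.sub_zero, hζ0] at this
  choose f hf using fun a => exists_algHom hn h0 hz hirr a (hζ1 a)
  let S : ℕ → Subalgebra K L := fun a => (K⟮z a⟯).toSubalgebra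
  have hS : Monotone S := fun a b h => adjoin_mono (K := K) hz h
  have hcompat : ∀ a b (h : a ≤ b), ∀ x (hx : x ∈ K⟮z a⟯), f a ⟨x, hx⟩ = f b ⟨x, adjoin_mono hz h hx⟩ := by
    intro a b h x hx
    have h1 : f a = (f b).comp (IntermediateField.inclusion (adjoin_mono (K := K) hz h)) := by
      apply algHom_ext_of_gen hn h0 hz
      rw [hf, AlgHom.comp_apply]
      have h2 : IntermediateField.inclusion (adjoin_mono (K := K) hz h) (AdjoinSimple.gen K (z a)) =
          (AdjoinSimple.gen K (z b)) ^ n ^ (b - a) := by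
        apply Subtype.ext
        simp [pow_sub hz h]
      rw [h2, map_pow, hf, mul_pow, pow_sub hz h, ← map_pow, pow_sub hζ h]
    rw [h1]
    rfl
  have hdir : Directed (· ≤ ·) S := hS.directed_le
  let τ : (⊤ : Subalgebra K L) →ₐ[K] L := Subalgebra.iSupLift S hdir (fun a => (f a : S a →ₐ[K] L))
    (by
      intro a b h
      have hab : K⟮z a⟯ ≤ K⟮z b⟯ := h
      rcases le_total a b with h' | h'
      · ext ⟨x, hx⟩
        exact hcompat a b h' x hx
      · ext ⟨x, hx⟩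
        exact (hcompat b a h' x (h hx)).symm) ⊤
    (by
      intro x _
      obtain ⟨a, ha⟩ := hgen x
      exact (le_iSup S a) ha)
  let σ : L →ₐ[K] L := τ.comp Subalgebra.topEquiv.symm.toAlgHom
  refine ⟨AlgEquiv.ofBijective σ (Algebra.IsAlgebraic.algHom_bijective σ), fun a => ?_⟩
  change τ ⟨z a, _⟩ = _
  rw [Subalgebra.iSupLift_of_mem (i := a) (hx := mem_adjoin_simple_self K (z a))]
  exact hf a

end abstract

/-- Compatible primitive `n ^ a`-th roots of unity in a strictly henselian local domain. -/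
theorem exists_zeta (R : Type u) [CommRing R] [IsDomain R]
    (hR : EtCoh.IsStrictlyHenselianLocalRing R) (n : ℕ) (hn : IsUnit (n : R)) :
    ∃ ζ : ℕ → R, ζ 0 = 1 ∧ (∀ a, ζ (a + 1) ^ n = ζ a) ∧ ∀ a, IsPrimitiveRoot (ζ a) (n ^ a) := by
  have hR' := hR
  obtain ⟨h1, h2⟩ := hR'
  have hn0 : n ≠ 0 := by
    rintro rfl
    simp at hn
  obtain ⟨ζ₁, hζ₁⟩ := WildPro.exists_isPrimitiveRoot R hR n hn
  have step : ∀ a : ℕ, ∀ x : R, IsPrimitiveRoot x (n ^ a) →
      ∃ y : R, y ^ n = x ∧ IsPrimitiveRoot y (n ^ (a + 1)) := by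
    intro a x hx
    rcases Nat.eq_zero_or_pos a with rfl | ha
    · refine ⟨ζ₁, ?_, by simpa using hζ₁⟩
      rw [hζ₁.pow_eq_one]
      rw [pow_zero] at hx
      exact (IsPrimitiveRoot.one_right_iff.mp hx).symm
    · have hxu : IsUnit x := hx.isUnit (pow_ne_zero a hn0)
      obtain ⟨v, hv⟩ := Groth.Agent.Sga4B.UnitsAway.exists_pow_eq R n hn hxu.unit
      have hvx : (v : R) ^ n = x := by
        have := congrArg Units.val hv
        simpa using this.symm
      refine ⟨v, hvx, ?_⟩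
      have hv1 : (v : R) ^ n ^ (a + 1) = 1 := by
        rw [pow_succ', pow_mul, hvx, hx.pow_eq_one]
      have hord : orderOf (v : R) ∣ n ^ (a + 1) := orderOf_dvd_of_pow_eq_one hv1
      have hordx : orderOf x = n ^ a := hx.eq_orderOf.symm
      have hfin : IsOfFinOrder (v : R) := isOfFinOrder_iff_pow_eq_one.mpr
        ⟨_, Nat.pos_of_ne_zero (pow_ne_zero (a + 1) hn0), hv1⟩
      have h3 : orderOf ((v : R) ^ n) = orderOf (v : R) / Nat.gcd (orderOf (v : R)) n :=
        orderOf_pow' _ hn0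
      rw [hvx, hordx] at h3
      have h4 : n ^ a ∣ orderOf (v : R) := by
        rw [h3]
        exact Nat.div_dvd_of_dvd (Nat.gcd_dvd_left _ _)
      have h5 : n ∣ orderOf (v : R) := (dvd_pow_self n ha.ne').trans h4
      rw [Nat.gcd_eq_right h5] at h3
      have h6 : orderOf (v : R) = n ^ (a + 1) := by
        rw [pow_succ, h3, Nat.div_mul_cancel h5]
      rw [← h6]
      exact IsPrimitiveRoot.orderOf _
  choose! g hg1 hg2 using step
  let ζ : ℕ → R := fun a => Nat.rec (1 : R) (fun a x => g a x) a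
  have hprim : ∀ a, IsPrimitiveRoot (ζ a) (n ^ a) := by
    intro a
    induction a with
    | zero =>
      rw [pow_zero]
      exact IsPrimitiveRoot.one
    | succ a ih => exact hg2 a _ ih
  exact ⟨ζ, rfl, fun a => hg1 a _ (hprim a), hprim⟩

theorem exists_tower (R K : Type u) [CommRing R] [IsDomain R] [IsDiscreteValuationRing R]
    (hR : EtCoh.IsStrictlyHenselianLocalRing R) [Field K] [Algebra R K] [IsFractionRing R K]
    (n : ℕ) (hn : IsUnit (n : R)) :
    ∃ (L : Type u) (_ : Field L) (_ : Algebra K L) (_ : Algebra.IsAlgebraic K L)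
      (_ : Algebra.IsSeparable K L) (E : ℕ → IntermediateField K L) (σ : L ≃ₐ[K] L),
      Monotone E ∧ (∀ x : L, ∃ a, x ∈ E a) ∧ (∀ a, FiniteDimensional K (E a)) ∧
      (∀ a, IsGalois K (E a)) ∧ (∀ a, Module.finrank K (E a) = n ^ a) ∧
      (∀ a, ∀ x ∈ E a, σ x ∈ E a) ∧
      (∀ a (g : E a ≃ₐ[K] E a), ∃ k : ℕ, ∀ x : E a, ((g x : E a) : L) = (σ ^ k) (x : L)) ∧
      (∀ (ϖ : R), Irreducible ϖ → ∀ a, ∃ z : L, z ^ (n ^ a) = algebraMap K L (algebraMap R K ϖ)) := by
  have hR' := hR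
  obtain ⟨h1, h2⟩ := hR'
  have hn0 : n ≠ 0 := by
    rintro rfl
    simp at hn
  obtain ⟨π, hπ⟩ := IsDiscreteValuationRing.exists_irreducible R
  let Ω := AlgebraicClosure K
  let p : K := algebraMap R K π
  have hstep : ∀ x : Ω, ∃ y : Ω, y ^ n = x := fun x =>
    IsAlgClosed.exists_pow_nat_eq x (Nat.pos_of_ne_zero hn0)
  choose g hg using hstep
  let w : ℕ → Ω := fun a => Nat.rec (algebraMap K Ω p) (fun _ x => g x) a
  have hw : ∀ a, w (a + 1) ^ n = w a := fun a => hg _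
  have hmono : Monotone fun a => K⟮w a⟯ := adjoin_mono hw
  let L₀ : IntermediateField K Ω := ⨆ a, K⟮w a⟯
  have hwL : ∀ a, w a ∈ L₀ := fun a => (le_iSup (fun a => K⟮w a⟯) a) (mem_adjoin_simple_self K (w a))
  let z : ℕ → L₀ := fun a => ⟨w a, hwL a⟩
  have h0 : z 0 = algebraMap K L₀ p := rfl
  have hz : ∀ a, z (a + 1) ^ n = z a := fun a => Subtype.ext (hw a)
  have hgen : ∀ x : L₀, ∃ a, x ∈ K⟮z a⟯ := by
    rintro ⟨x, hx⟩
    have hx' : x ∈ (⨆ a, K⟮w a⟯ : IntermediateField K Ω) := hx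
    rw [← SetLike.mem_coe, coe_iSup_of_directed hmono.directed_le, Set.mem_iUnion] at hx'
    obtain ⟨a, ha⟩ := hx'
    refine ⟨a, ?_⟩
    have h3 : (K⟮z a⟯).map L₀.val = K⟮w a⟯ := by
      rw [adjoin_map, Set.image_singleton]
      rfl
    have h4 : x ∈ (K⟮z a⟯).map L₀.val := by
      rw [h3]
      exact ha
    obtain ⟨y, hy, hyx⟩ := h4
    have : y = ⟨x, hx⟩ := Subtype.ext hyx
    rwa [← this]
  have hirr : ∀ m : ℕ, m ≠ 0 → Irreducible (X ^ m - C p : K[X]) := fun m hm =>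
    TameExt.irreducible_X_pow_sub_C K hm hπ
  obtain ⟨ζR, hζ0, hζs, hζp⟩ := exists_zeta R hR n hn
  let ζ : ℕ → K := fun a => algebraMap R K (ζR a)
  have hζ0' : ζ 0 = 1 := by simp [ζ, hζ0]
  have hζs' : ∀ a, ζ (a + 1) ^ n = ζ a := fun a => by simp only [ζ, ← map_pow, hζs]
  have hζp' : ∀ a, IsPrimitiveRoot (ζ a) (n ^ a) := fun a =>
    (hζp a).map_of_injective (IsFractionRing.injective R K)
  have hgal := isGalois hn0 h0 hz hirr hζp'
  have hsep : Algebra.IsSeparable K L₀ := by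
    constructor
    intro x
    obtain ⟨a, ha⟩ := hgen x
    have h3 : IsSeparable K (⟨x, ha⟩ : K⟮z a⟯) := Algebra.IsSeparable.isSeparable K _
    have h4 : minpoly K (⟨x, ha⟩ : K⟮z a⟯) = minpoly K x :=
      (minpoly.algebraMap_eq (B := K⟮z a⟯) (B' := L₀) (algebraMap K⟮z a⟯ L₀).injective ⟨x, ha⟩).symm
    rw [IsSeparable, ← h4]
    exact h3
  obtain ⟨σ, hσ⟩ := exists_sigma hn0 h0 hz hirr hgen hζ0' hζs'
  have hσk : ∀ (a k : ℕ), (σ ^ k) (z a) = algebraMap K L₀ (ζ a) ^ k * z a := by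
    intro a k
    induction k with
    | zero => simp
    | succ k ih =>
      rw [pow_succ', AlgEquiv.mul_apply, ih, map_mul, map_pow, AlgEquiv.commutes, hσ, pow_succ]
      ring
  refine ⟨L₀, inferInstance, inferInstance, inferInstance, hsep, fun a => K⟮z a⟯, σ,
    adjoin_mono hz, hgen, fun a => adjoin.finiteDimensional (isIntegral hn0 h0 hz a), hgal,
    finrank_eq hn0 h0 hz hirr, ?_, ?_, ?_⟩
  · intro a x hx
    have h3 : K⟮z a⟯ ≤ (K⟮z a⟯).comap (σ : L₀ →ₐ[K] L₀) := by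
      rw [adjoin_le_iff, Set.singleton_subset_iff]
      change σ (z a) ∈ K⟮z a⟯
      rw [hσ]
      exact mul_mem ((K⟮z a⟯).algebraMap_mem _) (mem_adjoin_simple_self K (z a))
    exact h3 hx
  · intro a g
    let y : K⟮z a⟯ := AdjoinSimple.gen K (z a)
    have hy : (y : L₀) = z a := AdjoinSimple.coe_gen K (z a)
    have h3 : ((g y : K⟮z a⟯) : L₀) ^ n ^ a = algebraMap K L₀ p := by
      have h4 : y ^ n ^ a = algebraMap K K⟮z a⟯ p := by
        apply Subtype.ext
        rw [SubmonoidClass.coe_pow, hy, pow_eq h0 hz]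
        rfl
      have h5 := congrArg (fun t => ((g t : K⟮z a⟯) : L₀)) h4
      simp only [map_pow, AlgEquiv.commutes, SubmonoidClass.coe_pow] at h5
      rw [h5]
      rfl
    have hz0 : z a ≠ 0 := by
      intro hcon
      have := pow_eq h0 hz a
      rw [hcon, zero_pow (pow_ne_zero a hn0)] at this
      have h6 : p = 0 := (algebraMap K L₀).injective (by rw [← this, map_zero])
      exact hπ.ne_zero (IsFractionRing.injective R K (by rw [map_zero]; exact h6))
    have h7 : (((g y : K⟮z a⟯) : L₀) / z a) ^ n ^ a = 1 := by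
      rw [div_pow, h3, pow_eq h0 hz, div_self]
      rw [← pow_eq h0 hz a]
      exact pow_ne_zero _ hz0
    have : NeZero (n ^ a) := ⟨pow_ne_zero a hn0⟩
    obtain ⟨k, -, hk⟩ := ((hζp' a).map_of_injective (algebraMap K L₀).injective).eq_pow_of_pow_eq_one h7
    refine ⟨k, ?_⟩
    have h8 : (K⟮z a⟯.val).comp (g : K⟮z a⟯ →ₐ[K] K⟮z a⟯) =
        ((σ ^ k : L₀ ≃ₐ[K] L₀) : L₀ →ₐ[K] L₀).comp K⟮z a⟯.val := by
      apply algHom_ext_of_gen hn0 h0 hz
      change ((g y : K⟮z a⟯) : L₀) = (σ ^ k) (y : L₀)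
      rw [hy, hσk, hk, div_mul_cancel₀ _ hz0]
    intro x
    exact congrArg (fun f : K⟮z a⟯ →ₐ[K] L₀ => f x) h8
  · intro ϖ hϖ a
    obtain ⟨u, hu⟩ := IsDiscreteValuationRing.associated_of_irreducible R hπ hϖ
    obtain ⟨v, hv⟩ := Groth.Agent.Sga4B.UnitsAway.exists_pow_eq R (n ^ a)
      (by rw [Nat.cast_pow]; exact hn.pow a) u
    refine ⟨algebraMap K L₀ (algebraMap R K v) * z a, ?_⟩
    rw [mul_pow, pow_eq h0 hz, ← map_pow, ← map_pow, ← map_mul, ← map_mul, ← Units.val_pow_eq_pow_val,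
      ← hv, mul_comm, hu]

end Groth.Agent.Sga4h.RootTower
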