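import Groth.Agent.Sga4h.CycField
import Groth.Agent.Sga4h.RootTower
import Groth.Agent.Sga4h.DerX1
import Groth.Agent.Sga4h.NcPsi
import Groth.Agent.Sga4h.FinDVR
import Groth.Agent.Sga4A.IntegralSection

/-!
# Finiteness of the direct images of the inclusion of the generic fibre over a strictly henselian trait

`jfin` : the constructibility of nearby cycles for all root-closed extensions of the generic point
(`NcPsi.NC`) implies `JFin n R K` for `R` a strictly henselian discrete valuation ring in which `n` is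
invertible.
-/

set_option autoImplicit false
universe u
open CategoryTheory CategoryTheory.Limits AlgebraicGeometry Opposite

namespace Groth.Agent.Sga4h.FinJ

open Groth.Agent.Sga4h.WayOut Groth.Agent.Sga4h.ConsWO Groth.Agent.Sga4h.PushDer
open Groth.Agent.Sga4h.FinD Groth.Agent.Sga4h.FinDVR Groth.Agent.Sga4h.NcTD Groth.Agent.Sga4h.NcPsi
open Groth.Agent.Sga4h.NcDefs Groth.Agent.Sga4h.SigmaSeq Groth.Agent.Sga4h.CycField
open Groth.Agent.Sga4h.FamTau

/-- Restriction of the direct images to the open part. -/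
theorem isConstructible_pull_rpush {X₁ X : Scheme.{u}} (j : X₁ ⟶ X) [IsOpenImmersion j] (G : EtCoh.Ab X₁)
    (hG : EtPBC.IsConstructible G) (q : ℕ) :
    EtPBC.IsConstructible ((EtCoh.pull j).obj ((EtCoh.Rpush j q).obj G)) := by
  have := Groth.Agent.Sga4h.EtaleRes.jCont j
  have h2 := Groth.Agent.Etcore.ShriekBasic.isIso_pullPushAdj_counit j
  let e : EtCoh.push j ⋙ EtCoh.pull j ≅ 𝟭 _ := asIso (EtCoh.pullPushAdj j).counit
  let e' : (EtCoh.pull j).obj ((EtCoh.Rpush j q).obj G) ≅ ((𝟭 (EtCoh.Ab X₁)).rightDerived q).obj G :=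
    (LerayAcyc.rightDerivedExactIso (EtCoh.push j) (EtCoh.pull j) G q).symm ≪≫
      (LerayAcyc.rightDerivedCongr e q).app G
  obtain _ | q := q
  · exact EtpbcA.StrataGlob.isConstructible_of_iso
      (e' ≪≫ ((𝟭 (EtCoh.Ab X₁)).rightDerivedZeroIsoSelf).app G).symm hG
  · exact EtpbcA.ConsExact.isConstructible_of_isZero
      ((Etbase.PushExact.isZero_rightDerived_of_exact (𝟭 _) G q).of_iso e')

theorem jfin (hNC : ∀ (m : ℕ) (T : TD.{u} m) {X : Scheme.{u}} (f : X ⟶ Spec (CommRingCat.of T.R))
      [LocallyOfFiniteType f] [QuasiCompact f], NC T f)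
    (R K : Type u) [CommRing R] [IsDomain R] [IsDiscreteValuationRing R]
    (hR : EtCoh.IsStrictlyHenselianLocalRing R) [Field K] [Algebra R K] [IsFractionRing R K] (n : ℕ)
    (hn : IsUnit (n : R)) : JFin n R K := by
  intro X f _ _ G hG q
  obtain ⟨hGc, k, hGk⟩ := hG
  have hn0 : 0 < n := by
    rcases Nat.eq_zero_or_pos n with h | h
    · subst h
      simp at hn
    · exact h
  obtain ⟨L, i1, i2, i3, i4, E, σ, hmono, hun, hfd, hgal, hrk, hE, hgen, hroot⟩ :=
    RootTower.exists_tower R K hR n hn
  let _ : Algebra R L := ((algebraMap K L).comp (algebraMap R K)).toAlgebra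
  have : IsScalarTower R K L := IsScalarTower.of_algebraMap_eq fun _ => rfl
  have hrc : RootClosed (n ^ k) R L := by
    intro π hπ l hl hln a
    obtain ⟨m, rfl⟩ := hl.dvd_of_dvd_pow hln
    obtain ⟨z, hz⟩ := hroot π hπ a
    refine ⟨z ^ (m ^ a), ?_⟩
    rw [← pow_mul, ← mul_pow, mul_comm m l, hz]
    rfl
  let T : TD.{u} (n ^ k) :=
    { R := R, K := K, L := L, hR := hR, hn := by rw [Nat.cast_pow]; exact hn.pow k, hrc := hrc }
  let tη : Spec (CommRingCat.of K) ⟶ Spec (CommRingCat.of R) := Spec.map (CommRingCat.ofHom (algebraMap R K))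
  let ts : Spec (CommRingCat.of (IsLocalRing.ResidueField R)) ⟶ Spec (CommRingCat.of R) :=
    Spec.map (CommRingCat.ofHom (IsLocalRing.residue R))
  let tL : Spec (CommRingCat.of L) ⟶ Spec (CommRingCat.of K) := tt K L
  have h1 : IsOpenImmersion tη := Groth.Agent.Models.DVRGeneric.isOpenImmersion_generic R K
  have h2 : IsClosedImmersion ts := IsClosedImmersion.spec_of_surjective _ IsLocalRing.residue_surjective
  have hN : IsNoetherian (Spec (CommRingCat.of R)) := inferInstance
  have hX : IsLocallyNoetherian X := LocallyOfFiniteType.isLocallyNoetherian f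
  have hXc : CompactSpace X := QuasiCompact.compactSpace_of_compactSpace f
  have hXN : IsNoetherian X := ⟨⟩
  have hRg := range_pullback_fst f ts tη (range_residue R K)
  let jK : pullback f tη ⟶ X := pullback.fst f tη
  let fK : pullback f tη ⟶ Spec (CommRingCat.of K) := pullback.snd f tη
  let i : pullback f ts ⟶ X := pullback.fst f ts
  let c : pullback fK tL ⟶ pullback f tη := pullback.fst fK tL
  let D : Fib T f :=
    { XK := pullback f tη
      XL := pullback fK tL
      Xs := pullback f ts
      jK := jK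
      fK := fK
      hK := IsPullback.of_hasPullback f tη
      c := c
      fL := pullback.snd fK tL
      hL := IsPullback.of_hasPullback fK tL
      i := i
      fs := pullback.snd f ts
      hs := IsPullback.of_hasPullback f ts }
  -- the exact sequence
  have hint : IsIntegralHom tL := by
    rw [IsIntegralHom.SpecMap_iff]
    exact algebraMap_isIntegral_iff.2 inferInstance
  have hcint : IsIntegralHom c := MorphismProperty.pullback_fst _ _ hint
  have hS := SigmaSeq.shortExact
    (CycField.bc (cyc E hmono σ hE hfd hgal hrk hgen hun hn0 k) fK) G hGk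
  -- nearby cycles
  have hΨ : ∀ q, Cn n _ ((EtCoh.pull i).obj ((EtCoh.Rpush jK q).obj (AA c G))) := by
    intro q
    have e : (EtCoh.Rpush jK q).obj (AA c G) ≅ (EtCoh.Rpush (c ≫ jK) q).obj ((EtCoh.pull c).obj G) :=
      rpushCompIso c jK ((EtCoh.pull c).obj G)
        (fun p hp => Groth.Agent.Sga4A.EtSplit.isZero_Rpush c _ p hp) q
    refine Cn.iso ((EtCoh.pull i).mapIso e.symm) ⟨?_, k, ?_⟩
    · exact hNC (n ^ k) T f D G hGc hGk q
    · exact killedBy_pull i (killedBy_rpush _ (killedBy_pull c hGk) q)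
  have hcm : WeakSerre (fun M : EtCoh.Ab X => Cn n _ ((EtCoh.pull i).obj M)) :=
    DerX1.comap (EtCoh.pull i) (weakSerre_Cn n _)
  have h0 : Cn n _ ((EtCoh.pull i).obj ((EtCoh.Rpush jK q).obj G)) :=
    DerX1.derived_X₁ (EtCoh.push jK) hcm hS hΨ hΨ q
  refine ⟨isConstructible_of_open_closed jK i hRg _ (isConstructible_pull_rpush jK G hGc q) h0.1, k,
    killedBy_rpush _ hGk q⟩

end Groth.Agent.Sga4h.FinJ
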