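import Groth.Agent.Sga4h.NcLerayAbs
import Groth.Agent.Sga4h.PushDer
import Groth.Agent.Etcore.EtInst
import Groth.Prelude.Def_SGA4h
import Groth.Prelude.Def_PBC
import Groth.Prelude.Def_EtCore

/-!
# Leray finiteness for étale cohomology (want #61, for S3132)
-/

set_option autoImplicit false
universe u
open CategoryTheory CategoryTheory.Limits CategoryTheory.Abelian AlgebraicGeometry Opposite

namespace Groth.Agent.Sga4h.NcLeray

open scoped Groth.Agent.Etcore.EtInst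
open Groth.Agent.Etcore.EtInst

lemma finite_precomp {B : Type (u + 2)} [Category.{u + 1} B] [Abelian B] [HasExt.{u + 1} B]
    {X X' Y : B} (e : X ≅ X') (n : ℕ) (h : Finite (Ext.{u + 1} X Y n)) :
    Finite (Ext.{u + 1} X' Y n) := by
  refine Finite.of_surjective (fun x : Ext.{u + 1} X Y n => (Ext.mk₀ e.inv).comp x (zero_add n))
    fun y => ⟨(Ext.mk₀ e.hom).comp y (zero_add n), ?_⟩
  simp

/-- version with `HH` -/
theorem HF' {Y P : Scheme.{u}} (φ : Y ⟶ P) (F : EtCoh.Ab Y) (q : ℕ) (h1 : Finite (HH Y F q))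
    (h2 : ∀ m < q, ∀ p, 1 ≤ p → Finite (HH P ((EtCoh.Rpush φ m).obj F) p)) :
    Finite (HH P ((EtCoh.Rpush φ q).obj F) 0) := by
  have h1' : Finite (Ext.{u + 1} ((EtCoh.pull φ).obj (EtCoh.const P ℤ)) F q) :=
    finite_precomp (EtCore.pullConst φ ℤ).symm q h1
  have := NcLerayAbs.main (EtCoh.push φ) (EtCoh.pull φ) (EtCoh.pullPushAdj φ)
    (fun I hI => Groth.Agent.Sga4h.PushDer.push_injective φ I hI) (EtCoh.const P ℤ) q F h1' h2
  exact NcLerayAbs.finite_ext_zero this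

/-- (HF): if `H^q(Y, F)` and `H^p(P, R^m φ_* F)` (`m < q`, `p ≥ 1`) are finite, then
`H^0(P, R^q φ_* F)` is finite. -/
theorem HF {Y P : Scheme.{u}} (φ : Y ⟶ P) (F : EtCoh.Ab Y) (q : ℕ) (h1 : Finite (EtCoh.H Y F q))
    (h2 : ∀ m < q, ∀ p, 1 ≤ p → Finite (EtCoh.H P ((EtCoh.Rpush φ m).obj F) p)) :
    Finite (EtCoh.H P ((EtCoh.Rpush φ q).obj F) 0) :=
  HF' φ F q h1 h2

end Groth.Agent.Sga4h.NcLeray
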