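import Groth.Prelude.Def_EtBase
import Groth.Agent.S1964
import Groth.Agent.Sga4B.UnitsAway
import Mathlib.NumberTheory.RamificationInertia.Basic
import Mathlib.RingTheory.DedekindDomain.IntegralClosure
import Mathlib.RingTheory.DiscreteValuationRing.TFAE
import Mathlib.FieldTheory.PurelyInseparable.Basic
import Mathlib.FieldTheory.Galois.Basic
import Mathlib.GroupTheory.Sylow
import Mathlib.RingTheory.Polynomial.Eisenstein.IsIntegral

/-!
# Finite separable extensions of the fraction field of a strictly henselian DVR

`R` strictly henselian discrete valuation ring, `K` its fraction field, `L/K` finite separable.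

* `isDiscreteValuationRing`, `isStrictlyHenselianLocalRing`: the integral closure of `R` in `L` is
  again a strictly henselian discrete valuation ring.
* `exists_pow_eq_uniformizer`: if `[L : K] = m` is invertible in `R` then every uniformizer of `R`
  is the `m`-th power of a uniformizer of the integral closure.
-/

set_option autoImplicit false
set_option linter.deprecated false
set_option linter.unusedSectionVars false

universe u

namespace Groth.Agent.Sga4h.TameExt

open IsLocalRing

section basic

variable (R K L : Type u) [CommRing R] [IsDomain R] [IsDiscreteValuationRing R]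
  [Field K] [Algebra R K] [IsFractionRing R K]
  [Field L] [Algebra K L] [Algebra R L] [IsScalarTower R K L] [FiniteDimensional K L]
  [Algebra.IsSeparable K L]

include K in
theorem isFractionRing : IsFractionRing (integralClosure R L) L :=
  IsIntegralClosure.isFractionRing_of_finite_extension R K L _

include K in
theorem module_finite : Module.Finite R (integralClosure R L) :=
  IsIntegralClosure.finite R K L _

include K in
theorem faithfulSMul : FaithfulSMul R (integralClosure R L) := by
  rw [faithfulSMul_iff_algebraMap_injective]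
  have h : Function.Injective (algebraMap R L) := by
    rw [IsScalarTower.algebraMap_eq R K L]
    exact (algebraMap K L).injective.comp (IsFractionRing.injective R K)
  intro a b hab
  apply h
  have := congrArg (algebraMap (integralClosure R L) L) hab
  rwa [← IsScalarTower.algebraMap_apply, ← IsScalarTower.algebraMap_apply] at this

variable (hR : EtCoh.IsStrictlyHenselianLocalRing R)

include hR in
theorem isStrictlyHenselianLocalRing : EtCoh.IsStrictlyHenselianLocalRing (integralClosure R L) := by
  obtain ⟨h1, h2⟩ := hR
  obtain ⟨h3, h4, h5⟩ := Groth.Agent.S1964.result R (integralClosure R L)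
  exact ⟨h3, (h5 h2).1⟩

include hR in
theorem isLocalRing : IsLocalRing (integralClosure R L) := by
  obtain ⟨h1, h2⟩ := isStrictlyHenselianLocalRing R L hR
  infer_instance

include K hR in
theorem isDiscreteValuationRing : IsDiscreteValuationRing (integralClosure R L) := by
  have := isLocalRing R L hR
  have := integralClosure.isDedekindDomain R K L
  have hfin := module_finite R K L
  have := faithfulSMul R K L
  have hnf : ¬ IsField (integralClosure R L) := by
    intro h
    have := isField_of_isIntegral_of_isField (R := R) (S := integralClosure R L)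
      (FaithfulSMul.algebraMap_injective R (integralClosure R L)) h
    exact IsDiscreteValuationRing.not_isField R this
  exact ((IsDiscreteValuationRing.TFAE (integralClosure R L) hnf).out 0 2).mpr ‹_›

include K hR in
/-- Structure of the ramification: `π = u ϖ ^ e` with `e f = [L : K]`, `f` a power of the residual
characteristic exponent. -/
theorem exists_ramification : ∃ e f : ℕ, e * f = Module.finrank K L ∧
    (∃ j : ℕ, f = (ringExpChar (ResidueField R)) ^ j) ∧
    ∀ (ϖ : integralClosure R L) (_ : Irreducible ϖ) (π : R) (_ : Irreducible π),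
      ∃ u : (integralClosure R L)ˣ, algebraMap R (integralClosure R L) π = u * ϖ ^ e := by
  obtain ⟨h1, h2⟩ := hR
  obtain ⟨h3, h4, h5⟩ := Groth.Agent.S1964.result R (integralClosure R L)
  have hDVR := isDiscreteValuationRing R K L ⟨h1, h2⟩
  have hfin := module_finite R K L
  have hfs := faithfulSMul R K L
  have hfr := isFractionRing R K L
  have hpi := (h5 h2).2 h4
  have hp0 : maximalIdeal R ≠ ⊥ := IsDiscreteValuationRing.not_a_field R
  have key := Ideal.ramificationIdx_mul_inertiaDeg_of_isLocalRing (integralClosure R L) K L hp0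
  have hlies : (maximalIdeal (integralClosure R L)).LiesOver (maximalIdeal R) := inferInstance
  refine ⟨_, _, key, ?_, ?_⟩
  · have hpi' : IsPurelyInseparable (ResidueField R) (ResidueField (integralClosure R L)) := by
      convert hpi using 1
      exact Algebra.algebra_ext _ _ (fun r => by
        obtain ⟨r, rfl⟩ := residue_surjective r
        rfl)
    have hfd : FiniteDimensional (ResidueField R) (ResidueField (integralClosure R L)) :=
      ResidueField.finite_of_module_finite
    obtain ⟨j, hj⟩ := IsPurelyInseparable.finrank_eq_pow (F := ResidueField R)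
      (ResidueField (integralClosure R L)) (ringExpChar (ResidueField R))
    refine ⟨j, ?_⟩
    rw [← hj, Ideal.inertiaDeg'_algebraMap]
    rfl
  · intro ϖ hϖ π hπ
    obtain ⟨n, hn⟩ := IsDiscreteValuationRing.associated_pow_irreducible
      (x := algebraMap R (integralClosure R L) π)
      (fun h => hπ.ne_zero (FaithfulSMul.algebraMap_injective R (integralClosure R L) (by simpa using h))) hϖ
    have h1 : (maximalIdeal R).map (algebraMap R (integralClosure R L)) = maximalIdeal (integralClosure R L) ^ n := by
      rw [hπ.maximalIdeal_eq, Ideal.map_span, Set.image_singleton, hϖ.maximalIdeal_eq,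
        Ideal.span_singleton_pow, Ideal.span_singleton_eq_span_singleton]
      exact hn
    have hB0 : maximalIdeal (integralClosure R L) ≠ ⊥ := IsDiscreteValuationRing.not_a_field _
    have h2 : Ideal.ramificationIdx' (maximalIdeal R) (maximalIdeal (integralClosure R L)) = n := by
      apply Ideal.ramificationIdx'_spec
      · exact h1.le
      · rw [h1]
        exact not_le_of_gt (Ideal.pow_right_strictAnti _ hB0 (Ideal.IsPrime.ne_top inferInstance)
          (Nat.lt_succ_self n))
    rw [h2]
    obtain ⟨u, hu⟩ := hn.symm
    exact ⟨u, by rw [← hu, mul_comm]⟩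

include K hR in
/-- If `[L : K]` is invertible in `R`, the extension is totally tamely ramified. -/
theorem exists_pow_eq_uniformizer (hm : IsUnit ((Module.finrank K L : ℕ) : R)) {π : R} (hπ : Irreducible π) :
    ∃ y : integralClosure R L, Irreducible y ∧
      y ^ (Module.finrank K L) = algebraMap R (integralClosure R L) π := by
  obtain ⟨e, f, hef, ⟨j, hj⟩, H⟩ := exists_ramification R K L hR
  have hDVR := isDiscreteValuationRing R K L hR
  have hf : f = 1 := by
    rw [hj]
    rcases Nat.eq_zero_or_pos j with rfl | hj0
    · exact pow_zero _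
    · obtain ⟨q, hq⟩ := ExpChar.exists (ResidueField R)
      rw [ringExpChar.eq (ResidueField R) q] at hj ⊢
      obtain _ | ⟨hprime⟩ := hq
      · exact one_pow _
      · exfalso
        have h1 : q ∣ Module.finrank K L := by
          rw [← hef, hj]
          exact Dvd.dvd.mul_left (dvd_pow_self _ hj0.ne') _
        have h2 := hm.map (residue R)
        rw [map_natCast, (CharP.cast_eq_zero_iff _ q _).mpr h1] at h2
        exact not_isUnit_zero h2
  obtain ⟨ϖ, hϖ⟩ := IsDiscreteValuationRing.exists_irreducible (integralClosure R L)
  obtain ⟨u, hu⟩ := H ϖ hϖ π hπ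
  obtain ⟨h1, h2⟩ := isStrictlyHenselianLocalRing R L hR
  rw [hf, mul_one] at hef
  subst hef
  obtain ⟨v, hv⟩ := Groth.Agent.Sga4B.UnitsAway.exists_pow_eq (integralClosure R L) (Module.finrank K L)
    (by simpa using hm.map (algebraMap R (integralClosure R L))) u
  refine ⟨v * ϖ, (irreducible_units_mul v).mpr hϖ, ?_⟩
  rw [mul_pow, hu, hv, Units.val_pow_eq_pow_val]

include hR in
theorem exists_pow_eq (hm : IsUnit ((Module.finrank K L : ℕ) : R)) {π : R} (hπ : Irreducible π) :
    ∃ y : L, y ^ (Module.finrank K L) = algebraMap R L π := by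
  obtain ⟨y, -, hy⟩ := exists_pow_eq_uniformizer R K L hR hm hπ
  exact ⟨(y : L), by
    have := congrArg (algebraMap (integralClosure R L) L) hy
    rwa [map_pow, ← IsScalarTower.algebraMap_apply] at this⟩

end basic

section eisenstein

variable {R : Type*} (K : Type*) [CommRing R] [IsDomain R] [IsDiscreteValuationRing R]
  [Field K] [Algebra R K] [IsFractionRing R K]

open Polynomial in
/-- `X ^ m - π` is irreducible over the fraction field. -/
theorem irreducible_X_pow_sub_C {m : ℕ} (hm : m ≠ 0) {π : R} (hπ : Irreducible π) :
    Irreducible (X ^ m - C (algebraMap R K π) : K[X]) := by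
  have hprime : (Ideal.span {π}).IsPrime := by
    rw [Ideal.span_singleton_prime hπ.ne_zero]
    exact hπ.prime
  have hmon : (X ^ m - C π : R[X]).Monic := monic_X_pow_sub_C _ hm
  have hE : (X ^ m - C π : R[X]).IsEisensteinAt (Ideal.span {π}) := by
    refine Monic.isEisensteinAt_of_mem_of_notMem hmon hprime.ne_top (fun {n} hn => ?_) ?_
    · rw [natDegree_X_pow_sub_C] at hn
      rw [coeff_sub, coeff_X_pow, if_neg hn.ne, zero_sub, coeff_C]
      split_ifs
      · exact (Ideal.span {π}).neg_mem (Ideal.mem_span_singleton_self π)
      · simp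
    · rw [coeff_sub, coeff_X_pow, if_neg hm.symm, zero_sub, coeff_C_zero, Ideal.neg_mem_iff,
        Ideal.span_singleton_pow, Ideal.mem_span_singleton]
      intro h
      have h2 : π ^ 2 ∣ π ^ 1 := by simpa using h
      have := (pow_dvd_pow_iff hπ.ne_zero hπ.not_isUnit).mp h2
      omega
  have hirr : Irreducible (X ^ m - C π : R[X]) := by
    refine hE.irreducible hprime hmon.isPrimitive ?_
    rw [natDegree_X_pow_sub_C]
    omega
  have := (Monic.irreducible_iff_irreducible_map_fraction_map (K := K) hmon).mp hirr
  simpa using this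

end eisenstein

section tame

variable (R K M : Type u) [CommRing R] [IsDomain R] [IsDiscreteValuationRing R]
  [Field K] [Algebra R K] [IsFractionRing R K]
  [Field M] [Algebra K M] [Algebra R M] [IsScalarTower R K M] [FiniteDimensional K M]

open IntermediateField in
theorem finrank_adjoin_root {m : ℕ} (hm : m ≠ 0) {π : R} (hπ : Irreducible π) {z : M}
    (hz : z ^ m = algebraMap R M π) : Module.finrank K K⟮z⟯ = m := by
  have h1 : minpoly K z = Polynomial.X ^ m - Polynomial.C (algebraMap R K π) := by
    symm
    apply minpoly.eq_of_irreducible_of_monic (irreducible_X_pow_sub_C K hm hπ)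
    · simp [hz, ← IsScalarTower.algebraMap_apply]
    · exact Polynomial.monic_X_pow_sub_C _ hm
  rw [IntermediateField.adjoin.finrank (Algebra.IsIntegral.isIntegral z), h1,
    Polynomial.natDegree_X_pow_sub_C]

open IntermediateField in
/-- Structure of the prime-to-`p` part at one prime `ℓ`: a finite Galois extension `M/K` contains
`K(π^{1/ℓ^a})` with `[M : K(π^{1/ℓ^a})]` prime to `ℓ`. -/
theorem exists_tame (hR : EtCoh.IsStrictlyHenselianLocalRing R) [IsGalois K M] (ℓ : ℕ) [hℓ : Fact ℓ.Prime]
    (hu : IsUnit (ℓ : R)) {π : R} (hπ : Irreducible π) :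
    ∃ (a : ℕ) (z : M), z ^ (ℓ ^ a) = algebraMap R M π ∧ ¬ ℓ ∣ Module.finrank K⟮z⟯ M := by
  classical
  obtain ⟨H⟩ : Nonempty (Sylow ℓ (M ≃ₐ[K] M)) := inferInstance
  let L : IntermediateField K M := IntermediateField.fixedField (H : Subgroup (M ≃ₐ[K] M))
  obtain ⟨a, ha⟩ := (IsPGroup.iff_card (p := ℓ)).mp H.isPGroup'
  have hLM : Module.finrank L M = ℓ ^ a := by
    rw [← ha]
    exact IntermediateField.finrank_fixedField_eq_card _
  have hKL : ¬ ℓ ∣ Module.finrank K L := by
    have h1 : Module.finrank K L * Module.finrank L M = Module.finrank K M := Module.finrank_mul_finrank K L M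
    have h2 : Nat.card (M ≃ₐ[K] M) = Module.finrank K M := IsGalois.card_aut_eq_finrank K M
    have h3 : (H : Subgroup (M ≃ₐ[K] M)).index = Module.finrank K L := by
      have h4 := (H : Subgroup (M ≃ₐ[K] M)).index_mul_card
      rw [h2, ← h1, ha, hLM] at h4
      exact Nat.eq_of_mul_eq_mul_right (pow_pos hℓ.out.pos a) h4
    rw [← h3]
    exact H.not_dvd_index
  let B := integralClosure R L
  have := isDiscreteValuationRing R K L hR
  have hB := isStrictlyHenselianLocalRing R L hR
  have := isFractionRing R K L
  obtain ⟨ϖ, hϖ⟩ := IsDiscreteValuationRing.exists_irreducible B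
  obtain ⟨e, f, hef, -, H⟩ := exists_ramification R K L hR
  obtain ⟨u, hu'⟩ := H ϖ hϖ π hπ
  have hℓB : IsUnit ((ℓ ^ a : ℕ) : B) := by
    rw [Nat.cast_pow]
    exact (by simpa using hu.map (algebraMap R B) : IsUnit (ℓ : B)).pow a
  obtain ⟨y, hy⟩ := exists_pow_eq B L M hB (by rw [hLM]; exact hℓB) hϖ
  obtain ⟨h1, h2⟩ := hB
  obtain ⟨v, hv⟩ := Groth.Agent.Sga4B.UnitsAway.exists_pow_eq B (ℓ ^ a) hℓB u
  have hRLM : IsScalarTower R L M := IsScalarTower.of_algebraMap_eq fun r => by
    rw [IsScalarTower.algebraMap_apply R K M, IsScalarTower.algebraMap_apply R K L]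
    rfl
  have hRBM : IsScalarTower R B M := IsScalarTower.of_algebraMap_eq fun r => by
    rw [IsScalarTower.algebraMap_apply R L M, IsScalarTower.algebraMap_apply R B L]
    rfl
  have hz : (algebraMap B M v * y ^ e) ^ (ℓ ^ a) = algebraMap R M π := by
    rw [IsScalarTower.algebraMap_apply R B M, hu', mul_pow, ← pow_mul, mul_comm e, pow_mul, map_mul, map_pow,
      hv, Units.val_pow_eq_pow_val, map_pow]
    rw [hLM] at hy
    rw [hy]
  refine ⟨a, _, hz, ?_⟩
  have h5 := finrank_adjoin_root R K M (pow_ne_zero a hℓ.out.ne_zero) hπ hz
  have h6 := Module.finrank_mul_finrank K K⟮algebraMap B M v * y ^ e⟯ M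
  rw [h5, ← Module.finrank_mul_finrank K L M, hLM, mul_comm] at h6
  rw [Nat.eq_of_mul_eq_mul_right (pow_pos hℓ.out.pos a) h6]
  exact hKL

end tame

end Groth.Agent.Sga4h.TameExt
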