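import Groth.Agent.Sga4h.NcDefs
import Groth.Agent.Sga4h.TameExt
import Mathlib.FieldTheory.PrimitiveElement
import Mathlib.FieldTheory.Separable
import Mathlib.FieldTheory.SeparableClosure

/-!
# Galois extensions of a root-closed extension of the fraction field of a strictly henselian DVR

* `A1`: `R` strictly henselian DVR, `K` its fraction field, `n` invertible in `R`, `L/K` algebraic separable
  containing all `ℓ ^ a`-th roots of the uniformizers (`ℓ ∣ n`).  Then every finite Galois extension of `L` has
  degree prime to `n`.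
-/

set_option autoImplicit false

universe u

open Polynomial IntermediateField
open Groth.Agent.Sga4h.NcDefs

namespace Groth.Agent.Sga4h.NcRoot

/-- Degree of a compositum: `N = N0 L`, `N0 / K` Galois, `z ∈ N0 ∩ L`: `[N : L]` divides `[N0 : K(z)]`. -/
theorem finrank_dvd (K L N : Type*) [Field K] [Field L] [Field N] [Algebra K L] [Algebra K N] [Algebra L N]
    [IsScalarTower K L N] (N0 : IntermediateField K N) [IsGalois K N0] [FiniteDimensional K N0]
    [IsGalois L N] [FiniteDimensional L N]
    (hsup : N0 ⊔ (IsScalarTower.toAlgHom K L N).fieldRange = ⊤) (z : N0) (y : L)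
    (hz : (z : N) = algebraMap L N y) :
    Module.finrank L N ∣ Module.finrank K⟮z⟯ N0 := by
  classical
  let ρ : Gal(N/L) →* Gal(N0/K) := restrictRestrictAlgEquivMapHom K N0 L N
  have hρ : ∀ (φ : Gal(N/L)) (x : N0), ((ρ φ x : N0) : N) = φ x := by
    intro φ x
    change ((restrictRestrictAlgEquivMapHom K N0 L N φ x : N0) : N) = φ x
    have := AlgEquiv.restrictNormal_commutes (MulSemiringAction.toAlgAut Gal(N/L) K N φ) N0 x
    exact this
  have hinj : Function.Injective ρ := by
    rw [injective_iff_map_eq_one]
    intro φ hφ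
    let ψ : Gal(N/K) := φ.restrictScalars K
    have h0 : ψ ∈ (⊤ : IntermediateField K N).fixingSubgroup := by
      rw [← hsup, fixingSubgroup_sup]
      refine ⟨fun x => ?_, fun x => ?_⟩
      · have := hρ φ x
        rw [hφ] at this
        exact this.symm
      · obtain ⟨x, y, rfl⟩ := x
        exact φ.commutes y
    rw [fixingSubgroup_top, Subgroup.mem_bot] at h0
    ext x
    exact DFunLike.congr_fun h0 x
  have hle : ρ.range ≤ K⟮z⟯.fixingSubgroup := by
    rintro _ ⟨φ, rfl⟩
    have h3 : ρ φ z = z := by
      apply Subtype.ext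
      rw [hρ, hz, φ.commutes]
    rw [IntermediateField.mem_fixingSubgroup_iff]
    intro x hx
    induction hx using IntermediateField.adjoin_induction with
    | mem x hx => rw [Set.mem_singleton_iff.mp hx]; exact h3
    | algebraMap x => exact (ρ φ).commutes x
    | add x y _ _ h4 h5 => rw [map_add, h4, h5]
    | inv x _ h4 => rw [map_inv₀, h4]
    | mul x y _ _ h4 h5 => rw [map_mul, h4, h5]
  have h1 : Nat.card ρ.range = Module.finrank L N := by
    rw [← IsGalois.card_aut_eq_finrank]
    exact Nat.card_congr (MonoidHom.ofInjective hinj).symm.toEquiv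
  have h2 : Nat.card K⟮z⟯.fixingSubgroup = Module.finrank K⟮z⟯ N0 :=
    IsGalois.card_fixingSubgroup_eq_finrank _
  rw [← h1, ← h2]
  exact Subgroup.card_dvd_of_le hle

/-- (A1) -/
theorem A1 (R : Type u) [CommRing R] [IsDomain R] [IsDiscreteValuationRing R]
    (hR : EtCoh.IsStrictlyHenselianLocalRing R) (K L : Type u) [Field K] [Algebra R K] [IsFractionRing R K]
    [Field L] [Algebra K L] [Algebra R L] [IsScalarTower R K L] [Algebra.IsSeparable K L] (n : ℕ) (hn : IsUnit (n : R))
    (hrc : RootClosed n R L)
    (M : Type u) [Field M] [Algebra L M] [FiniteDimensional L M] [IsGalois L M] :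
    (Module.finrank L M).Coprime n := by
  classical
  by_contra hcop
  obtain ⟨l, hl, hlM, hln⟩ := Nat.Prime.not_coprime_iff_dvd.mp hcop
  have : Fact l.Prime := ⟨hl⟩
  have hlR : IsUnit (l : R) := isUnit_of_dvd_unit (by exact_mod_cast hln.natCast) hn
  obtain ⟨π, hπ⟩ := IsDiscreteValuationRing.exists_irreducible R
  -- `M = L(θ)`, `θ` separable over `K`
  let _ : Algebra K M := ((algebraMap L M).comp (algebraMap K L)).toAlgebra
  have : IsScalarTower K L M := IsScalarTower.of_algebraMap_eq fun _ => rfl
  have hsep : Algebra.IsSeparable K M := Algebra.IsSeparable.trans K L M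
  obtain ⟨θ, hθ⟩ := Field.exists_primitive_element L M
  let f : K[X] := minpoly K θ
  have hf : f.Separable := Algebra.IsSeparable.isSeparable K θ
  have hθint : IsIntegral K θ := Algebra.IsIntegral.isIntegral θ
  let g : L[X] := f.map (algebraMap K L)
  have hg : g.Separable := hf.map
  let N := g.SplittingField
  have hgalN : IsGalois L N := IsGalois.of_separable_splitting_field (p := g) hg
  have hRKN : IsScalarTower R K N := IsScalarTower.of_algebraMap_eq fun r => by
    rw [IsScalarTower.algebraMap_apply R L N, IsScalarTower.algebraMap_apply R K L,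
      ← IsScalarTower.algebraMap_apply K L N]
  have hsplit : (f.map (algebraMap K N)).Splits := by
    have := SplittingField.splits g
    rwa [Polynomial.map_map, ← IsScalarTower.algebraMap_eq] at this
  let N0 : IntermediateField K N := IntermediateField.adjoin K (f.rootSet N)
  have hsf : f.IsSplittingField K N0 := adjoin_rootSet_isSplittingField hsplit
  have hgal0 : IsGalois K N0 := IsGalois.of_separable_splitting_field (p := f) hf
  have hfin0 : FiniteDimensional K N0 := Polynomial.IsSplittingField.finiteDimensional N0 f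
  -- `M` embeds in `N`
  have hMN : Module.finrank L M ∣ Module.finrank L N := by
    have hne : Nonempty (M →ₐ[L] N) := by
      refine nonempty_algHom_of_adjoin_splits (S := {θ}) (fun s hs => ?_) hθ
      rw [Set.mem_singleton_iff] at hs
      subst hs
      refine ⟨Algebra.IsIntegral.isIntegral s, ?_⟩
      refine Polynomial.Splits.of_dvd (SplittingField.splits g) ?_ ?_
      · exact (Polynomial.map_ne_zero hg.ne_zero)
      · apply Polynomial.map_dvd
        exact minpoly.dvd_map_of_isScalarTower K L s
    obtain ⟨φ⟩ := hne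
    let _ : Algebra M N := φ.toRingHom.toAlgebra
    have : IsScalarTower L M N := IsScalarTower.of_algebraMap_eq fun r => (φ.commutes r).symm
    exact Dvd.intro _ (Module.finrank_mul_finrank L M N)
  -- `N = N0 L`
  have hsup : N0 ⊔ (IsScalarTower.toAlgHom K L N).fieldRange = ⊤ := by
    rw [eq_top_iff]
    intro x _
    have hx : x ∈ Algebra.adjoin L (g.rootSet N) := by
      rw [SplittingField.adjoin_rootSet]; exact Algebra.mem_top
    induction hx using Algebra.adjoin_induction with
    | mem x hx =>
      have h1 : x ∈ f.rootSet N := by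
        rw [Polynomial.mem_rootSet'] at hx ⊢
        simpa [g, Polynomial.map_map, ← IsScalarTower.algebraMap_eq] using hx
      exact (le_sup_left : N0 ≤ _) (IntermediateField.subset_adjoin K _ h1)
    | algebraMap r => exact (le_sup_right : _ ≤ N0 ⊔ (IsScalarTower.toAlgHom K L N).fieldRange) ⟨r, rfl⟩
    | add x y _ _ h1 h2 => exact add_mem (h1 trivial) (h2 trivial)
    | mul x y _ _ h1 h2 => exact mul_mem (h1 trivial) (h2 trivial)
  obtain ⟨a, z, hz, hdvd⟩ := TameExt.exists_tame R K N0 hR l hlR hπ
  obtain ⟨y, hy⟩ := hrc π hπ l hl hln a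
  -- `y ∈ N0`
  have hyN : (algebraMap L N y) ^ (l ^ a) = algebraMap R N π := by
    rw [← map_pow, hy, ← IsScalarTower.algebraMap_apply R L N]
  have hyN0 : algebraMap L N y ∈ N0 := by
    let f2 : K[X] := X ^ (l ^ a) - C (algebraMap R K π)
    have hm : f2.Monic := monic_X_pow_sub_C _ (pow_ne_zero a hl.ne_zero)
    have h1 : minpoly K z = f2 := by
      symm
      apply minpoly.eq_of_irreducible_of_monic
        (TameExt.irreducible_X_pow_sub_C K (pow_ne_zero a hl.ne_zero) hπ) _ hm
      simp [hz, ← IsScalarTower.algebraMap_apply]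
    have h2 : (f2.map (algebraMap K N0)).Splits := h1 ▸ Normal.splits (F := K) inferInstance z
    have h3 : algebraMap L N y ∈ f2.rootSet N := by
      rw [Polynomial.mem_rootSet]
      refine ⟨hm.ne_zero, ?_⟩
      simp [f2, hyN, ← IsScalarTower.algebraMap_apply]
    rw [← h2.image_rootSet N0.val] at h3
    obtain ⟨w, -, hw⟩ := h3
    rw [← hw]
    exact w.2
  have hz' : (⟨algebraMap L N y, hyN0⟩ : N0) ^ (l ^ a) = algebraMap R N0 π := by
    apply Subtype.ext
    exact hyN
  have h1 := TameExt.finrank_adjoin_root R K N0 (pow_ne_zero a hl.ne_zero) hπ hz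
  have h2 := TameExt.finrank_adjoin_root R K N0 (pow_ne_zero a hl.ne_zero) hπ hz'
  have h3 := Module.finrank_mul_finrank K K⟮z⟯ N0
  have h4 := Module.finrank_mul_finrank K K⟮(⟨algebraMap L N y, hyN0⟩ : N0)⟯ N0
  rw [h1] at h3
  rw [h2, ← h3] at h4
  have h5 := Nat.eq_of_mul_eq_mul_left (pow_pos hl.pos a) h4
  apply hdvd
  rw [← h5]
  exact (hlM.trans hMN).trans (finrank_dvd K L N N0 hsup _ y rfl)

end Groth.Agent.Sga4h.NcRoot
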