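import Groth.Agent.Sga4h.NcTransferA
import Mathlib.AlgebraicGeometry.Morphisms.FlatRank
import Mathlib.FieldTheory.Galois.GaloisClosure

/-!
# Transfer along finite extensions of the base field
-/

set_option autoImplicit false
universe u
open CategoryTheory CategoryTheory.Limits AlgebraicGeometry Opposite Abelian
open scoped Groth.Agent.Etcore.EtInst
open Groth.Agent.Etcore.EtInst Groth.Agent.Etcore.HpullCalc

namespace Groth.Agent.Sga4h.NcTransfer

theorem eq_zero_of_hp_field (L M : Type u) [Field L] [Field M] [Algebra L M] [FiniteDimensional L M]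
    (n : ℕ) (hn : (Module.finrank L M).Coprime n) {X : Scheme.{u}}
    (f : X ⟶ Spec (CommRingCat.of L)) (g : Spec (CommRingCat.of M) ⟶ Spec (CommRingCat.of L))
    (hg : g = Spec.map (CommRingCat.ofHom (algebraMap L M)))
    [PreservesFiniteLimits (EtCoh.pull (pullback.fst f g))]
    (F : EtCoh.Ab X) (hF : EtCoh.KilledBy n F) (q : ℕ) (x : HH X F q)
    (hx : hp (pullback.fst f g) F q x = 0) : x = 0 := by
  have h1 : IsFinite g := by
    rw [hg, IsFinite.SpecMap_iff]
    exact RingHom.finite_algebraMap.2 inferInstance
  have h2 : Flat g := by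
    rw [hg, Flat.SpecMap_iff]
    exact RingHom.flat_algebraMap_iff.2 inferInstance
  have h3 : LocallyOfFinitePresentation g := by
    rw [hg, LocallyOfFinitePresentation.SpecMap_iff]
    exact (RingHom.finitePresentation_algebraMap (A := L) (B := M)).2
      (Algebra.FinitePresentation.of_finiteType.1 inferInstance)
  refine eq_zero_of_hp (pullback.fst f g) (Module.finrank L M) (fun s => ?_) n hn F hF q x hx
  rw [Scheme.Hom.finrank_pullback_fst]
  subst hg
  refine (Scheme.Hom.finrank_SpecMap_algebraMap L M _).trans ?_
  exact congrFun (Module.rankAtStalk_eq_finrank_of_free (R := L) (M := M)) _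

end Groth.Agent.Sga4h.NcTransfer
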