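import Groth.Agent.Sga4h.NcTransferB
import Groth.Agent.Sga4h.NcTransferC
import Groth.Agent.Sga4h.PushDer
import Groth.Agent.Etcore.PullbackLim
import Groth.Agent.Etcore.FGLim
import Groth.Prelude.Def_SGA4h
import Groth.Prelude.Def_PBC
import Mathlib.AlgebraicGeometry.Morphisms.Proper
import Mathlib.AlgebraicGeometry.Morphisms.Etale
import Mathlib.AlgebraicGeometry.Noetherian
import Mathlib.FieldTheory.IsSepClosed

/-!
# Injectivity of restriction to the geometric fibre for torsion prime to the degrees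

`W2`: `X` quasi-compact quasi-separated over a field `L` all of whose finite Galois extensions have degree
prime to `n`; then `H^q(X, F) → H^q(X_Ω, F)` is injective for every sheaf `F` killed by `n`
(`Ω` a separable closure of `L`).
-/

set_option autoImplicit false
universe u
open CategoryTheory CategoryTheory.Limits AlgebraicGeometry Opposite Abelian
open scoped Groth.Agent.Etcore.EtInst
open Groth.Agent.Etcore.EtInst Groth.Agent.Etcore.HpullCalc

namespace Groth.Agent.Sga4h.NcTransfer

section Tower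

variable (L Ω : Type u) [Field L] [Field Ω] [Algebra L Ω]

/-- The index set: finite Galois subextensions of `Ω / L`. -/
abbrev Idx : Type u := FiniteGaloisIntermediateField L Ω

/-- The directed system of finite Galois subextensions of `Ω / L`. -/
def gSys : Idx L Ω ⥤ CommRingCat.{u} where
  obj M := CommRingCat.of M.toIntermediateField
  map {M N} h := CommRingCat.ofHom
    (IntermediateField.inclusion (show M.toIntermediateField ≤ N.toIntermediateField from h.le)).toRingHom
  map_id _ := rfl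
  map_comp _ _ := rfl

/-- The cocone with point `Ω`. -/
def gCocone : Cocone (gSys L Ω) where
  pt := CommRingCat.of Ω
  ι :=
    { app := fun M => CommRingCat.ofHom M.toIntermediateField.val.toRingHom
      naturality := fun _ _ _ => rfl }

theorem nonempty_isColimit_gCocone [IsGalois L Ω] : Nonempty (IsColimit (gCocone L Ω)) := by
  apply Groth.Agent.Etcore.FGLim.nonempty_isColimit
  · intro (x : Ω)
    exact ⟨FiniteGaloisIntermediateField.adjoin L {x},
      ⟨x, FiniteGaloisIntermediateField.subset_adjoin L {x} rfl⟩, rfl⟩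
  · intro M y z h
    exact ⟨M, 𝟙 M, congrArg _ (Subtype.ext h)⟩

/-- structure maps of the system of spectra -/
noncomputable def gτ (a : (Idx L Ω)ᵒᵖ) :
    (Groth.Agent.Etcore.PullbackLim.specSys (gSys L Ω)).obj a ⟶ Spec (CommRingCat.of L) :=
  Spec.map (CommRingCat.ofHom (algebraMap L a.unop.toIntermediateField))

theorem gτ_w ⦃a b : (Idx L Ω)ᵒᵖ⦄ (h : a ⟶ b) :
    (Groth.Agent.Etcore.PullbackLim.specSys (gSys L Ω)).map h ≫ gτ L Ω b = gτ L Ω a := by
  change Spec.map ((gSys L Ω).map h.unop) ≫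
    Spec.map (CommRingCat.ofHom (algebraMap L b.unop.toIntermediateField)) =
    Spec.map (CommRingCat.ofHom (algebraMap L a.unop.toIntermediateField))
  rw [← Spec.map_comp]
  rfl

theorem gτ_π (a : (Idx L Ω)ᵒᵖ) :
    (Groth.Agent.Etcore.PullbackLim.specCone (gSys L Ω) (gCocone L Ω)).π.app a ≫ gτ L Ω a =
      Spec.map (CommRingCat.ofHom (algebraMap L Ω)) := by
  change Spec.map ((gCocone L Ω).ι.app a.unop) ≫
    Spec.map (CommRingCat.ofHom (algebraMap L a.unop.toIntermediateField)) = _
  rw [← Spec.map_comp]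
  rfl

end Tower

theorem W2' (L Ω : Type u) [Field L] [Field Ω] [Algebra L Ω] [IsSepClosure L Ω] (n : ℕ)
    (hL : ∀ (M : Type u) [Field M] [Algebra L M] [FiniteDimensional L M] [IsGalois L M],
      (Module.finrank L M).Coprime n)
    {X Y : Scheme.{u}} (f : X ⟶ Spec (CommRingCat.of L)) [QuasiCompact f] [QuasiSeparated f]
    (e : Y ⟶ X) (g : Y ⟶ Spec (CommRingCat.of Ω))
    (hsq : IsPullback e g f (Spec.map (CommRingCat.ofHom (algebraMap L Ω))))
    (F : EtCoh.Ab X) (hF : EtCoh.KilledBy n F) (q : ℕ) (x : HH X F q) (hx : hp e F q x = 0) :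
    x = 0 := by
  have : IsGalois L Ω := inferInstance
  let T := Groth.Agent.Etcore.PullbackLim.specSys (gSys L Ω)
  let c := Groth.Agent.Etcore.PullbackLim.specCone (gSys L Ω) (gCocone L Ω)
  have hc : IsLimit c := Groth.Agent.Etcore.PullbackLim.isLimitSpecCone _ _
    (nonempty_isColimit_gCocone L Ω).some
  let t : c.pt ⟶ Spec (CommRingCat.of L) := Spec.map (CommRingCat.ofHom (algebraMap L Ω))
  let c' := Groth.Agent.Etcore.PullbackLim.cone T (gτ L Ω) (gτ_w L Ω) f c t (gτ_π L Ω)
  have hc' : IsLimit c' := Groth.Agent.Etcore.PullbackLim.isLimitCone T (gτ L Ω) (gτ_w L Ω) f c t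
    (gτ_π L Ω) hc
  let i₀ : Idx L Ω := ⊥
  let p₀ : pullback f (gτ L Ω (op i₀)) ⟶ X := pullback.fst f (gτ L Ω (op i₀))
  -- comparison of `Y` with the fibre product
  let φ : Y ⟶ pullback f t := hsq.isoPullback.hom
  have hφ : φ ≫ pullback.fst f t = e := hsq.isoPullback_hom_fst
  have h1 : hp (pullback.fst f t) F q x = 0 := by
    have h2 := (hp_comp_eq_zero_iff φ (pullback.fst f t) e hφ F q x).2 hx
    have h3 := (bijective_hp_of_isIso φ ((EtCoh.pull (pullback.fst f t)).obj F) q).1
    exact h3 (h2.trans (map_zero _).symm)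
  have h4 : hp (c'.π.app (op i₀)) _ q (hp p₀ F q x) = 0 :=
    (hp_comp_eq_zero_iff (c'.π.app (op i₀)) p₀ (pullback.fst f t)
      (Groth.Agent.Etcore.PullbackLim.proj_fst T (gτ L Ω) f c t (gτ_π L Ω) (op i₀)) F q x).2 h1
  have hT : ∀ a, CompactSpace (T.obj a) := fun a =>
    inferInstanceAs (CompactSpace (Spec ((gSys L Ω).obj a.unop)))
  have hT' : ∀ a, QuasiSeparatedSpace (T.obj a) := fun a =>
    inferInstanceAs (QuasiSeparatedSpace (Spec ((gSys L Ω).obj a.unop)))
  obtain ⟨k, hk, h5⟩ := exists_hp_eq_zero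
    (Groth.Agent.Etcore.PullbackLim.sys T (gτ L Ω) (gτ_w L Ω) f)
    (fun a b h => Groth.Agent.Etcore.PullbackLim.isAffineHom_mapp T (gτ L Ω) (gτ_w L Ω) f
      (fun a b h => Groth.Agent.Etcore.PullbackLim.isAffineHom_specSys (gSys L Ω) h) h)
    (fun a => Groth.Agent.Etcore.PullbackLim.compactSpace_obj T (gτ L Ω) (gτ_w L Ω) f a)
    (fun a => Groth.Agent.Etcore.PullbackLim.quasiSeparatedSpace_obj T (gτ L Ω) (gτ_w L Ω) f a)
    c' hc' i₀ ((EtCoh.pull p₀).obj F) q (hp p₀ F q x) h4
  have h6 : hp (pullback.fst f (gτ L Ω (op k))) F q x = 0 :=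
    (hp_comp_eq_zero_iff _ p₀ (pullback.fst f (gτ L Ω (op k)))
      (Groth.Agent.Etcore.PullbackLim.mapp_fst T (gτ L Ω) (gτ_w L Ω) f (homOfLE hk).op) F q x).1 h5
  exact eq_zero_of_hp_field L k.toIntermediateField n (hL k.toIntermediateField) f
    (gτ L Ω (op k)) rfl F hF q x h6

/-- **Transfer.** `X` quasi-compact quasi-separated over a field `L` all of whose finite Galois extensions
have degree prime to `n`, `F` a sheaf on `X` killed by `n`, `Ω` a separable closure of `L`:
`H^q(X, F) → H^q(X_Ω, F)` is injective. -/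
theorem W2 (L Ω : Type u) [Field L] [Field Ω] [Algebra L Ω] [IsSepClosure L Ω] (n : ℕ)
    (hL : ∀ (M : Type u) [Field M] [Algebra L M] [FiniteDimensional L M] [IsGalois L M],
      (Module.finrank L M).Coprime n)
    {X Y : Scheme.{u}} (f : X ⟶ Spec (CommRingCat.of L)) [QuasiCompact f] [QuasiSeparated f]
    (e : Y ⟶ X) (g : Y ⟶ Spec (CommRingCat.of Ω))
    (hsq : IsPullback e g f (Spec.map (CommRingCat.ofHom (algebraMap L Ω))))
    [PreservesFiniteLimits (EtCoh.pull e)]
    (F : EtCoh.Ab X) (hF : EtCoh.KilledBy n F) (q : ℕ) :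
    Function.Injective (EtCore.Hpull e F q) := by
  rw [injective_iff_map_eq_zero]
  intro x hx
  exact W2' L Ω n hL f e g hsq F hF q x ((Hpull_apply_eq_hp e F q x).symm.trans hx)

end Groth.Agent.Sga4h.NcTransfer
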