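import Groth.Agent.Sga4h.GeoDim3
import Mathlib.Topology.KrullDimension
import Mathlib.Topology.Sober

/-!
# Uniform bounds for the dimensions of the fibres
-/

set_option autoImplicit false
universe u

open CategoryTheory CategoryTheory.Limits AlgebraicGeometry TopologicalSpace

namespace Groth.Agent.Sga4h.GenULADim

open GeoDim

variable {X S : Scheme.{u}}

theorem topologicalKrullDim_fiber_le (f : X ⟶ S) [LocallyOfFiniteType f] (s : S) (N : ℕ)
    (h : ∀ x : X, f x = s → trdegAt f x ≤ (N : Cardinal.{u})) :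
    topologicalKrullDim (f.fiber s) ≤ N := by
  let F := f.fiber s
  have hs : ∀ x : F, f (f.fiberι s x) = s := by
    intro x
    have h1 : f.fiberι _ x ∈ Set.range (f.fiberι s) := ⟨x, rfl⟩
    rw [Scheme.Hom.range_fiberι] at h1
    exact h1
  choose r hr using fun x : F => exists_nat_trdegAt f (f.fiberι s x)
  let e := (irreducibleSetEquivPoints (α := F))
  let g : IrreducibleCloseds F → ℕ := fun Z => r (e Z)
  have hcl : ∀ Z : IrreducibleCloseds F, (Z : Set F) = closure {e Z} := by
    intro Z
    conv_lhs => rw [← e.symm_apply_apply Z]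
    rfl
  have hg : StrictMono g := by
    intro Z Z' hZ
    have h1 : e Z' ⤳ e Z := by
      rw [specializes_iff_mem_closure, ← hcl]
      apply hZ.le
      rw [SetLike.mem_coe.symm, hcl]
      exact subset_closure rfl
    have hne : e Z' ≠ e Z := fun h2 => hZ.ne (e.injective h2.symm)
    have h2 := trdegAt_lt_of_specializes f (h1.map (f.fiberι s).continuous)
      (fun h => hne ((f.fiberι _).isEmbedding.injective h)) ((hs _).trans (hs _).symm)
    rw [hr, hr] at h2
    exact_mod_cast h2
  have hle : ∀ Z, g Z ≤ N := by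
    intro Z
    have h1 := h _ (hs (e Z))
    rw [hr] at h1
    exact_mod_cast h1
  refine iSup_le fun l => ?_
  have h4 := (l.map g hg).head_add_length_le_nat
  have h5 : (l.map g hg).last ≤ N := hle _
  have h6 : (l.map g hg).length = l.length := rfl
  have h7 : l.length ≤ N := by omega
  exact_mod_cast h7

/-- uniform bound of the transcendence degrees -/
theorem exists_bound (f : X ⟶ S) [LocallyOfFiniteType f] [CompactSpace X] :
    ∃ N : ℕ, ∀ x : X, trdegAt f x ≤ (N : Cardinal.{u}) := by
  suffices H : ∃ n : ℕ, ∀ x ∈ (Set.univ : Set X), trdegAt f x ≤ (n : Cardinal.{u}) by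
    obtain ⟨n, hn⟩ := H
    exact ⟨n, fun x => hn x trivial⟩
  refine isCompact_univ.induction_on
    (p := fun s => ∃ n : ℕ, ∀ x ∈ s, trdegAt f x ≤ (n : Cardinal.{u}))
    ⟨0, fun x hx => hx.elim⟩ ?_ ?_ ?_
  · rintro s t hst ⟨n, hn⟩
    exact ⟨n, fun x hx => hn x (hst hx)⟩
  · rintro s t ⟨m, hm⟩ ⟨n, hn⟩
    refine ⟨max m n, fun x hx => ?_⟩
    rcases hx with hx | hx
    · exact (hm x hx).trans (by exact_mod_cast le_max_left m n)
    · exact (hn x hx).trans (by exact_mod_cast le_max_right m n)
  · intro x hx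
    obtain ⟨V, n, hxV, hV⟩ := exists_nhds_bound f x
    exact ⟨V, mem_nhdsWithin_of_mem_nhds (V.2.mem_nhds hxV), n, hV⟩

theorem exists_dim_bound (f : X ⟶ S) [LocallyOfFiniteType f] [CompactSpace X] :
    ∃ N : ℕ, ∀ s : S, topologicalKrullDim (f.fiber s) ≤ N := by
  obtain ⟨N, hN⟩ := exists_bound f
  exact ⟨N, fun s => topologicalKrullDim_fiber_le f s N fun x _ => hN x⟩

end Groth.Agent.Sga4h.GenULADim
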