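import Groth.Agent.Etrest.FLCFlat
import Groth.Agent.EtpbcA.FinPush

/-!
# Constructible sheaves are generically finite locally constant
-/

set_option autoImplicit false
universe u

open CategoryTheory CategoryTheory.Limits AlgebraicGeometry Opposite Topology

namespace Groth.Agent.Sga4h.GenULAFlc

open Groth.Agent.Etbase Groth.Agent.Etcore Groth.Agent.EtpbcA.ConsVan
open Groth.Agent.EtpbcA.ConsPull Groth.Agent.EtpbcA Groth.Agent.Etrest.FLCFlat

/-- étale maps: a generization with the same image is trivial -/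
theorem eq_of_specializes_of_etale {X Y : Scheme.{u}} (f : X ⟶ Y) [Etale f] {a b : X} (h : a ⤳ b)
    (hf : f a = f b) : a = b := by
  have := ConsCrit.locallyQuasiFinite_of_etale f
  have hd := f.isDiscrete_preimage_singleton (f b)
  obtain ⟨O, hO, hOu⟩ := isDiscrete_iff_forall_mem_exists_isOpen.1 hd b rfl
  have hb : b ∈ O := (hOu.symm ▸ Set.mem_singleton b : b ∈ O ∩ f ⁻¹' {f b}).1
  have ha : a ∈ O := h.mem_open hO hb
  have : a ∈ O ∩ f ⁻¹' {f b} := ⟨ha, hf⟩
  rw [hOu] at this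
  exact this

/-- Around a maximal point a constructible sheaf is finite locally constant. -/
theorem exists_flc_open {S : Scheme.{u}} (G : EtCoh.Ab S) (hG : EtPBC.IsConstructible G)
    (s : S) (hs : ∀ y, y ⤳ s → y = s) :
    ∃ W : S.Opens, s ∈ W ∧ EtCoh.IsFiniteLocallyConstant ((EtCoh.pull W.ι).obj G) := by
  obtain ⟨U, u, hu, M, i1, i2, φ, hφ⟩ := FinPush.exists_good G hG s
  have hE := ConsLocus.isLocallyConstructible_good hG U φ
  obtain ⟨O, hO, hOE⟩ := exists_open_of_generizations hE u (by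
    intro y hy
    have h1 : U.hom y = s := hs _ (hu ▸ hy.map U.hom.continuous)
    have h2 : y = u := eq_of_specializes_of_etale U.hom hy (h1.trans hu.symm)
    rw [h2]
    exact hφ)
  let k : U.left ⟶ S := U.hom
  have hk : Etale k := inferInstance
  let W : S.Opens := ⟨k '' (O : Set U.left), k.isOpenMap _ O.2⟩
  refine ⟨W, ⟨u, hO, hu⟩, ?_⟩
  rw [ConsFLC.isFLC_iff]
  rintro ⟨w, y, hy, hyw⟩
  let U' := EqLocus.openSub U O
  obtain ⟨z, hz1, hz2⟩ := Scheme.Pullback.exists_preimage_pullback (f := U'.hom) (g := W.ι)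
    (⟨y, hy⟩ : O.toScheme) ⟨w, y, hy, hyw⟩ hyw
  refine ⟨(EtCoh.bc W.ι).obj U', z, hz2, M, i1, i2,
    (eta W.ι G U').comp (resHom (EqLocus.openι U O) φ), fun v => ?_⟩
  rw [injAt_eta_iff, surjAt_eta_iff, injAt_res_iff, surjAt_res_iff]
  refine hOE ?_
  rw [← EqLocus.range_openι U O]
  exact ⟨_, rfl⟩

end Groth.Agent.Sga4h.GenULAFlc
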