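import Groth.Agent.Etrest.RDer1

/-!
# Abstract devissage for `F → R L F` iso and `R^q R (L F) = 0`

`L ⊣ R`, `L` exact, `R` additive, enough injectives. `Good adj F`: the unit is an isomorphism at `F` and
`R^q R (L F) = 0` for `q > 0`.

`devissage`: if every object of a class `C` embeds in a good object with cokernel in `P`, and the three
properties (unit mono, unit iso, `R^{q+1} R (L -) = 0`) pass from `C` to `P` (filtered colimits), then all
objects of `P` are good.
-/

set_option autoImplicit false
universe v v' u u'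
open CategoryTheory CategoryTheory.Limits

namespace Groth.Agent.Sga4h.AcycDev

open Groth.Agent.Etrest

variable {A : Type u} [Category.{v} A] [Abelian A] {B : Type u'} [Category.{v'} B] [Abelian B]
  [EnoughInjectives B] {L : A ⥤ B} {R : B ⥤ A} (adj : L ⊣ R) [R.Additive]

section

omit [EnoughInjectives B] [R.Additive] [Abelian A] [Abelian B] in
theorem mono_unit {X Y : A} (f : X ⟶ Y) [Mono f] (h : Mono (adj.unit.app Y)) :
    Mono (adj.unit.app X) := by
  have e : f ≫ adj.unit.app Y = adj.unit.app X ≫ R.map (L.map f) := adj.unit.naturality f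
  have : Mono (adj.unit.app X ≫ R.map (L.map f)) := by rw [← e]; infer_instance
  exact mono_of_mono _ (R.map (L.map f))

omit [EnoughInjectives B] in
theorem isIso_unit [L.Additive] [L.PreservesMonomorphisms] {S : ShortComplex A} (hS : S.ShortExact)
    (h2 : IsIso (adj.unit.app S.X₂)) (h3 : Mono (adj.unit.app S.X₃)) : IsIso (adj.unit.app S.X₁) := by
  have := hS.mono_f
  have hR : R.PreservesMonomorphisms := R.preservesMonomorphisms_of_adjunction adj
  have h1 : Mono (adj.unit.app S.X₁) := mono_unit adj S.f inferInstance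
  have ef : S.f ≫ adj.unit.app S.X₂ = adj.unit.app S.X₁ ≫ R.map (L.map S.f) :=
    adj.unit.naturality S.f
  have eg : S.g ≫ adj.unit.app S.X₃ = adj.unit.app S.X₂ ≫ R.map (L.map S.g) :=
    adj.unit.naturality S.g
  have hz : R.map (L.map S.f) ≫ R.map (L.map S.g) = 0 := by
    rw [← R.map_comp, ← L.map_comp, S.zero, L.map_zero, R.map_zero]
  set k := R.map (L.map S.f) with hk
  have hkm : Mono k := by rw [hk]; infer_instance
  have hkz : (k ≫ inv (adj.unit.app S.X₂)) ≫ S.g = 0 := by
    rw [← cancel_mono (adj.unit.app S.X₃), zero_comp, Category.assoc, eg, Category.assoc,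
      IsIso.inv_hom_id_assoc]
    exact hz
  have hl : hS.exact.lift (k ≫ inv (adj.unit.app S.X₂)) hkz ≫ S.f = k ≫ inv (adj.unit.app S.X₂) :=
    hS.exact.lift_f _ _
  set l := hS.exact.lift (k ≫ inv (adj.unit.app S.X₂)) hkz
  have hl2 : l ≫ adj.unit.app S.X₁ = 𝟙 _ := by
    rw [← cancel_mono k, Category.assoc, ← ef, ← Category.assoc, hl, Category.assoc,
      IsIso.inv_hom_id, Category.comp_id]
    exact (Category.id_comp k).symm
  refine ⟨l, ?_, hl2⟩
  rw [← cancel_mono (adj.unit.app S.X₁), Category.assoc, hl2]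
  exact (Category.comp_id _).trans (Category.id_comp _).symm

variable [PreservesFiniteLimits L] [PreservesFiniteColimits L] [L.Additive] [PreservesFiniteLimits R]

omit [L.Additive] in
theorem isZero_one {S : ShortComplex A} (hS : S.ShortExact) (h3 : Epi (adj.unit.app S.X₃))
    (h : IsZero ((R.rightDerived 1).obj (L.obj S.X₂))) :
    IsZero ((R.rightDerived 1).obj (L.obj S.X₁)) := by
  have hSL : (S.map L).ShortExact := hS.map_of_exact L
  have hg : Epi (R.map (L.map S.g)) := by
    have eg : S.g ≫ adj.unit.app S.X₃ = adj.unit.app S.X₂ ≫ R.map (L.map S.g) :=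
      adj.unit.naturality S.g
    have := hS.epi_g
    have : Epi (adj.unit.app S.X₂ ≫ R.map (L.map S.g)) := by rw [← eg]; infer_instance
    exact epi_of_epi (adj.unit.app S.X₂) _
  have hg' : Epi ((R.rightDerived 0).map (L.map S.g)) := by
    have e := R.rightDerivedZeroIsoSelf.hom.naturality (L.map S.g)
    have : (R.rightDerived 0).map (L.map S.g) =
        R.rightDerivedZeroIsoSelf.hom.app _ ≫ R.map (L.map S.g) ≫
          R.rightDerivedZeroIsoSelf.inv.app _ := by
      rw [← Category.assoc, ← e]
      simp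
    rw [this]
    infer_instance
  have hδ : RDer1.δ R hSL 0 = 0 := by
    have h0 := RDer1.comp_δ R hSL 0
    exact (cancel_epi ((R.rightDerived 0).map (L.map S.g))).1 (h0.trans comp_zero.symm)
  have h1 := RDer1.exact₁ R hSL 0
  exact h1.isZero_of_both_zeros hδ (h.eq_of_tgt _ _)

omit [L.Additive] [PreservesFiniteLimits R] in
theorem isZero_succ {S : ShortComplex A} (hS : S.ShortExact) (n : ℕ)
    (h : IsZero ((R.rightDerived (n + 1)).obj (L.obj S.X₂)))
    (h' : IsZero ((R.rightDerived n).obj (L.obj S.X₃))) :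
    IsZero ((R.rightDerived (n + 1)).obj (L.obj S.X₁)) :=
  RDer1.isZero_X₁ R (hS.map_of_exact L) n h' h

/-- the unit is an isomorphism at `F` and the higher derived functors of `R` vanish on `L F` -/
def Good (F : A) : Prop :=
  IsIso (adj.unit.app F) ∧ ∀ q : ℕ, 0 < q → IsZero ((R.rightDerived q).obj (L.obj F))

theorem devissage (C P : A → Prop)
    (hemb : ∀ F, C F → ∃ (G : A) (f : F ⟶ G), Mono f ∧ Good adj G ∧ P (cokernel f))
    (hmono : (∀ F, C F → Mono (adj.unit.app F)) → ∀ F, P F → Mono (adj.unit.app F))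
    (hiso : (∀ F, C F → IsIso (adj.unit.app F)) → ∀ F, P F → IsIso (adj.unit.app F))
    (hzero : ∀ q : ℕ, (∀ F, C F → IsZero ((R.rightDerived (q + 1)).obj (L.obj F))) →
      ∀ F, P F → IsZero ((R.rightDerived (q + 1)).obj (L.obj F)))
    (F : A) (hF : P F) : Good adj F := by
  have hS {F G : A} (f : F ⟶ G) [Mono f] :
      (ShortComplex.mk f (cokernel.π f) (cokernel.condition f)).ShortExact :=
    { exact := ShortComplex.exact_cokernel f
      mono_f := ‹Mono f›
      epi_g := inferInstanceAs (Epi (cokernel.π f)) }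
  have s1 : ∀ F, P F → Mono (adj.unit.app F) := hmono (fun F hF => by
    obtain ⟨G, f, hf, hG, -⟩ := hemb F hF
    have := hG.1
    exact mono_unit adj f inferInstance)
  have s2 : ∀ F, P F → IsIso (adj.unit.app F) := hiso (fun F hF => by
    obtain ⟨G, f, hf, hG, hc⟩ := hemb F hF
    exact isIso_unit adj (hS f) hG.1 (s1 _ hc))
  have s3 : ∀ q : ℕ, ∀ F, P F → IsZero ((R.rightDerived (q + 1)).obj (L.obj F)) := by
    intro q
    induction q with
    | zero =>
      refine hzero 0 (fun F hF => ?_)
      obtain ⟨G, f, hf, hG, hc⟩ := hemb F hF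
      have := hG.1
      have := s2 _ hc
      exact isZero_one adj (hS f) inferInstance (hG.2 1 one_pos)
    | succ q ih =>
      refine hzero (q + 1) (fun F hF => ?_)
      obtain ⟨G, f, hf, hG, hc⟩ := hemb F hF
      exact isZero_succ (hS f) (q + 1) (hG.2 _ (Nat.succ_pos _)) (ih _ hc)
  refine ⟨s2 F hF, fun q hq => ?_⟩
  obtain ⟨q, rfl⟩ := Nat.exists_eq_succ_of_ne_zero hq.ne'
  exact s3 q F hF

end

end Groth.Agent.Sga4h.AcycDev
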