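import Groth.Agent.Sga4h.PointConst

/-!
# Embedding constructible sheaves killed by `n` into sums of `t_* (Z/n)^m`
-/

set_option autoImplicit false
universe u v

open CategoryTheory CategoryTheory.Limits AlgebraicGeometry Opposite IsLocalRing

namespace Groth.Agent.Sga4h.PtEmbed

open Groth.Agent.Etbase Groth.Agent.Sga4h.PointConst Groth.Agent.Sga4B

/-- characters with values in `Z/m` separate the elements of a group killed by `m` -/
theorem exists_hom_zmod {A : Type v} [AddCommGroup A] (m : ℕ) (hm : m ≠ 0)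
    (h : ∀ a : A, m • a = 0) (a : A) (ha : a ≠ 0) : ∃ φ : A →+ ZMod m, φ a ≠ 0 := by
  have : NeZero m := ⟨hm⟩
  obtain ⟨c, hc⟩ := CharacterModule.exists_character_apply_ne_zero_of_ne_zero ha
  let c' : A →+ AddCircle (1 : ℚ) := c
  have hk : ∀ x : A, ∃ z : ZMod m, Groth.Agent.Sga5.HcConst.zmodToCircle m z = c' x := fun x =>
    Groth.Agent.Sga5.HcConst.exists_zmodToCircle_eq m _ (by rw [← map_nsmul, h, map_zero])
  choose ψ hψ using hk
  let φ : A →+ ZMod m := AddMonoidHom.mk' ψ (by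
    intro x y
    apply Groth.Agent.Sga5.HcConst.zmodToCircle_injective m
    rw [map_add, hψ, hψ, hψ, map_add])
  refine ⟨φ, fun h0 => hc ?_⟩
  have h1 : Groth.Agent.Sga5.HcConst.zmodToCircle m (φ a) = c' a := hψ a
  rw [h0, map_zero] at h1
  exact h1.symm

/-- the value group -/
abbrev A (n : ℕ) : AddCommGrpCat.{u + 1} := AddCommGrpCat.of (ULift.{u + 1} (ZMod n))

theorem exists_mono_biproduct (M : AddCommGrpCat.{u + 1}) [Finite M] (n : ℕ) (hn : n ≠ 0)
    (h : ∀ x : M, n • x = 0) :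
    ∃ (r : ℕ) (φ : M ⟶ ⨁ fun _ : Fin r => A.{u} n), Mono φ := by
  obtain ⟨r, ⟨e⟩⟩ := Finite.exists_equiv_fin M
  have hex : ∀ i : Fin r, ∃ ψ : M →+ ZMod n, e.symm i ≠ 0 → ψ (e.symm i) ≠ 0 := by
    intro i
    by_cases hi : e.symm i = 0
    · exact ⟨0, fun h' => absurd hi h'⟩
    · obtain ⟨φ, hφ⟩ := exists_hom_zmod n hn h (e.symm i) hi
      exact ⟨φ, fun _ => hφ⟩
  choose ψ hψ using hex
  let φ (i : Fin r) : M ⟶ A.{u} n :=
    AddCommGrpCat.ofHom ((AddEquiv.ulift.symm : ZMod n ≃+ ULift.{u + 1, 0} (ZMod n)).toAddMonoidHom.comp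
      (ψ i))
  refine ⟨r, biproduct.lift φ, ?_⟩
  rw [AddCommGrpCat.mono_iff_injective]
  refine (injective_iff_map_eq_zero _).2 fun x hx => ?_
  by_contra hne
  have h1 : φ (e x) x = 0 := by
    have h2 := biproduct.lift_π φ (e x)
    rw [← h2]
    change (biproduct.π (fun _ : Fin r => A.{u} n) (e x)) ((biproduct.lift φ) x) = 0
    rw [hx, map_zero]
  refine hψ (e x) (by rwa [e.symm_apply_apply]) ?_
  rw [e.symm_apply_apply]
  exact congrArg ULift.down h1

variable {Y : Scheme.{u}}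

/-- the constant sheaf with value `(Z/n)^r` on `Spec K` -/
noncomputable abbrev cst (K : Type u) [Field K] (n r : ℕ) : EtCoh.Ab (Spec (CommRingCat.of K)) :=
  (constantSheaf (Spec (CommRingCat.of K)).smallEtaleTopology AddCommGrpCat.{u + 1}).obj
    (⨁ fun _ : Fin r => A.{u} n)

theorem exists_mono_pull {K : Type u} [Field K] [IsSepClosed K] (t : Spec (CommRingCat.of K) ⟶ Y)
    (F : EtCoh.Ab Y) (hF : EtPBC.IsConstructible F) (n : ℕ) (hn : n ≠ 0) (hFn : EtCoh.KilledBy n F) :
    ∃ (r : ℕ) (φ : (EtCoh.pull t).obj F ⟶ cst K n r), Mono φ := by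
  let G : EtCoh.Ab (Spec (CommRingCat.of K)) := (EtCoh.pull t).obj F
  have hG : EtCoh.KilledBy n G := ShriekTools.killedBy_pull t n F hFn
  have hfin : Finite (G.obj.obj (op (EtCoh.top (Spec (CommRingCat.of K))))) := by
    have h1 := Groth.Agent.EtpbcB.GeomPointIndep.finite_stalk_of_constructible
      (StrictHensPoint.pt K ≫ t) F hF
    have e1 := ((StalkPull.stalkPullIso t (StrictHensPoint.pt K)).app F).addCommGroupIsoToAddEquiv
    have h2 : Finite ((EtCoh.stalk (StrictHensPoint.pt K)).obj G) := Finite.of_equiv _ e1.toEquiv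
    let e2 : G.obj.obj (op (EtCoh.top (Spec (CommRingCat.of K)))) ≃
      (EtCoh.stalk (StrictHensPoint.pt K)).obj G := (asIso (g G.obj)).addCommGroupIsoToAddEquiv.toEquiv
    exact Finite.of_equiv _ e2.symm
  obtain ⟨r, φ, hφ⟩ := exists_mono_biproduct (G.obj.obj (op (EtCoh.top (Spec (CommRingCat.of K))))) n hn
    (fun x => hG _ x)
  have := Groth.Agent.EtpbcB.ConstKer.preservesFiniteLimits_constantSheaf (Spec (CommRingCat.of K))
  refine ⟨r, inv ((adj (K := K)).counit.app G) ≫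
    (constantSheaf (Spec (CommRingCat.of K)).smallEtaleTopology AddCommGrpCat.{u + 1}).map φ, ?_⟩
  infer_instance

/-- constructible sheaves killed by `n` embed in finite sums of sheaves `t_* (Z/n)^m`; the geometric points
`t y` over the points `y` can be chosen in advance. -/
theorem exists_embedding [IsNoetherian Y] (K : Y → Type u) [∀ y, Field (K y)] [∀ y, IsSepClosed (K y)]
    (t : ∀ y, Spec (CommRingCat.of (K y)) ⟶ Y) (ht : ∀ y, t y default = y)
    (F : EtCoh.Ab Y) (hF : EtPBC.IsConstructible F) (n : ℕ)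
    (hn : n ≠ 0) (hFn : EtCoh.KilledBy n F) :
    ∃ (r : ℕ) (y : Fin r → Y) (m : Fin r → ℕ)
      (φ : F ⟶ ⨁ fun k => (EtCoh.push (t (y k))).obj (cst _ n (m k))), Mono φ := by
  obtain ⟨S, hS, hS'⟩ := ConsEmbed.exists_finite_points F hF
  obtain ⟨r, y, -, hy⟩ := hS.fin_param
  choose m φ hφ using fun k : Fin r => exists_mono_pull (t (y k)) F hF n hn hFn
  refine ⟨r, y, m, biproduct.lift (fun k => (EtCoh.pullPushAdj (t (y k))).unit.app F ≫
    (EtCoh.push (t (y k))).map (φ k)), ?_⟩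
  set Φ := biproduct.lift (fun k => (EtCoh.pullPushAdj (t (y k))).unit.app F ≫
    (EtCoh.push (t (y k))).map (φ k)) with hΦ
  apply (sheafToPresheaf Y.smallEtaleTopology AddCommGrpCat.{u + 1}).mono_of_mono_map
  rw [NatTrans.mono_iff_mono_app]
  intro U
  rw [AddCommGrpCat.mono_iff_injective]
  refine (injective_iff_map_eq_zero _).2 fun s hs => ?_
  by_contra hne
  obtain ⟨u, hu, hu'⟩ := hS' U.unop s hne
  rw [← hy] at hu'
  obtain ⟨k, hk⟩ := hu'
  refine ConsEmbed.unit_ne_zero F U.unop s (t (y k)) u hu (hk.symm.trans (ht _).symm) ?_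
  have hinj : Function.Injective (((EtCoh.push (t (y k))).map (φ k)).hom.app U) := by
    have h1 : Mono ((sheafToPresheaf Y.smallEtaleTopology AddCommGrpCat.{u + 1}).map
      ((EtCoh.push (t (y k))).map (φ k))) := inferInstance
    rw [NatTrans.mono_iff_mono_app] at h1
    exact (AddCommGrpCat.mono_iff_injective _).1 (h1 U)
  apply hinj
  rw [map_zero]
  have h3 : Φ ≫ biproduct.π (fun k => (EtCoh.push (t (y k))).obj (cst _ n (m k))) k =
      (EtCoh.pullPushAdj (t (y k))).unit.app F ≫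
    (EtCoh.push (t (y k))).map (φ k) := biproduct.lift_π _ _
  have h4 : (Φ ≫ biproduct.π (fun k => (EtCoh.push (t (y k))).obj (cst _ n (m k))) k).hom.app U s = 0 := by
    change (biproduct.π (fun k => (EtCoh.push (t (y k))).obj (cst _ n (m k))) k).hom.app U
      (Φ.hom.app U s) = 0
    have h5 : Φ.hom.app U s = 0 := hs
    rw [h5, map_zero]
  rw [h3] at h4
  exact h4

end Groth.Agent.Sga4h.PtEmbed
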