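import Groth.Agent.Sga4A.IntegralSection
import Groth.Agent.Sga3C.DimTop
import Groth.Agent.Etbase.EtSections
import Groth.Agent.Desc.LQF
import Mathlib.AlgebraicGeometry.Morphisms.QuasiFinite
import Mathlib.CategoryTheory.Functor.ReflectsIso.Balanced

/-!
# The direct image along an integral morphism reflects zero sheaves
-/

set_option autoImplicit false
universe u

open CategoryTheory CategoryTheory.Limits AlgebraicGeometry Opposite

namespace Groth.Agent.Sga4h.IntPushZero

open Groth.Agent.Etbase Groth.Agent.Sga4A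

/-- étale neighbourhoods can be shrunk so that the fibre is one point -/
theorem exists_singleton_fibre {T : Scheme.{u}} (W : T.Etale) (w : W.left) :
    ∃ (W' : T.Etale) (g : W' ⟶ W) (w' : W'.left), g.left w' = w ∧
      ∀ w'' : W'.left, W'.hom w'' = W'.hom w' → w'' = w' := by
  have h0 : AlgebraicGeometry.Etale W.hom := W.prop
  have h00 : LocallyQuasiFinite W.hom := Desc.LQF.of_etale W.hom
  have h1 := W.hom.isDiscrete_preimage_singleton (W.hom w)
  obtain ⟨U, hU, hUw⟩ := isDiscrete_iff_forall_mem_exists_isOpen.1 h1 w rfl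
  let U' : W.left.Opens := ⟨U, hU⟩
  have hwU : w ∈ U' := by
    have : w ∈ U ∩ W.hom ⁻¹' {W.hom w} := by rw [hUw]; rfl
    exact this.1
  refine ⟨Scheme.Etale.mk (U'.ι ≫ W.hom), MorphismProperty.Over.homMk U'.ι rfl trivial,
    ⟨w, hwU⟩, rfl, fun w'' hw'' => ?_⟩
  have h2 : (w''.1 : W.left) ∈ U ∩ W.hom ⁻¹' {W.hom w} := ⟨w''.2, hw''⟩
  rw [hUw] at h2
  exact Subtype.ext h2

theorem vanishesAt {T S : Scheme.{u}} (π : T ⟶ S) [IsIntegralHom π] (F : EtCoh.Ab T)
    (h : IsZero ((EtCoh.push π).obj F)) (W : T.Etale) (s : EtCoh.sect F W) (w : W.left)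
    (hw : ∀ w' : W.left, W.hom w' = W.hom w → w' = w) : EtSections.VanishesAt F W s w := by
  let t : T := W.hom w
  let U : T.Opens := ⟨(closure {t})ᶜ, isClosed_closure.isOpen_compl⟩
  let A : ULift.{u} Bool → T.Etale := fun b => if b.down then W else Scheme.Etale.mk U.ι
  let s' : ∀ b, EtCoh.sect F (A b) := fun b => match b with
    | ⟨true⟩ => s
    | ⟨false⟩ => 0
  obtain ⟨σs, hσs, -⟩ := PushExact.existsUnique_sig A F s'
  let Ω : Type u := SeparableClosure (S.residueField (π t))
  let ξ : Spec (.of Ω) ⟶ S := Spec.map (CommRingCat.ofHom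
    (algebraMap (S.residueField (π t)) Ω)) ≫ S.fromSpecResidueField (π t)
  have hξ : ξ default = π t := by
    rw [Scheme.Hom.comp_apply]
    exact Scheme.fromSpecResidueField_apply _ _
  have h0 : AlgebraicGeometry.Etale (PushExact.sig A).hom := (PushExact.sig A).prop
  have hfib : ∀ x : T, π x = ξ default → x ∈ Set.range (PushExact.sig A).hom := by
    intro x hx
    rw [hξ] at hx
    by_cases hxt : x = t
    · subst hxt
      refine ⟨(PushExact.sigι A ⟨true⟩).left w, ?_⟩
      exact congrArg (fun k : W.left ⟶ T => k w) (Over.w (PushExact.sigι A ⟨true⟩).hom)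
    · have hxU : x ∈ U := by
        intro hx'
        have h1 : t ⤳ x := specializes_iff_mem_closure.2 hx'
        exact hxt (Sga3C.DimTop.eq_of_specializes_of_isIntegralHom π t x h1 hx.symm).symm
      refine ⟨(PushExact.sigι A ⟨false⟩).left ⟨x, hxU⟩, ?_⟩
      exact congrArg (fun k : (U : Scheme.{u}) ⟶ T => k ⟨x, hxU⟩)
        (Over.w (PushExact.sigι A ⟨false⟩).hom)
  obtain ⟨N, g, hg, l, hl, hN⟩ := EtSplit.exists_etale_factor π (PushExact.sig A).hom ξ hfib
  let V : S.Etale := Scheme.Etale.mk g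
  obtain ⟨σ, hσ⟩ := hN ((EtCoh.bc π).obj V).left (pullback.snd V.hom π) (pullback.fst V.hom π)
    pullback.condition.symm
  let σ' : (EtCoh.bc π).obj V ⟶ PushExact.sig A := MorphismProperty.Over.homMk σ hσ trivial
  have hz : F.obj.map σ'.op σs = 0 := by
    have h1 : Subsingleton (((EtCoh.push π).obj F).obj.obj (op V)) := by
      have h2 : IsZero (((EtCoh.push π).obj F).obj.obj (op V)) :=
        ((sheafToPresheaf _ _ ⋙ (evaluation _ _).obj (op V)).map_isZero h)
      exact AddCommGrpCat.subsingleton_of_isZero h2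
    exact h1.elim _ _
  have hgl : g (l default) = π t := by
    refine Eq.trans ?_ hξ
    exact congrArg (fun k : Spec (.of Ω) ⟶ S => k default) hl
  obtain ⟨z, -, hz2⟩ := Scheme.Pullback.exists_preimage_pullback (f := V.hom) (g := π)
    (l default) t hgl
  have hzt : (PushExact.sig A).hom (σ z) = t := by
    rw [← Scheme.Hom.comp_apply, hσ]
    exact hz2
  obtain ⟨⟨b⟩, y, hy⟩ := PushExact.sig_exists A (σ z)
  have hyt : (A ⟨b⟩).hom y = t := by
    rw [← hzt, ← hy]
    exact (congrArg (fun k : (A ⟨b⟩).left ⟶ T => k y) (Over.w (PushExact.sigι A ⟨b⟩).hom)).symm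
  cases b with
  | false =>
    exfalso
    have h1 : (y.1 : T) = t := hyt
    exact y.2 (by rw [h1]; exact subset_closure rfl)
  | true =>
    have hyw : y = w := hw y hyt
    have h1 : EtSections.VanishesAt F (PushExact.sig A) σs (σ z) := by
      have h2 := EtSections.vanishesAt_map_iff F σ' σs z
      rw [hz] at h2
      exact h2.1 (EtSections.vanishesAt_zero _ _ _)
    rw [← hy] at h1
    have h2 := (EtSections.vanishesAt_map_iff F (PushExact.sigι A ⟨true⟩) σs y).2 h1
    rw [hσs ⟨true⟩] at h2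
    rw [← hyw]
    exact h2

theorem isZero_of_isZero_push {T S : Scheme.{u}} (π : T ⟶ S) [IsIntegralHom π] (F : EtCoh.Ab T)
    (h : IsZero ((EtCoh.push π).obj F)) : IsZero F := by
  rw [IsZero.iff_id_eq_zero]
  apply Sheaf.hom_ext
  ext U s
  change s = 0
  apply EtSections.eq_zero_of_vanishesAt
  intro x
  obtain ⟨W', g, w', hw', hfib⟩ := exists_singleton_fibre U.unop x
  have h1 := vanishesAt π F h W' (F.obj.map g.op s) w' hfib
  rw [EtSections.vanishesAt_map_iff, hw'] at h1
  exact h1

theorem eq_zero_of_push_map_eq_zero {T S : Scheme.{u}} (π : T ⟶ S) [IsIntegralHom π]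
    {F G : EtCoh.Ab T} (φ : F ⟶ G) (h : (EtCoh.push π).map φ = 0) : φ = 0 := by
  have h1 : (EtCoh.push π).map (Abelian.factorThruImage φ) ≫
      (EtCoh.push π).map (Abelian.image.ι φ) = 0 := by
    rw [← Functor.map_comp, Abelian.image.fac, h]
  have h2 : Epi ((EtCoh.push π).map (Abelian.factorThruImage φ)) :=
    (EtSplit.refines_of_isIntegralHom π).epi_map _
  have h3 : Mono ((EtCoh.push π).map (Abelian.image.ι φ)) := inferInstance
  have h4 : (EtCoh.push π).map (Abelian.factorThruImage φ) = 0 :=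
    (cancel_mono ((EtCoh.push π).map (Abelian.image.ι φ))).1 (h1.trans zero_comp.symm)
  have h5 : IsZero ((EtCoh.push π).obj (Abelian.image φ)) := IsZero.of_epi_eq_zero _ h4
  have h6 : IsZero (Abelian.image φ) := isZero_of_isZero_push π _ h5
  rw [← Abelian.image.fac φ, h6.eq_zero_of_tgt (Abelian.factorThruImage φ), zero_comp]

/-- `π_*` is faithful, `π` integral -/
theorem faithful_push {T S : Scheme.{u}} (π : T ⟶ S) [IsIntegralHom π] :
    (EtCoh.push π).Faithful where
  map_injective {F G a b} h := by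
    rw [← sub_eq_zero]
    apply eq_zero_of_push_map_eq_zero π
    rw [Functor.map_sub, sub_eq_zero]
    exact h

/-- `π_*` reflects isomorphisms, `π` integral -/
theorem reflectsIsomorphisms_push {T S : Scheme.{u}} (π : T ⟶ S) [IsIntegralHom π] :
    (EtCoh.push π).ReflectsIsomorphisms := by
  have := faithful_push π
  exact reflectsIsomorphisms_of_reflectsMonomorphisms_of_reflectsEpimorphisms _

end Groth.Agent.Sga4h.IntPushZero
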