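import Groth.Agent.Sga4h.NcDefs
import Mathlib.CategoryTheory.Limits.Constructions.Over.Connected
import Mathlib.AlgebraicGeometry.Limits

/-!
# Cofiltered limits of étale maps (`NcDefs.LimEt`): ring version, composition, étale maps

* `LimEt_Spec`: the spectrum of an ind-étale ring map is a cofiltered limit of étale maps;
* `LimEt_comp`: composition (on the target side) with an étale map;
* `LimEt_of_etale`: étale maps;
* `LimEt_of_iso`: invariance under isomorphisms of the source.
-/

set_option autoImplicit false

universe u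

open CategoryTheory CategoryTheory.Limits AlgebraicGeometry Opposite
open Groth.Agent.Sga4h.NcDefs

namespace Groth.Agent.Sga4h.NcLimEt2

/-- (LE) -/
theorem LimEt_Spec (A B : Type u) [CommRing A] [CommRing B] [Algebra A B] (h : EtPBC.IsIndEtale A B) :
    LimEt (Spec.map (CommRingCat.ofHom (algebraMap A B))) := by
  obtain ⟨J, _, _, D, c, hc, hD, ⟨e⟩⟩ := h
  have hJ : IsConnected J := IsFiltered.isConnected J
  let D' : Jᵒᵖ ⥤ Over (Spec (CommRingCat.of A)) :=
    { obj j := Over.mk (Spec.map (D.obj j.unop).hom)
      map {i j} f := Over.homMk (Spec.map (D.map f.unop).right) (by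
        change Spec.map (D.map f.unop).right ≫ Spec.map (D.obj j.unop).hom = Spec.map (D.obj i.unop).hom
        rw [← Spec.map_comp, Under.w])
      map_id j := by
        apply Over.OverMorphism.ext
        change Spec.map (D.map (𝟙 j).unop).right = 𝟙 _
        rw [unop_id, D.map_id, Under.id_right, Spec.map_id]
      map_comp {i j k} f g := by
        apply Over.OverMorphism.ext
        change Spec.map (D.map (f ≫ g).unop).right = Spec.map (D.map f.unop).right ≫ Spec.map (D.map g.unop).right
        rw [unop_comp, D.map_comp, Under.comp_right, Spec.map_comp] }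
  have hcol : IsColimit ((Under.forget (CommRingCat.of A)).mapCocone c) := isColimitOfPreserves _ hc
  have hlim : IsLimit (Scheme.Spec.mapCone ((Under.forget (CommRingCat.of A)).mapCocone c).op) :=
    isLimitOfPreserves Scheme.Spec hcol.op
  -- the isomorphism `Spec B ≅ Spec c.pt`
  let ε : Spec (CommRingCat.of B) ≅ Spec c.pt.right :=
    Scheme.Spec.mapIso ((Under.forget _).mapIso e).op
  let π : (Functor.const Jᵒᵖ).obj (Spec (CommRingCat.of B)) ⟶ D' ⋙ Over.forget _ :=
    { app j := ε.hom ≫ Spec.map (c.ι.app j.unop).right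
      naturality {i j} f := by
        change 𝟙 _ ≫ ε.hom ≫ Spec.map (c.ι.app j.unop).right =
          (ε.hom ≫ Spec.map (c.ι.app i.unop).right) ≫ Spec.map (D.map f.unop).right
        rw [Category.id_comp, Category.assoc, ← Spec.map_comp, ← Under.comp_right, c.w] }
  refine ⟨Jᵒᵖ, inferInstance, inferInstance, D', π, ⟨?_⟩, ?_, ?_, ?_⟩
  · refine IsLimit.ofIsoLimit (r := Scheme.Spec.mapCone ((Under.forget (CommRingCat.of A)).mapCocone c).op) hlim ?_
    exact (Cone.ext ε fun j => rfl).symm
  · intro j
    have h1 := hD j.unop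
    change Etale (Spec.map (D.obj j.unop).hom)
    let _ := (D.obj j.unop).hom.hom.toAlgebra
    rw [show (D.obj j.unop).hom = CommRingCat.ofHom (algebraMap A (D.obj j.unop).right) from rfl]
    rw [HasRingHomProperty.Spec_iff (P := @Etale)]
    exact (RingHom.etale_algebraMap (R := A) (S := (D.obj j.unop).right)).2 h1
  · intro a b f
    change IsAffineHom (Spec.map (D.map f.unop).right)
    infer_instance
  · intro j
    change (ε.hom ≫ Spec.map (c.ι.app j.unop).right) ≫ Spec.map (D.obj j.unop).hom = _
    have h1 : (D.obj j.unop).hom ≫ (c.ι.app j.unop).right = c.pt.hom := Under.w (c.ι.app j.unop)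
    rw [Category.assoc, ← Spec.map_comp, h1]
    change Spec.map e.hom.right ≫ Spec.map c.pt.hom = _
    rw [← Spec.map_comp, Under.w]
    rfl

theorem LimEt_comp {X Y Z : Scheme.{u}} (g : X ⟶ Y) (u : Y ⟶ Z) (hg : LimEt g) [Etale u] : LimEt (g ≫ u) := by
  obtain ⟨J, _, _, D, π, ⟨hl⟩, hD, ha, hπ⟩ := hg
  refine ⟨J, inferInstance, inferInstance, D ⋙ Over.map u, π, ⟨hl⟩, ?_, ?_, ?_⟩
  · intro i
    have := hD i
    change Etale ((D.obj i).hom ≫ u)
    infer_instance
  · intro a b f
    exact ha f
  · intro i
    change π.app i ≫ (D.obj i).hom ≫ u = _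
    rw [reassoc_of% (hπ i)]

theorem LimEt_of_etale {X Y : Scheme.{u}} (g : X ⟶ Y) [Etale g] : LimEt g := by
  let D : Discrete PUnit.{u + 1} ⥤ Over Y := (Functor.const _).obj (Over.mk g)
  refine ⟨Discrete PUnit.{u + 1}, inferInstance, inferInstance, D, 𝟙 _, ⟨?_⟩, ?_, ?_, ?_⟩
  · exact
      { lift s := s.π.app ⟨⟨⟩⟩
        fac s j := by
          obtain ⟨⟨⟩⟩ := j
          exact Category.comp_id _
        uniq s m hm := by
          have := hm ⟨⟨⟩⟩
          exact (Category.comp_id m).symm.trans this }
  · intro i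
    change Etale g
    infer_instance
  · intro a b f
    change IsAffineHom (𝟙 X)
    infer_instance
  · intro i
    change 𝟙 X ≫ g = g
    exact Category.id_comp _

end Groth.Agent.Sga4h.NcLimEt2
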