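import Groth.Agent.Sga4h.NcPsi
import Groth.Agent.Sga4h.NcLimEt2
import Groth.Agent.S0127
import Groth.Agent.S0129
import Groth.Agent.EtpbcA.StrataGlob
import Groth.Agent.Sga4B.ShriekTools
import Mathlib.FieldTheory.IsSepClosed
import Mathlib.AlgebraicGeometry.PullbackCarrier
import Mathlib.AlgebraicGeometry.Morphisms.FiniteType

/-!
# Nearby cycles: reduction to affine schemes and the final statement (S3132)
-/

set_option autoImplicit false

universe u

open CategoryTheory CategoryTheory.Limits AlgebraicGeometry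

noncomputable section

namespace Groth.Agent.Sga4h.NcFinal

open Groth.Agent.Sga4h.NcTD Groth.Agent.Sga4h.NcDefs Groth.Agent.Sga4h.NcPsi

variable {n : ℕ}

/-- Fibre data exist. -/
theorem exists_fib (T : TD.{u} n) {X : Scheme.{u}} (f : X ⟶ Spec (CommRingCat.of T.R)) :
    Nonempty (Fib T f) :=
  ⟨{ XK := pullback f (SM (algebraMap T.R T.K))
     XL := pullback (pullback.snd f (SM (algebraMap T.R T.K))) (SM (algebraMap T.K T.L))
     Xs := pullback f (SM (IsLocalRing.residue T.R))
     jK := pullback.fst _ _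
     fK := pullback.snd _ _
     hK := IsPullback.of_hasPullback _ _
     c := pullback.fst _ _
     fL := pullback.snd _ _
     hL := IsPullback.of_hasPullback _ _
     i := pullback.fst _ _
     fs := pullback.snd _ _
     hs := IsPullback.of_hasPullback _ _ }⟩

/-- Psi transfer along limits of étale maps, in the form used here. -/
def PsiTransfer (n : ℕ) : Prop :=
  ∀ (T : TD.{u} n) {X X' : Scheme.{u}}
    (f : X ⟶ Spec (CommRingCat.of T.R)) (f' : X' ⟶ Spec (CommRingCat.of T.R))
    (g : X' ⟶ X) (_ : IsOpenImmersion g) (_ : g ≫ f = f') (D : Fib T f) (D' : Fib T f'),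
    ∃ (gK : D'.XK ⟶ D.XK) (gs : D'.Xs ⟶ D.Xs), gK ≫ D.jK = D'.jK ≫ g ∧ gs ≫ D.i = D'.i ≫ g ∧
      ∀ (F : EtCoh.Ab D.XK) (q : ℕ),
        Nonempty ((EtCoh.pull gs).obj (D.Psi F q) ≅ D'.Psi ((EtCoh.pull gK).obj F) q)

theorem isClosedImmersion_residue (T : TD.{u} n) :
    IsClosedImmersion (SM (IsLocalRing.residue T.R)) :=
  IsClosedImmersion.spec_of_surjective _ (IsLocalRing.residue_surjective)

theorem isPullback_gs {T : TD.{u} n} {X X' : Scheme.{u}}
    {f : X ⟶ Spec (CommRingCat.of T.R)} {f' : X' ⟶ Spec (CommRingCat.of T.R)}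
    {g : X' ⟶ X} (w : g ≫ f = f') (D : Fib T f) (D' : Fib T f') (gs : D'.Xs ⟶ D.Xs)
    (hgs : gs ≫ D.i = D'.i ≫ g) : IsPullback gs D'.i D.i g := by
  subst w
  have hr := isClosedImmersion_residue T
  have h1 : gs ≫ D.fs = D'.fs := by
    rw [← cancel_mono (SM (IsLocalRing.residue T.R)), Category.assoc, ← D.hs.w, ← D'.hs.w,
      reassoc_of% hgs]
  have h2 : IsPullback D'.i (gs ≫ D.fs) (g ≫ f) (SM (IsLocalRing.residue T.R)) := by
    rw [h1]
    exact D'.hs
  exact IsPullback.of_right h2.flip hgs D.hs.flip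

theorem isConstructible_of_pull_isOpenImmersion {X : Scheme.{u}} (F : EtCoh.Ab X) {ι : Type u}
    (U : ι → Scheme.{u}) (g : ∀ i, U i ⟶ X) [∀ i, IsOpenImmersion (g i)]
    (hcov : ∀ x : X, ∃ i, x ∈ Set.range (g i))
    (h : ∀ i, EtPBC.IsConstructible ((EtCoh.pull (g i)).obj F)) : EtPBC.IsConstructible F := by
  have hb : ∀ i, EtCoh.BCCont ((g i).opensRange).ι := fun i => EtCoh.bcCont _
  refine Groth.Agent.S0129.result F (fun i => (g i).opensRange) ?_ fun i => ?_
  · rw [eq_top_iff]
    intro x _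
    obtain ⟨i, hi⟩ := hcov x
    exact TopologicalSpace.Opens.mem_iSup.mpr ⟨i, hi⟩
  · have e : (g i).isoOpensRange.inv ≫ g i = ((g i).opensRange).ι := by
      rw [Iso.inv_comp_eq]
      simp
    have hb' : EtCoh.BCCont (g i).isoOpensRange.inv := EtCoh.bcCont _
    have h1 := Groth.Agent.S0127.result (g i).isoOpensRange.inv _ (h i)
    refine EtpbcA.StrataGlob.isConstructible_of_iso ?_ h1
    exact (EtCore.pullComp (g i).isoOpensRange.inv (g i)).symm.app F ≪≫ (EtCore.pullCongr e).app F

/-- (LOC) -/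
theorem NC_of_affine' (hpt : PsiTransfer.{u} n) (T : TD.{u} n)
    (h : ∀ (N : ℕ) (A : Type u) [CommRing A] [Algebra T.R A] (s : Fin N → A),
      Algebra.adjoin T.R (Set.range s) = ⊤ → NC T (SM (algebraMap T.R A)))
    {X : Scheme.{u}} (f : X ⟶ Spec (CommRingCat.of T.R)) [LocallyOfFiniteType f] : NC T f := by
  intro D F hF hFn q
  let A : X.affineOpens → Type u := fun U => Γ(X, U.1)
  let u : ∀ U : X.affineOpens, Spec (CommRingCat.of (A U)) ⟶ X := fun U => U.2.fromSpec
  let φ : ∀ U : X.affineOpens, T.R →+* A U := fun U => (Spec.preimage (u U ≫ f)).hom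
  have hφ : ∀ U, SM (φ U) = u U ≫ f := fun U => Spec.map_preimage _
  have hNC : ∀ U : X.affineOpens, NC T (SM (φ U)) := by
    intro U
    let _ : Algebra T.R (A U) := (φ U).toAlgebra
    have hft : Algebra.FiniteType T.R (A U) := by
      have h1 : LocallyOfFiniteType (Spec.map (CommRingCat.ofHom (algebraMap T.R (A U)))) := by
        have : Spec.map (CommRingCat.ofHom (algebraMap T.R (A U))) = u U ≫ f := hφ U
        rw [this]
        infer_instance
      rw [HasRingHomProperty.Spec_iff (P := @LocallyOfFiniteType)] at h1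
      exact h1
    obtain ⟨s, hs⟩ := hft.out
    refine h s.card (A U) (fun i => (s.equivFin.symm i : A U)) ?_
    rw [← hs]
    congr 1
    ext x
    constructor
    · rintro ⟨i, rfl⟩
      exact (s.equivFin.symm i).2
    · intro hx
      exact ⟨s.equivFin ⟨x, hx⟩, by simp⟩
  let D' : ∀ U, Fib T (SM (φ U)) := fun U => (exists_fib T (SM (φ U))).some
  choose gK gs h1 h2 h3 using fun U =>
    hpt T f (SM (φ U)) (u U) inferInstance (hφ U).symm D (D' U)
  have hsq : ∀ U, IsPullback (gs U) (D' U).i D.i (u U) := fun U =>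
    isPullback_gs (hφ U).symm D (D' U) (gs U) (h2 U)
  have hop : ∀ U, IsOpenImmersion (gs U) := fun U =>
    MorphismProperty.of_isPullback (P := @IsOpenImmersion) (hsq U).flip inferInstance
  refine isConstructible_of_pull_isOpenImmersion (D.Psi F q) (fun U => (D' U).Xs) gs ?_ ?_
  · intro x
    obtain ⟨U, hU, hxU, -⟩ := exists_isAffineOpen_mem_and_subset (x := D.i x) (U := ⊤) trivial
    refine ⟨⟨U, hU⟩, ?_⟩
    have hr : D.i x ∈ Set.range (u ⟨U, hU⟩) := by
      change D.i x ∈ Set.range hU.fromSpec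
      rw [hU.range_fromSpec]
      exact hxU
    obtain ⟨y, hy⟩ := hr
    obtain ⟨z, hz1, hz2⟩ := Scheme.Pullback.exists_preimage_pullback (f := D.i) (g := u ⟨U, hU⟩)
      x y hy.symm
    refine ⟨(hsq ⟨U, hU⟩).isoPullback.inv z, ?_⟩
    rw [← Scheme.Hom.comp_apply, IsPullback.isoPullback_inv_fst]
    exact hz1
  · intro U
    obtain ⟨e⟩ := h3 U F q
    refine EtpbcA.StrataGlob.isConstructible_of_iso e.symm ?_
    have hb : EtCoh.BCCont (gK U) := EtCoh.bcCont _
    exact hNC U (D' U) _ (Groth.Agent.S0127.result (gK U) F hF)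
      (Sga4B.ShriekTools.killedBy_pull (gK U) n F hFn) q

theorem rootClosed_of_isSepClosed (n : ℕ) (R K Ω : Type u) [CommRing R] [Field K] [Algebra R K]
    [Field Ω] [Algebra K Ω] [Algebra R Ω] [IsSepClosed Ω] (hn : IsUnit (n : R)) :
    RootClosed n R Ω := by
  intro π _ l hl hln a
  have h1 : (n : Ω) ≠ 0 := by
    have := hn.map (algebraMap R Ω)
    rw [map_natCast] at this
    exact this.ne_zero
  have h2 : (l : Ω) ≠ 0 := by
    rintro h0
    obtain ⟨m, rfl⟩ := hln
    rw [Nat.cast_mul, h0, zero_mul] at h1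
    exact h1 rfl
  have h3 : NeZero (((l ^ a : ℕ) : ℕ) : Ω) := ⟨by
    rw [Nat.cast_pow]
    exact pow_ne_zero _ h2⟩
  exact IsSepClosed.exists_pow_nat_eq (algebraMap R Ω π) (l ^ a)

/-- (FINAL) -/
theorem final
    (h : ∀ (n : ℕ) (T : TD.{u} n) {X : Scheme.{u}} (f : X ⟶ Spec (CommRingCat.of T.R)) [LocallyOfFiniteType f]
      [QuasiCompact f], NC T f)
    (R K Ω : Type u) [CommRing R] [IsDomain R] [IsDiscreteValuationRing R]
    (hR : EtCoh.IsStrictlyHenselianLocalRing R) [Field K] [Algebra R K] [IsFractionRing R K] [Field Ω] [Algebra K Ω]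
    [IsSepClosure K Ω] (n : ℕ) (hn : IsUnit (n : R)) {X : Scheme.{u}} (f : X ⟶ Spec (CommRingCat.of R))
    [LocallyOfFiniteType f] [QuasiCompact f]
    (c : pullback f (Spec.map (CommRingCat.ofHom ((algebraMap K Ω).comp (algebraMap R K)))) ⟶
      pullback f (Spec.map (CommRingCat.ofHom (algebraMap R K))))
    (hc₁ : c ≫ pullback.fst f _ = pullback.fst f _)
    (hc₂ : c ≫ pullback.snd f _ = pullback.snd f _ ≫ Spec.map (CommRingCat.ofHom (algebraMap K Ω)))
    (F : EtCoh.Ab (pullback f (Spec.map (CommRingCat.ofHom (algebraMap R K))))) (hF : EtPBC.IsConstructible F)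
    (hFn : EtCoh.KilledBy n F) (q : ℕ) :
    EtPBC.IsConstructible
      ((EtCoh.pull (pullback.fst f (Spec.map (CommRingCat.ofHom (IsLocalRing.residue R))))).obj
        ((EtCoh.Rpush (pullback.fst f (Spec.map (CommRingCat.ofHom ((algebraMap K Ω).comp (algebraMap R K))))) q).obj
          ((EtCoh.pull c).obj F))) := by
  have hsep : Algebra.IsSeparable K Ω := IsSepClosure.separable
  have hcl : IsSepClosed Ω := IsSepClosure.sep_closed K
  let _ : Algebra R Ω := ((algebraMap K Ω).comp (algebraMap R K)).toAlgebra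
  have htow : IsScalarTower R K Ω := IsScalarTower.of_algebraMap_eq fun _ => rfl
  let T : TD.{u} n :=
    { R := R
      K := K
      L := Ω
      hR := hR
      hn := hn
      hrc := rootClosed_of_isSepClosed n R K Ω hn }
  have hL : IsPullback c (pullback.snd f (Spec.map (CommRingCat.ofHom ((algebraMap K Ω).comp (algebraMap R K)))))
      (pullback.snd f (Spec.map (CommRingCat.ofHom (algebraMap R K))))
      (Spec.map (CommRingCat.ofHom (algebraMap K Ω))) := by
    have h1 := IsPullback.of_hasPullback f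
      (Spec.map (CommRingCat.ofHom ((algebraMap K Ω).comp (algebraMap R K))))
    have h2 := IsPullback.of_hasPullback f (Spec.map (CommRingCat.ofHom (algebraMap R K)))
    have h3 : Spec.map (CommRingCat.ofHom ((algebraMap K Ω).comp (algebraMap R K))) =
        Spec.map (CommRingCat.ofHom (algebraMap K Ω)) ≫ Spec.map (CommRingCat.ofHom (algebraMap R K)) := by
      rw [← Spec.map_comp, ← CommRingCat.ofHom_comp]
    have h4 : IsPullback (c ≫ pullback.fst f (Spec.map (CommRingCat.ofHom (algebraMap R K))))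
        (pullback.snd f (Spec.map (CommRingCat.ofHom ((algebraMap K Ω).comp (algebraMap R K)))))
        f (Spec.map (CommRingCat.ofHom (algebraMap K Ω)) ≫
          Spec.map (CommRingCat.ofHom (algebraMap R K))) := by
      rw [hc₁, ← h3]
      exact h1
    exact (IsPullback.of_bot h4.flip hc₂.symm h2.flip).flip
  let D : Fib T f :=
    { XK := pullback f (Spec.map (CommRingCat.ofHom (algebraMap R K)))
      XL := pullback f (Spec.map (CommRingCat.ofHom ((algebraMap K Ω).comp (algebraMap R K))))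
      Xs := pullback f (Spec.map (CommRingCat.ofHom (IsLocalRing.residue R)))
      jK := pullback.fst _ _
      fK := pullback.snd _ _
      hK := IsPullback.of_hasPullback _ _
      c := c
      fL := pullback.snd _ _
      hL := hL
      i := pullback.fst _ _
      fs := pullback.snd _ _
      hs := IsPullback.of_hasPullback _ _ }
  have h5 := h n T f D F hF hFn q
  change EtPBC.IsConstructible
      ((EtCoh.pull (pullback.fst f (Spec.map (CommRingCat.ofHom (IsLocalRing.residue R))))).obj
        ((EtCoh.Rpush (c ≫ pullback.fst f (Spec.map (CommRingCat.ofHom (algebraMap R K)))) q).obj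
          ((EtCoh.pull c).obj F))) at h5
  rw [hc₁] at h5
  exact h5

end Groth.Agent.Sga4h.NcFinal
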