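import Groth.Agent.Sga4h.BidConSky48
import Groth.Agent.EtpbcA.Present2
import Groth.Agent.EtpbcA.ConsExact
import Groth.Agent.EtpbcA.NoethSub
import Groth.Agent.CurvesA.BdMap
import Groth.Agent.S0133
import Groth.Agent.S0128
import Groth.Agent.S0101

/-!
# Constructibility from the pullbacks to finitely many schemes covering the non-closed points (abelian sheaves)

`X` of finite type over a separably closed field, `g i : X' i ⟶ X` a finite family of morphisms whose images cover
all non-closed points. An abelian sheaf `F` on the small étale site of `X` killed by some `n > 0` is constructible if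
all the inverse images `(g i)⁻¹ F` are constructible, `F(X)` is finite and `H¹(X, G)` is finite for every constructible
sheaf `G` killed by `n`.
-/

set_option autoImplicit false
universe u

open CategoryTheory CategoryTheory.Limits AlgebraicGeometry Opposite TopologicalSpace

namespace Groth.Agent.Sga4h.BidCon48

open Groth.Agent.Etbase Groth.Agent.Etcore Groth.Agent.EtpbcA Groth.Agent.EtpbcA.ConsVan
open Groth.Agent.EtpbcA.StalkTools Groth.Agent.EtpbcA.FinType Groth.Agent.EtpbcA.Present
open Groth.Agent.CurvesA.BdMap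

variable {X : Scheme.{u}}

/-- Some finite family of local sections of `F` generates `F` at all the points of the images. -/
theorem exists_fam {n : ℕ} (F : EtCoh.Ab X) (hFn : EtCoh.KilledBy n F) {ι : Type*} [Finite ι]
    (X' : ι → Scheme.{u}) (g : ∀ i, X' i ⟶ X) [∀ i, CompactSpace (X' i)] [∀ i, QuasiSeparatedSpace (X' i)]
    (hF : ∀ i, EtPBC.IsConstructible ((EtCoh.pull (g i)).obj F)) :
    ∃ a : Fam F n, ∀ i, Epi ((EtCoh.pull (g i)).map a.map) := by
  classical
  have h1 : ∀ i, ∃ a : Fam F n, Epi ((EtCoh.pull (g i)).map a.map) := fun i => by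
    refine exists_epi_of_strata ((S0128.result _ _).1 (hF i)) (fun a : Fam F n => (EtCoh.pull (g i)).map a.map)
      (fun a b hab => ?_) (locIm_pull (g i) _ (Fam.locIm hFn))
    obtain ⟨h, hh⟩ := Fam.exists_hom hab
    exact ⟨(EtCoh.pull (g i)).map h, by rw [← Functor.map_comp, hh]⟩
  choose a ha using h1
  have := Fintype.ofFinite ι
  obtain ⟨b, hb⟩ := Finset.exists_le (Finset.univ.image a)
  refine ⟨b, fun i => ?_⟩
  obtain ⟨h, hh⟩ := Fam.exists_hom (hb _ (Finset.mem_image_of_mem _ (Finset.mem_univ i)))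
  have := ha i
  rw [← hh, Functor.map_comp] at this
  exact epi_of_epi ((EtCoh.pull (g i)).map h) _

/-- If the inverse image of `φ` along `f` is an epimorphism, every section of the cokernel of `φ` vanishes near all points
above the image of `f`. -/
theorem van_cokernel {Y : Scheme.{u}} (f : Y ⟶ X) {G F : EtCoh.Ab X} (φ : G ⟶ F)
    (h : Epi ((EtCoh.pull f).map φ)) (U : X.Etale) (s : EtCoh.sect (cokernel φ) U) (v : U.left)
    (hv : U.hom v ∈ Set.range f) : Van (cokernel φ) s v := by
  obtain ⟨y, hy⟩ := hv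
  obtain ⟨Ω, _, _, ξ, hξ⟩ := exists_geomPt y
  have h1 : Function.Surjective ((EtCoh.stalk (ξ ≫ f)).map φ) := (epi_pull_iff_stalk f φ).1 h Ω ξ
  -- lift `s` locally along `cokernel.π`
  obtain ⟨V, g, w, rfl, t, ht⟩ := (epi_iff_locIm (cokernel.π φ)).1 inferInstance U s v
  have hV : Etale V.hom := V.prop
  obtain ⟨l, hl, hl'⟩ := Scheme.exists_fac_of_etale_of_isSepClosed V.hom (ξ ≫ f) w (by
    rw [Scheme.Hom.comp_apply, hξ, hy]
    exact (Cover.hom_apply g w).symm)
  let x : (Scheme.pointSmallEtale (ξ ≫ f)).fiber.obj V := Over.homMk l hl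
  obtain ⟨W, k, w', hw', r, hr⟩ : LocIm φ t (fibPt (ξ ≫ f) x) := (locIm_iff (ξ ≫ f) φ t x).2 (h1 _)
  have hx : fibPt (ξ ≫ f) x = w := hl'
  rw [hx] at hw'
  refine ⟨W, k ≫ g, w', ?_, ?_⟩
  · rw [← hw']
    rfl
  · rw [res_comp]
    have e1 : res (cokernel φ) g s = (cokernel.π φ).hom.app (op V) t := ht.symm
    have e2 : res F k t = φ.hom.app (op W) r := hr.symm
    have e3 : res (cokernel φ) k ((cokernel.π φ).hom.app (op V) t) =
        (cokernel.π φ).hom.app (op W) (res F k t) := res_naturality _ _ _
    rw [e1, e3, e2]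
    have e4 := congrArg (fun (z : G ⟶ cokernel φ) => z.hom.app (op W) r) (cokernel.condition φ)
    exact e4

/-- finiteness of the global sections of the third term of a short exact sequence -/
theorem finite_sect_of_shortExact {S : ShortComplex (EtCoh.Ab X)} (hS : S.ShortExact)
    (h0 : Finite (EtCoh.sect S.X₂ (EtCoh.top X))) (h1 : Finite (EtCoh.H X S.X₁ 1)) :
    Finite (EtCoh.sect S.X₃ (EtCoh.top X)) := by
  let φ : EtCoh.sect S.X₂ (EtCoh.top X) →+ EtCoh.sect S.X₃ (EtCoh.top X) :=
    (S.g.hom.app (op (EtCoh.top X))).hom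
  have hker : (bd hS).ker = φ.range := by
    ext s
    rw [AddMonoidHom.mem_ker, bd_eq_zero_iff]
    rfl
  have hr : Finite φ.range := Finite.of_surjective _ φ.rangeRestrict_surjective
  have hk : Finite (bd hS).ker := by
    rw [hker]
    exact hr
  have hq : Finite (bd hS).range := inferInstance
  have hq' : Finite (EtCoh.sect S.X₃ (EtCoh.top X) ⧸ (bd hS).ker) :=
    Finite.of_equiv _ (QuotientAddGroup.quotientKerEquivRange (bd hS)).symm.toEquiv
  exact Finite.of_equiv _ (AddSubgroup.addGroupEquivQuotientProdAddSubgroup (s := (bd hS).ker)).symm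

/-- **Constructibility criterion (CON)** for abelian sheaves. -/
theorem isConstructible_of_pulls {k : Type u} [Field k] [IsSepClosed k] (a : X ⟶ Spec (.of k))
    [LocallyOfFiniteType a] [QuasiCompact a] {n : ℕ} (hn : 0 < n) (F : EtCoh.Ab X) (hFn : EtCoh.KilledBy n F)
    {ι : Type*} [Finite ι] (X' : ι → Scheme.{u}) (g : ∀ i, X' i ⟶ X)
    [∀ i, CompactSpace (X' i)] [∀ i, QuasiSeparatedSpace (X' i)]
    (hcov : ∀ x : X, (∀ i, x ∉ Set.range (g i)) → IsClosed {x})
    (hF : ∀ i, EtPBC.IsConstructible ((EtCoh.pull (g i)).obj F))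
    (h0 : Finite (EtCoh.sect F (EtCoh.top X)))
    (h1 : ∀ G : EtCoh.Ab X, EtCoh.KilledBy n G → EtPBC.IsConstructible G → Finite (EtCoh.H X G 1)) :
    EtPBC.IsConstructible F := by
  have : NeZero n := ⟨hn.ne'⟩
  have hN : IsNoetherian X := CurvesA.ClosedPtSep.isNoetherian a
  obtain ⟨b, hb⟩ := exists_fam F hFn X' g hF
  have hsrc : EtPBC.IsConstructible b.src := Present2.isConstructible_src hn b
  let φ : b.src ⟶ F := b.map
  have hker : EtPBC.IsConstructible (kernel φ) := NoethSub.isConstructible_of_mono (kernel.ι φ) hsrc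
  have him : EtPBC.IsConstructible (Abelian.coimage φ) :=
    ConsExact.isConstructible_cokernel _ hker hsrc
  have him' : EtPBC.IsConstructible (Abelian.image φ) :=
    StrataGlob.isConstructible_of_iso (asIso (Abelian.coimageImageComparison φ)) him
  let S : ShortComplex (EtCoh.Ab X) := ShortComplex.mk (Abelian.image.ι φ) (cokernel.π φ)
    (Abelian.image_ι_comp_eq_zero (cokernel.condition φ))
  have hS : S.ShortExact := {
    exact := ShortComplex.exact_of_f_is_kernel _ (kernelIsKernel (cokernel.π φ))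
    mono_f := inferInstanceAs (Mono (Abelian.image.ι φ))
    epi_g := inferInstanceAs (Epi (cokernel.π φ)) }
  refine ConsExact.isConstructible_extension hS him' ?_
  refine BidConSky48.isConstructible_of_finite (fun x hx => CurvesA.ClosedPtSep.isSepClosed_residueField a x hx)
    _ (fun U s v hv => ?_) (finite_sect_of_shortExact hS h0 (h1 _ ?_ him'))
  · obtain ⟨i, hi⟩ : ∃ i, U.hom v ∈ Set.range (g i) := by
      by_contra h
      exact hv (hcov _ fun i hi => h ⟨i, hi⟩)
    exact van_cokernel (g i) b.map (hb i) U s v hi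
  · exact killedBy_of_mono (Abelian.image.ι φ) hFn

end Groth.Agent.Sga4h.BidCon48
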