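import Groth.Agent.CohqB.ProjBC
import Groth.Agent.Ega3B.ProjProper
import Mathlib.AlgebraicGeometry.Morphisms.Immersion
import Mathlib.AlgebraicGeometry.Morphisms.Proper

/-!
# `Spec A`, `A` generated by `N` elements over `R`, is open in a proper `R`-scheme covered by `N + 1`
affine charts `Spec B_a`, with `B_a` generated by `N` elements over `R`
-/

set_option autoImplicit false
universe u

open CategoryTheory CategoryTheory.Limits AlgebraicGeometry MvPolynomial HomogeneousLocalization

namespace Groth.Agent.Sga4h.NcGeom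

open CohB1 CohqB.ProjBC

section

variable {R A : Type u} [CommRing R] [CommRing A] [Algebra R A] (N : ℕ) (s : Fin N → A)

/-- The polynomial map `T₀ ↦ 1`, `T_{j+1} ↦ s_j`. -/
noncomputable def ev : MvPolynomial (Fin (N + 1)) R →ₐ[R] A :=
  MvPolynomial.aeval (Fin.cons 1 s : Fin (N + 1) → A)

lemma ev_X_zero : ev (R := R) N s (X 0) = 1 := by simp [ev]

lemma ev_X_succ (j : Fin N) : ev (R := R) N s (X j.succ) = s j := by simp [ev]

lemma isUnit_ev : IsUnit ((ev (R := R) N s).toRingHom (X 0)) := by
  change IsUnit (ev (R := R) N s (X 0))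
  rw [ev_X_zero]
  exact isUnit_one

/-- The extension of `ev` to the localization. -/
noncomputable def evLoc : Localization.Away (X 0 : MvPolynomial (Fin (N + 1)) R) →+* A :=
  IsLocalization.Away.lift (X 0 : MvPolynomial (Fin (N + 1)) R) (isUnit_ev (R := R) N s)

lemma evLoc_algebraMap (f : MvPolynomial (Fin (N + 1)) R) :
    evLoc (R := R) N s (algebraMap _ _ f) = ev N s f :=
  IsLocalization.Away.lift_eq _ _ _

/-- The map of the first chart of `P^N_R` to `A`. -/
noncomputable def ψ : Away (polyGrading N R) (X 0 : MvPolynomial (Fin (N + 1)) R) →+* A :=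
  (evLoc (R := R) N s).comp (valHom N 0)

lemma ψ_awayAlg (r : R) : ψ (R := R) N s (awayAlg N (X 0) r) = algebraMap R A r := by
  change evLoc (R := R) N s (awayAlg N (X 0) r).val = _
  rw [val_awayAlg, evLoc_algebraMap]
  exact (ev (R := R) N s).commutes r

lemma ψ_X (j : Fin N) : ψ (R := R) N s (chartHom N 0 (X j.succ)) = s j := by
  change evLoc (R := R) N s (chartHom N 0 (X j.succ)).val = _
  rw [chartHom_val, MvPolynomial.eval₂_X, map_mul, evLoc_algebraMap, ev_X_succ]
  have h : (Localization.mk 1 ⟨X 0, Submonoid.mem_powers _⟩ :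
      Localization.Away (X 0 : MvPolynomial (Fin (N + 1)) R)) *
        algebraMap (MvPolynomial (Fin (N + 1)) R) _ (X 0) = 1 := by
    rw [← Localization.mk_one_eq_algebraMap, Localization.mk_mul]
    simp only [one_mul, mul_one]
    exact Localization.mk_self (⟨X 0, _⟩ : Submonoid.powers (X 0 : MvPolynomial (Fin (N + 1)) R))
  have h2 := congrArg (evLoc (R := R) N s) h
  rw [map_mul, evLoc_algebraMap, ev_X_zero, mul_one, map_one] at h2
  rw [h2, one_mul]

lemma ψ_surjective (hs : Algebra.adjoin R (Set.range s) = ⊤) :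
    Function.Surjective (ψ (R := R) N s) := by
  intro x
  have hx : x ∈ Algebra.adjoin R (Set.range s) := by rw [hs]; trivial
  induction hx using Algebra.adjoin_induction with
  | mem x hx =>
    obtain ⟨j, rfl⟩ := hx
    exact ⟨_, ψ_X N s j⟩
  | algebraMap r => exact ⟨_, ψ_awayAlg N s r⟩
  | add x y _ _ hx hy =>
    obtain ⟨a, rfl⟩ := hx
    obtain ⟨b, rfl⟩ := hy
    exact ⟨a + b, map_add _ _ _⟩
  | mul x y _ _ hx hy =>
    obtain ⟨a, rfl⟩ := hx
    obtain ⟨b, rfl⟩ := hy
    exact ⟨a * b, map_mul _ _ _⟩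

end

/-- The chart `(R[T])_(T_a)` of `P^N_R` is generated over `R` by the `N` elements `T_j / T_a`,
`j ≠ a`. -/
lemma exists_chart_generators {R : Type u} [CommRing R] (N : ℕ) (a : Fin (N + 1))
    (x : Away (polyGrading N R) (X a : MvPolynomial (Fin (N + 1)) R)) (B : Type u) [CommRing B]
    (π : Away (polyGrading N R) (X a : MvPolynomial (Fin (N + 1)) R) →+* B) :
    letI := (π.comp (awayAlg N (X a))).toAlgebra
    π x ∈ Algebra.adjoin R (Set.range fun j : Fin N => π (chartHom N a (X (a.succAbove j)))) := by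
  letI := (π.comp (awayAlg N (X a))).toAlgebra
  obtain ⟨f, rfl⟩ := chartHom_surjective N a x
  induction f using MvPolynomial.induction_on with
  | C r =>
    rw [chartHom_C]
    exact Subalgebra.algebraMap_mem _ r
  | add p q hp hq =>
    rw [map_add, map_add]
    exact add_mem hp hq
  | mul_X p i hp =>
    rw [map_mul, map_mul]
    refine mul_mem hp ?_
    by_cases hi : i = a
    · subst hi
      rw [chartHom_X_self, map_one]
      exact one_mem _
    · obtain ⟨j, rfl⟩ := Fin.exists_succAbove_eq hi
      exact Algebra.subset_adjoin ⟨j, rfl⟩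

/-- `Spec A`, with `A` generated by `N` elements over `R`, is open in a proper `R`-scheme covered
by `N + 1` affine charts `Spec B_a`, with `B_a` generated by `N` elements over `R`. -/
theorem W6 (R : Type u) [CommRing R] (N : ℕ) (A : Type u) [CommRing A] [Algebra R A] (s : Fin N → A)
    (hs : Algebra.adjoin R (Set.range s) = ⊤) :
    ∃ (P : Scheme.{u}) (p : P ⟶ Spec (CommRingCat.of R)) (_ : IsProper p)
      (j : Spec (CommRingCat.of A) ⟶ P) (_ : IsOpenImmersion j)
      (_ : j ≫ p = Spec.map (CommRingCat.ofHom (algebraMap R A)))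
      (B : Fin (N + 1) → Type u) (_ : ∀ a, CommRing (B a)) (_ : ∀ a, Algebra R (B a))
      (t : ∀ a, Fin N → B a) (_ : ∀ a, Algebra.adjoin R (Set.range (t a)) = ⊤)
      (u : ∀ a, Spec (CommRingCat.of (B a)) ⟶ P) (_ : ∀ a, IsOpenImmersion (u a))
      (_ : ∀ a, u a ≫ p = Spec.map (CommRingCat.ofHom (algebraMap R (B a)))),
      ∀ x : P, ∃ a, x ∈ Set.range (u a) := by
  let P₀ := ProjSpace N R
  let q : P₀ ⟶ Spec (CommRingCat.of R) := ProjSpace.toSpec N R
  haveI hq : IsProper q := Ega3B.ProjProper.isProper_toSpec N R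
  let k : Spec (CommRingCat.of A) ⟶ P₀ := Spec.map (CommRingCat.ofHom (ψ (R := R) N s)) ≫ chartι N 0
  have hkq : k ≫ q = Spec.map (CommRingCat.ofHom (algebraMap R A)) := by
    rw [Category.assoc, chartι_toSpec, ← Spec.map_comp, ← CommRingCat.ofHom_comp]
    congr 2
    ext r
    exact ψ_awayAlg N s r
  haveI : IsClosedImmersion (Spec.map (CommRingCat.ofHom (ψ (R := R) N s))) :=
    IsClosedImmersion.spec_of_surjective _ (ψ_surjective N s hs)
  haveI : IsImmersion k := inferInstanceAs (IsImmersion (_ ≫ _))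
  haveI : QuasiCompact k := by
    haveI : QuasiCompact (k ≫ q) := by rw [hkq]; infer_instance
    exact QuasiCompact.of_comp k q
  let i : k.image ⟶ P₀ := k.imageι
  haveI : IsClosedImmersion i := inferInstance
  have hc : ∀ a : Fin (N + 1), ∃ (I : Ideal (Away (polyGrading N R)
      (X a : MvPolynomial (Fin (N + 1)) R)))
      (e : pullback i (chartι N a) ≅ Spec (CommRingCat.of (Away (polyGrading N R)
        (X a : MvPolynomial (Fin (N + 1)) R) ⧸ I))),
      pullback.snd i (chartι N a) = e.hom ≫
        Spec.map (CommRingCat.ofHom (Ideal.Quotient.mk I)) := fun a => by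
    haveI : IsClosedImmersion (pullback.snd i (chartι N a)) := inferInstance
    exact IsClosedImmersion.Spec_iff.mp this
  choose I e he using hc
  refine ⟨k.image, i ≫ q, inferInstance, k.toImage, inferInstance, ?_,
    fun a => Away (polyGrading N R) (X a : MvPolynomial (Fin (N + 1)) R) ⧸ I a, fun a => inferInstance,
    fun a => ((Ideal.Quotient.mk (I a)).comp (awayAlg N (X a))).toAlgebra,
    fun a j => Ideal.Quotient.mk (I a) (chartHom N a (X (a.succAbove j))), fun a => ?_,
    fun a => (e a).inv ≫ pullback.fst i (chartι N a), fun a => inferInstance, fun a => ?_, fun x => ?_⟩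
  · rw [Scheme.Hom.toImage_imageι_assoc, hkq]
  · letI := ((Ideal.Quotient.mk (I a)).comp (awayAlg N (X a))).toAlgebra
    rw [eq_top_iff]
    intro y _
    obtain ⟨x, rfl⟩ := Ideal.Quotient.mk_surjective y
    exact exists_chart_generators N a x _ (Ideal.Quotient.mk (I a))
  · have h1 : (e a).inv ≫ pullback.fst i (chartι N a) ≫ i =
        Spec.map (CommRingCat.ofHom (Ideal.Quotient.mk (I a))) ≫ chartι N a := by
      rw [pullback.condition, he a, Category.assoc, Iso.inv_hom_id_assoc]
    rw [Category.assoc, ← Category.assoc (pullback.fst i (chartι N a)), ← Category.assoc, h1,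
      Category.assoc, chartι_toSpec, ← Spec.map_comp, ← CommRingCat.ofHom_comp]
  · obtain ⟨a, y, hy⟩ := (stdCover (A := R) N).openCover.exists_eq (i x)
    obtain ⟨z, hz, -⟩ := Scheme.Pullback.exists_preimage_pullback (f := i) (g := chartι N a) x y
      hy.symm
    refine ⟨a, (e a).hom z, ?_⟩
    rw [← hz, ← Scheme.Hom.comp_apply, Iso.hom_inv_id_assoc]

end Groth.Agent.Sga4h.NcGeom
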