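import Groth.Prelude.Def_SGA4h
import Groth.Prelude.Def_PBC
import Groth.Prelude.Def_EtCore
import Mathlib.AlgebraicGeometry.Morphisms.Proper
import Mathlib.AlgebraicGeometry.Morphisms.Etale
import Mathlib.AlgebraicGeometry.Noetherian

/-!
# A point of the closed fibre with algebraic coordinates is closed
-/

set_option autoImplicit false

universe u

open CategoryTheory CategoryTheory.Limits AlgebraicGeometry Opposite

namespace Groth.Agent.Sga4h.NcPoint

open Polynomial in
/-- A prime of a finite type algebra over a local ring which lies over the maximal ideal and at which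
all coordinates are algebraic over the residue field is maximal. -/
theorem isMaximal_of_algebraic (R : Type u) [CommRing R] [IsLocalRing R] (N : ℕ) (B : Type u)
    [CommRing B] [Algebra R B] (t : Fin N → B) (ht : Algebra.adjoin R (Set.range t) = ⊤)
    (q : Ideal B) [q.IsPrime] (hq : q.comap (algebraMap R B) = IsLocalRing.maximalIdeal R)
    (H : ∀ b : Fin N, q.comap (Polynomial.aeval (R := R) (t b)) ≠
      (IsLocalRing.maximalIdeal R).map C) : q.IsMaximal := by
  have hle : IsLocalRing.maximalIdeal R ≤ q.comap (algebraMap R B) := hq.ge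
  let φ : R ⧸ IsLocalRing.maximalIdeal R →+* B ⧸ q := Ideal.quotientMap q (algebraMap R B) hle
  let _inst : Algebra (R ⧸ IsLocalRing.maximalIdeal R) (B ⧸ q) := φ.toAlgebra
  let _inst : Field (R ⧸ IsLocalRing.maximalIdeal R) := Ideal.Quotient.field _
  have hint : Algebra.IsIntegral (R ⧸ IsLocalRing.maximalIdeal R) (B ⧸ q) := by
    refine ⟨fun x => ?_⟩
    obtain ⟨x, rfl⟩ := Ideal.Quotient.mk_surjective x
    have hx : x ∈ Algebra.adjoin R (Set.range t) := ht ▸ Algebra.mem_top
    induction hx using Algebra.adjoin_induction with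
    | mem x hx =>
      obtain ⟨b, rfl⟩ := hx
      have h1 : (IsLocalRing.maximalIdeal R).map C ≤ q.comap (Polynomial.aeval (R := R) (t b)) := by
        rw [Ideal.map_le_iff_le_comap]
        intro r hr
        simp only [Ideal.mem_comap]
        erw [Polynomial.aeval_C]
        exact hle hr
      obtain ⟨f, hf, hf'⟩ := SetLike.exists_of_lt (lt_of_le_of_ne h1 (H b).symm)
      rw [← isAlgebraic_iff_isIntegral]
      refine ⟨f.map (Ideal.Quotient.mk _), ?_, ?_⟩
      · intro h0
        apply hf'
        rw [Ideal.mem_map_C_iff]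
        intro n
        have := congrArg (fun g => g.coeff n) h0
        simpa [Polynomial.coeff_map, Ideal.Quotient.eq_zero_iff_mem] using this
      · rw [Polynomial.aeval_def, Polynomial.eval₂_map]
        have h2 : Ideal.Quotient.mk q (Polynomial.aeval (t b) f) = 0 :=
          Ideal.Quotient.eq_zero_iff_mem.mpr hf
        rw [Polynomial.aeval_def, Polynomial.hom_eval₂] at h2
        exact h2
    | algebraMap r =>
      have : Ideal.Quotient.mk q (algebraMap R B r) =
          algebraMap (R ⧸ IsLocalRing.maximalIdeal R) (B ⧸ q) (Ideal.Quotient.mk _ r) := rfl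
      rw [this]
      exact isIntegral_algebraMap
    | add x y hx hy h1 h2 => rw [map_add]; exact h1.add h2
    | mul x y hx hy h1 h2 => rw [map_mul]; exact h1.mul h2
  exact Ideal.Quotient.maximal_of_isField _
    (isField_of_isIntegral_of_isField' (R := R ⧸ IsLocalRing.maximalIdeal R)
      (Field.toIsField _))

open Polynomial in
/-- (PT) -/
theorem PT (R : Type u) [CommRing R] [IsLocalRing R] {P Ps : Scheme.{u}} (i : Ps ⟶ P) [IsClosedImmersion i]
    (fs : Ps ⟶ Spec (CommRingCat.of (IsLocalRing.ResidueField R))) [LocallyOfFiniteType fs]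
    (p : P ⟶ Spec (CommRingCat.of R)) (hi : i ≫ p = fs ≫ Spec.map (CommRingCat.ofHom (IsLocalRing.residue R)))
    (N : ℕ) (B : Type u) [CommRing B] [Algebra R B] (t : Fin N → B) (ht : Algebra.adjoin R (Set.range t) = ⊤)
    (u : Spec (CommRingCat.of B) ⟶ P) [IsOpenImmersion u]
    (hu : u ≫ p = Spec.map (CommRingCat.ofHom (algebraMap R B)))
    (y : Ps) (z : Spec (CommRingCat.of B)) (hz : i y = u z)
    (H : ∀ b : Fin N, z.asIdeal.comap (Polynomial.aeval (R := R) (t b)) ≠ (IsLocalRing.maximalIdeal R).map C) :
    IsClosed ({y} : Set Ps) := by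
  -- `z` lies over the closed point
  have h1 : z.asIdeal.comap (algebraMap R B) = IsLocalRing.maximalIdeal R := by
    have e1 : (Spec.map (CommRingCat.ofHom (algebraMap R B))) z =
        (Spec.map (CommRingCat.ofHom (IsLocalRing.residue R))) (fs y) := by
      rw [← hu, Scheme.Hom.comp_apply, ← hz, ← Scheme.Hom.comp_apply, hi, Scheme.Hom.comp_apply]
    have e2 := congrArg PrimeSpectrum.asIdeal e1
    have e3 : (Spec.map (CommRingCat.ofHom (algebraMap R B)) z).asIdeal =
        z.asIdeal.comap (algebraMap R B) := rfl
    have e4 : (Spec.map (CommRingCat.ofHom (IsLocalRing.residue R)) (fs y)).asIdeal =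
        (fs y).asIdeal.comap (IsLocalRing.residue R) := rfl
    rw [e3, e4] at e2
    rw [e2]
    have e5 : (fs y).asIdeal = ⊥ := Ideal.eq_bot_of_prime _
    rw [e5]
    exact IsLocalRing.ker_residue
  have h2 : z.asIdeal.IsMaximal := isMaximal_of_algebraic R N B t ht z.asIdeal h1 H
  have h3 : IsClosed ({z} : Set (Spec (CommRingCat.of B))) :=
    (PrimeSpectrum.isClosed_singleton_iff_isMaximal z).mpr h2
  haveI : JacobsonSpace (Spec (CommRingCat.of (IsLocalRing.ResidueField R))) :=
    PrimeSpectrum.isJacobsonRing_iff_jacobsonSpace.mp inferInstance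
  haveI : JacobsonSpace Ps := LocallyOfFiniteType.jacobsonSpace fs
  apply isClosed_singleton_of_isLocallyClosed_singleton
  have h4 : IsLocallyClosed ((u : Spec (CommRingCat.of B) → P) '' {z}) :=
    h3.isLocallyClosed.image u.isOpenEmbedding.isInducing
      u.isOpenEmbedding.isOpen_range.isLocallyClosed
  have h5 : ({y} : Set Ps) = (i : Ps → P) ⁻¹' ((u : Spec (CommRingCat.of B) → P) '' {z}) := by
    ext y'
    simp only [Set.mem_singleton_iff, Set.image_singleton, Set.mem_preimage]
    constructor
    · rintro rfl; exact hz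
    · intro h
      exact i.isClosedEmbedding.injective (h.trans hz.symm)
  rw [h5]
  exact h4.preimage i.continuous

end Groth.Agent.Sga4h.NcPoint
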