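import Groth.Agent.Sga4h.RPairDer

/-!
# Universal pairs for acyclic pulled back objects

For exact `L : B ⥤ A` with right adjoint `G`: if `X ⟶ G (L X)` is an isomorphism and `L X` is
`G`-acyclic then `X` in degree zero is the derived direct image of `L X` in degree zero.
-/

set_option autoImplicit false
set_option linter.unusedSectionVars false

noncomputable section

namespace Groth.Agent.Sga4h.AcycUniv

open CategoryTheory Category Limits
open Groth.Agent.Etrest.RDer2 Groth.Agent.Etrest.RDer3 Groth.Agent.Etrest.RDer4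
open Groth.Agent.Etrest.RDer5 Groth.Agent.Sga4h.RPair

universe w₁ w₂ w₃ w₄ v₁ v₂ v₃ v₄ u₁ u₂ u₃ u₄

variable {A : Type u₁} [Category.{v₁} A] [Abelian A] [HasDerivedCategory.{w₁} A] [HasKInj A]
  {B : Type u₂} [Category.{v₂} B] [Abelian B] [HasDerivedCategory.{w₂} B]
  {L : B ⥤ A} [L.Additive] [PreservesFiniteLimits L] [PreservesFiniteColimits L]
  {G : A ⥤ B} [G.Additive] (adj : L ⊣ G)

/-- If the unit of the derived adjunction at `M` is an isomorphism then `M` is the derived direct
image of its own pullback. -/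
theorem isUniv_of_isIso_unit {M : DerivedCategory B} (hM : IsIso ((dAdj adj).unit.app M))
    {K : DerivedCategory A} (ε : L.mapDerivedCategory.obj M ⟶ K) [IsIso ε] :
    IsUniv L.mapDerivedCategory ε := by
  intro N
  have h1 : Function.Bijective (fun φ : N ⟶ M => φ ≫ (dAdj adj).unit.app M) :=
    ⟨fun a b h => (cancel_mono _).1 h, fun x => ⟨x ≫ inv ((dAdj adj).unit.app M), by simp⟩⟩
  have h2 : Function.Bijective (fun x : L.mapDerivedCategory.obj N ⟶ L.mapDerivedCategory.obj M =>
      x ≫ ε) := ⟨fun a b h => (cancel_mono _).1 h, fun x => ⟨x ≫ inv ε, by simp⟩⟩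
  have e : (fun φ : N ⟶ M => L.mapDerivedCategory.map φ ≫ ε) =
      (fun x => x ≫ ε) ∘ ((dAdj adj).homEquiv N _).symm ∘
        (fun φ : N ⟶ M => φ ≫ (dAdj adj).unit.app M) := by
    funext φ
    dsimp
    rw [Adjunction.homEquiv_counit, Functor.map_comp, assoc, assoc,
      Adjunction.left_triangle_components_assoc]
  rw [e]
  exact h2.comp (((dAdj adj).homEquiv N _).symm.bijective.comp h1)

/-- The unit of the derived adjunction on a bounded below complex with acyclic pullback. -/
theorem isIso_unit_Q [EnoughInjectives A] [PreservesFiniteLimits G] (K : CochainComplex B ℤ) (a : ℤ)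
    [K.IsStrictlyGE a] (hK : ∀ i, IsAcyc G (L.obj (K.X i))) (hu : ∀ i, IsIso (adj.unit.app (K.X i))) :
    IsIso ((dAdj adj).unit.app (DerivedCategory.Q.obj K)) := by
  have h1 := dAdj_unit adj K
  have h2 : (∀ i, IsAcyc G (((L.mapHomologicalComplex (.up ℤ)).obj K).X i)) := hK
  have h3 := isIso_unitQ_of_isAcyc G ((L.mapHomologicalComplex (.up ℤ)).obj K) a h2
  have h4 : ∀ i, IsIso (((Dcoh.DerAdj.adjCx adj (.up ℤ)).unit.app K).f i) := hu
  have h5 : IsIso ((Dcoh.DerAdj.adjCx adj (.up ℤ)).unit.app K) :=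
    HomologicalComplex.Hom.isIso_of_components _
  have h6 : IsIso ((dAdj adj).unit.app (DerivedCategory.Q.obj K) ≫
      (TR G).map (L.mapDerivedCategoryFactors.hom.app K)) := by
    rw [h1]; infer_instance
  exact IsIso.of_isIso_comp_right _ ((TR G).map (L.mapDerivedCategoryFactors.hom.app K))

/-- The unit of the derived adjunction on an object in degree zero. -/
theorem isIso_unit_single [EnoughInjectives A] [PreservesFiniteLimits G] (X : B)
    (hX : IsAcyc G (L.obj X)) (hu : IsIso (adj.unit.app X)) (n : ℤ) :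
    IsIso ((dAdj adj).unit.app ((DerivedCategory.singleFunctor B n).obj X)) := by
  let K : CochainComplex B ℤ := (HomologicalComplex.single B (.up ℤ) n).obj X
  have e : DerivedCategory.Q.obj K ≅ (DerivedCategory.singleFunctor B n).obj X :=
    (DerivedCategory.singleFunctorIsoCompQ B n).symm.app X
  have hK : ∀ i, IsAcyc G (L.obj (K.X i)) := by
    intro i
    by_cases hi : i = n
    · subst hi
      exact isAcyc_of_iso G (L.mapIso (HomologicalComplex.singleObjXSelf (.up ℤ) i X).symm) hX
    · exact isAcyc_of_isZero G (L.map_isZero (HomologicalComplex.isZero_single_obj_X (.up ℤ) n X i hi))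
  have hu' : ∀ i, IsIso (adj.unit.app (K.X i)) := by
    intro i
    by_cases hi : i = n
    · subst hi
      have h1 := adj.unit.naturality (HomologicalComplex.singleObjXSelf (.up ℤ) i X).hom
      have h2 : IsIso ((𝟭 B).map (HomologicalComplex.singleObjXSelf (.up ℤ) i X).hom ≫
          adj.unit.app X) := inferInstance
      rw [h1] at h2
      exact IsIso.of_isIso_comp_right _
        ((L ⋙ G).map (HomologicalComplex.singleObjXSelf (.up ℤ) i X).hom)
    · have z := HomologicalComplex.isZero_single_obj_X (.up ℤ) n X i hi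
      exact IsZero.isIso z (G.map_isZero (L.map_isZero z)) _
  have h3 := isIso_unit_Q adj K n hK hu'
  have h4 := (dAdj adj).unit.naturality e.hom
  have h5 : IsIso ((𝟭 (DerivedCategory B)).map e.hom ≫
      (dAdj adj).unit.app ((DerivedCategory.singleFunctor B n).obj X)) := by
    rw [h4]; infer_instance
  exact IsIso.of_isIso_comp_left ((𝟭 (DerivedCategory B)).map e.hom) _

section bc

variable {A₂ : Type u₃} [Category.{v₃} A₂] [Abelian A₂] [HasDerivedCategory.{w₃} A₂] [HasKInj A₂]
  {B₂ : Type u₄} [Category.{v₄} B₂] [Abelian B₂] [HasDerivedCategory.{w₄} B₂]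
  {L₂ : B₂ ⥤ A₂} [L₂.Additive] [PreservesFiniteLimits L₂] [PreservesFiniteColimits L₂]
  {G₂ : A₂ ⥤ B₂} [G₂.Additive] (adj₂ : L₂ ⊣ G₂)
  {E : A ⥤ A₂} [E.Additive] [PreservesFiniteLimits E] [PreservesFiniteColimits E]
  {E' : B ⥤ B₂} [E'.Additive] [PreservesFiniteLimits E'] [PreservesFiniteColimits E']
  (c : E' ⋙ L₂ ≅ L ⋙ E)

/-- Base change for acyclic pullbacks. -/
theorem bc_of_isIso_unit {M : DerivedCategory B} (h : IsIso ((dAdj adj).unit.app M))
    (h₂ : IsIso ((dAdj adj₂).unit.app (E'.mapDerivedCategory.obj M))) {K : DerivedCategory A}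
    (e : L.mapDerivedCategory.obj M ≅ K) : (sq c).BC K := by
  refine ⟨M, e.hom, isUniv_of_isIso_unit adj h _, ?_⟩
  have : IsIso ((sq c).bc e.hom) := by
    unfold Sq.bc
    infer_instance
  exact isUniv_of_isIso_unit adj₂ h₂ _

/-- Base change for the pullback of an acyclic object placed in one degree. -/
theorem bc_single [EnoughInjectives A] [PreservesFiniteLimits G] [EnoughInjectives A₂]
    [PreservesFiniteLimits G₂] (X : B) (hX : IsAcyc G (L.obj X)) (hu : IsIso (adj.unit.app X))
    (hX₂ : IsAcyc G₂ (L₂.obj (E'.obj X))) (hu₂ : IsIso (adj₂.unit.app (E'.obj X))) (n : ℤ) :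
    (sq c).BC ((DerivedCategory.singleFunctor A n).obj (L.obj X)) := by
  have h1 := isIso_unit_single adj X hX hu n
  have h2 := isIso_unit_single adj₂ (E'.obj X) hX₂ hu₂ n
  have e : (DerivedCategory.singleFunctor B₂ n).obj (E'.obj X) ≅
      E'.mapDerivedCategory.obj ((DerivedCategory.singleFunctor B n).obj X) :=
    ((E'.mapDerivedCategorySingleFunctor n).app X).symm
  have h4 := (dAdj adj₂).unit.naturality e.hom
  have h5 : IsIso ((𝟭 (DerivedCategory B₂)).map e.hom ≫
      (dAdj adj₂).unit.app (E'.mapDerivedCategory.obj ((DerivedCategory.singleFunctor B n).obj X))) := by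
    rw [h4]; infer_instance
  have h6 : IsIso ((dAdj adj₂).unit.app
      (E'.mapDerivedCategory.obj ((DerivedCategory.singleFunctor B n).obj X))) :=
    IsIso.of_isIso_comp_left ((𝟭 (DerivedCategory B₂)).map e.hom) _
  exact bc_of_isIso_unit adj adj₂ c h1 h6 ((L.mapDerivedCategorySingleFunctor n).app X)

end bc

end Groth.Agent.Sga4h.AcycUniv
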