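import Groth.Agent.Sga4h.RPairDer

/-!
# Pasting of derived squares of exact functors

`RPair.sq c` is the square of derived functors of a square `c : E' ⋙ L₂ ≅ L ⋙ E` of exact functors.
* `compD γ : E.mapDerivedCategory ⋙ F.mapDerivedCategory ≅ H.mapDerivedCategory` for `γ : E ⋙ F ≅ H`;
* `bc_hcomp_iff`, `bc_vcomp_iff`: base change for a pasted square, from the compatibility of the
  squares of exact functors at the abelian level.
-/

set_option autoImplicit false
set_option linter.unusedSectionVars false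

noncomputable section

namespace Groth.Agent.Sga4h.DPaste

open CategoryTheory Category Limits
open Groth.Agent.Etrest.RDer4 Groth.Agent.Etrest.RDer5 Groth.Agent.Sga4h.RPair

universe w₁ w₂ w₃ w₄ w₅ w₆ v₁ v₂ v₃ v₄ v₅ v₆ u₁ u₂ u₃ u₄ u₅ u₆

section comp

variable {A : Type u₁} [Category.{v₁} A] [Abelian A] [HasDerivedCategory.{w₁} A]
  {B : Type u₂} [Category.{v₂} B] [Abelian B] [HasDerivedCategory.{w₂} B]
  {C : Type u₃} [Category.{v₃} C] [Abelian C] [HasDerivedCategory.{w₃} C]
  {E : A ⥤ B} [E.Additive] [PreservesFiniteLimits E] [PreservesFiniteColimits E]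
  {F : B ⥤ C} [F.Additive] [PreservesFiniteLimits F] [PreservesFiniteColimits F]
  {H : A ⥤ C} [H.Additive] [PreservesFiniteLimits H] [PreservesFiniteColimits H]

/-- A transformation `E ⋙ F ⟶ H` on complexes. -/
@[simps! app_f]
def compCx {A B C : Type*} [Category* A] [Category* B] [Category* C] [Preadditive A] [Preadditive B]
    [Preadditive C] {E : A ⥤ B} {F : B ⥤ C} {H : A ⥤ C} [E.Additive] [F.Additive] [H.Additive]
    (γ : E ⋙ F ⟶ H) :
    E.mapHomologicalComplex (.up ℤ) ⋙ F.mapHomologicalComplex (.up ℤ) ⟶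
      H.mapHomologicalComplex (.up ℤ) where
  app K := { f := fun i => γ.app (K.X i)
             comm' := fun i j _ => (γ.naturality (K.d i j)).symm }
  naturality := fun K L φ => by
    ext i
    exact γ.naturality (φ.f i)

/-- The derived transformation of `γ : E ⋙ F ⟶ H`. -/
def compDHom (γ : E ⋙ F ⟶ H) : E.mapDerivedCategory ⋙ F.mapDerivedCategory ⟶ H.mapDerivedCategory :=
  ofQ (Functor.whiskerRight E.mapDerivedCategoryFactors.hom F.mapDerivedCategory ≫
    Functor.whiskerLeft (E.mapHomologicalComplex (.up ℤ)) F.mapDerivedCategoryFactors.hom ≫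
    Functor.whiskerRight (compCx γ) DerivedCategory.Q ≫ H.mapDerivedCategoryFactors.inv)

theorem compDHom_app (γ : E ⋙ F ⟶ H) (K : CochainComplex A ℤ) :
    (compDHom γ).app (DerivedCategory.Q.obj K) =
      F.mapDerivedCategory.map (E.mapDerivedCategoryFactors.hom.app K) ≫
        F.mapDerivedCategoryFactors.hom.app ((E.mapHomologicalComplex (.up ℤ)).obj K) ≫
        DerivedCategory.Q.map ((compCx γ).app K) ≫ H.mapDerivedCategoryFactors.inv.app K :=
  ofQ_app _ K

instance isIso_compDHom (γ : E ⋙ F ⟶ H) [IsIso γ] : IsIso (compDHom γ) := by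
  rw [NatTrans.isIso_iff_isIso_app]
  intro X
  obtain ⟨K, ⟨e⟩⟩ : ∃ K : CochainComplex A ℤ, Nonempty (DerivedCategory.Q.obj K ≅ X) :=
      ⟨_, ⟨DerivedCategory.Q.objObjPreimageIso X⟩⟩
  have h1 : IsIso ((compDHom γ).app (DerivedCategory.Q.obj K)) := by
    rw [compDHom_app]
    have h4 : ∀ i, IsIso (((compCx γ).app K).f i) := fun i => (inferInstance : IsIso (γ.app (K.X i)))
    have h5 : IsIso ((compCx γ).app K) := HomologicalComplex.Hom.isIso_of_components _
    infer_instance
  have h2 := (compDHom γ).naturality e.hom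
  have h3 : IsIso ((E.mapDerivedCategory ⋙ F.mapDerivedCategory).map e.hom ≫ (compDHom γ).app X) := by
    rw [h2]; infer_instance
  exact IsIso.of_isIso_comp_left ((E.mapDerivedCategory ⋙ F.mapDerivedCategory).map e.hom) _

/-- The derived isomorphism of `γ : E ⋙ F ≅ H`. -/
def compD (γ : E ⋙ F ≅ H) : E.mapDerivedCategory ⋙ F.mapDerivedCategory ≅ H.mapDerivedCategory :=
  asIso (compDHom γ.hom)

theorem compD_hom_app (γ : E ⋙ F ≅ H) (K : CochainComplex A ℤ) :
    (compD γ).hom.app (DerivedCategory.Q.obj K) =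
      F.mapDerivedCategory.map (E.mapDerivedCategoryFactors.hom.app K) ≫
        F.mapDerivedCategoryFactors.hom.app ((E.mapHomologicalComplex (.up ℤ)).obj K) ≫
        DerivedCategory.Q.map ((compCx γ.hom).app K) ≫ H.mapDerivedCategoryFactors.inv.app K :=
  compDHom_app _ K

end comp

section hcomp

variable {B : Type u₁} [Category.{v₁} B] [Abelian B] [HasDerivedCategory.{w₁} B]
  {A : Type u₂} [Category.{v₂} A] [Abelian A] [HasDerivedCategory.{w₂} A]
  {B₂ : Type u₃} [Category.{v₃} B₂] [Abelian B₂] [HasDerivedCategory.{w₃} B₂]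
  {A₂ : Type u₄} [Category.{v₄} A₂] [Abelian A₂] [HasDerivedCategory.{w₄} A₂]
  {B₃ : Type u₅} [Category.{v₅} B₃] [Abelian B₃] [HasDerivedCategory.{w₅} B₃]
  {A₃ : Type u₆} [Category.{v₆} A₃] [Abelian A₃] [HasDerivedCategory.{w₆} A₃]
  {L : B ⥤ A} [L.Additive] [PreservesFiniteLimits L] [PreservesFiniteColimits L]
  {L₂ : B₂ ⥤ A₂} [L₂.Additive] [PreservesFiniteLimits L₂] [PreservesFiniteColimits L₂]
  {L₃ : B₃ ⥤ A₃} [L₃.Additive] [PreservesFiniteLimits L₃] [PreservesFiniteColimits L₃]
  {E' : B ⥤ B₂} [E'.Additive] [PreservesFiniteLimits E'] [PreservesFiniteColimits E']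
  {E : A ⥤ A₂} [E.Additive] [PreservesFiniteLimits E] [PreservesFiniteColimits E]
  {F' : B₂ ⥤ B₃} [F'.Additive] [PreservesFiniteLimits F'] [PreservesFiniteColimits F']
  {F : A₂ ⥤ A₃} [F.Additive] [PreservesFiniteLimits F] [PreservesFiniteColimits F]
  {H' : B ⥤ B₃} [H'.Additive] [PreservesFiniteLimits H'] [PreservesFiniteColimits H']
  {H : A ⥤ A₃} [H.Additive] [PreservesFiniteLimits H] [PreservesFiniteColimits H]
  (c₁ : E' ⋙ L₂ ≅ L ⋙ E) (c₂ : F' ⋙ L₃ ≅ L₂ ⋙ F) (c : H' ⋙ L₃ ≅ L ⋙ H)
  (γ' : E' ⋙ F' ≅ H') (γ : E ⋙ F ≅ H)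

/-- The value of `cD` at an object isomorphic to a complex. -/
theorem cD_app_of_iso {M : DerivedCategory B} {K : CochainComplex B ℤ}
    (e : M ≅ DerivedCategory.Q.obj K) : (cD c.hom).app M =
      L₃.mapDerivedCategory.map (H'.mapDerivedCategory.map e.hom) ≫
        (cD c.hom).app (DerivedCategory.Q.obj K) ≫
        H.mapDerivedCategory.map (L.mapDerivedCategory.map e.inv) := by
  have h1 := (cD c.hom).naturality e.hom
  dsimp at h1
  rw [reassoc_of% h1, ← Functor.map_comp, ← Functor.map_comp, e.hom_inv_id,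
    CategoryTheory.Functor.map_id, CategoryTheory.Functor.map_id, comp_id]

theorem compD_app_of_iso {M : DerivedCategory B} {K : CochainComplex B ℤ}
    (e : M ≅ DerivedCategory.Q.obj K) : (compD γ').hom.app M =
      F'.mapDerivedCategory.map (E'.mapDerivedCategory.map e.hom) ≫
        (compD γ').hom.app (DerivedCategory.Q.obj K) ≫ H'.mapDerivedCategory.map e.inv := by
  have h1 := (compD γ').hom.naturality e.hom
  dsimp at h1
  rw [reassoc_of% h1, ← Functor.map_comp, e.hom_inv_id, CategoryTheory.Functor.map_id, comp_id]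

/-- Horizontal compatibility on derived categories. -/
theorem hcomp_compat (h : ∀ M : B, L₃.map (γ'.hom.app M) ≫ c.hom.app M =
      c₂.hom.app (E'.obj M) ≫ F.map (c₁.hom.app M) ≫ γ.hom.app (L.obj M)) (M : DerivedCategory B) :
    L₃.mapDerivedCategory.map ((compD γ').hom.app M) ≫ (cD c.hom).app M =
      (cD c₂.hom).app (E'.mapDerivedCategory.obj M) ≫ F.mapDerivedCategory.map ((cD c₁.hom).app M) ≫
        (compD γ).hom.app (L.mapDerivedCategory.obj M) := by
  let τ₁ : (E'.mapDerivedCategory ⋙ F'.mapDerivedCategory) ⋙ L₃.mapDerivedCategory ⟶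
      L.mapDerivedCategory ⋙ H.mapDerivedCategory :=
    Functor.whiskerRight (compD γ').hom L₃.mapDerivedCategory ≫ cD c.hom
  let τ₂ : (E'.mapDerivedCategory ⋙ F'.mapDerivedCategory) ⋙ L₃.mapDerivedCategory ⟶
      L.mapDerivedCategory ⋙ H.mapDerivedCategory :=
    (Functor.associator _ _ _).hom ≫ Functor.whiskerLeft E'.mapDerivedCategory (cD c₂.hom) ≫
      (Functor.associator _ _ _).inv ≫ Functor.whiskerRight (cD c₁.hom) F.mapDerivedCategory ≫
      (Functor.associator _ _ _).hom ≫ Functor.whiskerLeft L.mapDerivedCategory (compD γ).hom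
  have key : τ₁ = τ₂ := by
    apply ext_Q
    intro K
    have e1 := cD_app_of_iso c₂ (E'.mapDerivedCategoryFactors.app K)
    have e2 := compD_app_of_iso γ (L.mapDerivedCategoryFactors.app K)
    simp only [τ₁, τ₂, NatTrans.comp_app, Functor.whiskerRight_app, Functor.whiskerLeft_app,
      Functor.associator_hom_app, Functor.associator_inv_app, id_comp]
    refine Eq.trans ?_ (congrArg₂ (· ≫ ·) e1.symm (congrArg _ e2.symm))
    have hcx : (L₃.mapHomologicalComplex (.up ℤ)).map ((compCx γ'.hom).app K) ≫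
        (bcCx c.hom).app K = (bcCx c₂.hom).app ((E'.mapHomologicalComplex (.up ℤ)).obj K) ≫
          (F.mapHomologicalComplex (.up ℤ)).map ((bcCx c₁.hom).app K) ≫
            (compCx γ.hom).app ((L.mapHomologicalComplex (.up ℤ)).obj K) := by
      ext i
      exact h (K.X i)
    have n1 := L₃.mapDerivedCategoryFactors.hom.naturality ((compCx γ'.hom).app K)
    have n2 := F.mapDerivedCategoryFactors.hom.naturality ((bcCx c₁.hom).app K)
    dsimp only [Functor.comp_map] at n1 n2
    have hcx' := congrArg (fun x => DerivedCategory.Q.map x) hcx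
    simp only [Functor.map_comp] at hcx'
    rw [compD_hom_app γ', cD_app c.hom, cD_app c₂.hom, cD_app c₁.hom, compD_hom_app γ]
    simp only [Functor.map_comp, assoc, Iso.app_hom, Iso.app_inv]
    -- cancellations
    have k1 : L₃.mapDerivedCategory.map (H'.mapDerivedCategoryFactors.inv.app K) ≫
        L₃.mapDerivedCategory.map (H'.mapDerivedCategoryFactors.hom.app K) = 𝟙 _ := by
      rw [← Functor.map_comp, Iso.inv_hom_id_app, CategoryTheory.Functor.map_id]
    have k2 : F.mapDerivedCategory.map (L₂.mapDerivedCategory.map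
          (E'.mapDerivedCategoryFactors.inv.app K)) ≫
        F.mapDerivedCategory.map (L₂.mapDerivedCategory.map
          (E'.mapDerivedCategoryFactors.hom.app K)) = 𝟙 _ := by
      rw [← Functor.map_comp, ← Functor.map_comp, Iso.inv_hom_id_app,
        CategoryTheory.Functor.map_id, CategoryTheory.Functor.map_id]
    have k3 : F.mapDerivedCategory.map (L₂.mapDerivedCategoryFactors.inv.app
          ((E'.mapHomologicalComplex (.up ℤ)).obj K)) ≫
        F.mapDerivedCategory.map (L₂.mapDerivedCategoryFactors.hom.app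
          ((E'.mapHomologicalComplex (.up ℤ)).obj K)) = 𝟙 _ := by
      rw [← Functor.map_comp, Iso.inv_hom_id_app, CategoryTheory.Functor.map_id]
    have k4 : F.mapDerivedCategory.map (E.mapDerivedCategory.map
          (L.mapDerivedCategoryFactors.inv.app K)) ≫
        F.mapDerivedCategory.map (E.mapDerivedCategory.map
          (L.mapDerivedCategoryFactors.hom.app K)) = 𝟙 _ := by
      rw [← Functor.map_comp, ← Functor.map_comp, Iso.inv_hom_id_app,
        CategoryTheory.Functor.map_id, CategoryTheory.Functor.map_id]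
    have k5 : F.mapDerivedCategory.map (E.mapDerivedCategoryFactors.inv.app
          ((L.mapHomologicalComplex (.up ℤ)).obj K)) ≫
        F.mapDerivedCategory.map (E.mapDerivedCategoryFactors.hom.app
          ((L.mapHomologicalComplex (.up ℤ)).obj K)) = 𝟙 _ := by
      rw [← Functor.map_comp, Iso.inv_hom_id_app, CategoryTheory.Functor.map_id]
    rw [reassoc_of% k1, reassoc_of% n1, reassoc_of% hcx', reassoc_of% k2, reassoc_of% k3,
      reassoc_of% k4, reassoc_of% k5, reassoc_of% n2, Iso.inv_hom_id_app_assoc]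
  have := NatTrans.congr_app key M
  simpa [τ₁, τ₂] using this

/-- **Horizontal pasting** of derived squares: base change for the pasted square is base change for
the square of the composite functors. -/
theorem bc_hcomp_iff (h : ∀ M : B, L₃.map (γ'.hom.app M) ≫ c.hom.app M =
      c₂.hom.app (E'.obj M) ≫ F.map (c₁.hom.app M) ≫ γ.hom.app (L.obj M)) (K : DerivedCategory A) :
    ((sq c₁).hcomp (sq c₂)).BC K ↔ (sq c).BC K := by
  have w := hcomp_compat c₁ c₂ c γ' γ h
  constructor
  · refine Sq.BC.congr _ _ (Iso.refl _) (compD γ') (compD γ) (Iso.refl _) (fun M => ?_)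
    rw [Sq.hcomp_σ_hom_app]
    simp only [Iso.refl_hom, NatTrans.id_app, id_comp, CategoryTheory.Functor.map_id, assoc]
    erw [id_comp]
    exact w M
  · refine Sq.BC.congr _ _ (Iso.refl _) (compD γ').symm (compD γ).symm (Iso.refl _) (fun M => ?_)
    rw [Sq.hcomp_σ_hom_app]
    simp only [Iso.refl_hom, NatTrans.id_app, id_comp, CategoryTheory.Functor.map_id, Iso.symm_hom]
    rw [← cancel_epi (L₃.mapDerivedCategory.map ((compD γ').hom.app M)), ← Functor.map_comp_assoc,
      Iso.hom_inv_id_app, CategoryTheory.Functor.map_id, id_comp]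
    have w' := w M
    dsimp only [sq_σ_hom]
    erw [id_comp]
    rw [reassoc_of% w', Iso.hom_inv_id_app]
    erw [comp_id]

end hcomp

section vcomp

variable {B : Type u₁} [Category.{v₁} B] [Abelian B] [HasDerivedCategory.{w₁} B]
  {C : Type u₂} [Category.{v₂} C] [Abelian C] [HasDerivedCategory.{w₂} C]
  {A : Type u₃} [Category.{v₃} A] [Abelian A] [HasDerivedCategory.{w₃} A]
  {B₂ : Type u₄} [Category.{v₄} B₂] [Abelian B₂] [HasDerivedCategory.{w₄} B₂]
  {C₂ : Type u₅} [Category.{v₅} C₂] [Abelian C₂] [HasDerivedCategory.{w₅} C₂]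
  {A₂ : Type u₆} [Category.{v₆} A₂] [Abelian A₂] [HasDerivedCategory.{w₆} A₂]
  {L : B ⥤ C} [L.Additive] [PreservesFiniteLimits L] [PreservesFiniteColimits L]
  {N : C ⥤ A} [N.Additive] [PreservesFiniteLimits N] [PreservesFiniteColimits N]
  {LN : B ⥤ A} [LN.Additive] [PreservesFiniteLimits LN] [PreservesFiniteColimits LN]
  {L₂ : B₂ ⥤ C₂} [L₂.Additive] [PreservesFiniteLimits L₂] [PreservesFiniteColimits L₂]
  {N₂ : C₂ ⥤ A₂} [N₂.Additive] [PreservesFiniteLimits N₂] [PreservesFiniteColimits N₂]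
  {LN₂ : B₂ ⥤ A₂} [LN₂.Additive] [PreservesFiniteLimits LN₂] [PreservesFiniteColimits LN₂]
  {E' : B ⥤ B₂} [E'.Additive] [PreservesFiniteLimits E'] [PreservesFiniteColimits E']
  {E₀ : C ⥤ C₂} [E₀.Additive] [PreservesFiniteLimits E₀] [PreservesFiniteColimits E₀]
  {E : A ⥤ A₂} [E.Additive] [PreservesFiniteLimits E] [PreservesFiniteColimits E]
  (c₁ : E' ⋙ L₂ ≅ L ⋙ E₀) (c₂ : E₀ ⋙ N₂ ≅ N ⋙ E) (c : E' ⋙ LN₂ ≅ LN ⋙ E)
  (ℓ : L ⋙ N ≅ LN) (ℓ₂ : L₂ ⋙ N₂ ≅ LN₂)

/-- Vertical compatibility on derived categories. -/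
theorem vcomp_compat (h : ∀ M : B, ℓ₂.hom.app (E'.obj M) ≫ c.hom.app M =
      N₂.map (c₁.hom.app M) ≫ c₂.hom.app (L.obj M) ≫ E.map (ℓ.hom.app M)) (M : DerivedCategory B) :
    (compD ℓ₂).hom.app (E'.mapDerivedCategory.obj M) ≫ (cD c.hom).app M =
      N₂.mapDerivedCategory.map ((cD c₁.hom).app M) ≫ (cD c₂.hom).app (L.mapDerivedCategory.obj M) ≫
        E.mapDerivedCategory.map ((compD ℓ).hom.app M) := by
  let τ₁ : E'.mapDerivedCategory ⋙ (L₂.mapDerivedCategory ⋙ N₂.mapDerivedCategory) ⟶
      LN.mapDerivedCategory ⋙ E.mapDerivedCategory :=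
    Functor.whiskerLeft E'.mapDerivedCategory (compD ℓ₂).hom ≫ cD c.hom
  let τ₂ : E'.mapDerivedCategory ⋙ (L₂.mapDerivedCategory ⋙ N₂.mapDerivedCategory) ⟶
      LN.mapDerivedCategory ⋙ E.mapDerivedCategory :=
    (Functor.associator _ _ _).inv ≫ Functor.whiskerRight (cD c₁.hom) N₂.mapDerivedCategory ≫
      (Functor.associator _ _ _).hom ≫ Functor.whiskerLeft L.mapDerivedCategory (cD c₂.hom) ≫
      (Functor.associator _ _ _).inv ≫ Functor.whiskerRight (compD ℓ).hom E.mapDerivedCategory
  have key : τ₁ = τ₂ := by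
    apply ext_Q
    intro K
    have e1 := compD_app_of_iso ℓ₂ (E'.mapDerivedCategoryFactors.app K)
    have e2 := cD_app_of_iso c₂ (L.mapDerivedCategoryFactors.app K)
    simp only [τ₁, τ₂, NatTrans.comp_app, Functor.whiskerRight_app, Functor.whiskerLeft_app,
      Functor.associator_hom_app, Functor.associator_inv_app, id_comp]
    refine (congrArg (· ≫ _) e1).trans (Eq.trans ?_ (congrArg (_ ≫ ·) (congrArg (· ≫ _) e2.symm)))
    have hcx : (compCx ℓ₂.hom).app ((E'.mapHomologicalComplex (.up ℤ)).obj K) ≫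
        (bcCx c.hom).app K = (N₂.mapHomologicalComplex (.up ℤ)).map ((bcCx c₁.hom).app K) ≫
          (bcCx c₂.hom).app ((L.mapHomologicalComplex (.up ℤ)).obj K) ≫
            (E.mapHomologicalComplex (.up ℤ)).map ((compCx ℓ.hom).app K) := by
      ext i
      exact h (K.X i)
    have n1 := N₂.mapDerivedCategoryFactors.hom.naturality ((bcCx c₁.hom).app K)
    have n2 := E.mapDerivedCategoryFactors.inv.naturality ((compCx ℓ.hom).app K)
    dsimp only [Functor.comp_map] at n1 n2
    have hcx' := congrArg (fun x => DerivedCategory.Q.map x) hcx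
    simp only [Functor.map_comp] at hcx'
    rw [compD_hom_app ℓ₂, cD_app c.hom, cD_app c₂.hom, cD_app c₁.hom, compD_hom_app ℓ]
    simp only [Functor.map_comp, assoc, Iso.app_hom, Iso.app_inv]
    have k1 : LN₂.mapDerivedCategory.map (E'.mapDerivedCategoryFactors.inv.app K) ≫
        LN₂.mapDerivedCategory.map (E'.mapDerivedCategoryFactors.hom.app K) = 𝟙 _ := by
      rw [← Functor.map_comp, Iso.inv_hom_id_app, CategoryTheory.Functor.map_id]
    have k2 : N₂.mapDerivedCategory.map (E₀.mapDerivedCategory.map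
          (L.mapDerivedCategoryFactors.inv.app K)) ≫
        N₂.mapDerivedCategory.map (E₀.mapDerivedCategory.map
          (L.mapDerivedCategoryFactors.hom.app K)) = 𝟙 _ := by
      rw [← Functor.map_comp, ← Functor.map_comp, Iso.inv_hom_id_app,
        CategoryTheory.Functor.map_id, CategoryTheory.Functor.map_id]
    have k3 : N₂.mapDerivedCategory.map (E₀.mapDerivedCategoryFactors.inv.app
          ((L.mapHomologicalComplex (.up ℤ)).obj K)) ≫
        N₂.mapDerivedCategory.map (E₀.mapDerivedCategoryFactors.hom.app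
          ((L.mapHomologicalComplex (.up ℤ)).obj K)) = 𝟙 _ := by
      rw [← Functor.map_comp, Iso.inv_hom_id_app, CategoryTheory.Functor.map_id]
    have k4 : E.mapDerivedCategory.map (N.mapDerivedCategory.map
          (L.mapDerivedCategoryFactors.inv.app K)) ≫
        E.mapDerivedCategory.map (N.mapDerivedCategory.map
          (L.mapDerivedCategoryFactors.hom.app K)) = 𝟙 _ := by
      rw [← Functor.map_comp, ← Functor.map_comp, Iso.inv_hom_id_app,
        CategoryTheory.Functor.map_id, CategoryTheory.Functor.map_id]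
    have k5 : E.mapDerivedCategory.map (N.mapDerivedCategoryFactors.inv.app
          ((L.mapHomologicalComplex (.up ℤ)).obj K)) ≫
        E.mapDerivedCategory.map (N.mapDerivedCategoryFactors.hom.app
          ((L.mapHomologicalComplex (.up ℤ)).obj K)) = 𝟙 _ := by
      rw [← Functor.map_comp, Iso.inv_hom_id_app, CategoryTheory.Functor.map_id]
    rw [reassoc_of% k1, Iso.inv_hom_id_app_assoc, reassoc_of% hcx', reassoc_of% k2,
      reassoc_of% k3, reassoc_of% n1, reassoc_of% k4, reassoc_of% k5, reassoc_of% n2]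
  have := NatTrans.congr_app key M
  simpa [τ₁, τ₂] using this

/-- **Vertical pasting** of derived squares. -/
theorem bc_vcomp_iff (h : ∀ M : B, ℓ₂.hom.app (E'.obj M) ≫ c.hom.app M =
      N₂.map (c₁.hom.app M) ≫ c₂.hom.app (L.obj M) ≫ E.map (ℓ.hom.app M)) (K : DerivedCategory A) :
    ((sq c₁).vcomp (sq c₂)).BC K ↔ (sq c).BC K := by
  have w := vcomp_compat c₁ c₂ c ℓ ℓ₂ h
  constructor
  · refine Sq.BC.congr _ _ (compD ℓ) (Iso.refl _) (Iso.refl _) (compD ℓ₂) (fun M => ?_)
    rw [Sq.vcomp_σ_hom_app]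
    simp only [Iso.refl_hom, NatTrans.id_app, CategoryTheory.Functor.map_id, assoc]
    erw [id_comp, comp_id]
    exact w M
  · refine Sq.BC.congr _ _ (compD ℓ).symm (Iso.refl _) (Iso.refl _) (compD ℓ₂).symm (fun M => ?_)
    rw [Sq.vcomp_σ_hom_app]
    simp only [Iso.refl_hom, NatTrans.id_app, CategoryTheory.Functor.map_id, Iso.symm_hom]
    erw [id_comp, comp_id]
    rw [← cancel_epi ((compD ℓ₂).hom.app (E'.mapDerivedCategory.obj M)),
      Iso.hom_inv_id_app_assoc]
    have w' := w M
    dsimp only [sq_σ_hom]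
    rw [reassoc_of% w', ← Functor.map_comp, Iso.hom_inv_id_app]
    erw [CategoryTheory.Functor.map_id]
    rw [comp_id]

include ℓ in
theorem vcomp_hasUniv_iff (K : DerivedCategory A) :
    HasUniv (L.mapDerivedCategory ⋙ N.mapDerivedCategory) K ↔ HasUniv LN.mapDerivedCategory K :=
  ⟨fun ⟨_, _, h⟩ => ⟨_, _, h.of_natIso (compD ℓ).symm⟩,
    fun ⟨_, _, h⟩ => ⟨_, _, h.of_natIso (compD ℓ)⟩⟩

end vcomp

end Groth.Agent.Sga4h.DPaste
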