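import Groth.Agent.Sga4h.GSqCoh
import Groth.Agent.Sga4h.DPaste

/-!
# Base change for squares of schemes, derived categories of étale sheaves

For a commutative square `w : g' ≫ f = f' ≫ g` of schemes and `K : DCoh.DEt X`, `BC w K` says that the
derived base change `g^* Rf_* K ⟶ Rf'_* g'^* K` is an isomorphism (`BC_iff`).

* `BC.of_iso`, `BC.shift`, `BC.one/two/three`, `BC.of_isZero`, `BC.of_retract`;
* `BC.hcomp/of_hcomp`, `BC.vcomp/of_vcomp`: pasting;
* `bc_of_homology`: way-out;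
* `nonempty_baseChange_iso`: the consequence on higher direct images.
-/

set_option autoImplicit false
universe u

open CategoryTheory CategoryTheory.Limits Opposite AlgebraicGeometry

attribute [local instance] HasDerivedCategory.standard

noncomputable section
namespace Groth.Agent.Sga4h.GSq

open Groth.Agent.Etrest.RDer3 Groth.Agent.Etrest.RDer4 Groth.Agent.Etrest.RDer5
  Groth.Agent.Etrest.DEtPush Groth.Agent.Etrest.DEtMate Groth.Agent.EtpbcB Groth.Agent.Sga4h.RPair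
  Groth.Agent.Sga4h.DPaste Pretriangulated

variable {X Y Z X' Y' X'' Y'' Z' : Scheme.{u}}

/-- Composition of derived inverse images. -/
def pullDComp (g : X ⟶ Y) (h : Z ⟶ X) : pullD g ⋙ pullD h ≅ pullD (h ≫ g) :=
  compD (BCCalc.pullComp g h)

section basic

variable {f : X ⟶ Y} {g : Y' ⟶ Y} {f' : X' ⟶ Y'} {g' : X' ⟶ X}

/-- The derived base change for the square `w` and the object `K` is an isomorphism. -/
def BC (w : g' ≫ f = f' ≫ g) (K : DCoh.DEt X) : Prop := (RPair.sq (cmp w)).BC K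

theorem BC_iff (w : g' ≫ f = f' ≫ g) (K : DCoh.DEt X) : BC w K ↔ IsIso ((bcEt w).app K) := by
  rw [bcEt, bcNat_eq_mate]
  exact bc_iff (EtCoh.pullPushAdj f) (EtCoh.pullPushAdj f') (cmp w) K

variable {w : g' ≫ f = f' ≫ g}

theorem BC.of_iso {K L : DCoh.DEt X} (h : BC w K) (e : K ≅ L) : BC w L := Sq.BC.of_iso h e

theorem BC.shift {K : DCoh.DEt X} (h : BC w K) (n : ℤ) : BC w (K⟦n⟧) := Sq.BC.shift h n

theorem BC.of_shift {K : DCoh.DEt X} {n : ℤ} (h : BC w (K⟦n⟧)) : BC w K := Sq.BC.of_shift h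

theorem BC.three {T : Triangle (DCoh.DEt X)} (hT : T ∈ distTriang _) (h₁ : BC w T.obj₁)
    (h₂ : BC w T.obj₂) : BC w T.obj₃ := Sq.BC.three hT h₁ h₂

theorem BC.one {T : Triangle (DCoh.DEt X)} (hT : T ∈ distTriang _) (h₂ : BC w T.obj₂)
    (h₃ : BC w T.obj₃) : BC w T.obj₁ := Sq.BC.one hT h₂ h₃

theorem BC.two {T : Triangle (DCoh.DEt X)} (hT : T ∈ distTriang _) (h₁ : BC w T.obj₁)
    (h₃ : BC w T.obj₃) : BC w T.obj₂ := Sq.BC.two hT h₁ h₃

theorem BC.of_isZero {K : DCoh.DEt X} (hK : IsZero K) : BC w K := by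
  rw [BC_iff]
  exact IsZero.isIso (Functor.map_isZero (pullD g) (Functor.map_isZero (pushD f) hK))
    (Functor.map_isZero (pushD f') (Functor.map_isZero (pullD g') hK)) _

/-- Base change is stable under retracts. -/
theorem BC.of_retract {K L : DCoh.DEt X} (h : BC w L) (e : Retract K L) : BC w K := by
  rw [BC_iff] at h ⊢
  have r : RetractArrow ((bcEt w).app K) ((bcEt w).app L) :=
    { i := Arrow.homMk ((pushD f ⋙ pullD g).map e.i) ((pullD g' ⋙ pushD f').map e.i)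
          ((bcEt w).naturality e.i)
      r := Arrow.homMk ((pushD f ⋙ pullD g).map e.r) ((pullD g' ⋙ pushD f').map e.r)
          ((bcEt w).naturality e.r)
      retract := by
        ext
        · simp [← Functor.map_comp]
        · simp [← Functor.map_comp] }
  have h' : MorphismProperty.isomorphisms _ ((bcEt w).app L) := h
  exact MorphismProperty.of_retract r h'

end basic

section way

variable {f : X ⟶ Y} {g : Y' ⟶ Y} {f' : X' ⟶ Y'} {g' : X' ⟶ X} {w : g' ≫ f = f' ≫ g}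

/-- Way-out: `K` bounded below, base change for the cohomology sheaves. -/
theorem bc_of_homology (K : DCoh.DEt X) (a : ℤ) [K.IsGE a]
    (h : ∀ n : ℤ, BC w ((DerivedCategory.singleFunctor (EtCoh.Ab X) n).obj
      ((DerivedCategory.homologyFunctor (EtCoh.Ab X) n).obj K))) : BC w K :=
  RPair.bc_of_homology (EtCoh.pullPushAdj f) (EtCoh.pullPushAdj f') (cmp w) K a h

theorem bc_single_iff (F : EtCoh.Ab X) (n : ℤ) :
    BC w ((DerivedCategory.singleFunctor (EtCoh.Ab X) n).obj F) ↔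
      BC w ((DerivedCategory.singleFunctor (EtCoh.Ab X) 0).obj F) := by
  have e : ((DerivedCategory.singleFunctor (EtCoh.Ab X) n).obj F)⟦n⟧ ≅
      (DerivedCategory.singleFunctor (EtCoh.Ab X) 0).obj F :=
    ((DerivedCategory.singleFunctors (EtCoh.Ab X)).shiftIso n 0 n (by simp)).app F
  exact ⟨fun h => (h.shift n).of_iso e, fun h => BC.of_shift (n := n) (h.of_iso e.symm)⟩

/-- Way-out, with all sheaves placed in degree `0`. -/
theorem bc_of_homology₀ (K : DCoh.DEt X) (a : ℤ) [K.IsGE a]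
    (h : ∀ n : ℤ, BC w ((DerivedCategory.singleFunctor (EtCoh.Ab X) 0).obj (DCoh.HDEt K n))) : BC w K :=
  bc_of_homology K a (fun n => (bc_single_iff _ n).2 (h n))

/-- The consequence of base change on higher direct images of sheaves. -/
theorem nonempty_baseChange_iso (F : EtCoh.Ab X)
    (h : BC w ((DerivedCategory.singleFunctor (EtCoh.Ab X) 0).obj F)) (n : ℕ) :
    Nonempty ((EtCoh.pull g).obj ((EtCoh.Rpush f n).obj F) ≅
      (EtCoh.Rpush f' n).obj ((EtCoh.pull g').obj F)) :=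
  RPair.nonempty_baseChange_iso (EtCoh.pullPushAdj f) (cmp w) (EtCoh.pullPushAdj f') F h n

end way

section paste

section horizontal

variable {f : X ⟶ Y} {g : Y' ⟶ Y} {f' : X' ⟶ Y'} {g' : X' ⟶ X} {f'' : X'' ⟶ Y''} {h : Y'' ⟶ Y'}
  {h' : X'' ⟶ X'} (w₁ : g' ≫ f = f' ≫ g) (w₂ : h' ≫ f' = f'' ≫ h)
  (w : (h' ≫ g') ≫ f = f'' ≫ (h ≫ g))

theorem bc_hcomp_iff (K : DCoh.DEt X) :
    ((RPair.sq (cmp w₁)).hcomp (RPair.sq (cmp w₂))).BC K ↔ BC w K :=
  DPaste.bc_hcomp_iff (cmp w₁) (cmp w₂) (cmp w) (BCCalc.pullComp g h) (BCCalc.pullComp g' h')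
    (GSqCoh.cmp_hcoh w₁ w₂ w) K

variable {w₁ w₂}

theorem BC.hcomp {K : DCoh.DEt X} (h₁ : BC w₁ K) (h₂ : BC w₂ ((pullD g').obj K)) : BC w K :=
  (bc_hcomp_iff w₁ w₂ w K).1 (Sq.BC.hcomp h₁ h₂)

variable {w}

theorem BC.of_hcomp {K : DCoh.DEt X} (h₁ : BC w₁ K) (h : BC w K) : BC w₂ ((pullD g').obj K) :=
  Sq.BC.of_hcomp h₁ ((bc_hcomp_iff w₁ w₂ w K).2 h)

end horizontal

section vertical

variable {f : X ⟶ Y} {g : Y' ⟶ Y} {f' : X' ⟶ Y'} {g' : X' ⟶ X} {e : Z ⟶ X} {e' : Z' ⟶ X'}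
  {k : Z' ⟶ Z} (w₁ : g' ≫ f = f' ≫ g) (w₂ : k ≫ e = e' ≫ g')
  (w : k ≫ (e ≫ f) = (e' ≫ f') ≫ g)

theorem bc_vcomp_iff (K : DCoh.DEt Z) :
    ((RPair.sq (cmp w₁)).vcomp (RPair.sq (cmp w₂))).BC K ↔ BC w K :=
  DPaste.bc_vcomp_iff (cmp w₁) (cmp w₂) (cmp w) (BCCalc.pullComp f e) (BCCalc.pullComp f' e')
    (GSqCoh.cmp_vcoh w₁ w₂ w) K

variable {w₁ w₂}

/-- The derived direct image is a universal pair. -/
theorem isUniv_pushD (e : Z ⟶ X) (K : DCoh.DEt Z) :
    IsUniv (pullD e) ((dPullPush e).counit.app K) := isUniv_TR (EtCoh.pullPushAdj e) K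

theorem BC.vcomp {K : DCoh.DEt Z} (h₂ : BC w₂ K) (h₁ : BC w₁ ((pushD e).obj K)) : BC w K :=
  (bc_vcomp_iff w₁ w₂ w K).1 (Sq.BC.vcomp (isUniv_pushD e K) h₂ h₁)

variable {w}

theorem BC.of_vcomp {K : DCoh.DEt Z} (h₂ : BC w₂ K) (h : BC w K) : BC w₁ ((pushD e).obj K) :=
  Sq.BC.of_vcomp (isUniv_pushD e K) h₂ (hasUniv (EtCoh.pullPushAdj f) _) ((bc_vcomp_iff w₁ w₂ w K).2 h)

end vertical

end paste

end Groth.Agent.Sga4h.GSq
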