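import Groth.Agent.Sga4h.TotEt
import Groth.Agent.Sga4h.GSq

/-!
# Bridge between the total category and `GSq.BC`

* `isU_iff_isUniv`: `IsU a ↔ IsUniv (pullD a.base) a.fib`;
* `isU_iff_BC`: in a base change square over a universal `a`, the pulled back morphism is universal iff
  `GSq.BC w x.K`;
* `uu_iff`.
-/

set_option autoImplicit false
universe u
open CategoryTheory CategoryTheory.Limits AlgebraicGeometry Opposite DerivedCategory

namespace Groth.Agent.Sga4h.TotBridge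

open EtCoh Groth.Agent.Sga4h.LPull Groth.Agent.Sga4h.ExMap Groth.Agent.Sga4h.TotCat
open Groth.Agent.Etrest.RDer3 Groth.Agent.Etrest.RDer4 Groth.Agent.Etrest.RDer5
  Groth.Agent.Etrest.DEtPush Groth.Agent.Etrest.DEtMate Groth.Agent.EtpbcB Groth.Agent.Sga4h.RPair
  Groth.Agent.Dcoh.MapDer

attribute [local instance] HasDerivedCategory.standard

variable {X Y Z X' Y' : Scheme.{u}}

theorem pcomp_eq {f : X ⟶ Y} {g : Y ⟶ Z} {k : X ⟶ Z} (w : f ≫ g = k) :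
    (MateCalc.leftIso ((pullPushAdj g).comp (pullPushAdj f)) (pullPushAdj k) (pushC w)) = pcomp w := rfl

theorem cmp_eq_pcomp {f : X ⟶ Y} {g : Y' ⟶ Y} {f' : X' ⟶ Y'} {g' : X' ⟶ X}
    (w : g' ≫ f = f' ≫ g) :
    (cmp w).hom = (pcomp (rfl : f' ≫ g = f' ≫ g)).hom ≫ (pcomp w).inv := by
  have e3 : (BCCalc.sq w).symm = pushC (rfl : f' ≫ g = f' ≫ g) ≪≫ (pushC w).symm := by
    ext F : 3
    simp only [BCCalc.sq, pushC, Iso.trans_symm, Iso.trans_hom, Iso.symm_hom, NatTrans.comp_app,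
      Iso.symm_symm_eq, pushCongr_rfl]
    simp
  have e4 : cmp w = MateCalc.leftIso ((pullPushAdj g).comp (pullPushAdj f'))
    ((pullPushAdj f).comp (pullPushAdj g')) (BCCalc.sq w).symm := rfl
  rw [e4, e3, leftIso_trans _ (pullPushAdj (f' ≫ g)) _, leftIso_symm, pcomp_eq, pcomp_eq]

section aux

variable {C : Type*} [Category* C]

theorem aux₁ {x₀ x₁ x₂ x₃ x₄ x₅ x₆ x₇ : C} (p : x₀ ⟶ x₁) (q : x₁ ⟶ x₂) (r : x₂ ⟶ x₃) (i : x₃ ⟶ x₄)
    (j : x₄ ⟶ x₃) (hij : i ≫ j = 𝟙 _) (s : x₃ ⟶ x₅) (t : x₅ ⟶ x₆) (v : x₆ ⟶ x₇) (m : x₂ ⟶ x₅)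
    (hm : m = r ≫ s) :
    p ≫ q ≫ m ≫ t ≫ v = (p ≫ q ≫ r ≫ i) ≫ (j ≫ s ≫ t ≫ v) := by
  subst hm
  simp only [Category.assoc]
  rw [reassoc_of% hij]

theorem aux₂ {D : Type*} [Category* D] {D' : Type*} [Category* D'] (L : D ⥤ C) (L' : D' ⥤ C) {d : D}
    {e e' : D'}
    (i : C) (α : i ⟶ L.obj d) (α' : L.obj d ⟶ i) (hα : α' ≫ α = 𝟙 _) (β : i ⟶ L'.obj e) (b : e ⟶ e')
    (φ : L.obj d ⟶ L'.obj e') (h : α ≫ L.map (𝟙 d) ≫ φ = β ≫ L'.map b ≫ 𝟙 _) :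
    φ = (α' ≫ β) ≫ L'.map b := by
  rw [L.map_id, Category.id_comp, Category.comp_id] at h
  rw [Category.assoc, ← h, reassoc_of% hα]

end aux

section square

variable {f : X ⟶ Y} {g : Y' ⟶ Y} {f' : X' ⟶ Y'} {g' : X' ⟶ X}

theorem cD_cmp_app (w : g' ≫ f = f' ≫ g) (K : D Y) :
    (cD (cmp w).hom).app K = (Lcomp (rfl : f' ≫ g = f' ≫ g)).hom.app K ≫ (Lcomp w).inv.app K := by
  have key : cD (cmp w).hom = (Lcomp (rfl : f' ≫ g = f' ≫ g)).hom ≫ (Lcomp w).inv := by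
    apply ext_Q
    intro K
    have e1 : (Lcomp (rfl : f' ≫ g = f' ≫ g)).hom.app (Q.obj K) = _ :=
      mapDerCompIso_hom_app_Q (pcomp (rfl : f' ≫ g = f' ≫ g)) K
    have e2 : (Lcomp w).inv.app (Q.obj K) = _ := mapDerCompIso_inv_app_Q (pcomp w) K
    rw [NatTrans.comp_app, e1, e2, cD_app]
    have h : (bcCx (cmp w).hom).app K =
        (cxComp (pcomp (rfl : f' ≫ g = f' ≫ g)) K).hom ≫ (cxComp (pcomp w) K).inv := by
      apply HomologicalComplex.hom_ext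
      intro n
      have := NatTrans.congr_app (cmp_eq_pcomp w) (K.X n)
      simp only [NatTrans.comp_app] at this
      rw [HomologicalComplex.comp_f, cxComp_hom_f, cxComp_inv_f]
      exact this
    exact aux₁ _ _ _ _ _ (Iso.inv_hom_id _) _ _ _ _ ((congrArg _ h).trans (Functor.map_comp _ _ _))
  rw [key]
  rfl

end square

theorem isU_iff_isUniv {x y : Tot.{u}} (a : x ⟶ y) : IsU a ↔ IsUniv (pullD a.base) a.fib := Iff.rfl

/-- The bridge. -/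
theorem isU_iff_BC {x y : Tot.{u}} {a : x ⟶ y} (ha : IsU a) {gY : Y' ⟶ y.X} {f' : X' ⟶ Y'}
    {gX : X' ⟶ x.X} (w : gX ≫ a.base = f' ≫ gY)
    (a' : (⟨X', (L gX).obj x.K⟩ : Tot) ⟶ ⟨Y', (L gY).obj y.K⟩) (ha' : a'.base = f')
    (h : a' ≫ car y gY = car x gX ≫ a) : IsU a' ↔ GSq.BC w x.K := by
  obtain ⟨φ, rfl⟩ := exists_arr a' ha'
  have e1 := comp_arr (arr f' φ : (⟨X', (L gX).obj x.K⟩ : Tot) ⟶ ⟨Y', (L gY).obj y.K⟩) (car y gY)
    (k := f' ≫ gY) rfl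
  have e2 := comp_arr (car x gX) a (k := f' ≫ gY) w
  rw [e1, e2] at h
  have h' := arr_injective h
  have hφ : φ = (RPair.sq (cmp w)).bc a.fib := by
    change φ = (cD (cmp w).hom).app y.K ≫ (pullD gX).map a.fib
    rw [cD_cmp_app]
    exact aux₂ (L f') (L gX) (d := (L gY).obj y.K) (e := (L a.base).obj y.K) (e' := x.K)
      ((L (f' ≫ gY)).obj y.K) ((Lcomp (rfl : f' ≫ gY = f' ≫ gY)).inv.app y.K)
      ((Lcomp (rfl : f' ≫ gY = f' ≫ gY)).hom.app y.K) (Iso.hom_inv_id_app _ _)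
      ((Lcomp w).inv.app y.K) a.fib φ h'
  have h1 : IsU (arr f' φ : (⟨X', (L gX).obj x.K⟩ : Tot) ⟶ ⟨Y', (L gY).obj y.K⟩) ↔
      IsUniv (pullD f') ((RPair.sq (cmp w)).bc a.fib) := by
    rw [← hφ]
    exact Iff.rfl
  rw [h1]
  exact ⟨fun h2 => ⟨_, _, ha, h2⟩, fun h2 => h2.isUniv ha⟩

/-- The bridge, for all base changes over `S`. -/
theorem uu_iff {S : Scheme.{u}} {x y : Tot.{u}} (b : y.X ⟶ S) {a : x ⟶ y} (ha : IsU a) :
    UU b a ↔ ∀ ⦃S' Y' X' : Scheme.{u}⦄ (g : S' ⟶ S) (b' : Y' ⟶ S') (gY : Y' ⟶ y.X) (f' : X' ⟶ Y')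
      (gX : X' ⟶ x.X), IsPullback gY b' b g → ∀ h : IsPullback gX f' a.base gY, GSq.BC h.w x.K := by
  constructor
  · intro H S' Y' X' g b' gY f' gX h1 h2
    obtain ⟨a', e, w⟩ := exists_bc a gY f' gX h2.w
    exact (isU_iff_BC ha h2.w a' e w).1 (H g b' gY f' gX h1 h2 a' e w)
  · intro H S' X' Y' g b' gY f' gX h1 h2 a' e w
    exact (isU_iff_BC ha h2.w a' e w).2 (H g b' gY f' gX h1 h2)

/-- The target of a universal morphism is the derived direct image. -/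
theorem nonempty_iso_pushD {x y : Tot.{u}} {a : x ⟶ y} (ha : IsU a) :
    Nonempty (y.K ≅ (pushD a.base).obj x.K) :=
  nonempty_iso_TR (pullPushAdj a.base) ((isU_iff_isUniv a).1 ha)

/-- The canonical universal morphism. -/
theorem exists_isU_pushD (x : Tot.{u}) (f : x.X ⟶ Y) :
    ∃ a : x ⟶ ⟨Y, (pushD f).obj x.K⟩, a.base = f ∧ IsU a :=
  ⟨arr (y := ⟨Y, (pushD f).obj x.K⟩) f ((dPullPush f).counit.app x.K), rfl,
    isUniv_TR (pullPushAdj f) x.K⟩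

end Groth.Agent.Sga4h.TotBridge
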