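import Groth.Agent.Sga4h.TotCat

/-!
# Complexes in the total category, and base change

* `qa f φ : (X, Q A) ⟶ (Y, Q B)` for `φ : f⁻¹ B ⟶ A` a map of complexes; functoriality;
* `qa` of the counit is universal for adapted complexes (`isU_counit`);
* base change squares (`bcSquare`).
-/

set_option autoImplicit false
universe u
open CategoryTheory CategoryTheory.Limits AlgebraicGeometry Opposite DerivedCategory

namespace Groth.Agent.Sga4h.TotCat

open EtCoh Groth.Agent.Sga4h.LPull Groth.Agent.Sga4h.ExMap Groth.Agent.PerfB.DQAdj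
open Groth.Agent.EtpbcB Groth.Agent.EtpbcB.BCCalc Groth.Agent.Dcoh.MapDer

attribute [local instance] HasDerivedCategory.standard

variable {W X Y Z : Scheme.{u}}

/-- Complexes of abelian étale sheaves. -/
abbrev Cx (X : Scheme.{u}) : Type (u + 2) := CochainComplex (Ab X) ℤ

/-- A complex as an object of the total category. -/
noncomputable abbrev ofCx (A : Cx X) : Tot.{u} := ⟨X, Q.obj A⟩

/-- `L f (Q B) ≅ Q (f⁻¹ B)`. -/
noncomputable def facL (f : X ⟶ Y) (B : Cx Y) :
    (L f).obj (Q.obj B) ≅ Q.obj ((cx (pull f)).obj B) :=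
  fac (pull f) B

@[reassoc]
lemma map_facL_hom (f : X ⟶ Y) {K M : Cx Y} (a : K ⟶ M) :
    (L f).map (Q.map a) ≫ (facL f M).hom = (facL f K).hom ≫ Q.map ((cx (pull f)).map a) :=
  map_fac_hom a

lemma Lcomp_inv_app_Q {f : X ⟶ Y} {g : Y ⟶ Z} {k : X ⟶ Z} (w : f ≫ g = k) (C : Cx Z) :
    (Lcomp w).inv.app (Q.obj C) =
      (facL k C).hom ≫ Q.map (cxComp (pcomp w) C).inv ≫ (facL f ((cx (pull g)).obj C)).inv ≫
        (L f).map (facL g C).inv :=
  mapDerCompIso_inv_app_Q (pcomp w) C

/-- The morphism given by a morphism of complexes `f⁻¹ B ⟶ A`. -/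
noncomputable def qa (f : X ⟶ Y) {A : Cx X} {B : Cx Y} (φ : (cx (pull f)).obj B ⟶ A) :
    ofCx A ⟶ ofCx B :=
  arr (x := ofCx A) (y := ofCx B) f ((facL f B).hom ≫ Q.map φ)

@[simp] lemma qa_base (f : X ⟶ Y) {A : Cx X} {B : Cx Y} (φ : (cx (pull f)).obj B ⟶ A) :
    (qa f φ).base = f := rfl

lemma qa_comp {f : X ⟶ Y} {g : Y ⟶ Z} {k : X ⟶ Z} (w : f ≫ g = k) {A : Cx X} {B : Cx Y}
    {C : Cx Z} (φ : (cx (pull f)).obj B ⟶ A) (ψ : (cx (pull g)).obj C ⟶ B) :
    qa f φ ≫ qa g ψ = qa k ((cxComp (pcomp w) C).inv ≫ (cx (pull f)).map ψ ≫ φ) := by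
  refine (comp_arr (qa f φ) (qa g ψ) w).trans
    (congrArg (arr (x := ofCx A) (y := ofCx C) k) ?_)
  change (Lcomp w).inv.app (Q.obj C) ≫ (L f).map ((facL g C).hom ≫
    Q.map ψ) ≫ (facL f B).hom ≫ Q.map φ = _
  rw [Lcomp_inv_app_Q, Functor.map_comp]
  simp only [Category.assoc, Functor.map_comp]
  rw [Iso.map_inv_hom_id_assoc, map_facL_hom_assoc, Iso.inv_hom_id_assoc]

lemma isC_qa (f : X ⟶ Y) {A : Cx X} {B : Cx Y} (φ : (cx (pull f)).obj B ⟶ A) :
    IsC (qa f φ) ↔ QuasiIso φ := by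
  have : IsC (qa f φ) ↔ IsIso (Q.map φ) := by
    constructor
    · intro h
      have h' : IsIso ((facL f B).hom ≫ Q.map φ) := h
      exact IsIso.of_isIso_comp_left (facL f B).hom _
    · intro h
      change IsIso ((facL f B).hom ≫ Q.map φ)
      infer_instance
  rw [this, DerivedCategory.isIso_Q_map_iff_quasiIso]

/-- The universal morphism of an adapted complex. -/
noncomputable def cou (f : X ⟶ Y) (A : Cx X) : ofCx A ⟶ ofCx ((cx (push f)).obj A) :=
  qa f (counitCx (pullPushAdj f) A)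

@[simp] lemma cou_base (f : X ⟶ Y) (A : Cx X) : (cou f A).base = f := rfl

lemma isU_cou (f : X ⟶ Y) {A : Cx X} (hA : Adapted (push f) A) : IsU (cou f A) := by
  intro N
  exact bijective_theta (pullPushAdj f) N hA

/-- Unit of a composite. -/
lemma unit_pcomp {f : X ⟶ Y} {g : Y ⟶ Z} {k : X ⟶ Z} (w : f ≫ g = k) (G : Ab Z) :
    (pullPushAdj k).unit.app G =
      (pullPushAdj g).unit.app G ≫ (push g).map ((pullPushAdj f).unit.app ((pull g).obj G)) ≫
        (push g).map ((push f).map ((pcomp w).hom.app G)) ≫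
        (pushC w).hom.app ((pull k).obj G) := by
  have := MateCalc.unit_leftIso ((pullPushAdj g).comp (pullPushAdj f)) (pullPushAdj k)
    (pushC w) G
  have h : (MateCalc.leftIso ((pullPushAdj g).comp (pullPushAdj f)) (pullPushAdj k) (pushC w)) =
    pcomp w := rfl
  rw [h] at this
  rw [this]
  simp only [Adjunction.comp_unit_app, Category.assoc]
  rfl

/-- Transposing a morphism out of `k⁻¹ G` through `g⁻¹ ⋙ f⁻¹`. -/
lemma unit_pcomp_inv {f : X ⟶ Y} {g : Y ⟶ Z} {k : X ⟶ Z} (w : f ≫ g = k) (G : Ab Z) {H : Ab X}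
    (φ : (pull f).obj ((pull g).obj G) ⟶ H) :
    (pullPushAdj k).unit.app G ≫ (push k).map ((pcomp w).inv.app G ≫ φ) =
      (pullPushAdj g).unit.app G ≫ (push g).map ((pullPushAdj f).unit.app ((pull g).obj G)) ≫
        (push g).map ((push f).map φ) ≫ (pushC w).hom.app H := by
  rw [unit_pcomp w]
  simp only [Category.assoc]
  have nat := (pushC w).hom.naturality ((pcomp w).inv.app G ≫ φ)
  rw [← nat]
  simp only [Functor.comp_map]
  rw [← Functor.map_comp_assoc (F := push g) (f := (push f).map ((pcomp w).hom.app G)),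
    ← Functor.map_comp, Iso.hom_inv_id_app_assoc]

section square

variable {X' Y' : Scheme.{u}} {f : X ⟶ Y} {g : Y' ⟶ Y} {f' : X' ⟶ Y'} {g' : X' ⟶ X} {k : X' ⟶ Y}

lemma sq_pushC (w : g' ≫ f = f' ≫ g) (w₁ : g' ≫ f = k) (w₂ : f' ≫ g = k) (F : Ab X') :
    (BCCalc.sq w).hom.app F ≫ (pushC w₂).hom.app F = (pushC w₁).hom.app F := by
  apply ab_hom_ext
  intro U
  have e : ((BCCalc.sq w).hom.app F ≫ (pushC w₂).hom.app F).hom.app (op U) =
      F.obj.map ((cIso w₂ U).hom ≫ (theta w U).hom).op := by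
    rw [op_comp, Functor.map_comp, ← sq_hom_app_app w F U, ← pushC_hom_app_app w₂ F U]
    rfl
  rw [e, pushC_hom_app_app]
  congr 2
  apply hom_ext_bc₂ f g'
  rw [comp_left, Category.assoc, theta_hom_left_pr, cIso_hom_left_pr, cIso_hom_left_pr]

/-- The base change map in terms of the counits. -/
lemma square_sheaf (w : g' ≫ f = f' ≫ g) (w₁ : g' ≫ f = k) (w₂ : f' ≫ g = k) (F : Ab X) :
    (pcomp w₁).inv.app ((push f).obj F) ≫ (pull g').map ((pullPushAdj f).counit.app F) =
      (pcomp w₂).inv.app ((push f).obj F) ≫ (pull f').map (baseChange0 f g f' g' w F) ≫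
        (pullPushAdj f').counit.app ((pull g').obj F) := by
  apply ((pullPushAdj k).homEquiv _ _).injective
  rw [Adjunction.homEquiv_unit, Adjunction.homEquiv_unit, unit_pcomp_inv w₁, unit_pcomp_inv w₂]
  simp only [Functor.map_comp, Category.assoc]
  have h1 : (push f).map ((pullPushAdj g').unit.app ((pull f).obj ((push f).obj F))) ≫
      (push f).map ((push g').map ((pull g').map ((pullPushAdj f).counit.app F))) =
      (push f).map ((pullPushAdj f).counit.app F) ≫ (push f).map ((pullPushAdj g').unit.app F) := by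
    rw [← Functor.map_comp, ← Functor.map_comp]
    exact congrArg (push f).map ((pullPushAdj g').unit.naturality _).symm
  rw [reassoc_of% h1, Adjunction.right_triangle_components_assoc]
  have h2 : (push g).map ((pullPushAdj f').unit.app ((pull g).obj ((push f).obj F))) ≫
      (push g).map ((push f').map ((pull f').map (baseChange0 f g f' g' w F))) =
      (push g).map (baseChange0 f g f' g' w F) ≫
        (push g).map ((pullPushAdj f').unit.app ((push f').obj ((pull g').obj F))) := by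
    rw [← Functor.map_comp, ← Functor.map_comp]
    exact congrArg (push g).map ((pullPushAdj f').unit.naturality _).symm
  rw [reassoc_of% h2, reassoc_of% (unit_baseChange0 w F)]
  have h3 : (push g).map ((pullPushAdj f').unit.app ((push f').obj ((pull g').obj F))) ≫
      (push g).map ((push f').map ((pullPushAdj f').counit.app ((pull g').obj F))) = 𝟙 _ := by
    rw [← Functor.map_comp, Adjunction.right_triangle_components]
    exact (push g).map_id _
  rw [reassoc_of% h3]
  exact congrArg _ (sq_pushC w w₁ w₂ ((pull g').obj F)).symm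

end square

lemma qa_v (f : X ⟶ Y) {A : Cx X} {B C : Cx Y} (φ : (cx (pull f)).obj B ⟶ A) (β : C ⟶ B) :
    qa f φ ≫ v (x := ofCx B) (Q.map β) = qa f ((cx (pull f)).map β ≫ φ) := by
  refine (comp_v (qa f φ) (Q.map β)).trans (congrArg (arr (x := ofCx A) (y := ofCx C) f) ?_)
  change (L f).map (Q.map β) ≫ (facL f B).hom ≫ Q.map φ = _
  rw [map_facL_hom_assoc, Q.map_comp]

lemma v_qa (f : X ⟶ Y) {A A' : Cx X} {B : Cx Y} (φ : (cx (pull f)).obj B ⟶ A) (β : A ⟶ A') :
    v (x := ofCx A') (Q.map β) ≫ qa f φ = qa f (φ ≫ β) := by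
  refine (v_comp' (x := ofCx A') (Q.map β) (qa f φ)).trans
    (congrArg (arr (x := ofCx A') (y := ofCx B) f) ?_)
  change ((facL f B).hom ≫ Q.map φ) ≫ Q.map β = _
  rw [Q.map_comp, Category.assoc]

/-- The standard cartesian morphism of a complex. -/
noncomputable def carCx (f : X ⟶ Y) (B : Cx Y) : ofCx ((cx (pull f)).obj B) ⟶ ofCx B :=
  qa f (𝟙 _)

@[simp] lemma carCx_base (f : X ⟶ Y) (B : Cx Y) : (carCx f B).base = f := rfl

lemma isC_carCx (f : X ⟶ Y) (B : Cx Y) : IsC (carCx f B) := by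
  rw [carCx, isC_qa]
  infer_instance

section bc

variable {X' Y' : Scheme.{u}} {f : X ⟶ Y} {g : Y' ⟶ Y} {f' : X' ⟶ Y'} {g' : X' ⟶ X}

/-- The base change map on complexes. -/
noncomputable def bcCx (w : g' ≫ f = f' ≫ g) (A : Cx X) :
    (cx (pull g)).obj ((cx (push f)).obj A) ⟶ (cx (push f')).obj ((cx (pull g')).obj A) where
  f n := baseChange0 f g f' g' w (A.X n)
  comm' i j _ := (baseChange0_naturality w (A.d i j)).symm

@[simp] lemma bcCx_f (w : g' ≫ f = f' ≫ g) (A : Cx X) (n : ℤ) :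
    (bcCx w A).f n = baseChange0 f g f' g' w (A.X n) := rfl

/-- The base change square of a complex. -/
lemma bcSquare (w : g' ≫ f = f' ≫ g) (A : Cx X) :
    (cou f' ((cx (pull g')).obj A) ≫ v (x := ofCx ((cx (push f')).obj ((cx (pull g')).obj A)))
      (Q.map (bcCx w A))) ≫ carCx g ((cx (push f)).obj A) = carCx g' A ≫ cou f A := by
  dsimp only [cou, carCx]
  rw [qa_v]
  refine (qa_comp (w.symm : f' ≫ g = g' ≫ f) _ _).trans
    (Eq.trans ?_ (qa_comp (rfl : g' ≫ f = g' ≫ f) _ _).symm)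
  congr 1
  apply HomologicalComplex.hom_ext
  intro n
  have h := square_sheaf w (rfl : g' ≫ f = g' ≫ f) (w.symm : f' ≫ g = g' ≫ f) (A.X n)
  have e1 : ((cxComp (pcomp (w.symm : f' ≫ g = g' ≫ f)) ((cx (push f)).obj A)).inv).f n =
    (pcomp (w.symm : f' ≫ g = g' ≫ f)).inv.app ((push f).obj (A.X n)) := cxComp_inv_f _ _ _
  have e2 : ((cxComp (pcomp (rfl : g' ≫ f = g' ≫ f)) ((cx (push f)).obj A)).inv).f n =
    (pcomp (rfl : g' ≫ f = g' ≫ f)).inv.app ((push f).obj (A.X n)) := cxComp_inv_f _ _ _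
  have k1 : (pull f').map (𝟙 ((pull g).obj ((push f).obj (A.X n)))) ≫
      (pull f').map (baseChange0 f g f' g' w (A.X n)) ≫
        (pullPushAdj f').counit.app ((pull g').obj (A.X n)) =
      (pull f').map (baseChange0 f g f' g' w (A.X n)) ≫
        (pullPushAdj f').counit.app ((pull g').obj (A.X n)) := by
    rw [CategoryTheory.Functor.map_id, Category.id_comp]
  exact (congrArg₂ CategoryStruct.comp e1 k1).trans (h.symm.trans
    (congrArg₂ CategoryStruct.comp e2 (Category.comp_id _)).symm)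

/-- Base change for adapted complexes. -/
lemma isU_bcSquare (w : g' ≫ f = f' ≫ g) (A : Cx X)
    (hA : Adapted (push f') ((cx (pull g')).obj A))
    (hbc : ∀ n, IsIso (baseChange0 f g f' g' w (A.X n))) :
    IsU (cou f' ((cx (pull g')).obj A) ≫
      v (x := ofCx ((cx (push f')).obj ((cx (pull g')).obj A))) (Q.map (bcCx w A))) := by
  refine (isU_cou f' hA).comp ((isU_v _).2 ?_)
  have : ∀ n, IsIso ((bcCx w A).f n) := hbc
  have : IsIso (bcCx w A) := HomologicalComplex.Hom.isIso_of_components _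
  infer_instance

end bc

end Groth.Agent.Sga4h.TotCat
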