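import Groth.Agent.Sga4h.TotBC
import Groth.Agent.Sga4h.TotCx
import Groth.Agent.Etrest.DCompEt
import Groth.Agent.LoccohB.RpushTri
import Groth.Agent.EtpbcB.BCFlat

/-!
# Existence of universal morphisms, and étale localization

* `exists_isU x f` : `R f_* K` exists for every `K ∈ D(X)`;
* `isU_etale` : universal morphisms are preserved by étale base change.
-/

set_option autoImplicit false
universe u
open CategoryTheory CategoryTheory.Limits AlgebraicGeometry Opposite DerivedCategory

namespace Groth.Agent.Sga4h.TotCat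

open EtCoh Groth.Agent.Sga4h.LPull Groth.Agent.Sga4h.ExMap Groth.Agent.PerfB.DQAdj

attribute [local instance] HasDerivedCategory.standard

variable {X Y : Scheme.{u}}

lemma exists_kinj (K : D X) : ∃ I : Cx X, I.IsKInjective ∧ Nonempty (K ≅ Q.obj I) :=
  Groth.Agent.LoccohB.RpushTri.exists_isKInjective_iso (Groth.Agent.Etrest.DCompEt.hasKInj X) K

/-- Existence of universal morphisms (`R f_* K` exists). -/
theorem exists_isU (x : Tot.{u}) (f : x.X ⟶ Y) :
    ∃ (M : D Y) (a : x ⟶ ⟨Y, M⟩), a.base = f ∧ IsU a := by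
  obtain ⟨I, hI, ⟨e⟩⟩ := exists_kinj x.K
  refine ⟨Q.obj ((cx (push f)).obj I), v (x := x) e.inv ≫ cou f I, ?_, ?_⟩
  · rw [comp_base]
    exact Category.id_comp f
  · exact ((isU_v (x := x) e.inv).2 inferInstance).comp (isU_cou f (adapted_of_isKInjective I))

/-- K-injective complexes are preserved by étale pullback. -/
lemma isKInjective_pull (j : Y ⟶ X) [Etale j] (I : Cx X) [I.IsKInjective] :
    ((cx (pull j)).obj I).IsKInjective := by
  have := EtaleRes.jCont j
  have := Groth.Agent.S0648.result j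
  let adj : EtShriek.extZero j ⊣ pull j :=
    (EtShriek.extZeroAdj j).ofNatIsoRight (EtaleRes.pullIsoRestr j).symm
  have : PreservesColimitsOfSize.{0, 0} (EtShriek.extZero j) := adj.leftAdjoint_preservesColimits
  have : PreservesFiniteColimits (EtShriek.extZero j) :=
    PreservesColimitsOfSize.preservesFiniteColimits _
  have : (EtShriek.extZero j).Additive := Functor.additive_of_preserves_binary_products _
  exact isKInjective_mapCx adj I

theorem geometricallyConnected_id (Y : Scheme.{u}) : GeometricallyConnected (𝟙 Y) := by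
  refine ⟨fun K _ y Z fst snd h ↦ ?_⟩
  have : IsIso snd := MorphismProperty.of_isPullback (P := MorphismProperty.isomorphisms Scheme.{u}) h
    (inferInstanceAs (IsIso (𝟙 Y)))
  exact (Scheme.homeoOfIso (asIso snd)).symm.surjective.connectedSpace
    (Scheme.homeoOfIso (asIso snd)).symm.continuous

/-- `baseChange0` is an isomorphism for étale base change. -/
lemma isIso_baseChange0_etale {X' Y' : Scheme.{u}} {f : X ⟶ Y} {g : Y' ⟶ Y} {f' : X' ⟶ Y'}
    {g' : X' ⟶ X} (H : IsPullback g' f' f g) [Etale g] (F : Ab X) :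
    IsIso (baseChange0 f g f' g' H.w F) := by
  refine Groth.Agent.EtpbcB.BCFlat.isIso_baseChange0_of_factor H F fun U y =>
    ⟨U.left, U.left, 𝟙 _, 𝟙 _, U.hom ≫ g, inferInstance, ⟨y, rfl⟩, inferInstance, rfl,
      inferInstance, inferInstance, geometricallyConnected_id _⟩

/-- Base change of a universal morphism, computed with an adapted complex. -/
theorem isU_of_cx {x y : Tot.{u}} {a : x ⟶ y} (ha : IsU a) {A : Cx x.X} (e : x.K ≅ Q.obj A)
    (hA : Adapted (push a.base) A) {X' Y' : Scheme.{u}} {gY : Y' ⟶ y.X}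
    {gX : X' ⟶ x.X} {K : D X'} {M : D Y'} {γ' : (⟨X', K⟩ : Tot) ⟶ x}
    {γ : (⟨Y', M⟩ : Tot) ⟶ y} (e1 : γ'.base = gX) (e2 : γ.base = gY) (hC' : IsC γ') (hC : IsC γ)
    {a' : (⟨X', K⟩ : Tot) ⟶ ⟨Y', M⟩} (w : a' ≫ γ = γ' ≫ a) (h : gX ≫ a.base = a'.base ≫ gY)
    (hA' : Adapted (push a'.base) ((cx (pull gX)).obj A))
    (hbc : ∀ n, IsIso (baseChange0 a.base gY a'.base gX h (A.X n))) : IsU a' := by
  let i : x ⟶ ofCx A := v (x := x) e.inv
  have hi : IsU i := (isU_v (x := x) e.inv).2 inferInstance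
  have hiC : IsC i := (isC_v (x := x) e.inv).2 inferInstance
  have hib : i.base = 𝟙 x.X := rfl
  -- comparison of the targets
  have hU : IsU (i ≫ cou a.base A) := hi.comp (isU_cou a.base hA)
  obtain ⟨d, hd, hd'⟩ := ha.exists_desc (i ≫ cou a.base A) (𝟙 y.X) (by
    rw [Category.comp_id]
    exact (Category.id_comp _).symm)
  have hdU : IsU d := ha.of_comp (by rw [hd']; exact hU)
  have hdC : IsC d := by
    obtain ⟨φ, rfl⟩ := exists_v (x := y) d hd
    exact (isC_v (x := y) φ).2 ((isU_v (x := y) φ).1 hdU)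
  refine isU_transfer (isC_carCx gX A) (hC'.comp hiC) (isC_carCx gY _) (hC.comp hdC) ?_ ?_
    (bcSquare h A) ?_ ?_ (isU_bcSquare h A hA' hbc)
  · rw [comp_base, hib, e1]
    exact (Category.comp_id _).symm
  · rw [comp_base, hd, e2]
    exact (Category.comp_id _).symm
  · rw [← Category.assoc, w, Category.assoc, hd', Category.assoc]
  · rw [comp_base]
    exact Category.comp_id _

/-- Universal morphisms are preserved by étale base change. -/
theorem isU_etale {x y : Tot.{u}} {a : x ⟶ y} (ha : IsU a) {X' Y' : Scheme.{u}} {gY : Y' ⟶ y.X}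
    {gX : X' ⟶ x.X} [Etale gY] {K : D X'} {M : D Y'} {γ' : (⟨X', K⟩ : Tot) ⟶ x}
    {γ : (⟨Y', M⟩ : Tot) ⟶ y} (e1 : γ'.base = gX) (e2 : γ.base = gY) (hC' : IsC γ') (hC : IsC γ)
    {a' : (⟨X', K⟩ : Tot) ⟶ ⟨Y', M⟩} (h2 : IsPullback gX a'.base a.base gY)
    (w : a' ≫ γ = γ' ≫ a) : IsU a' := by
  have : Etale gX := MorphismProperty.of_isPullback (P := @Etale) h2.flip inferInstance
  obtain ⟨I, hI, ⟨e⟩⟩ := exists_kinj x.K
  have := isKInjective_pull gX I
  exact isU_of_cx ha e (adapted_of_isKInjective I) e1 e2 hC' hC w h2.w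
    (adapted_of_isKInjective _) (fun n => isIso_baseChange0_etale h2 (I.X n))

end Groth.Agent.Sga4h.TotCat
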