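import Groth.Agent.Sga4h.TotTri
import Groth.Agent.Sga4A.IntegralSection
import Groth.Agent.S0621
import Groth.Agent.S0631
import Groth.Agent.S0651
import Groth.Agent.Etcore.OpenClosed
import Groth.Agent.Etcore.ShriekBasic
import Groth.Agent.Sga4h.FinCounit

/-!
# Conservativity, immersions, finite morphisms, universal homeomorphisms in the total category
-/

set_option autoImplicit false
universe u
open CategoryTheory CategoryTheory.Limits AlgebraicGeometry Opposite DerivedCategory Pretriangulated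

namespace Groth.Agent.Sga4h.TotCat

open EtCoh Groth.Agent.Sga4h.LPull Groth.Agent.Sga4h.UnivTri Groth.Agent.Sga4h.ExMap
open Groth.Agent.PerfB.DQAdj Groth.Agent.EtpbcB Groth.Agent.Dcoh.MapDer

attribute [local instance] HasDerivedCategory.standard

variable {X Y Z S : Scheme.{u}}

section conservative

/-- Isomorphisms of sheaves are detected on a jointly surjective family. -/
lemma isIso_of_cover {ι : Type*} {X : ι → Scheme.{u}} (g : ∀ i, X i ⟶ Y)
    (hg : ∀ y : Y, ∃ i, ∃ x : X i, (g i) x = y) {F G : Ab Y} (φ : F ⟶ G)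
    (h : ∀ i, IsIso ((pull (g i)).map φ)) : IsIso φ := by
  apply Etcore.Stalks.isIso_of_stalks
  intro y
  obtain ⟨i, x, rfl⟩ := hg y
  obtain ⟨Ω, i1, i2, ξ, hξ⟩ := Etcore.Stalks.exists_geom x
  refine ⟨Ω, i1, i2, ξ ≫ g i, ?_, ?_⟩
  · rw [Scheme.Hom.comp_apply, hξ]
  · have := h i
    rw [NatIso.isIso_map_iff (SepClosedPoint.stalkIsoGammaPull Ω (ξ ≫ g i)) φ]
    have h2 : IsIso ((pull (ξ ≫ g i)).map φ) := by
      rw [← NatIso.isIso_map_iff (pcomp (rfl : ξ ≫ g i = ξ ≫ g i)) φ]
      rw [Functor.comp_map]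
      infer_instance
    exact inferInstanceAs (IsIso ((SepClosedPoint.Γtop _).map ((pull (ξ ≫ g i)).map φ)))

/-- Isomorphisms in the derived category are detected on a jointly surjective family. -/
lemma isIso_of_cover_D {ι : Type*} {X : ι → Scheme.{u}} (g : ∀ i, X i ⟶ Y)
    (hg : ∀ y : Y, ∃ i, ∃ x : X i, (g i) x = y) {K M : D Y} (φ : K ⟶ M)
    (h : ∀ i, IsIso ((L (g i)).map φ)) : IsIso φ := by
  rw [DerivedCategory.isIso_iff]
  intro n
  apply isIso_of_cover g hg
  intro i
  have := h i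
  rw [← isIso_homology_map_iff (pull (g i)) φ n]
  have : IsIso ((pull (g i)).mapDerivedCategory.map φ) := this
  infer_instance

end conservative

section finite

/-- Every complex is adapted to `f_*`, `f` integral. -/
lemma adapted_of_integral (f : X ⟶ Y) [IsIntegralHom f] (A : Cx X) : Adapted (push f) A := by
  have : PreservesFiniteColimits (push f) := Sga4A.EtSplit.preservesFiniteColimits_push f
  exact adapted_of_exact A (Etrest.DCompEt.hasKInj X A)

/-- Universal morphisms over finite morphisms are stable under base change. -/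
theorem uu_of_isFinite {x y : Tot.{u}} {a : x ⟶ y} (ha : IsU a) [IsFinite a.base]
    (b : y.X ⟶ S) : UU b a := by
  intro S' X' Y' g b' gY f' gX h1 h2 a' e w
  subst e
  obtain ⟨I, hI, ⟨e⟩⟩ := exists_kinj x.K
  have : IsFinite a'.base := MorphismProperty.of_isPullback (P := @IsFinite) h2 inferInstance
  exact isU_of_cx ha e (adapted_of_integral _ I) rfl rfl (isC_car _ _) (isC_car _ _) w h2.w
    (adapted_of_integral _ _) (fun n => Groth.Agent.S0621.result _ _ _ _ h2 _)

end finite

section counit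

/-- Universal morphisms over `f` are cartesian if the counit `f⁻¹ f_* ⟶ 𝟭` is an isomorphism. -/
def Imm (f : X ⟶ Y) : Prop :=
  ∀ (K : D X) (M : D Y) (a : (⟨X, K⟩ : Tot) ⟶ ⟨Y, M⟩), a.base = f → IsU a → IsC a

lemma imm_of_isIso_counit (f : X ⟶ Y) [h : IsIso (pullPushAdj f).counit] : Imm f := by
  rintro K M a rfl ha
  obtain ⟨I, hI, ⟨e⟩⟩ := exists_kinj K
  let i : (⟨X, K⟩ : Tot) ⟶ ofCx I := v (x := ⟨X, K⟩) e.inv
  have hi : IsU i := (isU_v (x := ⟨X, K⟩) e.inv).2 inferInstance
  have hiC : IsC i := (isC_v (x := ⟨X, K⟩) e.inv).2 inferInstance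
  have hib : i.base = 𝟙 X := rfl
  have hU : IsU (i ≫ cou a.base I) := hi.comp (isU_cou a.base (adapted_of_isKInjective I))
  obtain ⟨d, hd, hd'⟩ := ha.exists_desc (i ≫ cou a.base I) (𝟙 Y) (by
    rw [Category.comp_id]
    exact (Category.id_comp _).symm)
  have hdU : IsU d := ha.of_comp (by rw [hd']; exact hU)
  have hdC : IsC d := by
    obtain ⟨φ, rfl⟩ := exists_v (x := ⟨Y, M⟩) d hd
    exact (isC_v (x := ⟨Y, M⟩) φ).2 ((isU_v (x := ⟨Y, M⟩) φ).1 hdU)
  have hc : IsC (cou a.base I) := by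
    rw [cou, isC_qa]
    infer_instance
  exact IsC.of_comp hdC (by rw [hd']; exact hiC.comp hc)

lemma Imm.comp {f : X ⟶ Y} {g : Y ⟶ Z} (hf : Imm f) (hg : Imm g) : Imm (f ≫ g) := by
  intro K M a e ha
  obtain ⟨N, a₁, e₁, h₁⟩ := exists_isU ⟨X, K⟩ f
  obtain ⟨c, hc, hc'⟩ := h₁.exists_desc a g (by rw [e₁, e])
  have hU : IsU c := h₁.of_comp (by rw [hc']; exact ha)
  rw [← hc']
  exact (hf _ _ _ e₁ h₁).comp (hg _ _ _ hc hU)

lemma imm_of_isOpenImmersion (f : X ⟶ Y) [IsOpenImmersion f] : Imm f := by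
  have := EtaleRes.jCont f
  have : IsIso (pullPushAdj f).counit := by
    have : ∀ F, IsIso ((pullPushAdj f).counit.app F) := fun F => (Groth.Agent.S0651.result f F).1
    exact NatIso.isIso_of_isIso_app _
  exact imm_of_isIso_counit f

lemma imm_of_isClosedImmersion (f : X ⟶ Y) [IsClosedImmersion f] : Imm f := by
  have : IsIso (pullPushAdj f).counit := inferInstance
  exact imm_of_isIso_counit f

lemma imm_of_univInj (f : X ⟶ Y) [IsIntegralHom f] [UniversallyInjective f] : Imm f := by
  have : IsIso (pullPushAdj f).counit := by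
    have : ∀ F, IsIso ((pullPushAdj f).counit.app F) := (Groth.Agent.S0631.result f).2.2.2
    exact NatIso.isIso_of_isIso_app _
  exact imm_of_isIso_counit f

lemma imm_of_isImmersion (f : X ⟶ Y) [IsImmersion f] : Imm f := by
  rw [← f.liftCoborder_ι]
  exact (imm_of_isClosedImmersion _).comp (imm_of_isOpenImmersion _)

end counit

end Groth.Agent.Sga4h.TotCat
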