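import Groth.Agent.EtpbcA.P1Charts

/-!
# The section at infinity of `P^1_B`
-/

set_option autoImplicit false
universe u
open CategoryTheory CategoryTheory.Limits AlgebraicGeometry Opposite Polynomial

namespace Groth.Agent.Sga4h.RelC1Geo

open Groth.Agent.EtpbcA.P1Charts

variable (B : CommRingCat.{u})

instance isProper_toB : IsProper (toB B) := Groth.Agent.Dix.ProjProper.isProper_toBase 1 (Spec B)

/-- the zero section of the affine line -/
noncomputable def zeroSec : Spec B ⟶ AA B :=
  Spec.map (CommRingCat.ofHom (Polynomial.evalRingHom (0 : B)))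

@[reassoc (attr := simp)]
theorem zeroSec_pr : zeroSec B ≫ pr B = 𝟙 _ := by
  rw [zeroSec, pr, ← Spec.map_comp, ← Spec.map_id, ← CommRingCat.ofHom_comp]
  congr 1
  ext b
  simp

theorem X_mem_zeroSec (s : Spec B) : (Polynomial.X : Polynomial B) ∈ (zeroSec B s).asIdeal := by
  change (Polynomial.evalRingHom (0 : B)) Polynomial.X ∈ s.asIdeal
  simp

theorem mem_range_zeroSec_iff (w : AA B) :
    w ∈ Set.range (zeroSec B) ↔ (Polynomial.X : Polynomial B) ∈ w.asIdeal := by
  constructor
  · rintro ⟨s, rfl⟩
    exact X_mem_zeroSec B s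
  · intro h
    refine ⟨pr B w, eq_of_X_mem B _ _ (X_mem_zeroSec B _) h ?_⟩
    rw [← Scheme.Hom.comp_apply, zeroSec_pr]; rfl

/-- the section at infinity -/
noncomputable def infty : Spec B ⟶ PP B := zeroSec B ≫ chart (0 + 1) B

@[reassoc (attr := simp)]
theorem infty_toB : infty B ≫ toB B = 𝟙 _ := by
  rw [infty, Category.assoc, chart_toB, zeroSec_pr]

instance isClosedImmersion_infty : IsClosedImmersion (infty B) := by
  have h : IsClosedImmersion (infty B ≫ toB B) := by
    rw [infty_toB]; infer_instance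
  exact IsClosedImmersion.of_comp (infty B) (toB B)

instance isFinite_infty_toB : IsFinite (infty B ≫ toB B) := by
  rw [infty_toB]; infer_instance

theorem range_infty : Set.range (infty B) = (Set.range (chart 0 B))ᶜ := by
  ext z
  constructor
  · rintro ⟨s, rfl⟩ h
    have h2 : chart (0 + 1) B (zeroSec B s) ∈ Set.range (chart 0 B) := by
      rwa [infty, Scheme.Hom.comp_apply] at h
    exact (chart_mem_range_iff 0 B _).1 h2 (X_mem_zeroSec B s)
  · intro hz
    obtain ⟨w, rfl, hw⟩ := mem_range_other 0 B z hz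
    obtain ⟨s, rfl⟩ := (mem_range_zeroSec_iff B w).2 hw
    exact ⟨s, by rw [infty, Scheme.Hom.comp_apply]⟩

/-- inverse image of the range of `chart 0` under `t ≫ chart 1` -/
theorem preimage_range_chart {U : Scheme.{u}} (t : U ⟶ AA B) :
    (t ≫ chart (0 + 1) B) ⁻¹' (Set.range (chart 0 B)) =
      {v | (Polynomial.X : Polynomial B) ∉ (t v).asIdeal} := by
  ext v
  exact chart_mem_range_iff 0 B (t v)

end Groth.Agent.Sga4h.RelC1Geo
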