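import Groth.Agent.Sga4h.GeoLocal
import Groth.Agent.Sga4h.RelC1Geo

/-!
# Etale charts of a relative etale divisor in a smooth relative curve
-/

set_option autoImplicit false
universe u
open CategoryTheory CategoryTheory.Limits AlgebraicGeometry Opposite Polynomial

namespace Groth.Agent.Sga4h.RelC2Geo

open Groth.Agent.EtpbcA.P1Charts

/-- Scheme form of `GeoLocal.exists_etale_coordinate`. -/
theorem exists_etale_chart {Q Y E : Scheme.{u}} (p : Q ⟶ Y) [SmoothOfRelativeDimension 1 p]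
    (i : E ⟶ Q) [IsClosedImmersion i] [Etale (i ≫ p)] (e : E) :
    ∃ (B : CommRingCat.{u}) (v : Spec B ⟶ Y) (U : Scheme.{u}) (ι : U ⟶ Q) (t : U ⟶ AA B),
      IsOpenImmersion v ∧ IsOpenImmersion ι ∧ IsAffine U ∧ Etale t ∧ ι ≫ p = t ≫ pr B ≫ v ∧
      i e ∈ Set.range ι ∧
      ∀ u : U, ι u ∈ Set.range i ↔ (Polynomial.X : Polynomial B) ∈ (t u).asIdeal := by
  obtain ⟨V, hV, U, hU, hUV, t, heU, het, hker⟩ := GeoLocal.exists_etale_coordinate p i e
  refine ⟨Γ(Y, V), hV.fromSpec, Spec Γ(Q, U), hU.fromSpec,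
    Spec.map (CommRingCat.ofHom (Polynomial.eval₂RingHom (p.appLE V U hUV).hom t)),
    inferInstance, inferInstance, inferInstance,
    (HasRingHomProperty.Spec_iff (P := @Etale)).2 het, ?_, ?_, ?_⟩
  · rw [← IsAffineOpen.SpecMap_appLE_fromSpec p hV hU hUV, pr, ← Spec.map_comp_assoc]
    congr 2
    apply CommRingCat.hom_ext
    apply RingHom.ext
    intro b
    simp
  · rw [hU.range_fromSpec]
    exact heU
  · intro u
    have hsurj : Function.Surjective (i.app U).hom := Scheme.Hom.app_surjective i U hU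
    have hE : IsAffineOpen (i ⁻¹ᵁ U) := hU.preimage i
    have hc : hE.fromSpec ≫ i = Spec.map (i.app U) ≫ hU.fromSpec := by
      rw [Scheme.Hom.app_eq_appLE, IsAffineOpen.SpecMap_appLE_fromSpec]
    have h1 : hU.fromSpec u ∈ Set.range i ↔ u ∈ Set.range (Spec.map (i.app U)) := by
      constructor
      · rintro ⟨e', he'⟩
        have h2 : e' ∈ Set.range hE.fromSpec := by
          rw [hE.range_fromSpec]
          change i e' ∈ U
          rw [he']
          have h3 : hU.fromSpec u ∈ Set.range hU.fromSpec := ⟨u, rfl⟩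
          rwa [hU.range_fromSpec] at h3
        obtain ⟨e'', rfl⟩ := h2
        refine ⟨e'', hU.fromSpec.isOpenEmbedding.injective ?_⟩
        rw [← he', ← Scheme.Hom.comp_apply, ← Scheme.Hom.comp_apply, hc]
      · rintro ⟨e'', rfl⟩
        refine ⟨hE.fromSpec e'', ?_⟩
        rw [← Scheme.Hom.comp_apply, ← Scheme.Hom.comp_apply, hc]
    rw [h1]
    have h2 : Set.range (Spec.map (i.app U)) = PrimeSpectrum.zeroLocus (RingHom.ker (i.app U).hom) :=
      range_comap_of_surjective _ _ hsurj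
    rw [h2, hker, PrimeSpectrum.zeroLocus_span]
    change ({t} : Set Γ(Q, U)) ⊆ (u.asIdeal : Set Γ(Q, U)) ↔
      Polynomial.eval₂RingHom (p.appLE V U hUV).hom t Polynomial.X ∈ u.asIdeal
    rw [Set.singleton_subset_iff, Polynomial.coe_eval₂RingHom, Polynomial.eval₂_X]
    rfl

end Groth.Agent.Sga4h.RelC2Geo
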