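import Groth.Agent.Sga4h.ExMap
import Groth.Agent.EtpbcB.BCIso
import Groth.Agent.Sga4h.PushDer
import Mathlib.CategoryTheory.Adjunction.CompositionIso

/-!
# Coherent pullback of abelian étale sheaves, on sheaves and on derived categories

* `pcomp (w : f ≫ g = k) : pull g ⋙ pull f ≅ pull k`, `pid X : pull (𝟙 X) ≅ 𝟭 _`, with associativity and
  unit laws;
* `L f : D Y ⥤ D X`, `Lcomp (w : f ≫ g = k) : L g ⋙ L f ≅ L k`, `Lid X`, the same laws, and
  compatibility with shifts.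
-/

set_option autoImplicit false
universe u
open CategoryTheory CategoryTheory.Limits AlgebraicGeometry Opposite DerivedCategory

namespace Groth.Agent.Sga4h.LPull

open EtCoh Groth.Agent.EtpbcB Groth.Agent.EtpbcB.BCCalc Groth.Agent.EtpbcB.BCIso
open Groth.Agent.Sga4h.ExMap Groth.Agent.Dcoh.MapDer

variable {W X Y Z : Scheme.{u}}

section push

/-- `(f ≫ g)^* U ≅ f^* g^* U`. -/
noncomputable def cIso {f : X ⟶ Y} {g : Y ⟶ Z} {k : X ⟶ Z} (w : f ≫ g = k) (U : Z.Etale) :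
    (bc k).obj U ≅ (bc f).obj ((bc g).obj U) :=
  (congrIso w U).symm ≪≫ compIso g f U

@[reassoc (attr := simp)]
lemma cIso_hom_left_pr {f : X ⟶ Y} {g : Y ⟶ Z} {k : X ⟶ Z} (w : f ≫ g = k) (U : Z.Etale) :
    (cIso w U).hom.left ≫ pr f _ ≫ pr g U = pr k U := by
  simp only [cIso, Iso.trans_hom, Iso.symm_hom, comp_left, Category.assoc, compIso_hom_left_pr,
    congrIso_inv_left_pr]

/-- `f_* ⋙ g_* ≅ (f ≫ g)_*`. -/
noncomputable def pushC {f : X ⟶ Y} {g : Y ⟶ Z} {k : X ⟶ Z} (w : f ≫ g = k) :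
    push f ⋙ push g ≅ push k :=
  pushComp g f ≪≫ pushCongr w

lemma pushC_hom_app_app {f : X ⟶ Y} {g : Y ⟶ Z} {k : X ⟶ Z} (w : f ≫ g = k) (F : Ab X)
    (U : Z.Etale) :
    ((pushC w).hom.app F).hom.app (op U) = F.obj.map (cIso w U).hom.op := by
  simp only [pushC, cIso, Iso.trans_hom, NatTrans.comp_app, op_comp, Functor.map_comp]
  rfl

lemma pushC_assoc {f : W ⟶ X} {g : X ⟶ Y} {h : Y ⟶ Z} {fg : W ⟶ Y} {gh : X ⟶ Z} {k : W ⟶ Z}
    (w₁ : f ≫ g = fg) (w₂ : g ≫ h = gh) (w₃ : fg ≫ h = k) (w₄ : f ≫ gh = k) :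
    Functor.isoWhiskerLeft (push f) (pushC w₂) ≪≫ pushC w₄ =
      (Functor.associator _ _ _).symm ≪≫ Functor.isoWhiskerRight (pushC w₁) _ ≪≫ pushC w₃ := by
  ext F : 3
  apply ab_hom_ext
  intro U
  have e1 : (((Functor.isoWhiskerLeft (push f) (pushC w₂) ≪≫ pushC w₄).hom.app F).hom.app (op U)) =
      F.obj.map ((cIso w₄ U).hom ≫ (bc f).map (cIso w₂ U).hom).op := by
    have a1 : ((pushC w₂).hom.app ((push f).obj F)).hom.app (op U) =
        F.obj.map ((bc f).map (cIso w₂ U).hom).op := pushC_hom_app_app w₂ ((push f).obj F) U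
    rw [op_comp, Functor.map_comp, ← a1, ← pushC_hom_app_app w₄ F U]
    rfl
  have e2 : ((((Functor.associator _ _ _).symm ≪≫ Functor.isoWhiskerRight (pushC w₁) (push h) ≪≫
      pushC w₃).hom.app F).hom.app (op U)) =
      F.obj.map ((cIso w₃ U).hom ≫ (cIso w₁ ((bc h).obj U)).hom).op := by
    have a1 : ((push h).map ((pushC w₁).hom.app F)).hom.app (op U) =
        F.obj.map (cIso w₁ ((bc h).obj U)).hom.op := pushC_hom_app_app w₁ F ((bc h).obj U)
    rw [op_comp, Functor.map_comp, ← a1, ← pushC_hom_app_app w₃ F U]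
    simp only [Iso.trans_hom, NatTrans.comp_app, Functor.isoWhiskerRight_hom,
      Functor.whiskerRight_app]
    exact Category.id_comp _
  rw [e1, e2]
  congr 2
  apply hom_ext_bc₃ h g f
  simp only [comp_left, Category.assoc, bc_map_left_pr_assoc, cIso_hom_left_pr,
    cIso_hom_left_pr_assoc]

lemma pushId_hom_app_app (F : Ab X) (U : X.Etale) :
    ((pushId X).hom.app F).hom.app (op U) = F.obj.map ((bcId X).inv.app U).op := rfl

@[reassoc (attr := simp)]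
lemma bcId_inv_left_pr (U : X.Etale) : ((bcId X).inv.app U).left ≫ pr (𝟙 X) U = 𝟙 U.left := by
  have h : ((bcId X).hom.app U).left = pr (𝟙 X) U := rfl
  rw [← h, ← comp_left, Iso.inv_hom_id_app]
  rfl

lemma pushC_id_comp {f : X ⟶ Y} (w : 𝟙 X ≫ f = f) :
    pushC w = Functor.isoWhiskerRight (pushId X) (push f) ≪≫ Functor.leftUnitor _ := by
  ext F : 3
  apply ab_hom_ext
  intro U
  have a1 : ((push f).map ((pushId X).hom.app F)).hom.app (op U) =
        F.obj.map ((bcId X).inv.app ((bc f).obj U)).op := rfl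
  have e1 : ((Functor.isoWhiskerRight (pushId X) (push f) ≪≫ Functor.leftUnitor _).hom.app F).hom.app
      (op U) = F.obj.map ((bcId X).inv.app ((bc f).obj U)).op := by
    rw [← a1]
    simp only [Iso.trans_hom, NatTrans.comp_app, Functor.isoWhiskerRight_hom,
      Functor.whiskerRight_app]
    exact Category.comp_id _
  rw [pushC_hom_app_app, e1]
  congr 2
  apply hom_ext_bc₂ f (𝟙 X)
  rw [cIso_hom_left_pr, bcId_inv_left_pr_assoc]

lemma pushC_comp_id {f : X ⟶ Y} (w : f ≫ 𝟙 Y = f) :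
    pushC w = Functor.isoWhiskerLeft (push f) (pushId Y) ≪≫ Functor.rightUnitor _ := by
  ext F : 3
  apply ab_hom_ext
  intro U
  have a1 : ((pushId Y).hom.app ((push f).obj F)).hom.app (op U) =
        F.obj.map ((bc f).map ((bcId Y).inv.app U)).op := rfl
  have e1 : ((Functor.isoWhiskerLeft (push f) (pushId Y) ≪≫ Functor.rightUnitor _).hom.app F).hom.app
      (op U) = F.obj.map ((bc f).map ((bcId Y).inv.app U)).op := by
    rw [← a1]
    simp only [Iso.trans_hom, NatTrans.comp_app, Functor.isoWhiskerLeft_hom,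
      Functor.whiskerLeft_app]
    exact Category.comp_id _
  rw [pushC_hom_app_app, e1]
  congr 2
  apply hom_ext_bc₂ (𝟙 Y) f
  rw [cIso_hom_left_pr, bc_map_left_pr_assoc, bcId_inv_left_pr]
  exact (Category.comp_id _).symm

end push

section pull

/-- `g^{-1} ⋙ f^{-1} ≅ (f ≫ g)^{-1}`. -/
noncomputable def pcomp {f : X ⟶ Y} {g : Y ⟶ Z} {k : X ⟶ Z} (w : f ≫ g = k) :
    pull g ⋙ pull f ≅ pull k :=
  Adjunction.leftAdjointCompIso (pullPushAdj g) (pullPushAdj f) (pullPushAdj k) (pushC w)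

/-- `(𝟙 X)^{-1} ≅ 𝟭`. -/
noncomputable def pid (X : Scheme.{u}) : pull (𝟙 X) ≅ 𝟭 (Ab X) :=
  Adjunction.leftAdjointIdIso (pullPushAdj (𝟙 X)) (pushId X)

lemma pcomp_assoc {f : W ⟶ X} {g : X ⟶ Y} {h : Y ⟶ Z} {fg : W ⟶ Y} {gh : X ⟶ Z} {k : W ⟶ Z}
    (w₁ : f ≫ g = fg) (w₂ : g ≫ h = gh) (w₃ : fg ≫ h = k) (w₄ : f ≫ gh = k) (F : Ab Z) :
    (pcomp w₁).hom.app ((pull h).obj F) ≫ (pcomp w₃).hom.app F =
      (pull f).map ((pcomp w₂).hom.app F) ≫ (pcomp w₄).hom.app F := by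
  have := Adjunction.leftAdjointCompIso_assoc (pullPushAdj h) (pullPushAdj g) (pullPushAdj f)
    (pullPushAdj gh) (pullPushAdj fg) (pullPushAdj k) (pushC w₂) (pushC w₁) (pushC w₃) (pushC w₄)
    (pushC_assoc w₁ w₂ w₃ w₄)
  have h2 := congrArg (fun e => e.hom.app F) this
  simp only [Iso.trans_hom, NatTrans.comp_app, Functor.isoWhiskerLeft_hom,
    Functor.whiskerLeft_app, Functor.isoWhiskerRight_hom, Functor.whiskerRight_app, Iso.symm_hom,
    Functor.associator_inv_app] at h2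
  exact h2.trans (Category.id_comp _)

lemma pcomp_id_comp {f : X ⟶ Y} (w : 𝟙 X ≫ f = f) (F : Ab Y) :
    (pcomp w).hom.app F = (pid X).hom.app ((pull f).obj F) := by
  have := Adjunction.leftAdjointCompIso_comp_id (pullPushAdj f) (pullPushAdj (𝟙 X)) (pushC w)
    (pushId X) (pushC_id_comp w)
  have h2 := congrArg (fun e => e.hom.app F) this
  exact h2.trans (Category.comp_id _)

lemma pcomp_comp_id {f : X ⟶ Y} (w : f ≫ 𝟙 Y = f) (F : Ab Y) :
    (pcomp w).hom.app F = (pull f).map ((pid Y).hom.app F) := by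
  have := Adjunction.leftAdjointCompIso_id_comp (pullPushAdj (𝟙 Y)) (pullPushAdj f) (pushC w)
    (pushId Y) (pushC_comp_id w)
  have h2 := congrArg (fun e => e.hom.app F) this
  exact h2.trans (Category.comp_id _)

end pull

attribute [local instance] HasDerivedCategory.standard

/-- The derived category of abelian étale sheaves. -/
abbrev D (X : Scheme.{u}) : Type (u + 2) := DerivedCategory (Ab X)

/-- Pullback on derived categories. -/
noncomputable def L (f : X ⟶ Y) : D Y ⥤ D X := (pull f).mapDerivedCategory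

noncomputable instance (f : X ⟶ Y) : (L f).CommShift ℤ :=
  inferInstanceAs ((pull f).mapDerivedCategory.CommShift ℤ)

instance (f : X ⟶ Y) : (L f).IsTriangulated :=
  inferInstanceAs (pull f).mapDerivedCategory.IsTriangulated

instance (f : X ⟶ Y) : (L f).Additive := inferInstance

/-- `L g ⋙ L f ≅ L (f ≫ g)`. -/
noncomputable def Lcomp {f : X ⟶ Y} {g : Y ⟶ Z} {k : X ⟶ Z} (w : f ≫ g = k) : L g ⋙ L f ≅ L k :=
  mapDerCompIso (pcomp w)

/-- `L (𝟙 X) ≅ 𝟭`. -/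
noncomputable def Lid (X : Scheme.{u}) : L (𝟙 X) ≅ 𝟭 (D X) := mapDerIdIso (pid X)

@[reassoc]
lemma Lcomp_assoc {f : W ⟶ X} {g : X ⟶ Y} {h : Y ⟶ Z} {fg : W ⟶ Y} {gh : X ⟶ Z} {k : W ⟶ Z}
    (w₁ : f ≫ g = fg) (w₂ : g ≫ h = gh) (w₃ : fg ≫ h = k) (w₄ : f ≫ gh = k) (K : D Z) :
    (Lcomp w₁).hom.app ((L h).obj K) ≫ (Lcomp w₃).hom.app K =
      (L f).map ((Lcomp w₂).hom.app K) ≫ (Lcomp w₄).hom.app K :=
  (mapDerCompIso_assoc (pcomp w₂) (pcomp w₁) (pcomp w₄) (pcomp w₃)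
    (fun F => (pcomp_assoc w₁ w₂ w₃ w₄ F).symm) K).symm

@[reassoc]
lemma Lcomp_assoc_inv {f : W ⟶ X} {g : X ⟶ Y} {h : Y ⟶ Z} {fg : W ⟶ Y} {gh : X ⟶ Z} {k : W ⟶ Z}
    (w₁ : f ≫ g = fg) (w₂ : g ≫ h = gh) (w₃ : fg ≫ h = k) (w₄ : f ≫ gh = k) (K : D Z) :
    (Lcomp w₃).inv.app K ≫ (Lcomp w₁).inv.app ((L h).obj K) =
      (Lcomp w₄).inv.app K ≫ (L f).map ((Lcomp w₂).inv.app K) := by
  rw [← cancel_epi ((Lcomp w₃).hom.app K), ← cancel_epi ((Lcomp w₁).hom.app ((L h).obj K)),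
    Iso.hom_inv_id_app_assoc, Iso.hom_inv_id_app,
    Lcomp_assoc_assoc w₁ w₂ w₃ w₄,
    Iso.hom_inv_id_app_assoc, ← Functor.map_comp, Iso.hom_inv_id_app]
  exact ((L f).map_id _).symm

lemma Lcomp_id_comp {f : X ⟶ Y} (w : 𝟙 X ≫ f = f) (K : D Y) :
    (Lcomp w).hom.app K = (Lid X).hom.app ((L f).obj K) :=
  mapDerCompIso_comp_id (pid X) (pcomp w) (fun F => pcomp_id_comp w F) K

lemma Lcomp_comp_id {f : X ⟶ Y} (w : f ≫ 𝟙 Y = f) (K : D Y) :
    (Lcomp w).hom.app K = (L f).map ((Lid Y).hom.app K) :=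
  mapDerCompIso_id_comp (pid Y) (pcomp w) (fun F => pcomp_comp_id w F) K

instance {f : X ⟶ Y} {g : Y ⟶ Z} {k : X ⟶ Z} (w : f ≫ g = k) :
    NatTrans.CommShift (Lcomp w).hom ℤ :=
  commShift_mapDerCompIso (pcomp w)

end Groth.Agent.Sga4h.LPull
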