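import Groth.Agent.Sga4h.TBLam
import Groth.Agent.Etrest.Cons752
import Groth.Agent.Etrest.ModUC
import Groth.Agent.Etrest.ModUC3
import Groth.Agent.Etrest.ConstBasic
import Groth.Agent.EtpbcB.TorsionBasic

/-!
# Finiteness of `R^q f_* M` for constant sheaves of `Λ`-modules from finiteness for `ℤ/ℓ`
-/

set_option autoImplicit false
universe u

open CategoryTheory CategoryTheory.Limits AlgebraicGeometry Opposite

namespace Groth.Agent.Sga4h.TBConst

open Groth.Agent.Sga4h.TBLam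

variable {Λ : Type (u + 1)} [CommRing Λ]

theorem isConstructible_of_zmod {X Y : Scheme.{u}} (f : X ⟶ Y) [QuasiCompact f] [QuasiSeparated f] (q : ℕ)
    (ℓ : ℕ) [Fact ℓ.Prime] (h : EtPBC.IsConstructible ((EtCoh.Rpush f q).obj (EtCoh.const X (ZMod ℓ))))
    (N : Type (u + 1)) [AddCommGroup N] [Module Λ N] [Module.Finite Λ N] (hN : ∀ m : N, ℓ • m = 0) :
    EtModW.IsConstructible Λ ((EtModW.Rpush Λ f q).obj (EtModW.constMod Λ X N)) := by
  have : NeZero ℓ := ⟨(Fact.out : ℓ.Prime).ne_zero⟩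
  have hk : EtCoh.KilledBy ℓ (EtCoh.const X (ZMod ℓ)) :=
    EtpbcB.TorsionBasic.killedBy_const (ZMod ℓ) ℓ (fun m => by simp)
  obtain ⟨e⟩ := Etrest.ModUC3.nonempty_tens_const (Λ := Λ) (X := X) ℓ N hN
  refine Etrest.ModCons.isConstructible_of_iso ((EtModW.Rpush Λ f q).mapIso e) ?_
  exact Etrest.ModCons.isConstructible_of_ab _ h fun T g _ hT =>
    Etrest.ModUC.ftlc_Rpush_tens f g q ℓ _ hk N hN hT

theorem isConstructible_of_isEmpty {X : Scheme.{u}} [IsEmpty X] (F : EtModW.Mod Λ X) :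
    EtModW.IsConstructible Λ F :=
  Etcore.LCrit.isConstructible_of_local' F fun x => isEmptyElim x

theorem finConst {S : Scheme.{u}} [IsNoetherian S] [IsNoetherianRing Λ] (n : ℕ) (hn : IsUnit (n : Γ(S, ⊤)))
    (hΛ : (n : Λ) = 0)
    (h : ∀ {X Y : Scheme.{u}} (a : X ⟶ S) (b : Y ⟶ S) [LocallyOfFiniteType a] [QuasiCompact a]
      [LocallyOfFiniteType b] [QuasiCompact b] (f : X ⟶ Y) (_ : f ≫ b = a) (ℓ : ℕ),
      ℓ.Prime → IsUnit (ℓ : Γ(S, ⊤)) → ∀ q : ℕ,
        EtPBC.IsConstructible ((EtCoh.Rpush f q).obj (EtCoh.const X (ZMod ℓ)))) : FinConst S Λ := by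
  intro X Y a b _ _ _ _ f w M _ _ _ q
  rcases Nat.eq_zero_or_pos n with rfl | hpos
  · have h1 : IsEmpty S := by
      rw [Nat.cast_zero, isUnit_zero_iff] at hn
      refine ⟨fun x => ?_⟩
      have h2 := congrArg (S.presheaf.germ ⊤ x trivial).hom hn
      rw [map_zero, map_one] at h2
      exact zero_ne_one h2
    have : IsEmpty Y := Function.isEmpty b
    exact isConstructible_of_isEmpty _
  have hX : IsNoetherian X := isNoetherian_of a
  have hY : IsNoetherian Y := isNoetherian_of b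
  have hqc : QuasiCompact f := quasiCompact_of_compactSpace f
  have hqs : QuasiSeparated f := inferInstance
  refine Etrest.Cons752.isConstructible_of_prime f ?_ n hpos M (fun m => ?_) q
  · intro ℓ hℓ N _ _ _ hN q
    by_cases hd : ℓ ∣ n
    · obtain ⟨m, hm⟩ := hd
      refine isConstructible_of_zmod f q ℓ (h a b f w ℓ hℓ.out ?_ q) N hN
      rw [hm, Nat.cast_mul] at hn
      exact isUnit_of_mul_isUnit_left hn
    · have hc : Nat.Coprime ℓ n := (Nat.Prime.coprime_iff_not_dvd hℓ.out).2 hd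
      have h1 : ∀ m : N, m = 0 := by
        intro m
        have h2 : (n : ℕ) • m = 0 := by
          rw [← Nat.cast_smul_eq_nsmul Λ, hΛ, zero_smul]
        have h3 : addOrderOf m ∣ 1 := by
          rw [← hc]
          exact Nat.dvd_gcd (addOrderOf_dvd_of_nsmul_eq_zero (hN m)) (addOrderOf_dvd_of_nsmul_eq_zero h2)
        have h4 := addOrderOf_dvd_iff_nsmul_eq_zero.1 h3
        rwa [one_smul] at h4
      have : Subsingleton N := ⟨fun a b => (h1 a).trans (h1 b).symm⟩
      have h0 : IsZero (ModuleCat.of Λ N) := ModuleCat.isZero_of_subsingleton _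
      exact LamSerre.isConstructible_of_isZero ((EtModW.Rpush Λ f q).map_isZero
        ((constantSheaf X.smallEtaleTopology (ModuleCat.{u + 1} Λ)).map_isZero h0))
  · rw [← Nat.cast_smul_eq_nsmul Λ, hΛ, zero_smul]

end Groth.Agent.Sga4h.TBConst
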