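import Groth.Agent.Sga4h.HomRes
import Groth.Agent.Sga4h.RightDer
import Groth.Agent.Etcore.LFree

/-!
# Local Ext out of the free sheaf `Λ[U]`

If `(L, e)` represents `F ↦ F(U)` on sheaves of `Λ`-modules, for `U` in the small etale site of `X` with structure
morphism `h : U ⟶ X`, then
* `sheafHomIso`: `Hom_Λ(L, -) ≅ h_* h^{-1}`;
* `nonempty_extSheaf_iso`: `Ext^q_Λ(L, G) ≅ R^q h_* (h^{-1} G)`.
-/

set_option autoImplicit false

universe u

open CategoryTheory CategoryTheory.Limits MonoidalCategory Opposite AlgebraicGeometry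

namespace Groth.Agent.Sga4h.ExtFree

open HomPre HomSh ModDTensor ModRestr HomRes Groth.Agent.EtpbcA.OverSite

variable {Λ : Type (u + 1)} [CommRing Λ] {X : Scheme.{u}}

/-- `(L, e)` represents the functor of sections over `U`. -/
def Represents (U : X.Etale) (L : EtModW.Mod Λ X) (e : EtModW.sect Λ L U) : Prop :=
  ∀ F : EtModW.Mod Λ X, Function.Bijective
    (fun f : L ⟶ F => ((f.hom.app (op U)).hom e : EtModW.sect Λ F U))

/-- Naturality of the adjunction `A ⊗ - ⊣ Hom(A, -)` in `A`. -/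
theorem homShAdj_naturality_fst {A' A : EtModW.Mod Λ X} (f : A' ⟶ A) (B G : EtModW.Mod Λ X)
    (φ : ((EtModD.tensorBi Λ X).obj A).obj B ⟶ G) :
    (homShAdj A').homEquiv B G (((EtModD.tensorBi Λ X).map f).app B ≫ φ) =
      (homShAdj A).homEquiv B G φ ≫ homShMap₂ f (𝟙 G) := by
  have h1 := (sheafificationAdjunction X.smallEtaleTopology
    (ModuleCat.{u + 1} Λ)).homEquiv_naturality_left ((inc Λ X).map f ▷ ((inc Λ X).obj B : PMod Λ X)) φ
  have h2 := toHomPre_natural_fst (Q := (inc Λ X).obj B) (R := (inc Λ X).obj G) ((inc Λ X).map f)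
    ((sheafificationAdjunction X.smallEtaleTopology
            (ModuleCat.{u + 1} Λ)).homEquiv _ _ φ)
  simp only [homShAdj, Adjunction.mkOfHomEquiv_homEquiv]
  ext : 1
  exact (congrArg _ h1).trans h2

section Chain

variable {U : X.Etale} {L : EtModW.Mod Λ X} {e : EtModW.sect Λ L U} (he : Represents U L e)

/-- The symmetry `A ⊗ L ≅ L ⊗ A`. -/
noncomputable def symm (L A : EtModW.Mod Λ X) :
    ((EtModD.tensorBi Λ X).obj A).obj L ≅ ((EtModD.tensorBi Λ X).obj L).obj A :=
  ((tensorFlipIso Λ X).app L).app A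

theorem symm_natural {L A A' : EtModW.Mod Λ X} (f : A' ⟶ A) :
    (symm L A').hom ≫ ((EtModD.tensorBi Λ X).obj L).map f =
      ((EtModD.tensorBi Λ X).map f).app L ≫ (symm L A).hom :=
  (((tensorFlipIso Λ X).app L).hom.naturality f).symm

/-- The map `Hom(L ⊗ A, G) ⟶ Hom(h^* A, h^* G)`. -/
noncomputable def toRes (e : EtModW.sect Λ L U) (A G : EtModW.Mod Λ X)
    (φ : ((EtModD.tensorBi Λ X).obj L).obj A ⟶ G) :
    (res Λ (str U)).obj A ⟶ (res Λ (str U)).obj G :=
  secHom U ((((homShAdj A).homEquiv L G ((symm L A).hom ≫ φ)).hom.app (op U)).hom e)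

include he in
theorem toRes_bijective (A G : EtModW.Mod Λ X) : Function.Bijective (toRes e A G) :=
  (secHom_bijective U).comp ((he (homSh A G)).comp
    (((homShAdj A).homEquiv L G).bijective.comp ((symm L A).homFromEquiv.symm.bijective)))

theorem toRes_natural_left {A A' G : EtModW.Mod Λ X} (f : A' ⟶ A)
    (φ : ((EtModD.tensorBi Λ X).obj L).obj A ⟶ G) :
    toRes e A' G (((EtModD.tensorBi Λ X).obj L).map f ≫ φ) =
      (res Λ (str U)).map f ≫ toRes e A G φ := by
  have h1 : (homShAdj A').homEquiv L G ((symm L A').hom ≫ ((EtModD.tensorBi Λ X).obj L).map f ≫ φ) =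
      (homShAdj A).homEquiv L G ((symm L A).hom ≫ φ) ≫ homShMap₂ f (𝟙 G) := by
    rw [← homShAdj_naturality_fst, ← Category.assoc, symm_natural, Category.assoc]
  have h2 := secHom_homShMap₂ f (𝟙 G) U
    ((((homShAdj A).homEquiv L G ((symm L A).hom ≫ φ)).hom.app (op U)).hom e)
  have h3 : toRes e A' G (((EtModD.tensorBi Λ X).obj L).map f ≫ φ) =
      secHom U ((homShMap₂ f (𝟙 G)).hom.app (op U)
        ((((homShAdj A).homEquiv L G ((symm L A).hom ≫ φ)).hom.app (op U)).hom e)) := by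
    unfold toRes
    rw [h1]
    rfl
  rw [h3, h2, CategoryTheory.Functor.map_id, Category.comp_id]
  rfl

theorem toRes_natural_right {A G G' : EtModW.Mod Λ X}
    (φ : ((EtModD.tensorBi Λ X).obj L).obj A ⟶ G) (k : G ⟶ G') :
    toRes e A G' (φ ≫ k) = toRes e A G φ ≫ (res Λ (str U)).map k := by
  have h1 : (homShAdj A).homEquiv L G' ((symm L A).hom ≫ φ ≫ k) =
      (homShAdj A).homEquiv L G ((symm L A).hom ≫ φ) ≫ homShMap₂ (𝟙 A) k := by
    rw [← Category.assoc]
    exact (homShAdj A).homEquiv_naturality_right _ _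
  have h2 := secHom_homShMap₂ (𝟙 A) k U
    ((((homShAdj A).homEquiv L G ((symm L A).hom ≫ φ)).hom.app (op U)).hom e)
  have h3 : toRes e A G' (φ ≫ k) =
      secHom U ((homShMap₂ (𝟙 A) k).hom.app (op U)
        ((((homShAdj A).homEquiv L G ((symm L A).hom ≫ φ)).hom.app (op U)).hom e)) := by
    unfold toRes
    rw [h1]
    rfl
  rw [h3, h2, CategoryTheory.Functor.map_id, Category.id_comp]
  rfl

/-- The bijection `Hom(L ⊗ A, G) = Hom(A, h_* h^* G)`. -/
noncomputable def homE (A G : EtModW.Mod Λ X) :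
    (((EtModD.tensorBi Λ X).obj L).obj A ⟶ G) ≃
      (A ⟶ (EtModW.push Λ (str U)).obj ((res Λ (str U)).obj G)) :=
  (Equiv.ofBijective _ (toRes_bijective he A G)).trans
    ((resPushAdj Λ (str U)).homEquiv A ((res Λ (str U)).obj G))

theorem homE_apply (A G : EtModW.Mod Λ X) (φ : ((EtModD.tensorBi Λ X).obj L).obj A ⟶ G) :
    homE he A G φ = (resPushAdj Λ (str U)).homEquiv A ((res Λ (str U)).obj G) (toRes e A G φ) :=
  rfl

theorem homE_left {A A' G : EtModW.Mod Λ X} (f : A' ⟶ A)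
    (φ : ((EtModD.tensorBi Λ X).obj L).obj A ⟶ G) :
    homE he A' G (((EtModD.tensorBi Λ X).obj L).map f ≫ φ) = f ≫ homE he A G φ := by
  rw [homE_apply, homE_apply, toRes_natural_left, Adjunction.homEquiv_naturality_left]

theorem homE_right {A G G' : EtModW.Mod Λ X}
    (φ : ((EtModD.tensorBi Λ X).obj L).obj A ⟶ G) (k : G ⟶ G') :
    homE he A G' (φ ≫ k) =
      homE he A G φ ≫ (EtModW.push Λ (str U)).map ((res Λ (str U)).map k) := by
  rw [homE_apply, homE_apply, toRes_natural_right, Adjunction.homEquiv_naturality_right]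

/-- The adjunction `L ⊗ - ⊣ h_* h^*`. -/
noncomputable def tensorAdj :
    (EtModD.tensorBi Λ X).obj L ⊣ res Λ (str U) ⋙ EtModW.push Λ (str U) :=
  Adjunction.mkOfHomEquiv
    { homEquiv := homE he
      homEquiv_naturality_left_symm := by
        intro A' A G f g
        rw [Equiv.symm_apply_eq]
        refine Eq.trans ?_ (homE_left he f _).symm
        rw [Equiv.apply_symm_apply]
      homEquiv_naturality_right := by
        intro A G G' f g
        exact homE_right he f g }

/-- The inverse image along the structure morphism is restriction. -/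
noncomputable def pullIsoRes {V Y : Scheme.{u}} (p : V ⟶ Y) [Etale p] :
    EtModW.pull Λ p ≅ res Λ p :=
  (Groth.Agent.Etcore.LPull.pullPushAdj p).leftAdjointUniq (resPushAdj Λ p)

/-- `Hom_Λ(Λ[U], -) ≅ h_* h^{-1}`. -/
noncomputable def sheafHomIso [EtModD.HasSheafHom L] :
    EtModD.sheafHom L ≅ res Λ (str U) ⋙ EtModW.push Λ (str U) :=
  (EtModD.sheafHomAdj L).rightAdjointUniq (tensorAdj he)

/-- `Ext^q_Λ(Λ[U], G) ≅ R^q h_* (h^{-1} G)`. -/
noncomputable def extSheafIso [EtModD.HasSheafHom L] (q : ℕ) (G : EtModW.Mod Λ X) :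
    (EtModD.extSheaf L q).obj G ≅ (EtModW.Rpush Λ (str U) q).obj ((res Λ (str U)).obj G) :=
  (RightDer.rightDerivedIso (sheafHomIso he) q).app G ≪≫
    RightDer.rightDerivedExactComp (res Λ (str U)) (fun I _ => injective_res Λ (str U) I)
      (EtModW.push Λ (str U)) q G

end Chain

/-- `Ext^q_Λ(Λ[U], G) ≅ R^q h_* (h^{-1} G)`. -/
theorem nonempty_extSheaf_iso (U : X.Etale) (L : EtModW.Mod Λ X) (e : EtModW.sect Λ L U)
    (he : Represents U L e) [EtModD.HasSheafHom L] (q : ℕ) (G : EtModW.Mod Λ X) :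
    Nonempty ((EtModD.extSheaf L q).obj G ≅
      (EtModW.Rpush Λ U.hom q).obj ((EtModW.pull Λ U.hom).obj G)) :=
  ⟨extSheafIso he q G ≪≫ (EtModW.Rpush Λ (str U) q).mapIso ((pullIsoRes (str U)).app G).symm⟩

/-- The sheaf `LM Λ U = Λ[U]` represents sections over `U`. -/
theorem represents_LM (U : X.Etale) :
    Represents U (Groth.Agent.Etcore.LFree.LM Λ U) (Groth.Agent.Etcore.LFree.gen Λ U) :=
  fun F => (Groth.Agent.Etcore.LFree.homEquiv U F).bijective

end Groth.Agent.Sga4h.ExtFree
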