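import Groth.Agent.Sga4h.ExtLES91

/-!
# Long exact sequence of `EtModD.extSheaf` in the first variable

* `shMap f : sheafHom B ⟶ sheafHom A` for `f : A ⟶ B`, functorial;
* `extMap f q : extSheaf B q ⟶ extSheaf A q`;
* `exists_les` : the long exact sequence.
-/

set_option autoImplicit false

universe u

open CategoryTheory CategoryTheory.Limits AlgebraicGeometry Opposite

namespace Groth.Agent.Sga4h.ExtLES

open HomPre HomSh HomRes

variable {Λ : Type (u + 1)} [CommRing Λ] {X : Scheme.{u}}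

/-- Contravariant functoriality of the sheaf Hom. -/
noncomputable def shMap {A B : EtModW.Mod Λ X} (f : A ⟶ B) :
    EtModD.sheafHom B ⟶ EtModD.sheafHom A :=
  (homShIso B).hom ≫ homShFMap f ≫ (homShIso A).inv

theorem shMap_app {A B : EtModW.Mod Λ X} (f : A ⟶ B) (M : EtModW.Mod Λ X) :
    (shMap f).app M = (homShIso B).hom.app M ≫ (homShFMap f).app M ≫ (homShIso A).inv.app M := rfl

theorem shMap_id (A : EtModW.Mod Λ X) : shMap (𝟙 A) = 𝟙 (EtModD.sheafHom A) := by
  unfold shMap
  rw [homShFMap_id, Category.id_comp, Iso.hom_inv_id]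

theorem shMap_comp {A B B' : EtModW.Mod Λ X} (f : A ⟶ B) (g : B ⟶ B') :
    shMap (f ≫ g) = shMap g ≫ shMap f := by
  unfold shMap
  rw [homShFMap_comp]
  simp only [Category.assoc, Iso.inv_hom_id_assoc]

/-- Functoriality of the local Ext sheaves in the first variable. -/
noncomputable def extMap {A B : EtModW.Mod Λ X} (f : A ⟶ B) (q : ℕ) :
    EtModD.extSheaf B q ⟶ EtModD.extSheaf A q :=
  NatTrans.rightDerived (shMap f) q

theorem extMap_id (A : EtModW.Mod Λ X) (q : ℕ) : extMap (𝟙 A) q = 𝟙 _ := by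
  unfold extMap
  rw [shMap_id, NatTrans.rightDerived_id]

theorem extMap_comp {A B B' : EtModW.Mod Λ X} (f : A ⟶ B) (g : B ⟶ B') (q : ℕ) :
    extMap (f ≫ g) q = extMap g q ≫ extMap f q := by
  unfold extMap
  rw [shMap_comp, NatTrans.rightDerived_comp]

theorem homShFMap_zero_app (A B M : EtModW.Mod Λ X) :
    (homShFMap (0 : A ⟶ B)).app M = 0 := by
  have h := homShMap₂_add_left (0 : A ⟶ B) 0 (𝟙 M)
  rw [add_zero] at h
  rw [homShFMap_app]
  exact left_eq_add.1 h

theorem homShFMap_comp_zero (S : ShortComplex (EtModW.Mod Λ X)) (M : EtModW.Mod Λ X) :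
    (homShFMap S.g).app M ≫ (homShFMap S.f).app M = 0 := by
  rw [← NatTrans.comp_app, ← homShFMap_comp, S.zero, homShFMap_zero_app]

theorem shMap_comp_zero (S : ShortComplex (EtModW.Mod Λ X)) (M : EtModW.Mod Λ X) :
    (shMap S.g).app M ≫ (shMap S.f).app M = 0 := by
  rw [← NatTrans.comp_app, ← shMap_comp, S.zero, shMap_app, homShFMap_zero_app, zero_comp,
    comp_zero]

theorem shortExact_shMap (S : ShortComplex (EtModW.Mod Λ X)) (hS : S.ShortExact)
    (I : EtModW.Mod Λ X) (hI : Injective I) :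
    (ShortComplex.mk ((shMap S.g).app I) ((shMap S.f).app I) (shMap_comp_zero S I)).ShortExact := by
  refine ShortComplex.shortExact_of_iso (ShortComplex.isoMk ((homShIso S.X₃).symm.app I)
    ((homShIso S.X₂).symm.app I) ((homShIso S.X₁).symm.app I) ?_ ?_)
    (ExtLES91.shortExact_homShF S hS (homShFMap_comp_zero S) I)
  · change (homShIso S.X₃).inv.app I ≫ (homShIso S.X₃).hom.app I ≫ (homShFMap S.g).app I ≫
      (homShIso S.X₂).inv.app I = (homShFMap S.g).app I ≫ (homShIso S.X₂).inv.app I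
    rw [Iso.inv_hom_id_app_assoc]
  · change (homShIso S.X₂).inv.app I ≫ (homShIso S.X₂).hom.app I ≫ (homShFMap S.f).app I ≫
      (homShIso S.X₁).inv.app I = (homShFMap S.f).app I ≫ (homShIso S.X₁).inv.app I
    rw [Iso.inv_hom_id_app_assoc]

theorem mono_homShFMap_app {B C : EtModW.Mod Λ X} (g : B ⟶ C) [Epi g] (M : EtModW.Mod Λ X) :
    Mono ((homShFMap g).app M) := by
  have h : Mono ((sheafToPresheaf _ _).map ((homShFMap g).app M)) := by
    have : ∀ W, Mono (((sheafToPresheaf _ _).map ((homShFMap g).app M)).app W) := fun W =>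
      (ModuleCat.mono_iff_injective _).2 (injective_of_epi (H := M) g W.unop)
    exact NatTrans.mono_of_mono_app _
  exact (sheafToPresheaf _ _).mono_of_mono_map h

theorem mono_shMap_app {B C : EtModW.Mod Λ X} (g : B ⟶ C) [Epi g] (M : EtModW.Mod Λ X) :
    Mono ((shMap g).app M) := by
  have := mono_homShFMap_app g M
  rw [shMap_app]
  infer_instance

theorem mono_extMap_zero {B C : EtModW.Mod Λ X} (g : B ⟶ C) [Epi g] (M : EtModW.Mod Λ X) :
    Mono ((extMap g 0).app M) := by
  have := mono_shMap_app g M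
  have h1 : PreservesFiniteLimits (EtModD.sheafHom B) := by
    have := (EtModD.sheafHomAdj B).isRightAdjoint
    exact inferInstance
  have h2 : PreservesFiniteLimits (EtModD.sheafHom C) := by
    have := (EtModD.sheafHomAdj C).isRightAdjoint
    exact inferInstance
  have h := FunLES.toZero_naturality (shMap g) M
  have e : (extMap g 0).app M = inv ((EtModD.sheafHom C).toRightDerivedZero.app M) ≫
      (shMap g).app M ≫ (EtModD.sheafHom B).toRightDerivedZero.app M := by
    rw [h, IsIso.inv_hom_id_assoc]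
    rfl
  rw [e]
  infer_instance

/-- The long exact sequence of the local Ext sheaves in the first variable, canonical form. -/
theorem exists_les' (S : ShortComplex (EtModW.Mod Λ X)) (hS : S.ShortExact) (G : EtModW.Mod Λ X) :
    ∃ d : ∀ q : ℕ, (EtModD.extSheaf S.X₁ q).obj G ⟶ (EtModD.extSheaf S.X₃ (q + 1)).obj G,
      Mono ((extMap S.g 0).app G) ∧
      (∀ q, ∃ w, (ShortComplex.mk ((extMap S.g q).app G) ((extMap S.f q).app G) w).Exact) ∧
      (∀ q, ∃ w, (ShortComplex.mk ((extMap S.f q).app G) (d q) w).Exact) ∧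
      (∀ q, ∃ w, (ShortComplex.mk (d q) ((extMap S.g (q + 1)).app G) w).Exact) := by
  have := hS.epi_g
  exact ⟨fun q => FunLES.δ (shMap S.g) (shMap S.f) (shMap_comp_zero S) (shortExact_shMap S hS) G q,
    mono_extMap_zero S.g G,
    fun q => ⟨_, FunLES.exact₂ (shMap S.g) (shMap S.f) (shMap_comp_zero S)
      (shortExact_shMap S hS) G q⟩,
    fun q => ⟨_, FunLES.exact₃ (shMap S.g) (shMap S.f) (shMap_comp_zero S)
      (shortExact_shMap S hS) G q⟩,
    fun q => ⟨_, FunLES.exact₁ (shMap S.g) (shMap S.f) (shMap_comp_zero S)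
      (shortExact_shMap S hS) G q⟩⟩

/-- The long exact sequence of the local Ext sheaves in the first variable. -/
theorem exists_les (S : ShortComplex (EtModW.Mod Λ X)) (hS : S.ShortExact) (G : EtModW.Mod Λ X) :
    ∃ (a : ∀ q : ℕ, (EtModD.extSheaf S.X₃ q).obj G ⟶ (EtModD.extSheaf S.X₂ q).obj G)
      (b : ∀ q : ℕ, (EtModD.extSheaf S.X₂ q).obj G ⟶ (EtModD.extSheaf S.X₁ q).obj G)
      (d : ∀ q : ℕ, (EtModD.extSheaf S.X₁ q).obj G ⟶ (EtModD.extSheaf S.X₃ (q + 1)).obj G),
      Mono (a 0) ∧ (∀ q, ∃ w, (ShortComplex.mk (a q) (b q) w).Exact) ∧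
        (∀ q, ∃ w, (ShortComplex.mk (b q) (d q) w).Exact) ∧
        (∀ q, ∃ w, (ShortComplex.mk (d q) (a (q + 1)) w).Exact) := by
  obtain ⟨d, h⟩ := exists_les' S hS G
  exact ⟨fun q => (extMap S.g q).app G, fun q => (extMap S.f q).app G, d, h⟩

end Groth.Agent.Sga4h.ExtLES
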