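import Groth.Agent.Etcore.LVan
import Groth.Agent.Etrest.Decomp
import Groth.Agent.EtpbcA.ConsTorsion
import Groth.Agent.Sga4h.EtPts

/-!
# Exactness of sheaves of `Λ`-modules in terms of local sections

`Mono`, `Epi`, kernels, gluing for `EtModW.Mod Λ X` in the pointwise language of `Etcore.LVan`.
-/

set_option autoImplicit false
universe u

open CategoryTheory CategoryTheory.Limits AlgebraicGeometry Opposite

namespace Groth.Agent.Sga4h.LVanExact

open Groth.Agent.Etcore.LVan

variable {Λ : Type (u + 1)} [CommRing Λ] {X : Scheme.{u}}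
variable {F G H : EtModW.Mod Λ X}

theorem ev_comp (α : F ⟶ G) (β : G ⟶ H) (T : X.Etale) (s : EtModW.sect Λ F T) :
    ev (α ≫ β) T s = ev β T (ev α T s) := rfl

theorem ev_id (T : X.Etale) (s : EtModW.sect Λ F T) : ev (𝟙 F) T s = s := rfl

theorem ev_zero (T : X.Etale) (s : EtModW.sect Λ F T) : ev (0 : F ⟶ G) T s = 0 := rfl

theorem ev_add (α β : F ⟶ G) (T : X.Etale) (s : EtModW.sect Λ F T) :
    ev (α + β) T s = ev α T s + ev β T s := rfl

theorem ev_sub (α β : F ⟶ G) (T : X.Etale) (s : EtModW.sect Λ F T) :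
    ev (α - β) T s = ev α T s - ev β T s := by
  have h : α = (α - β) + β := by abel
  have h2 : ev α T s = ev (α - β) T s + ev β T s := by
    conv_lhs => rw [h]
    rfl
  rw [h2, add_sub_cancel_right]

theorem hom_ext {α β : F ⟶ G} (h : ∀ (T : X.Etale) (s : EtModW.sect Λ F T), ev α T s = ev β T s) :
    α = β := by
  ext T s
  exact h T.unop s

/-- Gluing of sections. -/
theorem glue (F : EtModW.Mod Λ X) {W : X.Etale} {ι : Type*} (Z : ι → X.Etale) (f : ∀ i, Z i ⟶ W)
    (hc : ∀ w : W.left, ∃ (i : ι) (z : (Z i).left), (f i).left z = w)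
    (x : ∀ i, EtModW.sect Λ F (Z i))
    (hx : ∀ (i j : ι) (V : X.Etale) (a : V ⟶ Z i) (b : V ⟶ Z j), a ≫ f i = b ≫ f j →
      res F a (x i) = res F b (x j)) :
    ∃ t : EtModW.sect Λ F W, ∀ i, res F (f i) t = x i := by
  refine Etrest.Decomp.exists_glue (ab F) Z f ?_ x hx
  rw [Set.eq_univ_iff_forall]
  intro w
  obtain ⟨i, z, hz⟩ := hc w
  exact Set.mem_iUnion.2 ⟨i, z, hz⟩

/-- Sections agreeing on a jointly surjective family are equal. -/
theorem eq_of_res {W : X.Etale} {ι : Type*} (Z : ι → X.Etale) (f : ∀ i, Z i ⟶ W)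
    (hc : ∀ w : W.left, ∃ (i : ι) (z : (Z i).left), (f i).left z = w)
    {s t : EtModW.sect Λ F W} (h : ∀ i, res F (f i) s = res F (f i) t) : s = t := by
  rw [← sub_eq_zero]
  refine eq_zero_of_van _ fun w => ?_
  obtain ⟨i, z, hz⟩ := hc w
  exact ⟨Z i, f i, z, hz, by rw [map_sub, h, sub_self]⟩

/-- Sections which agree near every point are equal. -/
theorem eq_of_van {W : X.Etale} {s t : EtModW.sect Λ F W} (h : ∀ w, Van F (s - t) w) : s = t :=
  sub_eq_zero.1 (eq_zero_of_van _ h)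

/-- Common refinement of two étale neighbourhoods of a point. -/
theorem exists_common {W T T' : X.Etale} (g : T ⟶ W) (g' : T' ⟶ W) (t : T.left) (t' : T'.left)
    (h : g.left t = g'.left t') :
    ∃ (P : X.Etale) (a : P ⟶ T) (b : P ⟶ T') (p : P.left), a ≫ g = b ≫ g' ∧ a.left p = t ∧
      b.left p = t' := by
  obtain ⟨P, p₁, p₂, p, h1, h2, h3⟩ := Groth.Agent.Etbase.EtSite.exists_pullback g g' t t' h
  exact ⟨P, p₁, p₂, p, h1, h2, h3⟩

theorem exists_prod (V W : X.Etale) (v : V.left) (w : W.left) (h : V.hom v = W.hom w) :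
    ∃ (P : X.Etale) (a : P ⟶ V) (b : P ⟶ W) (p : P.left), a.left p = v ∧ b.left p = w :=
  Groth.Agent.EtpbcA.ConsTorsion.exists_prod V W v w h

section Exact

theorem injective_ev (α : F ⟶ G) [Mono α] (T : X.Etale) : Function.Injective (ev α T) := by
  have h1 : Mono α.hom := inferInstanceAs (Mono ((sheafToPresheaf _ _).map α))
  have h2 : Mono (α.hom.app (op T)) := inferInstance
  exact (ModuleCat.mono_iff_injective _).1 h2

theorem van_of_mono (α : F ⟶ G) [Mono α] {T : X.Etale} {s : EtModW.sect Λ F T} {t : T.left}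
    (h : Van G (ev α T s) t) : Van F s t := by
  obtain ⟨V, g, v, hv, h1⟩ := h
  refine ⟨V, g, v, hv, injective_ev α V ?_⟩
  rw [← res_ev, h1, map_zero]

theorem van_ev_iff (α : F ⟶ G) [Mono α] {T : X.Etale} {s : EtModW.sect Λ F T} {t : T.left} :
    Van G (ev α T s) t ↔ Van F s t := ⟨van_of_mono α, Van.map α⟩

theorem mono_of_ev (α : F ⟶ G)
    (h : ∀ (T : X.Etale) (s : EtModW.sect Λ F T), ev α T s = 0 → s = 0) : Mono α := by
  have h1 : ∀ T : X.Etaleᵒᵖ, Mono (α.hom.app T) := fun T => by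
    rw [ModuleCat.mono_iff_injective]
    exact (injective_iff_map_eq_zero _).2 fun s hs => h T.unop s hs
  have h2 : Mono ((sheafToPresheaf _ _).map α) := NatTrans.mono_of_mono_app α.hom
  exact (sheafToPresheaf _ _).mono_of_mono_map h2

theorem mono_of_van (α : F ⟶ G)
    (h : ∀ (T : X.Etale) (s : EtModW.sect Λ F T) (t : T.left), ev α T s = 0 → Van F s t) :
    Mono α :=
  mono_of_ev α fun T s hs => eq_zero_of_van s fun t => h T s t hs

theorem exists_local_lift (α : F ⟶ G) [Epi α] {T : X.Etale} (s : EtModW.sect Λ G T) (t : T.left) :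
    ∃ (V : X.Etale) (g : V ⟶ T) (v : V.left) (s' : EtModW.sect Λ F V), g.left v = t ∧
      ev α V s' = res G g s := by
  have h1 : Sheaf.IsLocallySurjective α := (Sheaf.isLocallySurjective_iff_epi' _ α).2 inferInstance
  have h2 := Presheaf.imageSieve_mem X.smallEtaleTopology α.hom s
  rw [Groth.Agent.Etbase.EtSite.mem_iff] at h2
  obtain ⟨V, g, v, ⟨s', hs'⟩, hv⟩ := h2 t
  exact ⟨V, g, v, s', hv, hs'⟩

theorem epi_of_local (α : F ⟶ G)
    (h : ∀ (T : X.Etale) (s : EtModW.sect Λ G T) (t : T.left), ∃ (V : X.Etale) (g : V ⟶ T)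
      (v : V.left) (s' : EtModW.sect Λ F V), g.left v = t ∧ Van G (ev α V s' - res G g s) v) :
    Epi α := by
  have h1 : Sheaf.IsLocallySurjective α := by
    refine ⟨fun {T} s => ?_⟩
    rw [Groth.Agent.Etbase.EtSite.mem_iff]
    intro t
    obtain ⟨V, g, v, s', hv, W, k, w, hw, h2⟩ := h T s t
    refine ⟨W, k ≫ g, w, ⟨res F k s', ?_⟩, ?_⟩
    · have h3 : res G k (ev α V s') = res G k (res G g s) := by
        rw [← sub_eq_zero, ← map_sub, h2]
      have h4 := res_ev α k s'
      rw [h3] at h4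
      exact h4.symm.trans (res_comp G g k s).symm
    · change (k.left ≫ g.left) w = t
      rw [Scheme.Hom.comp_apply, hw, hv]
  exact (Sheaf.isLocallySurjective_iff_epi' _ α).1 h1

/-- Sections over `T` as a functor to modules. -/
noncomputable abbrev sectF (T : X.Etale) : EtModW.Mod Λ X ⥤ ModuleCat.{u + 1} Λ :=
  sheafToPresheaf _ _ ⋙ (evaluation _ _).obj (op T)

instance (T : X.Etale) : (sectF (Λ := Λ) T).Additive where

instance (T : X.Etale) : PreservesFiniteLimits (sectF (Λ := Λ) T) := by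
  dsimp only [sectF]
  infer_instance

/-- Left exactness of sections. -/
theorem exists_lift_of_exact {S : ShortComplex (EtModW.Mod Λ X)} (hS : S.Exact) [Mono S.f]
    (T : X.Etale) (s : EtModW.sect Λ S.X₂ T) (hs : ev S.g T s = 0) :
    ∃ s' : EtModW.sect Λ S.X₁ T, ev S.f T s' = s := by
  have h1 : (S.map (sectF T)).Exact := hS.map_of_mono_of_preservesKernel (sectF T) inferInstance inferInstance
  rw [ShortComplex.moduleCat_exact_iff] at h1
  exact h1 s hs

theorem exact_of_local {S : ShortComplex (EtModW.Mod Λ X)}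
    (h : ∀ (T : X.Etale) (s : EtModW.sect Λ S.X₂ T) (t : T.left), ev S.g T s = 0 →
      ∃ (V : X.Etale) (g : V ⟶ T) (v : V.left) (s' : EtModW.sect Λ S.X₁ V), g.left v = t ∧
        Van S.X₂ (ev S.f V s' - res S.X₂ g s) v) : S.Exact := by
  rw [S.exact_iff_epi_kernel_lift]
  refine epi_of_local _ fun T s t => ?_
  have h1 : ev S.g T (ev (kernel.ι S.g) T s) = 0 := by
    rw [← ev_comp, kernel.condition]
    rfl
  obtain ⟨V, g, v, s', hv, h2⟩ := h T (ev (kernel.ι S.g) T s) t h1
  refine ⟨V, g, v, s', hv, van_of_mono (kernel.ι S.g) ?_⟩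
  rw [map_sub, ← ev_comp, kernel.lift_ι, ← res_ev]
  exact h2

/-- A section which comes locally from `F` along a monomorphism comes from `F`. -/
theorem exists_lift_of_local (α : F ⟶ G) [Mono α] {T : X.Etale} (s : EtModW.sect Λ G T)
    (h : ∀ t : T.left, ∃ (V : X.Etale) (g : V ⟶ T) (v : V.left) (s' : EtModW.sect Λ F V),
      g.left v = t ∧ ev α V s' = res G g s) : ∃ s' : EtModW.sect Λ F T, ev α T s' = s := by
  choose V g v s' hv hs' using h
  obtain ⟨s₀, hs₀⟩ := glue F V g (fun w => ⟨w, v w, hv w⟩) s' (by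
    intro i j W a b hab
    apply injective_ev α W
    rw [← res_ev, ← res_ev, hs', hs', ← res_comp, ← res_comp, hab])
  refine ⟨s₀, eq_of_res V g (fun w => ⟨w, v w, hv w⟩) fun i => ?_⟩
  rw [res_ev, hs₀, hs']

end Exact

end Groth.Agent.Sga4h.LVanExact
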