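import Groth.Agent.Etcore.LSpread
import Groth.Agent.Sga4h.LVanExact

/-!
# Extensions of constructible sheaves of `Λ`-modules are constructible (`Λ` Noetherian)
-/

set_option autoImplicit false
universe u

open CategoryTheory CategoryTheory.Limits AlgebraicGeometry Opposite Topology

namespace Groth.Agent.Sga4h.LamSerreExt

open Groth.Agent.Etcore.LVan Groth.Agent.Etcore.LCrit Groth.Agent.Etcore.LSpread
  Groth.Agent.Etcore.LLocus Groth.Agent.Sga4h.LVanExact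
open Groth.Agent.EtpbcA.ConsVan (exists_common_finite)

variable {Λ : Type (u + 1)} [CommRing Λ] [IsNoetherianRing Λ] {X : Scheme.{u}}

theorem exists_core {S : ShortComplex (EtModW.Mod Λ X)} (hS : S.ShortExact)
    {U : X.Etale} (u : U.left)
    {M₁ : Type (u + 1)} [AddCommGroup M₁] [Module Λ M₁] [Module.Finite Λ M₁]
    {M₃ : Type (u + 1)} [AddCommGroup M₃] [Module Λ M₃] [Module.Finite Λ M₃]
    (φ₁ : M₁ →ₗ[Λ] EtModW.sect Λ S.X₁ U) (φ₃ : M₃ →ₗ[Λ] EtModW.sect Λ S.X₃ U)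
    (hi : InjAt S.X₁ φ₁ u) (hs : SurjAt S.X₁ φ₁ u) :
    ∃ (V : X.Etale) (g : V ⟶ U) (v : V.left) (_ : g.left v = u) (M₂ : Type (u + 1))
      (_ : AddCommGroup M₂) (_ : Module Λ M₂) (_ : Module.Finite Λ M₂)
      (φ₂ : M₂ →ₗ[Λ] EtModW.sect Λ S.X₂ V), ∀ c : V.left,
        InjAt S.X₁ (resHom g φ₁) c → SurjAt S.X₁ (resHom g φ₁) c →
        InjAt S.X₃ (resHom g φ₃) c → SurjAt S.X₃ (resHom g φ₃) c →
        InjAt S.X₂ φ₂ c ∧ SurjAt S.X₂ φ₂ c := by
  classical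
  have := hS.mono_f
  have := hS.epi_g
  obtain ⟨n, π, hπ⟩ := Module.Finite.exists_fin' Λ M₃
  -- lift the generators
  obtain ⟨V, g, v, hv, hV⟩ := exists_common_finite (ι := Fin n) u
    (fun i V g => ∃ s : EtModW.sect Λ S.X₂ V, ev S.g V s = res S.X₃ g (φ₃ (π (Pi.single i 1))))
    (fun i V W g k h => by
      obtain ⟨s, hs⟩ := h
      exact ⟨res S.X₂ k s, by rw [← res_ev, hs, res_comp]⟩)
    (fun i => by
      obtain ⟨V, g, v, s, hv, hs⟩ := exists_local_lift S.g (φ₃ (π (Pi.single i 1))) u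
      exact ⟨V, g, v, hv, s, hs⟩)
  choose t ht using hV
  let L : (Fin n → Λ) →ₗ[Λ] EtModW.sect Λ S.X₂ V := Fintype.linearCombination Λ t
  have hL : ∀ x, ev S.g V (L x) = res S.X₃ g (φ₃ (π x)) := by
    intro x
    have : (ev S.g V).comp L = ((res S.X₃ g).comp φ₃).comp π := by
      refine LinearMap.pi_ext' fun i => LinearMap.ext_ring ?_
      change ev S.g V (L (Pi.single i 1)) = res S.X₃ g (φ₃ (π (Pi.single i 1)))
      rw [← ht]
      congr 1
      simp [L, Fintype.linearCombination_apply_single]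
    exact LinearMap.congr_fun this x
  -- relations
  have hK : ∀ k : LinearMap.ker π, ∃ s : EtModW.sect Λ S.X₁ V, ev S.f V s = L k := by
    intro k
    refine exists_lift_of_exact hS.exact V (L k) ?_
    rw [hL, LinearMap.mem_ker.1 k.2, map_zero, map_zero]
  choose σ' hσ' using hK
  let σ : LinearMap.ker π →ₗ[Λ] EtModW.sect Λ S.X₁ V :=
    { toFun := σ'
      map_add' := fun x y => injective_ev S.f _ (by
        rw [hσ', map_add, hσ', hσ', Submodule.coe_add, map_add])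
      map_smul' := fun r x => injective_ev S.f _ (by
        rw [hσ', Submodule.coe_smul, map_smul, RingHom.id_apply, map_smul, hσ']) }
  have hσ : ∀ k, ev S.f V (σ k) = L k := hσ'
  have hi' : InjAt S.X₁ (resHom g φ₁) v := by rw [injAt_res_iff, hv]; exact hi
  have hs' : SurjAt S.X₁ (resHom g φ₁) v := by rw [surjAt_res_iff, hv]; exact hs
  have hB : ∀ k : LinearMap.ker π, ∃ m : M₁, Van S.X₁ (σ k - res S.X₁ g (φ₁ m)) v := by
    intro k
    obtain ⟨m, hm⟩ := hs' V (𝟙 _) v rfl (σ k)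
    refine ⟨m, ?_⟩
    rwa [res_id] at hm
  choose B' hB' using hB
  have hBu : ∀ (k : LinearMap.ker π) (m : M₁), Van S.X₁ (σ k - res S.X₁ g (φ₁ m)) v → B' k = m := by
    intro k m hm
    rw [← sub_eq_zero]
    refine hi' _ ?_
    have h1 := (hB' k).symm.trans hm
    change Van S.X₁ (res S.X₁ g (φ₁ (B' k - m))) v
    rwa [map_sub, map_sub]
  let B : LinearMap.ker π →ₗ[Λ] M₁ :=
    { toFun := B'
      map_add' := fun x y => hBu _ _ (by
        have h1 := (hB' x).add (hB' y)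
        rw [map_add σ, map_add φ₁, map_add]
        rwa [sub_add_sub_comm] at h1)
      map_smul' := fun r x => hBu _ _ (by
        have h1 := (hB' x).smul r
        rw [map_smul σ, RingHom.id_apply, map_smul φ₁, map_smul]
        rwa [smul_sub] at h1) }
  have hB : ∀ k, Van S.X₁ (σ k - res S.X₁ g (φ₁ (B k))) v := hB'
  obtain ⟨T, hT⟩ : (⊤ : Submodule Λ (LinearMap.ker π)).FG := Module.Finite.fg_top
  obtain ⟨V', g', v', hv', hT'⟩ := exists_common_finite (ι := T) v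
    (fun k W h => res S.X₁ h (σ k - res S.X₁ g (φ₁ (B k))) = 0)
    (fun i V W g k h => by rw [res_comp, h, map_zero])
    (fun k => by
      obtain ⟨W, h, w, hw, h1⟩ := hB k
      exact ⟨W, h, w, hw, h1⟩)
  have hrel : ∀ k : LinearMap.ker π, res S.X₁ g' (σ k) = res S.X₁ (g' ≫ g) (φ₁ (B k)) := by
    intro k
    have h1 : (⊤ : Submodule Λ (LinearMap.ker π)) ≤
        LinearMap.ker ((res S.X₁ g').comp (σ - ((res S.X₁ g).comp (φ₁.comp B)))) := by
      rw [← hT, Submodule.span_le]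
      intro x hx
      exact hT' ⟨x, hx⟩
    have h2 : res S.X₁ g' (σ k - res S.X₁ g (φ₁ (B k))) = 0 := h1 (Submodule.mem_top (x := k))
    rw [map_sub, sub_eq_zero] at h2
    rw [h2, res_comp]
  let ψ : M₁ × (Fin n → Λ) →ₗ[Λ] EtModW.sect Λ S.X₂ V' :=
    ((ev S.f V').comp (resHom (g' ≫ g) φ₁)).coprod (resHom g' L)
  have hψ : ∀ m x, ψ (m, x) = ev S.f V' (res S.X₁ (g' ≫ g) (φ₁ m)) + res S.X₂ g' (L x) := fun _ _ => rfl
  let R : Submodule Λ (M₁ × (Fin n → Λ)) := LinearMap.range (B.prod (-(LinearMap.ker π).subtype))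
  have hR : R ≤ LinearMap.ker ψ := by
    rintro _ ⟨k, rfl⟩
    change ψ (B k, -(k : Fin n → Λ)) = 0
    rw [hψ, map_neg, map_neg, ← hσ, ← hrel, res_ev, add_neg_cancel]
  have hfin : Module.Finite Λ ((M₁ × (Fin n → Λ)) ⧸ R) := inferInstance
  refine ⟨V', g' ≫ g, v', ?_, (M₁ × (Fin n → Λ)) ⧸ R, inferInstance, inferInstance, hfin,
    R.liftQ ψ hR, fun c i₁ s₁ i₃ s₃ => ⟨?_, ?_⟩⟩
  · change (g'.left ≫ g.left) v' = u
    rw [Scheme.Hom.comp_apply, hv', hv]
  · intro y hy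
    obtain ⟨⟨m, x⟩, rfl⟩ := Submodule.Quotient.mk_surjective _ y
    have hy' : Van S.X₂ (ψ (m, x)) c := hy
    have h1 := Van.map S.g hy'
    rw [hψ, map_add, ← ev_comp, S.zero] at h1
    have h2 : ev (0 : S.X₁ ⟶ S.X₃) V' (res S.X₁ (g' ≫ g) (φ₁ m)) + ev S.g V' (res S.X₂ g' (L x)) =
        ev S.g V' (res S.X₂ g' (L x)) := zero_add _
    rw [h2, ← res_ev, hL, ← res_comp] at h1
    have hx : π x = 0 := i₃ _ h1
    have h3 : Van S.X₁ (res S.X₁ (g' ≫ g) (φ₁ (m + B ⟨x, hx⟩))) c := by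
      refine van_of_mono S.f ?_
      have h4 : ev S.f V' (res S.X₁ (g' ≫ g) (φ₁ (m + B ⟨x, hx⟩))) = ψ (m, x) := by
        rw [hψ, map_add, map_add, map_add, ← hrel, ← res_ev S.f g' (σ ⟨x, hx⟩), hσ]
      rw [h4]
      exact hy'
    have h4 : m + B ⟨x, hx⟩ = 0 := i₁ _ h3
    rw [Submodule.Quotient.mk_eq_zero]
    refine ⟨-⟨x, hx⟩, ?_⟩
    change (B (-⟨x, hx⟩), -((-⟨x, hx⟩ : LinearMap.ker π) : Fin n → Λ)) = (m, x)
    rw [map_neg, Submodule.coe_neg, neg_neg, ← eq_neg_of_add_eq_zero_left h4]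
  · intro W h w hw z
    obtain ⟨m₃, hm₃⟩ := s₃ W h w hw (ev S.g W z)
    obtain ⟨x, rfl⟩ := hπ m₃
    have h1 : Van S.X₃ (ev S.g W (z - res S.X₂ h (res S.X₂ g' (L x)))) w := by
      rw [map_sub, ← res_ev, ← res_ev, hL]
      have h2 : res S.X₃ h (res S.X₃ g' (res S.X₃ g (φ₃ (π x)))) =
          res S.X₃ h ((resHom (g' ≫ g) φ₃) (π x)) := by
        congr 1
        exact (res_comp _ _ _ _).symm
      rw [h2]
      exact hm₃
    obtain ⟨W', h', w', hw', h2⟩ := h1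
    rw [res_ev] at h2
    obtain ⟨y, hy⟩ := exists_lift_of_exact hS.exact W' _ h2
    obtain ⟨m, hm⟩ := s₁ W' (h' ≫ h) w' (by
      change (h'.left ≫ h.left) w' = c
      rw [Scheme.Hom.comp_apply, hw', hw]) y
    refine ⟨Submodule.Quotient.mk (m, x), ?_⟩
    change Van S.X₂ (z - res S.X₂ h (ψ (m, x))) w
    rw [← hw', ← van_res_iff]
    have h3 := Van.map S.f hm
    have h4 : ev S.f W' (y - res S.X₁ (h' ≫ h) (resHom (g' ≫ g) φ₁ m)) =
        res S.X₂ h' (z - res S.X₂ h (ψ (m, x))) := by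
      rw [map_sub, hy, hψ, map_add, map_sub, map_sub, map_add, ← res_ev S.f (h' ≫ h), res_comp]
      change _ - res S.X₂ h' (res S.X₂ h (ev S.f V' (res S.X₁ (g' ≫ g) (φ₁ m)))) = _
      abel
    rwa [h4] at h3

/-- Extensions of constructible sheaves of `Λ`-modules are constructible. -/
theorem isConstructible_of_shortExact (S : ShortComplex (EtModW.Mod Λ X)) (hS : S.ShortExact)
    (h₁ : EtModW.IsConstructible Λ S.X₁) (h₃ : EtModW.IsConstructible Λ S.X₃) :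
    EtModW.IsConstructible Λ S.X₂ := by
  refine isConstructible_of_good _ fun x => ?_
  obtain ⟨U₁, u₁, hu₁, M₁, _, _, _, φ₁, i₁, s₁⟩ := exists_good S.X₁ h₁ x
  obtain ⟨U₃, u₃, hu₃, M₃, _, _, _, φ₃, i₃, s₃⟩ := exists_good S.X₃ h₃ x
  obtain ⟨P, a, b, p, ha, hb⟩ := exists_prod U₁ U₃ u₁ u₃ (hu₁.trans hu₃.symm)
  obtain ⟨V, g, v, hv, M₂, _, _, _, φ₂, hφ₂⟩ := exists_core hS p (resHom a φ₁) (resHom b φ₃)
    (by rw [injAt_res_iff, ha]; exact i₁) (by rw [surjAt_res_iff, ha]; exact s₁)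
  have hp : P.hom p = x := by
    rw [← hu₁, ← ha, ← Scheme.Hom.comp_apply]
    exact congrArg (fun f : P.left ⟶ X => f p) (Over.w a.hom).symm
  have hvx : V.hom v = x := by
    rw [← hp, ← hv, ← Scheme.Hom.comp_apply]
    exact congrArg (fun f : V.left ⟶ X => f v) (Over.w g.hom).symm
  refine ⟨V, v, hvx, M₂, inferInstance, inferInstance, inferInstance, φ₂,
    {c | InjAt S.X₁ (resHom g (resHom a φ₁)) c ∧ SurjAt S.X₁ (resHom g (resHom a φ₁)) c} ∩
    {c | InjAt S.X₃ (resHom g (resHom b φ₃)) c ∧ SurjAt S.X₃ (resHom g (resHom b φ₃)) c},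
    (isLocallyConstructible_good h₁ V _).inter (isLocallyConstructible_good h₃ V _),
    ⟨⟨?_, ?_⟩, ⟨?_, ?_⟩⟩, fun c hc => hφ₂ c hc.1.1 hc.1.2 hc.2.1 hc.2.2⟩
  · rw [injAt_res_iff, injAt_res_iff, hv, ha]; exact i₁
  · rw [surjAt_res_iff, surjAt_res_iff, hv, ha]; exact s₁
  · rw [injAt_res_iff, injAt_res_iff, hv, hb]; exact i₃
  · rw [surjAt_res_iff, surjAt_res_iff, hv, hb]; exact s₃

end Groth.Agent.Sga4h.LamSerreExt
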