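import Groth.Agent.Sga4h.LamSerre
import Groth.Agent.Sga4h.LamSerreExt

/-!
# Constructible sheaves of `Λ`-modules: finite sums, kernels, cokernels

`Λ` Noetherian, `X` locally Noetherian.
-/

set_option autoImplicit false
universe u

open CategoryTheory CategoryTheory.Limits AlgebraicGeometry Opposite Topology

namespace Groth.Agent.Sga4h.LamSerre

variable {Λ : Type (u + 1)} [CommRing Λ] {X : Scheme.{u}} {F G : EtModW.Mod Λ X}
variable [IsNoetherianRing Λ]

/-- Extensions of constructible sheaves are constructible. -/
theorem isConstructible_of_shortExact (S : ShortComplex (EtModW.Mod Λ X)) (hS : S.ShortExact)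
    (h₁ : EtModW.IsConstructible Λ S.X₁) (h₃ : EtModW.IsConstructible Λ S.X₃) :
    EtModW.IsConstructible Λ S.X₂ :=
  LamSerreExt.isConstructible_of_shortExact S hS h₁ h₃

theorem isConstructible_biprod [HasBinaryBiproduct F G] (hF : EtModW.IsConstructible Λ F)
    (hG : EtModW.IsConstructible Λ G) : EtModW.IsConstructible Λ (F ⊞ G) := by
  let S : ShortComplex (EtModW.Mod Λ X) := ShortComplex.mk (biprod.inl : F ⟶ F ⊞ G) (biprod.snd : F ⊞ G ⟶ G)
    biprod.inl_snd
  have s : S.Splitting :=
    { r := biprod.fst
      s := biprod.inr }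
  exact isConstructible_of_shortExact S s.shortExact hF hG

variable [IsLocallyNoetherian X]

theorem isConstructible_kernel (f : F ⟶ G) (hF : EtModW.IsConstructible Λ F) :
    EtModW.IsConstructible Λ (kernel f) := isConstructible_of_mono (kernel.ι f) hF

theorem isConstructible_cokernel (f : F ⟶ G) (hG : EtModW.IsConstructible Λ G) :
    EtModW.IsConstructible Λ (cokernel f) := isConstructible_of_epi (cokernel.π f) hG

/-- The middle term of an exact sequence with constructible outer terms is constructible. -/
theorem isConstructible_of_exact (S : ShortComplex (EtModW.Mod Λ X)) (hS : S.Exact)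
    (h₁ : EtModW.IsConstructible Λ S.X₁) (h₃ : EtModW.IsConstructible Λ S.X₃) :
    EtModW.IsConstructible Λ S.X₂ := by
  have h4 : EtModW.IsConstructible Λ (kernel S.g) := by
    have : Epi (kernel.lift S.g S.f S.zero) := (S.exact_iff_epi_kernel_lift).1 hS
    exact isConstructible_of_epi (kernel.lift S.g S.f S.zero) h₁
  have h5 : EtModW.IsConstructible Λ (Abelian.image S.g) :=
    isConstructible_of_mono (Abelian.image.ι S.g) h₃
  let T : ShortComplex (EtModW.Mod Λ X) := ShortComplex.mk (kernel.ι S.g)
    (Abelian.factorThruImage S.g) (by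
      rw [← cancel_mono (Abelian.image.ι S.g), Category.assoc, Abelian.image.fac, zero_comp,
        kernel.condition])
  have hT : T.ShortExact := by
    have hm : Mono T.f := inferInstanceAs (Mono (kernel.ι S.g))
    have he : Epi T.g := inferInstanceAs (Epi (Abelian.factorThruImage S.g))
    refine { exact := ?_, mono_f := hm, epi_g := he }
    refine ShortComplex.exact_of_f_is_kernel _ ?_
    refine KernelFork.IsLimit.ofι _ _
      (fun {W} k hk => kernel.lift S.g k (by
        rw [← Abelian.image.fac S.g, ← Category.assoc]
        have : k ≫ Abelian.factorThruImage S.g = 0 := hk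
        rw [this, zero_comp])) (fun {W} k hk => kernel.lift_ι _ _ _) (fun {W} k hk m hm => ?_)
    rw [← cancel_mono (kernel.ι S.g)]
    exact hm.trans (kernel.lift_ι _ _ _).symm
  exact isConstructible_of_shortExact T hT h4 h5

/-- An object with a finite jointly monic family of maps to constructible sheaves is
constructible. -/
theorem isConstructible_of_jointly_mono {ι : Type*} (s : Finset ι) (f : ι → EtModW.Mod Λ X)
    (hf : ∀ i ∈ s, EtModW.IsConstructible Λ (f i)) (B : EtModW.Mod Λ X) (π : ∀ i, B ⟶ f i)
    (h : ∀ {K : EtModW.Mod Λ X} (k : K ⟶ B), (∀ i ∈ s, k ≫ π i = 0) → k = 0) :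
    EtModW.IsConstructible Λ B := by
  classical
  induction s using Finset.induction_on generalizing B with
  | empty =>
    refine isConstructible_of_isZero ?_
    rw [IsZero.iff_id_eq_zero]
    exact h _ (by simp)
  | @insert a t ha ih =>
    have h1 : EtModW.IsConstructible Λ (kernel (π a)) := by
      refine ih (fun i hi => hf i (Finset.mem_insert_of_mem hi)) _ (fun i => kernel.ι (π a) ≫ π i)
        fun k hk => ?_
      rw [← cancel_mono (kernel.ι (π a)), zero_comp]
      refine h _ fun i hi => ?_
      rcases Finset.mem_insert.1 hi with rfl | hi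
      · rw [Category.assoc, kernel.condition, comp_zero]
      · rw [Category.assoc]
        exact hk i hi
    exact isConstructible_of_exact (ShortComplex.mk (kernel.ι (π a)) (π a) (kernel.condition _))
      (ShortComplex.exact_of_f_is_kernel _ (kernelIsKernel _)) h1
      (hf a (Finset.mem_insert_self _ _))

theorem isConstructible_biproduct {ι : Type*} [Finite ι] (f : ι → EtModW.Mod Λ X) [HasBiproduct f]
    (hf : ∀ i, EtModW.IsConstructible Λ (f i)) : EtModW.IsConstructible Λ (⨁ f) := by
  have := Fintype.ofFinite ι
  exact isConstructible_of_jointly_mono Finset.univ f (fun i _ => hf i) _ (biproduct.π f)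
    fun k hk => biproduct.hom_ext _ _ fun i => by rw [hk i (Finset.mem_univ i), zero_comp]

theorem isConstructible_pi {ι : Type*} [Finite ι] (f : ι → EtModW.Mod Λ X) [HasProduct f]
    (hf : ∀ i, EtModW.IsConstructible Λ (f i)) : EtModW.IsConstructible Λ (∏ᶜ f) := by
  have := Fintype.ofFinite ι
  exact isConstructible_of_jointly_mono Finset.univ f (fun i _ => hf i) _ (Pi.π f)
    fun k hk => Pi.hom_ext _ _ fun i => by rw [hk i (Finset.mem_univ i), zero_comp]

end Groth.Agent.Sga4h.LamSerre
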