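import Groth.Agent.Sga4h.TBGen
import Groth.Agent.Sga4h.ExtLES
import Groth.Agent.Sga4h.ExtFree
import Groth.Agent.Sga4h.LamSerreFin

/-!
# Constructibility of the local Ext sheaves from finiteness of étale direct images

`main`: `X` Noetherian, `Λ` Noetherian, `G` such that all `R^q h_* h^{-1} G`, `h : U ⟶ X` étale with `U` affine,
are constructible. Then `Ext^q(F, G)` is constructible for all constructible `F` and all `q`.
-/

set_option autoImplicit false
universe u

open CategoryTheory CategoryTheory.Limits AlgebraicGeometry Opposite Topology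
attribute [local instance] HasDerivedCategory.standard

namespace Groth.Agent.Sga4h.TBExt

open Groth.Agent.Etcore.LFree

variable {Λ : Type (u + 1)} [CommRing Λ] [IsNoetherianRing Λ] {X : Scheme.{u}} [IsLocallyNoetherian X]
  (G : EtModW.Mod Λ X)

theorem isConstructible_ext_of_shortExact (S : ShortComplex (EtModW.Mod Λ X)) (hS : S.ShortExact) (q : ℕ)
    (h₁ : EtModW.IsConstructible Λ ((EtModD.extSheaf S.X₁ q).obj G))
    (h₃ : EtModW.IsConstructible Λ ((EtModD.extSheaf S.X₃ q).obj G)) :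
    EtModW.IsConstructible Λ ((EtModD.extSheaf S.X₂ q).obj G) := by
  obtain ⟨a, b, d, h0, h1, h2, h3⟩ := ExtLES.exists_les S hS G
  obtain ⟨w, hw⟩ := h1 q
  exact LamSerre.isConstructible_of_exact _ hw h₃ h₁

theorem isConstructible_ext_zero_X₃ (S : ShortComplex (EtModW.Mod Λ X)) (hS : S.ShortExact)
    (h₂ : EtModW.IsConstructible Λ ((EtModD.extSheaf S.X₂ 0).obj G)) :
    EtModW.IsConstructible Λ ((EtModD.extSheaf S.X₃ 0).obj G) := by
  obtain ⟨a, b, d, h0, h1, h2, h3⟩ := ExtLES.exists_les S hS G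
  exact LamSerre.isConstructible_of_mono (a 0) h₂

theorem isConstructible_ext_succ_X₃ (S : ShortComplex (EtModW.Mod Λ X)) (hS : S.ShortExact) (q : ℕ)
    (h₁ : EtModW.IsConstructible Λ ((EtModD.extSheaf S.X₁ q).obj G))
    (h₂ : EtModW.IsConstructible Λ ((EtModD.extSheaf S.X₂ (q + 1)).obj G)) :
    EtModW.IsConstructible Λ ((EtModD.extSheaf S.X₃ (q + 1)).obj G) := by
  obtain ⟨a, b, d, h0, h1, h2, h3⟩ := ExtLES.exists_les S hS G
  obtain ⟨w, hw⟩ := h3 q
  exact LamSerre.isConstructible_of_exact _ hw h₁ h₂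

omit [IsNoetherianRing Λ] [IsLocallyNoetherian X] in
theorem isZero_ext (A : EtModW.Mod Λ X) (hA : IsZero A) (q : ℕ) : IsZero ((EtModD.extSheaf A q).obj G) := by
  let S : ShortComplex (EtModW.Mod Λ X) := ShortComplex.mk (𝟙 A) (𝟙 A) (hA.eq_of_src _ _)
  have hS : S.ShortExact :=
    { exact := ShortComplex.exact_of_isZero_X₂ S hA
      mono_f := inferInstanceAs (Mono (𝟙 A))
      epi_g := inferInstanceAs (Epi (𝟙 A)) }
  obtain ⟨d, -, h1, -, -⟩ := ExtLES.exists_les' S hS G
  obtain ⟨w, -⟩ := h1 q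
  have h2 : (ExtLES.extMap S.g q).app G = 𝟙 _ := by
    change (ExtLES.extMap (𝟙 A) q).app G = 𝟙 _
    rw [ExtLES.extMap_id]
    rfl
  rw [IsZero.iff_id_eq_zero]
  rw [h2] at w
  exact (Category.comp_id _).symm.trans w

omit [IsNoetherianRing Λ] [IsLocallyNoetherian X] in
theorem isConstructible_ext_LM (hG : ∀ U : X.Etale, IsAffine U.left → ∀ q : ℕ,
      EtModW.IsConstructible Λ ((EtModW.Rpush Λ U.hom q).obj ((EtModW.pull Λ U.hom).obj G)))
    (U : X.Etale) (hU : IsAffine U.left) (q : ℕ) :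
    EtModW.IsConstructible Λ ((EtModD.extSheaf (LM Λ U) q).obj G) := by
  obtain ⟨e⟩ := ExtFree.nonempty_extSheaf_iso U (LM Λ U) (gen Λ U) (ExtFree.represents_LM U) q G
  exact Etcore.LCrit.isConstructible_of_iso e.symm (hG U hU q)

theorem main [CompactSpace X] (hG : ∀ U : X.Etale, IsAffine U.left → ∀ q : ℕ,
      EtModW.IsConstructible Λ ((EtModW.Rpush Λ U.hom q).obj ((EtModW.pull Λ U.hom).obj G)))
    (F : EtModW.Mod Λ X) (hF : EtModW.IsConstructible Λ F) (q : ℕ) :
    EtModW.IsConstructible Λ ((EtModD.extSheaf F q).obj G) := by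
  have hadd : ∀ A B : EtModW.Mod Λ X,
      (∀ q, EtModW.IsConstructible Λ ((EtModD.extSheaf A q).obj G)) →
      (∀ q, EtModW.IsConstructible Λ ((EtModD.extSheaf B q).obj G)) →
      ∀ q, EtModW.IsConstructible Λ ((EtModD.extSheaf (A ⊞ B) q).obj G) := by
    intro A B hA hB q
    let S : ShortComplex (EtModW.Mod Λ X) :=
      ShortComplex.mk (biprod.inl : A ⟶ A ⊞ B) (biprod.snd : A ⊞ B ⟶ B) biprod.inl_snd
    have s : S.Splitting :=
      { r := biprod.fst
        s := biprod.inr }
    exact isConstructible_ext_of_shortExact G S s.shortExact q (hA q) (hB q)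
  have step : ∀ F : EtModW.Mod Λ X, EtModW.IsConstructible Λ F → ∃ S : ShortComplex (EtModW.Mod Λ X),
      S.ShortExact ∧ S.X₃ = F ∧ EtModW.IsConstructible Λ S.X₁ ∧
        ∀ q, EtModW.IsConstructible Λ ((EtModD.extSheaf S.X₂ q).obj G) := by
    intro F hF
    obtain ⟨A, ⟨hA, hA'⟩, α, hα⟩ := TBGen.exists_epi (F := F)
      (fun A => EtModW.IsConstructible Λ A ∧
        ∀ q, EtModW.IsConstructible Λ ((EtModD.extSheaf A q).obj G))
      (fun A hA => ⟨LamSerre.isConstructible_of_isZero hA,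
        fun q => LamSerre.isConstructible_of_isZero (isZero_ext G A hA q)⟩)
      (fun A B hA hB => ⟨LamSerre.isConstructible_biprod hA.1 hB.1, hadd A B hA.2 hB.2⟩)
      (fun U hU => ⟨Etcore.LFreePull.isConstructible_LM_of_affine U, isConstructible_ext_LM G hG U hU⟩) hF
    refine ⟨ShortComplex.mk (kernel.ι α) α (kernel.condition α), ?_, rfl,
      LamSerre.isConstructible_kernel α hA, hA'⟩
    exact { exact := ShortComplex.exact_of_f_is_kernel _ (kernelIsKernel α)
            mono_f := inferInstance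
            epi_g := hα }
  induction q generalizing F with
  | zero =>
    obtain ⟨S, hS, rfl, h1, h2⟩ := step F hF
    exact isConstructible_ext_zero_X₃ G S hS (h2 0)
  | succ q ih =>
    obtain ⟨S, hS, rfl, h1, h2⟩ := step F hF
    exact isConstructible_ext_succ_X₃ G S hS q (ih _ h1) (h2 (q + 1))

end Groth.Agent.Sga4h.TBExt
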