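import Groth.Agent.Sga4h.LFinDelta
import Groth.Agent.Sga4B.DeltaH
import Groth.Agent.Etrest.ModUC
import Groth.Agent.Etrest.ModUC3
import Groth.Agent.Etrest.Cons752
import Groth.Agent.Etrest.ModDev
import Groth.Agent.Sga4h.TensorConst
import Groth.Agent.EtpbcA.StrataGlob
import Groth.Agent.EtpbcA.PullFLC
import Groth.Prelude.Def_EtCore

/-!
# `g^* R^q f_*` of constant sheaves of modules

`TD f g` is the delta functor `q ↦ g^* R^q f_*`; `const_mem`: if `g^* R^q f_* (ℤ/l)` is constructible for all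
primes `l` dividing `n`, then so is `g^* R^q f_* M` for every `Λ`-module `M` of finite type, `n = 0` in `Λ`.
-/

set_option autoImplicit false
universe u
open CategoryTheory CategoryTheory.Limits AlgebraicGeometry Opposite
open scoped ZeroObject

namespace Groth.Agent.Sga4h.LFinConst938

open Groth.Agent.Sga4h.LFinDelta Groth.Agent.Localalg.DeltaFun Groth.Agent.Etrest

variable {Λ : Type (u + 1)} [CommRing Λ] {X Y Y' : Scheme.{u}}

/-- Constructible sheaves of modules satisfy the five lemma. -/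
theorem fiveClosed [IsNoetherianRing Λ] (X : Scheme.{u}) :
    FiveClosed (fun F : EtModW.Mod Λ X => EtModW.IsConstructible Λ F) :=
  ⟨Cons752.isConstructible_of_isZero (isZero_zero _), fun f₁ f₂ f₃ f₄ w₁ w₂ w₃ h₁ h₂ h₃ hA hB hD hE =>
    ModCons.isConstructible_five_of_ftFive Cons752.ftFive f₁ f₂ f₃ f₄ w₁ w₂ w₃ h₁ h₂ h₃ hA hB hD hE⟩

variable (Λ) in
/-- The delta functor `q ↦ g^* R^q f_*`. -/
noncomputable def TD (f : X ⟶ Y) (g : Y' ⟶ Y) : DeltaFunctor (EtModW.Mod Λ X) (EtModW.Mod Λ Y') :=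
  (Groth.Agent.Sga4B.DeltaH.ofRightDerived (EtModW.push Λ f)).postcomp (EtModW.pull Λ g)

theorem TD_obj (f : X ⟶ Y) (g : Y' ⟶ Y) (q : ℕ) (F : EtModW.Mod Λ X) :
    ((TD Λ f g).T q).obj F = (EtModW.pull Λ g).obj ((EtModW.Rpush Λ f q).obj F) := rfl

theorem TD_mono (f : X ⟶ Y) (g : Y' ⟶ Y) {F G : EtModW.Mod Λ X} (φ : F ⟶ G) [Mono φ] :
    Mono (((TD Λ f g).T 0).map φ) := by
  have h := ModDev.mono_rightDerived_zero (EtModW.push Λ f) φ
  exact (inferInstance : Mono ((EtModW.pull Λ g).map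
    (((Groth.Agent.Sga4B.DeltaH.ofRightDerived (EtModW.push Λ f)).T 0).map φ)))

variable [IsNoetherianRing Λ] (f : X ⟶ Y) (g : Y' ⟶ Y)

omit [IsNoetherianRing Λ] in
/-- The case of modules killed by a prime. -/
theorem const_mem_prime [QuasiCompact f] [QuasiSeparated f] (l : ℕ) [Fact l.Prime] (q : ℕ)
    (h : EtPBC.IsConstructible ((EtCoh.pull g).obj ((EtCoh.Rpush f q).obj (EtCoh.const X (ZMod l)))))
    (N : Type (u + 1)) [AddCommGroup N] [Module Λ N] [Module.Finite Λ N] (hN : ∀ m : N, l • m = 0) :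
    EtModW.IsConstructible Λ ((EtModW.pull Λ g).obj ((EtModW.Rpush Λ f q).obj (EtModW.constMod Λ X N))) := by
  have : NeZero l := ⟨(Fact.out : l.Prime).ne_zero⟩
  obtain ⟨e⟩ := ModUC3.nonempty_tens_const (Λ := Λ) (X := X) l N hN
  refine ModCons.isConstructible_of_ab _ h fun T t _ ht => ?_
  have h1 : EtCoh.IsFiniteLocallyConstant ((EtCoh.pull (t ≫ g)).obj
      ((EtCoh.Rpush f q).obj (EtCoh.const X (ZMod l)))) :=
    Groth.Agent.EtpbcA.PullFLC.isFLC_of_iso ((EtCore.pullComp t g).symm.app _) ht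
  have h2 := ModUC.ftlc_Rpush_tens (Λ := Λ) f (t ≫ g) q l (EtCoh.const X (ZMod l)) (TensorConst.killedBy_const l) N hN h1
  refine ModFT.ftlc_of_iso ?_ h2
  exact (EtModW.pull Λ (t ≫ g)).mapIso ((EtModW.Rpush Λ f q).mapIso e) ≪≫
    (Groth.Agent.Etcore.LPullComp.pullComp Λ t g).symm.app _

/-- The general case. -/
theorem const_mem [QuasiCompact f] [QuasiSeparated f] (n : ℕ) : 0 < n →
    (∀ l : ℕ, l.Prime → l ∣ n → ∀ q, EtPBC.IsConstructible
      ((EtCoh.pull g).obj ((EtCoh.Rpush f q).obj (EtCoh.const X (ZMod l))))) →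
    ∀ (M : Type (u + 1)) [AddCommGroup M] [Module Λ M] [Module.Finite Λ M], (∀ m : M, n • m = 0) →
      ∀ q : ℕ, EtModW.IsConstructible Λ ((EtModW.pull Λ g).obj
        ((EtModW.Rpush Λ f q).obj (EtModW.constMod Λ X M))) := by
  induction n using induction_on_primes with
  | zero => exact fun h => absurd h (lt_irrefl _)
  | one =>
    intro _ _ M _ _ _ hM q
    have : Subsingleton M := ⟨fun a b => by rw [← one_smul ℕ a, ← one_smul ℕ b, hM, hM]⟩
    have h0 : IsZero (ModuleCat.of Λ M) := ModuleCat.isZero_of_subsingleton _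
    exact Cons752.isConstructible_of_isZero ((EtModW.pull Λ g).map_isZero ((EtModW.Rpush Λ f q).map_isZero
      ((constantSheaf X.smallEtaleTopology (ModuleCat.{u + 1} Λ)).map_isZero h0)))
  | prime_mul ℓ n hℓp ih =>
    intro hn H M _ _ _ hM q
    have : Fact ℓ.Prime := ⟨hℓp⟩
    have hn' : 0 < n := Nat.pos_of_mul_pos_left hn
    let N : Submodule Λ M := LinearMap.range ((ℓ : Λ) • (LinearMap.id : M →ₗ[Λ] M))
    have hN : ∀ m : N, n • m = 0 := by
      rintro ⟨_, m, rfl⟩
      apply Subtype.ext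
      change n • ((ℓ : Λ) • m) = 0
      rw [Nat.cast_smul_eq_nsmul, smul_smul, mul_comm]
      exact hM m
    have hQ : ∀ m : M ⧸ N, ℓ • m = 0 := by
      intro m
      obtain ⟨m, rfl⟩ := Submodule.Quotient.mk_surjective _ m
      rw [← Submodule.Quotient.mk_smul, Submodule.Quotient.mk_eq_zero]
      refine ⟨m, ?_⟩
      change (ℓ : Λ) • m = ℓ • m
      rw [Nat.cast_smul_eq_nsmul]
    let K : ShortComplex (ModuleCat.{u + 1} Λ) := ShortComplex.mk (ModuleCat.ofHom N.subtype)
      (ModuleCat.ofHom N.mkQ) (by ext m; exact (Submodule.Quotient.mk_eq_zero _).2 m.2)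
    have hK : K.ShortExact := by
      refine { exact := ?_, mono_f := ?_, epi_g := ?_ }
      · rw [ShortComplex.moduleCat_exact_iff_range_eq_ker]
        change LinearMap.range N.subtype = LinearMap.ker N.mkQ
        rw [Submodule.range_subtype, Submodule.ker_mkQ]
      · rw [ModuleCat.mono_iff_injective]
        exact N.injective_subtype
      · rw [ModuleCat.epi_iff_surjective]
        exact N.mkQ_surjective
    have hKs := Cons752.constMod_shortExact (X := X) hK
    have hm := hKs.mono_f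
    have hm0 := TD_mono (Λ := Λ) f g (K.map (constantSheaf X.smallEtaleTopology (ModuleCat.{u + 1} Λ))).f
    exact mem₂ (fiveClosed Y') (TD Λ f g) hKs
      (fun q => ih hn' (fun l hl hd => H l hl (dvd_mul_of_dvd_right hd ℓ)) N hN q)
      (fun q => const_mem_prime f g ℓ q (H ℓ hℓp (dvd_mul_right ℓ n) q) (M ⧸ N) hQ) q

/-- The case where `n = 0` in `Λ`. -/
theorem const_mem' [QuasiCompact f] [QuasiSeparated f] (n : ℕ) (hn : 0 < n) (hΛ : (n : Λ) = 0)
    (H : ∀ l : ℕ, l.Prime → l ∣ n → ∀ q, EtPBC.IsConstructible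
      ((EtCoh.pull g).obj ((EtCoh.Rpush f q).obj (EtCoh.const X (ZMod l)))))
    (M : Type (u + 1)) [AddCommGroup M] [Module Λ M] [Module.Finite Λ M] (q : ℕ) :
    EtModW.IsConstructible Λ ((EtModW.pull Λ g).obj
      ((EtModW.Rpush Λ f q).obj (EtModW.constMod Λ X M))) :=
  const_mem f g n hn H M (fun m => by rw [← Nat.cast_smul_eq_nsmul Λ, hΛ, zero_smul]) q

end Groth.Agent.Sga4h.LFinConst938
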