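import Groth.Agent.Sga4h.LFinGeo
import Groth.Agent.Sga4h.LFinConst938

/-!
# Finiteness of direct images of sheaves of `Λ`-modules from the case of constant sheaves `ℤ/l`

`exists_family`: for a constructible sheaf of `Λ`-modules `G` on a Noetherian scheme `X` there are finitely
many finite morphisms `h i : Z i ⟶ X` such that for all `f : X ⟶ Y` quasi-compact quasi-separated and all
`g : Y' ⟶ Y`: if `g^* R^q (h i ≫ f)_* (ℤ/l)` is constructible for all `i`, all primes `l ∣ n` and all `q`,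
then `g^* R^q f_* G` is constructible for all `q`.
-/

set_option autoImplicit false
universe u

open CategoryTheory CategoryTheory.Limits AlgebraicGeometry Opposite

namespace Groth.Agent.Sga4h.LFinMain

open Groth.Agent.Sga4h.LFinFam Groth.Agent.Sga4h.LFinGeo

variable {Λ : Type (u + 1)} [CommRing Λ] [IsNoetherianRing Λ]

theorem constGood {n : ℕ} (hn : 0 < n) (hΛ : (n : Λ) = 0) : ConstGood Λ n := by
  intro X M _ _ _ Y Y' f _ _ g hg q
  refine LFinConst938.const_mem' f g n hn hΛ ?_ M q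
  intro l hl hln q
  have h1 := hg () l hl hln q
  change EtPBC.IsConstructible ((EtCoh.pull g).obj ((EtCoh.Rpush (𝟙 X ≫ f) q).obj
    (EtCoh.const X (ZMod l)))) at h1
  rw [Category.id_comp] at h1
  exact h1

/-- **Theorem D.** -/
theorem exists_family {X : Scheme.{u}} [IsNoetherian X] (n : ℕ) (hn : 0 < n) (hΛ : (n : Λ) = 0)
    (G : EtModW.Mod Λ X) (hG : EtModW.IsConstructible Λ G) :
    ∃ (m : ℕ) (Z : Fin m → Scheme.{u}) (h : ∀ i, Z i ⟶ X), (∀ i, IsFinite (h i)) ∧
      ∀ {Y Y' : Scheme.{u}} (f : X ⟶ Y) [QuasiCompact f] [QuasiSeparated f] (g : Y' ⟶ Y),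
        (∀ (i : Fin m) (l : ℕ), l.Prime → l ∣ n → ∀ q,
          EtPBC.IsConstructible ((EtCoh.pull g).obj ((EtCoh.Rpush (h i ≫ f) q).obj
            (EtCoh.const (Z i) (ZMod l))))) →
        ∀ q, EtModW.IsConstructible Λ ((EtModW.pull Λ g).obj ((EtModW.Rpush Λ f q).obj G)) := by
  obtain ⟨A, hA⟩ := dd_of_isConstructible (constGood hn hΛ) X G hG
  have := A.finι
  obtain ⟨m, ⟨e⟩⟩ := Finite.exists_equiv_fin A.ι
  refine ⟨m, fun i => A.Z (e.symm i), fun i => A.h (e.symm i), fun i => A.fin _, ?_⟩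
  intro Y Y' f _ _ g hg q
  refine hA f g ?_ q
  intro i l hl hln q
  obtain ⟨k, rfl⟩ := e.symm.surjective i
  exact hg k l hl hln q

end Groth.Agent.Sga4h.LFinMain
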