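import Groth.Agent.Sga4h.ExtMain
import Groth.Agent.Sga4h.LFinMain

/-!
# The finite families attached to the étale schemes of the dévissage
-/

set_option autoImplicit false
universe u

open CategoryTheory CategoryTheory.Limits AlgebraicGeometry Opposite TopologicalSpace

namespace Groth.Agent.Sga4h.ExtMain

variable {Λ : Type (u + 1)} [CommRing Λ] {X : Scheme.{u}}

/-- The abelian sheaves to which the finiteness theorem is applied, for one morphism. -/
theorem exists_fam_aux {T : Scheme.{u}} [IsNoetherian T] [IsNoetherianRing Λ] (n : ℕ) (hn : 0 < n)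
    (hΛ : (n : Λ) = 0) (G : EtModW.Mod Λ X) (hG : EtModW.IsConstructible Λ G) (f : T ⟶ X)
    [QuasiCompact f] [QuasiSeparated f] :
    ∃ (m : ℕ) (Z : Fin m → Scheme.{u}) (h : ∀ i, Z i ⟶ T), (∀ i, IsFinite (h i)) ∧
      ∀ {X₀ : Scheme.{u}} (j : X₀ ⟶ X),
        (∀ i (l : ℕ), l.Prime → l ∣ n → ∀ q, EtPBC.IsConstructible ((EtCoh.pull j).obj
          ((EtCoh.Rpush (h i ≫ f) q).obj (EtCoh.const (Z i) (ZMod l))))) →
        ∀ q, EtModW.IsConstructible Λ ((EtModW.pull Λ j).obj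
          ((EtModW.Rpush Λ f q).obj ((EtModW.pull Λ f).obj G))) := by
  obtain ⟨m, Z, h, hfin, hh⟩ := LFinMain.exists_family n hn hΛ ((EtModW.pull Λ f).obj G)
    (Groth.Agent.Etcore.LCrit.isConstructible_pull f G hG)
  exact ⟨m, Z, h, hfin, fun j hj q => hh f j hj q⟩

theorem exists_fam [IsNoetherian X] [IsNoetherianRing Λ] (n : ℕ) (hn : 0 < n) (hΛ : (n : Λ) = 0)
    (G : EtModW.Mod Λ X) (hG : EtModW.IsConstructible Λ G) (T : X.Etale) [CompactSpace T.left] :
    ∃ (m : ℕ) (Z : Fin m → Scheme.{u}) (h : ∀ i, Z i ⟶ T.left), (∀ i, IsFinite (h i)) ∧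
      ∀ {X₀ : Scheme.{u}} (j : X₀ ⟶ X),
        (∀ i (l : ℕ), l.Prime → l ∣ n → ∀ q, EtPBC.IsConstructible ((EtCoh.pull j).obj
          ((EtCoh.Rpush (h i ≫ (T.hom : T.left ⟶ X)) q).obj (EtCoh.const (Z i) (ZMod l))))) →
        ∀ q, EtModW.IsConstructible Λ ((EtModW.pull Λ j).obj
          ((EtModW.Rpush Λ (T.hom : T.left ⟶ X) q).obj
            ((EtModW.pull Λ (T.hom : T.left ⟶ X)).obj G))) := by
  have h1 := isNoetherian_left T
  let f : T.left ⟶ X := T.hom
  have h2 : QuasiCompact f := inferInstance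
  have h3 : QuasiSeparated f := inferInstance
  exact exists_fam_aux n hn hΛ G hG f

end Groth.Agent.Sga4h.ExtMain
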