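import Groth.Agent.Sga4h.BidCmpAbs538
import Groth.Agent.PerfA.ExactD

/-!
# The local conclusions of a comparison of duality functors, abstractly
-/

set_option autoImplicit false
set_option linter.unusedSectionVars false
set_option backward.defeqAttrib.useBackward true
set_option backward.isDefEq.respectTransparency false

universe v₁ v₂ u₁ u₂

namespace Groth.Agent.Sga4h.BidCmpLoc538

open CategoryTheory Category Limits HomologicalComplex CochainComplex Opposite ZeroObject
open Groth.Agent.Sga4h.DualCx Groth.Agent.PerfC Groth.Agent.Sga4h.BidCmp Groth.Agent.Sga4h.HomCx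
open Groth.Agent.Dcoh.DerAdj Groth.Agent.Sga4h.Refl Groth.Agent.Sga4h.BidEtCmp

variable {C : Type u₁} [Category.{v₁} C] [Abelian C] {T : C ⥤ C ⥤ C} [T.Additive] [∀ X, (T.obj X).Additive]
  [∀ (K₁ K₂ : CochainComplex C ℤ), CochainComplex.HasMapBifunctor K₁ K₂ T]
  [∀ E : CochainComplex C ℤ, (T.map₂CochainComplex.flip.obj E).IsLeftAdjoint]
  {C' : Type u₂} [Category.{v₂} C'] [Abelian C'] {T' : C' ⥤ C' ⥤ C'} [T'.Additive] [∀ X, (T'.obj X).Additive]
  [∀ (K₁ K₂ : CochainComplex C' ℤ), CochainComplex.HasMapBifunctor K₁ K₂ T']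
  [∀ E : CochainComplex C' ℤ, (T'.map₂CochainComplex.flip.obj E).IsLeftAdjoint]
  {a : C ⥤ C'} [a.Additive] [PreservesFiniteLimits a] [PreservesFiniteColimits a]
  [∀ (J : Type), HasColimitsOfShape (Discrete J) C]
  [∀ (J : Type), (colim : (Discrete J ⥤ C) ⥤ C).PreservesMonomorphisms]
  [∀ (J : Type), HasColimitsOfShape (Discrete J) C']
  [∀ (J : Type), (colim : (Discrete J ⥤ C') ⥤ C').PreservesMonomorphisms]

omit [∀ (J : Type), HasColimitsOfShape (Discrete J) C]
  [∀ (J : Type), (colim : (Discrete J ⥤ C) ⥤ C).PreservesMonomorphisms]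
  [∀ (J : Type), HasColimitsOfShape (Discrete J) C']
  [∀ (J : Type), (colim : (Discrete J ⥤ C') ⥤ C').PreservesMonomorphisms] in
theorem isIso_map_of_quasiIso {K L : CochainComplex C ℤ} (f : K ⟶ L)
    (h : QuasiIso ((a.mapHomologicalComplex (ComplexShape.up ℤ)).map f)) (q : ℤ) :
    IsIso (a.map (HomologicalComplex.homologyMap f q)) := by
  have h1 : IsIso (HomologicalComplex.homologyMap ((a.mapHomologicalComplex (ComplexShape.up ℤ)).map f) q) := by
    rw [quasiIso_iff] at h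
    rw [← quasiIsoAt_iff_isIso_homologyMap]
    exact h q
  exact ((MorphismProperty.isomorphisms C').arrow_mk_iso_iff
    (Arrow.isoMk ((PerfA.ExactD.mapCxHomology a (ComplexShape.up ℤ) q).symm.app K)
      ((PerfA.ExactD.mapCxHomology a (ComplexShape.up ℤ) q).symm.app L)
      ((PerfA.ExactD.mapCxHomology a (ComplexShape.up ℤ) q).inv.naturality f).symm)).2 h1

/-- The local conclusions. -/
theorem exists_loc (τ : a ⋙ T' ⋙ (Functor.whiskeringLeft _ _ _).obj a ⟶ T ⋙ (Functor.whiskeringRight _ _ _).obj a)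
    (A : DualData T) (A' : DualData T')
    (α : (a.mapHomologicalComplex (ComplexShape.up ℤ)).obj A.J ⟶ A'.J) (B : DualData T) (B' : DualData T')
    (hσ : ∀ M N : C, (B'.S.σ (a.obj M) (a.obj N)).hom ≫ (τ.app M).app N =
      (τ.app N).app M ≫ a.map (B.S.σ M N).hom)
    (p : B.J ⟶ A.J) (hp : QuasiIso p) (p' : A'.J ⟶ B'.J) (hp' : QuasiIso p') (Q : CochainComplex C ℤ → Prop)
    (h : ∀ E, Q E → QuasiIso (BidCmp.cmp τ α E))
    (R : CochainComplex C ℤ ⥤ CochainComplex C' ℤ) (hR : R = a.mapHomologicalComplex (ComplexShape.up ℤ)) :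
    (∀ K : CochainComplex C ℤ, Q K → ∀ q : ℤ,
      Nonempty (a.obj ((B.D K).homology q) ≅ (B'.D (R.obj K)).homology q)) ∧
    (∀ K : CochainComplex C ℤ, Q K → Q (B.D K) → B'.Refl (R.obj K) → ∀ q : ℤ,
      IsIso (a.map (HomologicalComplex.homologyMap (B.ev K) q))) := by
  subst hR
  obtain ⟨c, hc, hc'⟩ := BidCmpAbs538.exists_cmp τ A A' α B B' hσ p p' Q h
  refine ⟨fun K hK q => ?_, fun K hK hK' hr q => isIso_map_of_quasiIso (B.ev K) ?_ q⟩
  · have := hc' K hK
    exact ⟨((PerfA.ExactD.mapCxHomology a (ComplexShape.up ℤ) q).app (B.D K)).symm ≪≫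
      isoOfQuasiIsoAt (c K) q⟩
  · have := hc' K hK
    have := hc' _ hK'
    have := hr.qis
    have h1 : QuasiIso ((a.mapHomologicalComplex (ComplexShape.up ℤ)).map (B.ev K) ≫ c (B.D K)) := by
      rw [hc]
      infer_instance
    exact (quasiIso_iff_comp_right ((a.mapHomologicalComplex (ComplexShape.up ℤ)).map (B.ev K)) (c (B.D K))).1 h1

end Groth.Agent.Sga4h.BidCmpLoc538
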