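import Groth.Agent.Sga4h.BidFinal48

/-!
# Biduality on the iterated projective lines: the local hypotheses as propositions

The variant of `BidFinal48.hP_of` in which the comparison data `Cmp` is replaced by its two consequences.
-/

set_option autoImplicit false
universe w v₁ v₂ u₁ u₂ u

open CategoryTheory CategoryTheory.Limits CategoryTheory.Abelian AlgebraicGeometry Opposite TopologicalSpace

attribute [local instance 5000] CategoryTheory.Abelian.toPreadditive
  CategoryTheory.Preadditive.preadditiveHasZeroMorphisms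

namespace Groth.Agent.Sga4h.BidLoc48

attribute [local instance] HasDerivedCategory.standard
open scoped Groth.Agent.Sga4h.ModInst
open Groth.Agent.Sga4h.Refl DerivedCategory Groth.Agent.Sga4h.BidIndD48 Groth.Agent.Sga4h.BidIndLoc48
open Groth.Agent.Sga4h.BidGeoIt Groth.Agent.Sga4h.BidGeoLim Groth.Agent.Sga4h.BidIndFin48
open Groth.Agent.Sga4h.BidRed538Main Groth.Agent.Sga4h.BidGlobDual Groth.Agent.Sga4h.BidFinal48

section Gen

variable {Λ : Type (u + 1)} [CommRing Λ] {X Y : Scheme.{u}}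

/-- The local conclusions of a comparison of duality along `g`. -/
structure Loc (A : DualData (EtModD.tensorBi Λ X)) (A' : DualData (EtModD.tensorBi Λ Y)) (g : Y ⟶ X) : Prop where
  /-- the cohomology of the dual -/
  iso : ∀ K : CochainComplex (EtModW.Mod Λ X) ℤ, EtModD.IsDbc (Q.obj K) → ∀ q : ℤ,
    Nonempty ((EtModW.pull Λ g).obj ((A.D K).homology q) ≅ (A'.D ((R g).obj K)).homology q)
  /-- the evaluation -/
  ev : ∀ K : CochainComplex (EtModW.Mod Λ X) ℤ, EtModD.IsDbc (Q.obj K) → EtModD.IsDbc (Q.obj (A.D K)) →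
    A'.Refl ((R g).obj K) → ∀ q : ℤ, IsIso ((EtModW.pull Λ g).map (HomologicalComplex.homologyMap (A.ev K) q))

variable {A : DualData (EtModD.tensorBi Λ X)} {A' : DualData (EtModD.tensorBi Λ Y)} {g : Y ⟶ X}

/-- The pullback of the cohomology sheaves of the dual are constructible. -/
theorem Loc.loc₁ (c : Loc A A' g) (h : Bid A') (K : CochainComplex (EtModW.Mod Λ X) ℤ)
    (hK : EtModD.IsDbc (Q.obj K)) (q : ℤ) :
    EtModW.IsConstructible Λ ((EtModW.pull Λ g).obj (EtModD.HD (Q.obj (A.D K)) q)) := by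
  obtain ⟨e⟩ := c.iso K hK q
  exact Etcore.LCrit.isConstructible_of_iso
    (hdIso _ q ≪≫ e.symm ≪≫ (EtModW.pull Λ g).mapIso (hdIso (A.D K) q).symm)
    ((h.dbc _ (isDbc_pull g K hK)).2 q)

/-- The pullback of the evaluation is a quasi-isomorphism. -/
theorem Loc.loc₂ (c : Loc A A' g) (h : Bid A') (K : CochainComplex (EtModW.Mod Λ X) ℤ)
    (hK : EtModD.IsDbc (Q.obj K)) (hK' : EtModD.IsDbc (Q.obj (A.D K))) (q : ℤ) :
    IsIso ((EtModW.pull Λ g).map (HomologicalComplex.homologyMap (A.ev K) q)) :=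
  c.ev K hK hK' (h.refl _ (isDbc_pull g K hK)) q

/-- **The induction step**: biduality on `X` from biduality on the `X' i`. -/
theorem bid_of_loc [Finite Λ] {k : Type u} [Field k] [IsSepClosed k] (a : X ⟶ Spec (.of k))
    [LocallyOfFiniteType a] [QuasiCompact a] {n : ℕ} (hn : 0 < n) (hΛ : (n : Λ) = 0)
    (A : DualData (EtModD.tensorBi Λ X)) (G : GlobData A n)
    {ι : Type*} [Finite ι] (X' : ι → Scheme.{u}) (g : ∀ i, X' i ⟶ X)
    [∀ i, CompactSpace (X' i)] [∀ i, QuasiSeparatedSpace (X' i)]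
    (hcov : ∀ x : X, (∀ i, x ∉ Set.range (g i)) → IsClosed {x})
    (A' : ∀ i, DualData (EtModD.tensorBi Λ (X' i))) (c : ∀ i, Loc A (A' i) (g i))
    (hB : ∀ i, Bid (A' i)) : Bid A := by
  have S : StepData A X' g :=
    { bdd := G.bdd
      fin := G.fin
      fin' := G.fin'
      ev := G.ev
      loc₁ := fun K hK i q => (c i).loc₁ (hB i) K hK q
      loc₂ := fun K hK hK' i q => (c i).loc₂ (hB i) K hK hK' q }
  exact ⟨fun K hK => (isDbc_and_refl a hn hΛ hcov G.h1 S K hK).1,
    fun K hK => (isDbc_and_refl a hn hΛ hcov G.h1 S K hK).2⟩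

/-- **Biduality on the iterated projective lines.** -/
theorem bid_It [Finite Λ] {m : ℕ} (hm : 0 < m) (hΛ : (m : Λ) = 0)
    (A : ∀ X : Scheme.{u}, DualData (EtModD.tensorBi Λ X))
    (hglob : ∀ (k : Type u) [Field k] [IsSepClosed k], (m : k) ≠ 0 → ∀ d : ℕ,
      GlobData (A (It (Spec (CommRingCat.of k)) (d + 1))) m)
    (hcmp : ∀ (X X' : Scheme.{u}) (g : X' ⟶ X), IsNoetherian X → IsEtLim g →
      Loc (A X) (A X') g)
    (h0 : ∀ (k : Type u) [Field k] [IsSepClosed k], (m : k) ≠ 0 → Bid (A (Spec (CommRingCat.of k))))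
    (d : ℕ) : ∀ (k : Type u) [Field k] [IsSepClosed k], (m : k) ≠ 0 →
      Bid (A (It (Spec (CommRingCat.of k)) d)) := by
  induction d with
  | zero => exact fun k _ _ hk => h0 k hk
  | succ d ih =>
    intro k _ _ hk
    obtain ⟨κ, _, _, φ, hφ⟩ := exists_family k
    obtain ⟨r, g, hg1, hg2, hg3⟩ := hφ d
    have hκ : (m : κ) ≠ 0 := by
      intro h
      apply hk
      apply φ.injective
      rw [map_natCast, h, map_zero]
    have hp : IsProper (str (Spec (CommRingCat.of k)) (d + 1)) := isProper_str _ _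
    have hp' : IsProper (str (Spec (CommRingCat.of κ)) d) := isProper_str _ _
    have hN : IsNoetherian (It (Spec (CommRingCat.of k)) (d + 1)) :=
      CurvesA.ClosedPtSep.isNoetherian (str (Spec (CommRingCat.of k)) (d + 1))
    have hN' : IsNoetherian (It (Spec (CommRingCat.of κ)) d) :=
      CurvesA.ClosedPtSep.isNoetherian (str (Spec (CommRingCat.of κ)) d)
    exact bid_of_loc (str (Spec (CommRingCat.of k)) (d + 1)) hm hΛ _ (hglob k hk d)
      (fun _ : Fin r => It (Spec (CommRingCat.of κ)) d) g hg3 (fun _ => A _)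
      (fun i => hcmp _ _ (g i) hN (hg1 i)) (fun _ => ih κ hκ)

end Gen

/-- **Biduality on the iterated projective lines** for the family `stdDual`. -/
theorem hP_of {m : ℕ} (hm : 0 < m)
    (hfin : ∀ (k : Type u) [Field k] [IsSepClosed k], (m : k) ≠ 0 → ∀ d : ℕ,
      BidFin.FinCoh m (It (Spec (CommRingCat.of k)) (d + 1)))
    (hSD : ∀ (k : Type u) [Field k] [IsSepClosed k], (m : k) ≠ 0 → ∀ d : ℕ, ∃ (N : ℕ)
      (tr : Ext.{u + 1} (EtModW.constMod (ULift.{u + 1} (ZMod m)) (It (Spec (CommRingCat.of k)) (d + 1)) (ULift.{u + 1} (ZMod m)))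
        (EtModW.constMod (ULift.{u + 1} (ZMod m)) (It (Spec (CommRingCat.of k)) (d + 1)) (ULift.{u + 1} (ZMod m))) N →+ ZMod m),
      SheafDual m tr)
    (hcmp : ∀ (X X' : Scheme.{u}) (g : X' ⟶ X), IsNoetherian X → IsEtLim g →
      Loc (stdDual (ULift.{u + 1} (ZMod m)) X) (stdDual (ULift.{u + 1} (ZMod m)) X') g)
    (k : Type u) [Field k] [IsSepClosed k] (hk : (m : k) ≠ 0) (d : ℕ)
    (E : CochainComplex (EtModW.Mod (ULift.{u + 1} (ZMod m)) (It (Spec (CommRingCat.of k)) d)) ℤ)
    (hE : EtModD.IsDbc (Q.obj E)) : (stdDual (ULift.{u + 1} (ZMod m)) (It (Spec (CommRingCat.of k)) d)).Refl E := by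
  have : NeZero m := ⟨hm.ne'⟩
  refine (bid_It (Λ := ULift.{u + 1} (ZMod m)) hm (by
    apply ULift.down_injective
    exact ZMod.natCast_self m) (stdDual (ULift.{u + 1} (ZMod m)))
    (fun k _ _ hk d => ?_) hcmp (fun k _ _ hk => ?_) d k hk).refl E hE
  · obtain ⟨N, tr, B⟩ := hSD k hk d
    exact globData_of hm (by
      apply ULift.down_injective
      exact ZMod.natCast_self m) B (hfin k hk d) _ (stdι _ _) (quasiIso_stdι _ _)
  · exact BidPtDbc.bid_point_zmod m hm _ (stdι _ _) (quasiIso_stdι _ _)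

end Groth.Agent.Sga4h.BidLoc48
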