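import Groth.Agent.Sga4h.BidRed538Asm

/-!
# The double dual on a smooth scheme over a field, from biduality on the iterated projective lines

`stdDual Λ X`: duality data for a chosen K-injective resolution of the constant sheaf `Λ` on `X`.
-/

set_option autoImplicit false

universe u

open CategoryTheory CategoryTheory.Limits AlgebraicGeometry

attribute [local instance 5000] CategoryTheory.Abelian.toPreadditive
  CategoryTheory.Preadditive.preadditiveHasZeroMorphisms

namespace Groth.Agent.Sga4h.BidRed538Main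

attribute [local instance] HasDerivedCategory.standard
open scoped Groth.Agent.Sga4h.ModInst
open Groth.Agent.Sga4h.Refl Groth.Agent.Sga4h.ModRestr Groth.Agent.Sga4h.BidGeoIt Groth.Agent.Sga4h.BidRed538Asm

variable (Λ : Type (u + 1)) [CommRing Λ] (X : Scheme.{u})

/-- The constant sheaf `Λ` in degree zero. -/
noncomputable abbrev unitCx : CochainComplex (EtModW.Mod Λ X) ℤ :=
  (CochainComplex.singleFunctor (EtModW.Mod Λ X) 0).obj (EtModW.constMod Λ X Λ)

/-- A K-injective resolution of the constant sheaf `Λ`. -/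
noncomputable def stdJ : CochainComplex (EtModW.Mod Λ X) ℤ := (DualEt.exists_kInj (unitCx Λ X)).choose

/-- The augmentation. -/
noncomputable def stdι : unitCx Λ X ⟶ stdJ Λ X := (DualEt.exists_kInj (unitCx Λ X)).choose_spec.choose

theorem isKInjective_stdJ : (stdJ Λ X).IsKInjective := (DualEt.exists_kInj (unitCx Λ X)).choose_spec.choose_spec.1

theorem injective_stdJ (n : ℤ) : Injective ((stdJ Λ X).X n) :=
  (DualEt.exists_kInj (unitCx Λ X)).choose_spec.choose_spec.2.1 n

instance quasiIso_stdι : QuasiIso (stdι Λ X) := (DualEt.exists_kInj (unitCx Λ X)).choose_spec.choose_spec.2.2.1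

/-- The standard duality data. -/
noncomputable def stdDual : DualData (EtModD.tensorBi Λ X) :=
  DualEt.dualData (stdJ Λ X) (isKInjective_stdJ Λ X) (injective_stdJ Λ X)

variable {Λ X}

/-- Reflexivity does not depend on the resolution. -/
theorem refl_iff' {M : CochainComplex (EtModW.Mod Λ X) ℤ} (J : CochainComplex (EtModW.Mod Λ X) ℤ)
    (hJ : J.IsKInjective) (hJ' : ∀ n, Injective (J.X n)) (i : M ⟶ J) (hi : QuasiIso i)
    (J₁ : CochainComplex (EtModW.Mod Λ X) ℤ) (hJ₁ : J₁.IsKInjective) (hJ₁' : ∀ n, Injective (J₁.X n))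
    (i₁ : M ⟶ J₁) (hi₁ : QuasiIso i₁) (E : CochainComplex (EtModW.Mod Λ X) ℤ) :
    (DualEt.dualData J hJ hJ').Refl E ↔ (DualEt.dualData J₁ hJ₁ hJ₁').Refl E := by
  have e : DerivedCategory.Q.obj J ≅ DerivedCategory.Q.obj J₁ :=
    (asIso (DerivedCategory.Q.map i)).symm ≪≫ asIso (DerivedCategory.Q.map i₁)
  exact BidRefl.refl_iff_of_iso_Q (DualEt.dualData J hJ hJ') (DualEt.dualData J₁ hJ₁ hJ₁') rfl e E

/-- Reflexivity does not depend on the resolution. -/
theorem refl_iff (J : CochainComplex (EtModW.Mod Λ X) ℤ) (hJ : J.IsKInjective) (hJ' : ∀ n, Injective (J.X n))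
    (i : unitCx Λ X ⟶ J) (hi : QuasiIso i) (E : CochainComplex (EtModW.Mod Λ X) ℤ) :
    (DualEt.dualData J hJ hJ').Refl E ↔ (stdDual Λ X).Refl E :=
  refl_iff' J hJ hJ' i hi (stdJ Λ X) (isKInjective_stdJ Λ X) (injective_stdJ Λ X) (stdι Λ X) (quasiIso_stdι Λ X) E

/-- **Reduction**: the double dual on a smooth scheme over a field. -/
theorem bidual [Finite Λ] (hA : EtRefl (stdDual Λ))
    (hretr : ∀ {V X : Scheme.{u}} (w : V ⟶ X) [Etale w] [IsSeparated w] (F : EtModW.Mod Λ V),
      ∃ (i : F ⟶ (res Λ w).obj ((ext Λ w).obj F)) (r : (res Λ w).obj ((ext Λ w).obj F) ⟶ F), i ≫ r = 𝟙 F)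
    (k : Type u) [Field k]
    (hP : ∀ (d : ℕ) (E : CochainComplex (EtModW.Mod Λ (It (Spec (CommRingCat.of k)) d)) ℤ),
      EtModD.IsDbc (DerivedCategory.Q.obj E) → (stdDual Λ (It (Spec (CommRingCat.of k)) d)).Refl E)
    (a : X ⟶ Spec (CommRingCat.of k)) [Smooth a]
    (L : CochainComplex (EtModW.Mod Λ X) ℤ) (hL : L = unitCx Λ X)
    (K : CochainComplex (EtModW.Mod Λ X) ℤ) [EtModD.HasLTensorCx K] [EtModD.HasRHom K]
    (hK : EtModD.IsDbc (DerivedCategory.Q.obj K))
    (DK : CochainComplex (EtModW.Mod Λ X) ℤ) [EtModD.HasLTensorCx DK] [EtModD.HasRHom DK]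
    (hDK : Nonempty (DerivedCategory.Q.obj DK ≅ EtModD.dual (DerivedCategory.Q.obj L) K)) :
    Nonempty (DerivedCategory.Q.obj K ≅ EtModD.dual (DerivedCategory.Q.obj L) DK) := by
  subst hL
  exact BidRed538Fin.main _ K DK (fun J hJ hJ' i hi =>
    (refl_iff J hJ hJ' i hi K).2 (refl_of_smooth hA hretr k hP a K hK)) hDK

end Groth.Agent.Sga4h.BidRed538Main
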