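import Groth.Agent.Sga4h.LFinExact
import Groth.Agent.Etbase.EtGlue

/-!
# Constant sheaves trivialised by a split covering

`π : T ⟶ Z`, `V ⟶ Z` étale and `a i : V ⟶ T` finitely many étale morphisms over `Z` such that
`V ×_Z T` is the disjoint union of the graphs of the `a i` (`Split`).  If `F` is constant over `V`
then `π_* π^* F` is constant over `V` with value `ι → M`, and the cokernel of `F ⟶ π_* π^* F` is
constant over `V` (`exists_cst_cokernel`).
-/

set_option autoImplicit false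
universe u

open CategoryTheory CategoryTheory.Limits AlgebraicGeometry Opposite

namespace Groth.Agent.Sga4h.LFinSplit

open Groth.Agent.Etcore.LVan Groth.Agent.Etcore.LPull Groth.Agent.Sga4h.LFinZero
open Groth.Agent.Sga4h.LFinExact Groth.Agent.Etbase
open Groth.Agent.EtpbcA.ConsPull (fstBc)

variable {Λ : Type (u + 1)} [CommRing Λ] {T Z : Scheme.{u}}

/-- `V ×_Z T` is the disjoint union of the graphs of the `a i`. -/
structure Split (π : T ⟶ Z) (V : Z.Etale) {ι : Type u} (a : ι → (V.left ⟶ T)) : Prop where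
  w : ∀ i, a i ≫ π = V.hom
  etale : ∀ i, AlgebraicGeometry.Etale (a i)
  sp : ∀ (K : Type u) [Field K] (t : Spec (CommRingCat.of K) ⟶ V.left)
    (τ : Spec (CommRingCat.of K) ⟶ T), τ ≫ π = t ≫ V.hom → ∃! i, τ = t ≫ a i

variable {π : T ⟶ Z} {V : Z.Etale} {ι : Type u} {a : ι → (V.left ⟶ T)} (h : Split π V a)

namespace Split

include h in
/-- `W` considered as an étale scheme over `T` via `a i`. -/
noncomputable def lft {W : Z.Etale} (g : W ⟶ V) (i : ι) : T.Etale :=
  MorphismProperty.Over.mk ⊤ (g.left ≫ a i)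
    (show AlgebraicGeometry.Etale (g.left ≫ a i) from by
      have := h.etale i
      have : AlgebraicGeometry.Etale g.left := inferInstance
      infer_instance)

/-- Functoriality of `lft`. -/
noncomputable def lmap {W W' : Z.Etale} (g : W ⟶ V) (g' : W' ⟶ V) (k : W' ⟶ W) (e : k ≫ g = g')
    (i : ι) : h.lft g' i ⟶ h.lft g i :=
  MorphismProperty.Over.homMk k.left (by
    have h1 : k.left ≫ g.left = g'.left := congrArg (fun q => q.left) e
    change k.left ≫ g.left ≫ a i = g'.left ≫ a i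
    rw [← h1, Category.assoc]) trivial

/-- The structure morphism `W ×_Z T ⟶ T`. -/
noncomputable abbrev sndBc (π : T ⟶ Z) (W : Z.Etale) : ((EtCoh.bc π).obj W).left ⟶ T :=
  ((EtCoh.bc π).obj W).hom

theorem fst_snd (W : Z.Etale) : fstBc π W ≫ W.hom = sndBc π W ≫ π := pullback.condition

theorem bc_ext {Q : Scheme.{u}} {W : Z.Etale} (p q : Q ⟶ ((EtCoh.bc π).obj W).left)
    (h1 : p ≫ fstBc π W = q ≫ fstBc π W) (h2 : p ≫ sndBc π W = q ≫ sndBc π W) : p = q :=
  pullback.hom_ext h1 h2

theorem left_hom {W W' : Z.Etale} (g : W ⟶ W') : g.left ≫ W'.hom = W.hom :=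
  MorphismProperty.Over.w g

/-- The graph as a morphism of schemes. -/
noncomputable def grl {W : Z.Etale} (g : W ⟶ V) (i : ι) :
    W.left ⟶ ((EtCoh.bc π).obj W).left :=
  pullback.lift (𝟙 W.left) (g.left ≫ a i) (((Category.id_comp _).trans
    (left_hom g).symm).trans (by rw [Category.assoc, h.w i]))

theorem grl_fst {W : Z.Etale} (g : W ⟶ V) (i : ι) : h.grl g i ≫ fstBc π W = 𝟙 W.left :=
  pullback.lift_fst _ _ _

theorem grl_snd {W : Z.Etale} (g : W ⟶ V) (i : ι) :
    h.grl g i ≫ sndBc π W = g.left ≫ a i :=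
  pullback.lift_snd _ _ _

/-- The graph. -/
noncomputable def gr {W : Z.Etale} (g : W ⟶ V) (i : ι) : h.lft g i ⟶ (EtCoh.bc π).obj W :=
  MorphismProperty.Over.homMk (h.grl g i) (h.grl_snd g i) trivial

theorem fst_grl_apply {W : Z.Etale} (g : W ⟶ V) (i : ι) (w : W.left) :
    fstBc π W (h.grl g i w) = w :=
  congrArg (fun (q : W.left ⟶ W.left) => q w) (h.grl_fst g i)

theorem grl_nat {W W' : Z.Etale} (g : W ⟶ V) (g' : W' ⟶ V) (k : W' ⟶ W) (e : k ≫ g = g')
    (i : ι) : h.grl g' i ≫ ((EtCoh.bc π).map k).left = k.left ≫ h.grl g i := by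
  have h0 : k.left ≫ g.left = g'.left := congrArg (fun q => q.left) e
  apply bc_ext
  · rw [Category.assoc, Category.assoc, EtpbcA.ConsPull.bc_map_fst, ← Category.assoc, grl_fst,
      grl_fst, Category.id_comp, Category.comp_id]
  · have h3 : ((EtCoh.bc π).map k).left ≫ sndBc π W = sndBc π W' :=
      MorphismProperty.Over.w _
    rw [Category.assoc, Category.assoc, grl_snd, h3, grl_snd, ← h0, Category.assoc]

theorem gr_nat {W W' : Z.Etale} (g : W ⟶ V) (g' : W' ⟶ V) (k : W' ⟶ W) (e : k ≫ g = g')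
    (i : ι) : h.gr g' i ≫ (EtCoh.bc π).map k = h.lmap g g' k e i ≫ h.gr g i :=
  MorphismProperty.Over.Hom.ext (h.grl_nat g g' k e i)

theorem mono_grl {W : Z.Etale} (g : W ⟶ V) (i : ι) : Mono (h.grl g i) := by
  have h2 : Mono (h.grl g i ≫ fstBc π W) := by
    rw [h.grl_fst]
    infer_instance
  exact mono_of_mono _ (fstBc π W)

instance mono_gr {W : Z.Etale} (g : W ⟶ V) (i : ι) : Mono (h.gr g i) where
  right_cancellation {Q} p q hpq := by
    apply MorphismProperty.Over.Hom.ext
    have h1 : (p ≫ h.gr g i).left = (q ≫ h.gr g i).left := congrArg (fun q => q.left) hpq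
    have := h.mono_grl g i
    exact (cancel_mono (h.grl g i)).1 h1

theorem isOpenImmersion_grl {W : Z.Etale} (g : W ⟶ V) (i : ι) :
    IsOpenImmersion (h.grl g i) := by
  have : AlgebraicGeometry.Etale (h.gr g i).left := inferInstance
  have h1 : AlgebraicGeometry.Etale (h.grl g i) := this
  have := h.mono_grl g i
  exact IsOpenImmersion.of_flat_of_mono (h.grl g i)

/-- Field valued points of `W ×_Z T`. -/
theorem exists_unique_point {W : Z.Etale} (g : W ⟶ V) {K : Type u} [Field K]
    (x : Spec (CommRingCat.of K) ⟶ ((EtCoh.bc π).obj W).left) :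
    ∃! i, x = (x ≫ fstBc π W) ≫ h.grl g i := by
  have hc : (x ≫ sndBc π W) ≫ π = ((x ≫ fstBc π W) ≫ g.left) ≫ V.hom := by
    have h2 : g.left ≫ V.hom = W.hom := left_hom g
    rw [Category.assoc, Category.assoc, Category.assoc, ← fst_snd]
    exact congrArg (fun q => x ≫ fstBc π W ≫ q) h2.symm
  have hi : ∀ i, x = (x ≫ fstBc π W) ≫ h.grl g i ↔
      x ≫ sndBc π W = ((x ≫ fstBc π W) ≫ g.left) ≫ a i := by
    intro i
    constructor
    · intro e
      have e' := congrArg (· ≫ sndBc π W) e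
      refine e'.trans ?_
      rw [Category.assoc (x ≫ fstBc π W), h.grl_snd, ← Category.assoc]
    · intro e
      apply bc_ext
      · rw [Category.assoc (x ≫ fstBc π W), h.grl_fst, Category.comp_id]
      · rw [Category.assoc (x ≫ fstBc π W), h.grl_snd, e, Category.assoc (x ≫ fstBc π W)]
  simp only [hi]
  exact h.sp K _ _ hc

theorem exists_grl {W : Z.Etale} (g : W ⟶ V) (z : ((EtCoh.bc π).obj W).left) :
    ∃ (i : ι) (w : W.left), h.grl g i w = z := by
  obtain ⟨i, hi, -⟩ := h.exists_unique_point g (((EtCoh.bc π).obj W).left.fromSpecResidueField z)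
  have h1 : z ∈ Set.range (((EtCoh.bc π).obj W).left.fromSpecResidueField z) := by
    rw [Scheme.range_fromSpecResidueField]
    rfl
  obtain ⟨p, hp⟩ := h1
  rw [hi] at hp
  exact ⟨i, _, hp⟩

theorem disjoint_grl {W : Z.Etale} (g : W ⟶ V) (i j : ι) (hij : i ≠ j) :
    Disjoint (Set.range (h.grl g i)) (Set.range (h.grl g j)) := by
  rw [Set.disjoint_left]
  rintro z ⟨w, hw⟩ ⟨w', hw'⟩
  let y := ((EtCoh.bc π).obj W).left.fromSpecResidueField z
  obtain ⟨k, -, hk⟩ := h.exists_unique_point g y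
  have key : ∀ (i : ι) (w : W.left), h.grl g i w = z → y = (y ≫ fstBc π W) ≫ h.grl g i := by
    intro i w hi
    have hm := h.isOpenImmersion_grl g i
    have hr : Set.range y ⊆ Set.range (h.grl g i) := by
      rw [Scheme.range_fromSpecResidueField]
      rintro _ rfl
      exact ⟨w, hi⟩
    have h3 := IsOpenImmersion.lift_fac (h.grl g i) y hr
    have h4 : y ≫ fstBc π W = IsOpenImmersion.lift (h.grl g i) y hr := by
      conv_lhs => rw [← h3]
      rw [Category.assoc, h.grl_fst, Category.comp_id]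
    rw [h4]
    exact h3.symm
  exact hij ((hk i (key i w hw)).trans (hk j (key j w' hw')).symm)

section sections

variable (F : EtModW.Mod Λ Z)

/-- The map `F(W) → (π^* F)(W)` for `W` considered as a scheme over `T` via `a i`. -/
noncomputable def lam {W : Z.Etale} (g : W ⟶ V) (i : ι) :
    EtModW.sect Λ F W →ₗ[Λ] EtModW.sect Λ ((EtModW.pull Λ π).obj F) (h.lft g i) :=
  (res ((EtModW.pull Λ π).obj F) (h.gr g i)).comp (eta π F W)

theorem lam_apply {W : Z.Etale} (g : W ⟶ V) (i : ι) (s : EtModW.sect Λ F W) :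
    h.lam F g i s = res ((EtModW.pull Λ π).obj F) (h.gr g i) (eta π F W s) := rfl

theorem res_lam {W W' : Z.Etale} (g : W ⟶ V) (g' : W' ⟶ V) (k : W' ⟶ W) (e : k ≫ g = g')
    (i : ι) (s : EtModW.sect Λ F W) :
    res ((EtModW.pull Λ π).obj F) (h.lmap g g' k e i) (h.lam F g i s) =
      h.lam F g' i (res F k s) := by
  rw [lam_apply, lam_apply, ← res_comp, ← h.gr_nat, res_comp, res_eta]

theorem van_lam_iff {W : Z.Etale} (g : W ⟶ V) (i : ι) (s : EtModW.sect Λ F W) (w : W.left) :
    Van ((EtModW.pull Λ π).obj F) (h.lam F g i s) w ↔ Van F s w := by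
  have h1 := van_res_iff (F := (EtModW.pull Λ π).obj F) (h.gr g i)
    (show (h.lft g i).left from w) (s := eta π F W s)
  rw [van_eta_iff] at h1
  have h2 : fstBc π W ((h.gr g i).left (show (h.lft g i).left from w)) = w :=
    h.fst_grl_apply g i w
  rw [h2] at h1
  exact h1

theorem surjAt_lam_iff {M : Type*} [AddCommGroup M] [Module Λ M] {W : Z.Etale} (g : W ⟶ V) (i : ι)
    (φ : M →ₗ[Λ] EtModW.sect Λ F W) (w : W.left) :
    SurjAt ((EtModW.pull Λ π).obj F) ((h.lam F g i).comp φ) w ↔ SurjAt F φ w := by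
  have h1 := surjAt_res_iff (F := (EtModW.pull Λ π).obj F) (h.gr g i)
    (show (h.lft g i).left from w) ((eta π F W).comp φ)
  rw [surjAt_eta_iff] at h1
  have h2 : fstBc π W ((h.gr g i).left (show (h.lft g i).left from w)) = w :=
    h.fst_grl_apply g i w
  rw [h2] at h1
  exact h1

theorem iUnion_gr {W : Z.Etale} (g : W ⟶ V) : ⋃ i, Set.range (h.gr g i).left = Set.univ := by
  rw [Set.eq_univ_iff_forall]
  intro z
  obtain ⟨i, w, hw⟩ := h.exists_grl g z
  exact Set.mem_iUnion.2 ⟨i, w, hw⟩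

/-- Sections over `W ×_Z T` are determined by their restrictions to the graphs. -/
theorem eq_zero_of_gr (N : EtModW.Mod Λ T) {W : Z.Etale} (g : W ⟶ V)
    (x : EtModW.sect Λ N ((EtCoh.bc π).obj W)) (hx : ∀ i, res N (h.gr g i) x = 0) : x = 0 := by
  apply eq_zero_of_van
  intro z
  obtain ⟨i, w, hw⟩ := h.exists_grl g z
  exact ⟨h.lft g i, h.gr g i, w, hw, hx i⟩

theorem existsUnique_glue (N : EtModW.Mod Λ T) {W : Z.Etale} (g : W ⟶ V)
    (c : ∀ i, EtModW.sect Λ N (h.lft g i)) :
    ∃! x : EtModW.sect Λ N ((EtCoh.bc π).obj W), ∀ i, res N (h.gr g i) x = c i :=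
  EtGlue.existsUnique_glue_disjoint (ab N) (h.gr g) (h.iUnion_gr g)
    (fun i j hij => h.disjoint_grl g i j hij) c

variable {M : Type (u + 1)} [AddCommGroup M] [Module Λ M] (φ : M →ₗ[Λ] EtModW.sect Λ F V)

/-- The section of `π^* F` over `V ×_Z T` with value `φ (c i)` on the `i`-th graph. -/
noncomputable def glueFun (c : ι → M) :
    EtModW.sect Λ ((EtModW.pull Λ π).obj F) ((EtCoh.bc π).obj V) :=
  (h.existsUnique_glue ((EtModW.pull Λ π).obj F) (𝟙 V) (fun i => h.lam F (𝟙 V) i (φ (c i)))).choose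

theorem res_glueFun (c : ι → M) (i : ι) :
    res ((EtModW.pull Λ π).obj F) (h.gr (𝟙 V) i) (h.glueFun F φ c) = h.lam F (𝟙 V) i (φ (c i)) :=
  (h.existsUnique_glue ((EtModW.pull Λ π).obj F) (𝟙 V)
    (fun i => h.lam F (𝟙 V) i (φ (c i)))).choose_spec.1 i

theorem glueFun_eq (c : ι → M) (x : EtModW.sect Λ ((EtModW.pull Λ π).obj F) ((EtCoh.bc π).obj V))
    (hx : ∀ i, res ((EtModW.pull Λ π).obj F) (h.gr (𝟙 V) i) x = h.lam F (𝟙 V) i (φ (c i))) :
    h.glueFun F φ c = x := by
  rw [← sub_eq_zero]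
  apply h.eq_zero_of_gr _ (𝟙 V)
  intro i
  rw [map_sub, res_glueFun, hx, sub_self]

/-- The gluing map. -/
noncomputable def glue :
    (ι → M) →ₗ[Λ] EtModW.sect Λ ((EtModW.pull Λ π).obj F) ((EtCoh.bc π).obj V) where
  toFun := h.glueFun F φ
  map_add' c c' := by
    apply h.glueFun_eq
    intro i
    rw [map_add, res_glueFun, res_glueFun, ← map_add, ← map_add]
    rfl
  map_smul' r c := by
    apply h.glueFun_eq
    intro i
    rw [RingHom.id_apply, map_smul, res_glueFun, ← map_smul, ← map_smul]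
    rfl

theorem res_glue (c : ι → M) (i : ι) :
    res ((EtModW.pull Λ π).obj F) (h.gr (𝟙 V) i) (h.glue F φ c) = h.lam F (𝟙 V) i (φ (c i)) :=
  h.res_glueFun F φ c i

theorem res_glue' {W : Z.Etale} (g : W ⟶ V) (c : ι → M) (i : ι) :
    res ((EtModW.pull Λ π).obj F) (h.gr g i)
      (res ((EtModW.pull Λ π).obj F) ((EtCoh.bc π).map g) (h.glue F φ c)) =
      h.lam F g i (res F g (φ (c i))) := by
  rw [← res_comp, h.gr_nat (𝟙 V) g g (Category.comp_id g), res_comp, res_glue, res_lam]

theorem glue_const (m : M) : h.glue F φ (fun _ => m) = eta π F V (φ m) :=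
  h.glueFun_eq F φ _ _ fun _ => rfl

/-- The gluing map as a map to the sections of `π_* π^* F`. -/
noncomputable def glueP :
    (ι → M) →ₗ[Λ] EtModW.sect Λ ((EtModW.push Λ π).obj ((EtModW.pull Λ π).obj F)) V :=
  h.glue F φ

theorem res_glueP {W : Z.Etale} (g : W ⟶ V) (c : ι → M) :
    (show EtModW.sect Λ ((EtModW.pull Λ π).obj F) ((EtCoh.bc π).obj W) from
      res ((EtModW.push Λ π).obj ((EtModW.pull Λ π).obj F)) g (h.glueP F φ c)) =
      res ((EtModW.pull Λ π).obj F) ((EtCoh.bc π).map g) (h.glue F φ c) := rfl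

/-- If `F` is constant over `V` then `π_* π^* F` is constant over `V`. -/
theorem cst_glueP [Finite ι] (hφ : Cst F V φ) :
    Cst ((EtModW.push Λ π).obj ((EtModW.pull Λ π).obj F)) V (h.glueP F φ) := by
  intro y
  constructor
  · rintro c ⟨W, g, w, hw, e⟩
    have e' : res ((EtModW.pull Λ π).obj F) ((EtCoh.bc π).map g) (h.glue F φ c) = 0 := e
    funext i
    have h1 := h.res_glue' F φ g c i
    rw [e', map_zero] at h1
    have h2 : Van F (res F g (φ (c i))) w :=
      (h.van_lam_iff F g i _ w).1 (van_zero_of_eq h1.symm _)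
    exact (hφ _).1 _ (Van.of_res g w h2)
  · intro W g w hw t
    let t' : EtModW.sect Λ ((EtModW.pull Λ π).obj F) ((EtCoh.bc π).obj W) := t
    have hs : ∀ i, ∃ (m : M), Van ((EtModW.pull Λ π).obj F)
        (res ((EtModW.pull Λ π).obj F) (h.gr g i) t' - h.lam F g i (res F g (φ m)))
        (show (h.lft g i).left from w) := by
      intro i
      have h1 : SurjAt F (resHom g φ) w := ((hφ.res g) w).2
      obtain ⟨m, hm⟩ := (h.surjAt_lam_iff F g i (resHom g φ) w).2 h1 (h.lft g i) (𝟙 _) w rfl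
        (res ((EtModW.pull Λ π).obj F) (h.gr g i) t')
      refine ⟨m, ?_⟩
      rw [res_id] at hm
      exact hm
    choose m hm using hs
    refine ⟨m, ?_⟩
    let P : ι → ∀ W' : Z.Etale, (W' ⟶ W) → Prop := fun i W' k =>
      res ((EtModW.pull Λ π).obj F) (h.lmap g (k ≫ g) k rfl i)
        (res ((EtModW.pull Λ π).obj F) (h.gr g i) t' - h.lam F g i (res F g (φ (m i)))) = 0
    obtain ⟨W', k, w', hw', hP⟩ := EtpbcA.ConsVan.exists_common_finite w P (by
      intro i W₁ W₂ k k₂ hk
      have h1 : h.lmap g ((k₂ ≫ k) ≫ g) (k₂ ≫ k) rfl i =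
          h.lmap (k ≫ g) ((k₂ ≫ k) ≫ g) k₂ (Category.assoc _ _ _).symm i ≫
            h.lmap g (k ≫ g) k rfl i := by
        apply MorphismProperty.Over.Hom.ext
        rfl
      change res _ (h.lmap g ((k₂ ≫ k) ≫ g) (k₂ ≫ k) rfl i) _ = 0
      rw [h1, res_comp]
      rw [show res ((EtModW.pull Λ π).obj F) (h.lmap g (k ≫ g) k rfl i)
        (res ((EtModW.pull Λ π).obj F) (h.gr g i) t' - h.lam F g i (res F g (φ (m i)))) = 0 from hk,
        map_zero]) (by
      intro i
      obtain ⟨Q, q, x, hx, e⟩ := hm i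
      have hq : AlgebraicGeometry.Etale q.left := inferInstance
      have hQ : AlgebraicGeometry.Etale (show Q.left ⟶ W.left from q.left) := hq
      have hWe : AlgebraicGeometry.Etale W.hom := W.prop
      have hc : AlgebraicGeometry.Etale ((show Q.left ⟶ W.left from q.left) ≫ W.hom) := inferInstance
      let W₁ : Z.Etale := MorphismProperty.Over.mk ⊤ ((show Q.left ⟶ W.left from q.left) ≫ W.hom) hc
      let k : W₁ ⟶ W := MorphismProperty.Over.homMk (show Q.left ⟶ W.left from q.left) rfl trivial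
      refine ⟨W₁, k, x, hx, ?_⟩
      let r : h.lft (k ≫ g) i ⟶ Q := MorphismProperty.Over.homMk (𝟙 Q.left) (by
        have h1 : q.left ≫ (h.lft g i).hom = Q.hom := MorphismProperty.Over.w q
        refine (Category.id_comp _).trans ?_
        rw [← h1]
        change q.left ≫ g.left ≫ a i = (q.left ≫ g.left) ≫ a i
        exact (Category.assoc _ _ _).symm) trivial
      have h1 : h.lmap g (k ≫ g) k rfl i = r ≫ q := by
        apply MorphismProperty.Over.Hom.ext
        change q.left = 𝟙 _ ≫ q.left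
        exact (Category.id_comp _).symm
      change res _ (h.lmap g (k ≫ g) k rfl i) _ = 0
      rw [h1, res_comp, e, map_zero])
    refine ⟨W', k, w', hw', ?_⟩
    change res ((EtModW.pull Λ π).obj F) ((EtCoh.bc π).map k)
      (t' - res ((EtModW.pull Λ π).obj F) ((EtCoh.bc π).map g) (h.glue F φ m)) = 0
    apply h.eq_zero_of_gr _ (k ≫ g)
    intro i
    rw [← res_comp, h.gr_nat g (k ≫ g) k rfl, res_comp, map_sub, res_glue']
    exact hP i

end sections

end Split

end Groth.Agent.Sga4h.LFinSplit
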