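import Groth.Agent.Sga4h.LFinFam
import Groth.Agent.Sga4h.LFinSplit

/-!
# Sheaves trivialised by a fixed Galois covering

`InL V S F`: `F` vanishes outside `S` and is constant over `V` with finitely generated value.
`good_of_inL`: such sheaves are controlled by the family `{T, ∂T}`, `T` finite over the base, split over `V`.
-/

set_option autoImplicit false
universe u

open CategoryTheory CategoryTheory.Limits AlgebraicGeometry Opposite

namespace Groth.Agent.Sga4h.LFinClass

open Groth.Agent.Etbase Groth.Agent.Etcore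
open Groth.Agent.Etcore.LVan Groth.Agent.Etcore.LPull Groth.Agent.Sga4h.LFinZero
open Groth.Agent.Sga4h.LFinExact Groth.Agent.Sga4h.LFinSupp Groth.Agent.Sga4h.LFinPull
open Groth.Agent.Sga4h.LFinSplit Groth.Agent.Sga4h.LFinFam
open Groth.Agent.EtpbcA.ConsPull (fstBc)

variable {Λ : Type (u + 1)} [CommRing Λ]

section lift

variable {X : Scheme.{u}}

/-- Left exactness of sections. -/
theorem exists_lift_of_mono {S : ShortComplex (EtModW.Mod Λ X)} (hS : S.Exact) [Mono S.f]
    {U : X.Etale} (s : EtModW.sect Λ S.X₂ U) (hs : ev S.g U s = 0) :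
    ∃ t : EtModW.sect Λ S.X₁ U, ev S.f U t = s := by
  choose V g v t hv ht using exists_local_lift hS s hs
  have hcov : ⋃ x, Set.range (g x).left = Set.univ :=
    Set.eq_univ_iff_forall.2 fun x => Set.mem_iUnion.2 ⟨x, v x, hv x⟩
  obtain ⟨t₀, ht₀, -⟩ := EtGlue.existsUnique_glue (ab S.X₁) g hcov t (by
    intro x y W p q hpq
    change res S.X₁ p (t x) = res S.X₁ q (t y)
    rw [← sub_eq_zero]
    apply ev_injective S.f
    rw [map_sub, ← res_ev, ← res_ev, ht, ht, ← res_comp, ← res_comp, hpq, sub_self])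
  refine ⟨t₀, ?_⟩
  rw [← sub_eq_zero]
  apply eq_zero_of_van
  intro x
  refine ⟨V x, g x, v x, hv x, ?_⟩
  have h1 : res S.X₁ (g x) t₀ = t x := ht₀ x
  rw [map_sub, res_ev, h1, ht, sub_self]

variable {M : Type (u + 1)} [AddCommGroup M] [Module Λ M]

/-- Linear families of sections killed by the second map lift. -/
theorem exists_lift_hom {S : ShortComplex (EtModW.Mod Λ X)} (hS : S.Exact) [Mono S.f]
    {U : X.Etale} (ψ : M →ₗ[Λ] EtModW.sect Λ S.X₂ U) (hψ : ∀ m, ev S.g U (ψ m) = 0) :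
    ∃ ψ' : M →ₗ[Λ] EtModW.sect Λ S.X₁ U, ∀ m, ev S.f U (ψ' m) = ψ m := by
  choose t ht using fun m => exists_lift_of_mono hS (ψ m) (hψ m)
  refine ⟨{ toFun := t, map_add' := fun a b => ?_, map_smul' := fun r a => ?_ }, ht⟩
  · rw [← sub_eq_zero]
    apply ev_injective S.f
    rw [map_sub, map_add, ht, ht, ht, map_add, sub_self]
  · rw [← sub_eq_zero, RingHom.id_apply]
    apply ev_injective S.f
    rw [map_sub, map_smul, ht, ht, map_smul, sub_self]

/-- A subsheaf through which a trivialisation factors is constant. -/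
theorem cst_of_lift {F G : EtModW.Mod Λ X} (α : F ⟶ G) [Mono α] {U : X.Etale}
    (ψ : M →ₗ[Λ] EtModW.sect Λ G U) (hψ : Cst G U ψ) (ψ' : M →ₗ[Λ] EtModW.sect Λ F U)
    (h : ∀ m, ev α U (ψ' m) = ψ m) : Cst F U ψ' := by
  intro y
  constructor
  · intro m hm
    have h1 := Van.map α hm
    rw [h] at h1
    exact (hψ y).1 m h1
  · intro W g w hw t
    obtain ⟨m, V, k, v, hv, e⟩ := (hψ y).2 W g w hw (ev α W t)
    refine ⟨m, V, k, v, hv, ?_⟩
    apply ev_injective α
    rw [← res_ev, map_sub, ← res_ev, h]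
    exact e

end lift

section const

variable (Λ) (X : Scheme.{u}) (M : Type (u + 1)) [AddCommGroup M] [Module Λ M]

/-- The sections of the constant sheaf. -/
noncomputable def constMap (U : X.Etale) : M →ₗ[Λ] EtModW.sect Λ (EtModW.constMod Λ X M) U :=
  ((toSheafify X.smallEtaleTopology
    ((Functor.const (X.Etale)ᵒᵖ).obj (ModuleCat.of Λ M))).app (op U)).hom

theorem res_constMap {U V : X.Etale} (g : V ⟶ U) (m : M) :
    res (EtModW.constMod Λ X M) g (constMap Λ X M U m) = constMap Λ X M V m := by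
  have h := (toSheafify X.smallEtaleTopology
    ((Functor.const (X.Etale)ᵒᵖ).obj (ModuleCat.of Λ M))).naturality g.op
  exact (congrArg (fun (t : ModuleCat.of Λ M ⟶ (EtModW.constMod Λ X M).obj.obj (op V)) => t m) h).symm

theorem cst_constMap (U : X.Etale) : Cst (EtModW.constMod Λ X M) U (constMap Λ X M U) := by
  let P : (X.Etale)ᵒᵖ ⥤ (ModuleCat.{u + 1} Λ) := (Functor.const (X.Etale)ᵒᵖ).obj (ModuleCat.of Λ M)
  let α : P ⟶ (EtModW.constMod Λ X M).obj := toSheafify X.smallEtaleTopology P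
  have hα : X.smallEtaleTopology.W α := X.smallEtaleTopology.W_toSheafify P
  have i1 : Presheaf.IsLocallyInjective X.smallEtaleTopology α := hα.isLocallyInjective
  have i2 : Presheaf.IsLocallySurjective X.smallEtaleTopology α := hα.isLocallySurjective
  intro y
  constructor
  · rintro m ⟨V, g, v, hv, hg⟩
    rw [res_constMap] at hg
    have h1 := Presheaf.equalizerSieve_mem X.smallEtaleTopology α
      (X := op V) m 0 (hg.trans (map_zero _).symm)
    rw [EtSite.mem_iff] at h1
    obtain ⟨W, k, w, hk, -⟩ := h1 v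
    exact hk
  · intro V g v hv t
    have h1 := Presheaf.imageSieve_mem X.smallEtaleTopology α (U := op V) t
    rw [EtSite.mem_iff] at h1
    obtain ⟨W, k, w, hk, hw⟩ := h1 v
    obtain ⟨m, hm⟩ := hk
    refine ⟨m, W, k, w, hw, ?_⟩
    rw [map_sub, sub_eq_zero, res_constMap, res_constMap]
    exact hm.symm

variable {Λ X M}

/-- A sheaf constant over the whole scheme is isomorphic to a constant sheaf. -/
theorem nonempty_iso_constMod {F : EtModW.Mod Λ X} (φ : M →ₗ[Λ] EtModW.sect Λ F (opn (𝟙 X)))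
    (hφ : Cst F (opn (𝟙 X)) φ) : Nonempty (F ≅ EtModW.constMod Λ X M) := by
  have hr : Set.range (𝟙 X : X ⟶ X) = Set.univ := Set.range_eq_univ.2 fun x => ⟨x, rfl⟩
  refine nonempty_iso (𝟙 X) φ (constMap Λ X M (opn (𝟙 X))) ?_ hφ ?_ (cst_constMap Λ X M _)
  · intro U s x hx
    rw [hr] at hx
    exact absurd trivial hx
  · intro U s x hx
    rw [hr] at hx
    exact absurd trivial hx

end const

section pull

variable {X Y : Scheme.{u}} {M : Type (u + 1)} [AddCommGroup M] [Module Λ M]

/-- Inverse images of sheaves constant over `U`. -/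
theorem cst_eta (f : X ⟶ Y) (F : EtModW.Mod Λ Y) {U : Y.Etale} (φ : M →ₗ[Λ] EtModW.sect Λ F U)
    (hφ : Cst F U φ) :
    Cst ((EtModW.pull Λ f).obj F) ((EtCoh.bc f).obj U) ((eta f F U).comp φ) := fun z =>
  ⟨(injAt_eta_iff f F φ z).2 (hφ _).1, (surjAt_eta_iff f F φ z).2 (hφ _).2⟩

/-- Inverse images of sheaves constant over `U`, over a scheme mapping to `U`. -/
theorem exists_cst_pull (f : X ⟶ Y) (F : EtModW.Mod Λ Y) {U : Y.Etale}
    (φ : M →ₗ[Λ] EtModW.sect Λ F U) (hφ : Cst F U φ) (W : X.Etale) (w : W.left ⟶ U.left)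
    (hw : w ≫ U.hom = W.hom ≫ f) :
    ∃ ψ : M →ₗ[Λ] EtModW.sect Λ ((EtModW.pull Λ f).obj F) W,
      Cst ((EtModW.pull Λ f).obj F) W ψ := by
  let g : W ⟶ (EtCoh.bc f).obj U :=
    MorphismProperty.Over.homMk (pullback.lift w W.hom hw) (pullback.lift_snd _ _ _) trivial
  exact ⟨_, (cst_eta f F φ hφ).res g⟩

/-- The inverse image of a constant sheaf is constant. -/
theorem nonempty_pull_constMod (f : X ⟶ Y) :
    Nonempty ((EtModW.pull Λ f).obj (EtModW.constMod Λ Y M) ≅ EtModW.constMod Λ X M) := by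
  obtain ⟨ψ, hψ⟩ := exists_cst_pull f (EtModW.constMod Λ Y M) (constMap Λ Y M (opn (𝟙 Y)))
    (cst_constMap Λ Y M _) (opn (𝟙 X)) f (by
      change f ≫ 𝟙 Y = 𝟙 X ≫ f
      rw [Category.comp_id, Category.id_comp])
  exact nonempty_iso_constMod ψ hψ

end pull

section extzero

variable [IsNoetherianRing Λ] {n : ℕ} {T V D : Scheme.{u}}
  {M : Type (u + 1)} [AddCommGroup M] [Module Λ M]

/-- A sheaf which vanishes outside the open subscheme `V` and is constant on `V` is controlled by a
family which controls the constant sheaves on `T` and on the complement of `V`. -/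
theorem good_of_cst (v : V ⟶ T) [IsOpenImmersion v] (b : D ⟶ T) [IsClosedImmersion b]
    (hb : Set.range b = (Set.range v)ᶜ) {A : Fam T} (hT : Good Λ n A (EtModW.constMod Λ T M))
    (hD : Good Λ n A ((EtModW.push Λ b).obj (EtModW.constMod Λ D M)))
    {N : EtModW.Mod Λ T} (hN : ZeroOff N (Set.range v)) (ψ : M →ₗ[Λ] EtModW.sect Λ N (opn v))
    (hψ : Cst N (opn v) ψ) : Good Λ n A N := by
  let S := closedSeq b (EtModW.constMod Λ T M)
  have hS : S.ShortExact := closedSeq_shortExact b _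
  have := hS.mono_f
  have hK : ZeroOff S.X₁ (Set.range v) := by
    have h1 := zeroOff_closedSeq b (EtModW.constMod Λ T M)
    rw [hb, compl_compl] at h1
    exact h1
  have hz : ∀ s : EtModW.sect Λ S.X₃ (opn v), s = 0 := by
    intro s
    apply eq_zero_of_van
    intro x
    refine zeroOff_push_range b ((EtModW.pull Λ b).obj (EtModW.constMod Λ T M)) _ s x ?_
    rw [hb]
    exact fun h => h ⟨x, rfl⟩
  obtain ⟨ψ', hψ'⟩ := exists_lift_hom hS.exact (constMap Λ T M (opn v)) (fun m => hz _)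
  have h1 : Cst S.X₁ (opn v) ψ' := cst_of_lift S.f _ (cst_constMap Λ T M (opn v)) ψ' hψ'
  obtain ⟨e⟩ := nonempty_iso v ψ' ψ hK h1 hN hψ
  obtain ⟨e'⟩ := nonempty_pull_constMod (Λ := Λ) (M := M) b
  have h3 : Good Λ n A S.X₃ := Good.of_iso ((EtModW.push Λ b).mapIso e'.symm) hD
  exact Good.of_iso e (Good.fst hS hT h3)

end extzero

section cls

variable {T Z : Scheme.{u}}

/-- The class of sheaves which vanish outside `S` and are constant over `V` with finitely generated value. -/
def InL (V : Z.Etale) (S : Set Z) (F : EtModW.Mod Λ Z) : Prop :=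
  ZeroOff F S ∧ ∃ (M : Type (u + 1)) (_ : AddCommGroup M) (_ : Module Λ M) (_ : Module.Finite Λ M)
    (φ : M →ₗ[Λ] EtModW.sect Λ F V), Cst F V φ

variable {π : T ⟶ Z} {V : Z.Etale} {ι : Type u} {a : ι → (V.left ⟶ T)} {S : Set Z}

/-- The sequence `0 → F → π_* π^* F → F'' → 0`. -/
noncomputable def unitSeq (π : T ⟶ Z) (F : EtModW.Mod Λ Z) : ShortComplex (EtModW.Mod Λ Z) :=
  ShortComplex.mk ((pullPushAdj π).unit.app F) (cokernel.π _) (cokernel.condition _)

theorem unitSeq_shortExact (π : T ⟶ Z) [Surjective π] (F : EtModW.Mod Λ Z) :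
    (unitSeq π F).ShortExact where
  exact := ShortComplex.exact_cokernel _
  mono_f := mono_unit_of_surjective π F
  epi_g := inferInstanceAs (Epi (cokernel.π _))

/-- The class is stable under the cokernel of `F → π_* π^* F`. -/
theorem InL.next [Finite ι] [Surjective π] [UniversallyClosed π] (h : Split π V a)
    {F : EtModW.Mod Λ Z} (hF : InL V S F) : InL V S (unitSeq π F).X₃ := by
  obtain ⟨h0, M, _, _, _, φ, hφ⟩ := hF
  have hS := unitSeq_shortExact π F
  have := hS.epi_g
  refine ⟨?_, ?_⟩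
  · have h1 : ZeroOff ((EtModW.push Λ π).obj ((EtModW.pull Λ π).obj F)) S :=
      ZeroOff.push π (h0.pull π)
    exact h1.of_epi (unitSeq π F).g
  · let d : M →ₗ[Λ] (ι → M) := LinearMap.pi fun _ => LinearMap.id
    refine ⟨(ι → M) ⧸ LinearMap.range d, inferInstance, inferInstance, inferInstance,
      quotMap (S := unitSeq π F) φ (h.glueP F φ) d ?_, ?_⟩
    · intro m
      exact (h.glue_const F φ m).symm
    · exact cst_quotMap hS φ (h.glueP F φ) d _ hφ (h.cst_glueP F φ hφ)

variable [IsNoetherianRing Λ] {n : ℕ} {D : Scheme.{u}}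

/-- The control of the sheaves of the class. -/
theorem good_of_inL [Finite ι] [Surjective π] [IsFinite π] (h : Split π V a)
    (v : V.left ⟶ T) [IsOpenImmersion v] (hv : v ≫ π = V.hom)
    (hS : π ⁻¹' S = Set.range v) (b : D ⟶ T) [IsClosedImmersion b]
    (hb : Set.range b = (Set.range v)ᶜ) {A : Fam T}
    (hT : ∀ (M : Type (u + 1)) [AddCommGroup M] [Module Λ M] [Module.Finite Λ M],
      Good Λ n A (EtModW.constMod Λ T M))
    (hD : ∀ (M : Type (u + 1)) [AddCommGroup M] [Module Λ M] [Module.Finite Λ M],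
      Good Λ n A ((EtModW.push Λ b).obj (EtModW.constMod Λ D M)))
    (F : EtModW.Mod Λ Z) (hF : InL V S F) : Good Λ n (A.push π) F := by
  refine Good.of_class (InL V S) ?_ F hF
  intro F hF
  refine ⟨unitSeq π F, unitSeq_shortExact π F, ⟨Iso.refl _⟩, hF.next h, ?_⟩
  apply Good.push π
  obtain ⟨h0, M, _, _, _, φ, hφ⟩ := hF
  obtain ⟨ψ, hψ⟩ := exists_cst_pull π F φ hφ (opn v) (𝟙 V.left)
    ((Category.id_comp _).trans hv.symm)
  refine good_of_cst v b hb (hT M) (hD M) ?_ ψ hψ
  have h1 := h0.pull π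
  rw [hS] at h1
  exact h1

end cls

end Groth.Agent.Sga4h.LFinClass
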