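import Groth.Agent.Sga4h.BidWay

/-!
# Way-out devissage for natural transformations of exact contravariant functors on cochain complexes

Contravariant version of `BidWay`: `F`, `G : (CochainComplex C ℤ)ᵒᵖ ⥤ CochainComplex D ℤ`.
-/

set_option autoImplicit false
set_option backward.defeqAttrib.useBackward true
set_option backward.isDefEq.respectTransparency false

universe v₁ v₂ u₁ u₂

namespace Groth.Agent.Sga4h.BidWayOp

open CategoryTheory Category Limits HomologicalComplex CochainComplex ZeroObject Opposite
open Groth.Agent.Sga4h.BidWay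

variable {C : Type u₁} [Category.{v₁} C] [Abelian C] {D : Type u₂} [Category.{v₂} D] [Abelian D]

/-- `F` sends short exact sequences of complexes to short exact sequences. -/
def ExactOp (F : (CochainComplex C ℤ)ᵒᵖ ⥤ CochainComplex D ℤ) [F.PreservesZeroMorphisms] : Prop :=
  ∀ S : ShortComplex (CochainComplex C ℤ), S.ShortExact → (S.op.map F).ShortExact

/-- `F` preserves quasi-isomorphisms. -/
def QisOp (F : (CochainComplex C ℤ)ᵒᵖ ⥤ CochainComplex D ℤ) : Prop :=
  ∀ ⦃K L : CochainComplex C ℤ⦄ (f : K ⟶ L), QuasiIso f → QuasiIso (F.map f.op)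

variable {F G : (CochainComplex C ℤ)ᵒᵖ ⥤ CochainComplex D ℤ} [F.PreservesZeroMorphisms]
  [G.PreservesZeroMorphisms] (η : F ⟶ G)

omit [F.PreservesZeroMorphisms] [G.PreservesZeroMorphisms] in
lemma quasiIso_congr (hF : QisOp F) (hG : QisOp G) {K L : CochainComplex C ℤ} (f : K ⟶ L)
    (hf : QuasiIso f) : QuasiIso (η.app (op K)) ↔ QuasiIso (η.app (op L)) := by
  have h1 := hF f hf
  have h2 := hG f hf
  have h3 := η.naturality f.op
  constructor
  · intro h
    have : QuasiIso (η.app (op L) ≫ G.map f.op) := by
      rw [← h3]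
      infer_instance
    exact quasiIso_of_comp_right (η.app (op L)) (G.map f.op)
  · intro h
    have : QuasiIso (F.map f.op ≫ η.app (op K)) := by
      rw [h3]
      infer_instance
    exact quasiIso_of_comp_left (F.map f.op) (η.app (op K))

lemma acyclic_of_qisOp (hF : QisOp F) {K : CochainComplex C ℤ} (hK : K.Acyclic) :
    (F.obj (op K)).Acyclic := by
  have h1 : QuasiIso (0 : K ⟶ (0 : CochainComplex C ℤ)) := by
    rw [quasiIso_iff]
    intro i
    rw [quasiIsoAt_iff_exactAt' _ _ (ShortComplex.exact_of_isZero_X₂ _ ((eval C _ i).map_isZero (isZero_zero _)))]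
    exact hK i
  have h2 := hF _ h1
  intro i
  rw [← quasiIsoAt_iff_exactAt (F.map (0 : K ⟶ (0 : CochainComplex C ℤ)).op) i
    (ShortComplex.exact_of_isZero_X₂ _ ((eval D _ i).map_isZero (F.map_isZero (isZero_zero _).op)))]
  infer_instance

section TwoOutOfThree

variable (hF : ExactOp F) (hG : ExactOp G) {S : ShortComplex (CochainComplex C ℤ)}
  (hS : S.ShortExact)

include hF hG hS

lemma quasiIso_X₁ (h₂ : QuasiIso (η.app (op S.X₂))) (h₃ : QuasiIso (η.app (op S.X₃))) :
    QuasiIso (η.app (op S.X₁)) :=
  HomologySequence.quasiIso_τ₃ (S.op.mapNatTrans η) (hF S hS) (hG S hS) h₃ h₂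

lemma quasiIso_X₂ (h₁ : QuasiIso (η.app (op S.X₁))) (h₃ : QuasiIso (η.app (op S.X₃))) :
    QuasiIso (η.app (op S.X₂)) :=
  Cohder.HomSeqTau1.quasiIso_τ₂ (S.op.mapNatTrans η) (hF S hS) (hG S hS) h₃ h₁

lemma quasiIso_X₃ (h₁ : QuasiIso (η.app (op S.X₁))) (h₂ : QuasiIso (η.app (op S.X₂))) :
    QuasiIso (η.app (op S.X₃)) :=
  Cohder.HomSeqTau1.quasiIso_τ₁ (S.op.mapNatTrans η) (hF S hS) (hG S hS) h₂ h₁

end TwoOutOfThree

lemma quasiIso_shift_one_iff (hF : ExactOp F) (hG : ExactOp G) (hF' : QisOp F) (hG' : QisOp G)
    (K : CochainComplex C ℤ) : QuasiIso (η.app (op (K⟦(1 : ℤ)⟧))) ↔ QuasiIso (η.app (op K)) := by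
  have h2 : QuasiIso (η.app (op (mappingCone (𝟙 K)))) :=
    quasiIso_of_acyclic _ (acyclic_of_qisOp hF' (acyclic_cone_id K))
      (acyclic_of_qisOp hG' (acyclic_cone_id K))
  exact ⟨fun h => quasiIso_X₁ η hF hG (coneSC_shortExact K) h2 h,
    fun h => quasiIso_X₃ η hF hG (coneSC_shortExact K) h h2⟩

lemma quasiIso_shift_iff (hF : ExactOp F) (hG : ExactOp G) (hF' : QisOp F) (hG' : QisOp G)
    (K : CochainComplex C ℤ) (n : ℤ) :
    QuasiIso (η.app (op (K⟦n⟧))) ↔ QuasiIso (η.app (op K)) := by
  have key : ∀ m : ℤ, QuasiIso (η.app (op (K⟦m + 1⟧))) ↔ QuasiIso (η.app (op (K⟦m⟧))) := fun m => by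
    rw [← quasiIso_shift_one_iff η hF hG hF' hG' (K⟦m⟧)]
    exact quasiIso_congr η hF' hG' ((shiftFunctorAdd (CochainComplex C ℤ) m 1).app K).hom inferInstance
  have h0 : QuasiIso (η.app (op (K⟦(0 : ℤ)⟧))) ↔ QuasiIso (η.app (op K)) :=
    quasiIso_congr η hF' hG' ((shiftFunctorZero (CochainComplex C ℤ) ℤ).app K).hom inferInstance
  rw [← h0]
  induction n using Int.induction_on with
  | zero => exact Iff.rfl
  | succ i hi => exact (key i).trans hi
  | pred i hi =>
    have := key (-(i : ℤ) - 1)
    rw [sub_add_cancel] at this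
    exact this.symm.trans hi

/-- Way-out lemma: if every object of `K` is a quotient of an object of `P` with kernel in `K`, if `η` is a
quasi-isomorphism on the objects of `P` and the homology of `F` and `G` on objects of `K` vanishes in
degrees `< N`, then `η` is a quasi-isomorphism on objects of `K`. -/
theorem quasiIso_of_resolution (hF : ExactOp F) (hG : ExactOp G) (P K : ObjectProperty C)
    (hP : ∀ X, P X → QuasiIso (η.app (op ((CochainComplex.singleFunctor C 0).obj X))))
    (hK : ∀ X, K X → ∃ (Y Z : C) (f : Y ⟶ Z) (g : Z ⟶ X) (w : f ≫ g = 0),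
      (ShortComplex.mk f g w).ShortExact ∧ K Y ∧ P Z) (N : ℤ)
    (hFN : ∀ X, K X → (F.obj (op ((CochainComplex.singleFunctor C 0).obj X))).IsGE N)
    (hGN : ∀ X, K X → (G.obj (op ((CochainComplex.singleFunctor C 0).obj X))).IsGE N)
    (X : C) (hX : K X) :
    QuasiIso (η.app (op ((CochainComplex.singleFunctor C 0).obj X))) := by
  have key : ∀ (n : ℕ) (X : C), K X → ∀ i : ℤ, i < N + n →
      IsIso (homologyMap (η.app (op ((CochainComplex.singleFunctor C 0).obj X))) i) := by
    intro n
    induction n with
    | zero =>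
      intro X hX i hi
      have h1 := hFN X hX
      have h2 := hGN X hX
      exact ⟨0, ((F.obj (op ((CochainComplex.singleFunctor C 0).obj X))).isZero_of_isGE N i (by
        push_cast at hi; lia)).eq_of_src _ _,
        ((G.obj (op ((CochainComplex.singleFunctor C 0).obj X))).isZero_of_isGE N i (by
        push_cast at hi; lia)).eq_of_src _ _⟩
    | succ n ih =>
      have hmono : ∀ (X : C), K X → ∀ i : ℤ, i < N + (n + 1 : ℕ) →
          Mono (homologyMap (η.app (op ((CochainComplex.singleFunctor C 0).obj X))) i) := by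
        intro X hX i hi
        obtain ⟨Y, Z, f, g, w, hS, hY, hZ⟩ := hK X hX
        have hS' := single_shortExact hS 0
        have hZ' := hP Z hZ
        have := ih Y hY (i - 1) (by push_cast at hi; lia)
        exact Cohder.HomSeqTau1.mono_homologyMap_τ₁
          (((ShortComplex.mk f g w).map (CochainComplex.singleFunctor C 0)).op.mapNatTrans η)
          (hF _ hS') (hG _ hS') (i - 1) i (by lia)
          (show Epi (homologyMap (η.app (op ((CochainComplex.singleFunctor C 0).obj Z))) (i - 1))
            from inferInstance)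
          (show Mono (homologyMap (η.app (op ((CochainComplex.singleFunctor C 0).obj Y))) (i - 1))
            from inferInstance)
          (show Mono (homologyMap (η.app (op ((CochainComplex.singleFunctor C 0).obj Z))) i)
            from inferInstance)
      intro X hX i hi
      have he := hmono X hX i hi
      have hm : Epi (homologyMap (η.app (op ((CochainComplex.singleFunctor C 0).obj X))) i) := by
        obtain ⟨Y, Z, f, g, w, hS, hY, hZ⟩ := hK X hX
        have hS' := single_shortExact hS 0
        have hZ' := hP Z hZ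
        have := ih Y hY (i - 1) (by push_cast at hi; lia)
        exact Cohder.HomSeqTau1.epi_homologyMap_τ₁
          (((ShortComplex.mk f g w).map (CochainComplex.singleFunctor C 0)).op.mapNatTrans η)
          (hF _ hS') (hG _ hS') (i - 1) i (by lia)
          (show Epi (homologyMap (η.app (op ((CochainComplex.singleFunctor C 0).obj Y))) (i - 1))
            from inferInstance)
          (show Epi (homologyMap (η.app (op ((CochainComplex.singleFunctor C 0).obj Z))) i)
            from inferInstance)
          (hmono Y hY i hi)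
      exact isIso_of_mono_of_epi _
  rw [quasiIso_iff]
  intro i
  rw [quasiIsoAt_iff_isIso_homologyMap]
  exact key (i + 1 - N).toNat X hX i (by lia)

/-- Devissage: a bounded complex whose homology objects `H` are such that `η` is a quasi-isomorphism on
`H[0]`. -/
theorem quasiIso_of_homology (hF : ExactOp F) (hG : ExactOp G) (hF' : QisOp F) (hG' : QisOp G)
    (E : CochainComplex C ℤ) (a b : ℤ) [E.IsGE a] [E.IsLE b]
    (hE : ∀ i, QuasiIso (η.app (op ((CochainComplex.singleFunctor C 0).obj (E.homology i))))) :
    QuasiIso (η.app (op E)) := by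
  have key : ∀ (n : ℕ) (a : ℤ) (E : CochainComplex C ℤ), E.IsGE a → E.IsLE (a + n - 1) →
      (∀ i, QuasiIso (η.app (op ((CochainComplex.singleFunctor C 0).obj (E.homology i))))) →
      QuasiIso (η.app (op E)) := by
    intro n
    induction n with
    | zero =>
      intro a E h1 h2 _
      have : E.Acyclic := fun i => by
        by_cases hi : i < a
        · exact E.exactAt_of_isGE a i hi
        · exact E.exactAt_of_isLE (a + (0 : ℕ) - 1) i (by simp; lia)
      exact quasiIso_of_acyclic _ (acyclic_of_qisOp hF' this) (acyclic_of_qisOp hG' this)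
    | succ n ih =>
      intro a E h1 h2 hE
      have hT : (E.truncLE a).IsGE a := by
        rw [isGE_iff]
        intro i hi
        have := E.quasiIsoAt_ιTruncLE a i (by lia)
        exact (exactAt_iff_of_quasiIsoAt (E.ιTruncLE a) i).2 (E.exactAt_of_isGE a i hi)
      refine quasiIso_X₂ η hF hG (E.shortComplexTruncLE_shortExact a) ?_ ?_
      · change QuasiIso (η.app (op (E.truncLE a)))
        obtain ⟨f, hf⟩ := exists_iso_single_shift (E.truncLE a) a
        rw [quasiIso_congr η hF' hG' f hf, quasiIso_shift_iff η hF hG hF' hG']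
        refine (quasiIso_congr η hF' hG' ((CochainComplex.singleFunctor C 0).mapIso
          (isoOfQuasiIsoAt (E.ιTruncLE a) a)).hom inferInstance).2 (hE a)
      · rw [quasiIso_congr η hF' hG' (E.shortComplexTruncLEX₃ToTruncGE a (a + 1)) inferInstance]
        refine ih (a + 1) _ inferInstance ?_ fun i => ?_
        · rw [isLE_iff]
          intro i hi
          have := E.quasiIsoAt_πTruncGE (a + 1) i (by lia)
          exact (exactAt_iff_of_quasiIsoAt (E.πTruncGE (a + 1)) i).1
            (E.exactAt_of_isLE (a + (n + 1 : ℕ) - 1) i (by push_cast; lia))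
        · by_cases hi : a + 1 ≤ i
          · have := E.quasiIsoAt_πTruncGE (a + 1) i hi
            exact (quasiIso_congr η hF' hG' ((CochainComplex.singleFunctor C 0).mapIso
              (isoOfQuasiIsoAt (E.πTruncGE (a + 1)) i)).hom inferInstance).1 (hE i)
          · have hz : IsZero ((CochainComplex.singleFunctor C 0).obj
                ((E.truncGE (a + 1)).homology i)) := (CochainComplex.singleFunctor C 0).map_isZero
                  ((E.truncGE (a + 1)).isZero_of_isGE (a + 1) i (by lia))
            have h1 := F.map_isZero hz.op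
            have h2 := G.map_isZero hz.op
            have : IsIso (η.app (op ((CochainComplex.singleFunctor C 0).obj
                ((E.truncGE (a + 1)).homology i)))) := ⟨0, h1.eq_of_src _ _, h2.eq_of_src _ _⟩
            infer_instance
  refine key (b + 1 - a).toNat a E inferInstance ?_ hE
  exact E.isLE_of_le b _ (by lia)

end Groth.Agent.Sga4h.BidWayOp
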