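import Mathlib.Algebra.Homology.DerivedCategory.Fractions
import Mathlib.CategoryTheory.Triangulated.Subcategory
import Mathlib.Algebra.Homology.DerivedCategory.ShortExact
import Groth.Agent.LoccohB.Devissage
import Groth.Agent.CohtopA.KInjRes2

/-!
# Triangulated properties of complexes descend to the derived category

`Tri P`: a property `P` of cochain complexes invariant under quasi-isomorphisms, shifts and mapping cones.
Then `toD P : ObjectProperty (DerivedCategory C)` is a triangulated subcategory and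
`toD P (Q.obj K) ↔ P K`; dévissage for cohomologically bounded complexes.
-/

set_option autoImplicit false
set_option backward.defeqAttrib.useBackward true
set_option backward.isDefEq.respectTransparency false

universe w v u

namespace Groth.Agent.Sga4h.CxProp

open CategoryTheory Category Limits Pretriangulated CochainComplex ZeroObject

variable {C : Type u} [Category.{v} C] [Abelian C]

/-- A property of complexes invariant under quasi-isomorphisms, shifts and mapping cones. -/
structure Tri (P : CochainComplex C ℤ → Prop) : Prop where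
  qi : ∀ {K L : CochainComplex C ℤ} (f : K ⟶ L) [QuasiIso f], P K ↔ P L
  shift : ∀ K : CochainComplex C ℤ, P (K⟦(1 : ℤ)⟧) ↔ P K
  cone : ∀ {K L : CochainComplex C ℤ} (φ : K ⟶ L), P K → P L → P (mappingCone φ)
  zero : ∃ K, P K

variable {P : CochainComplex C ℤ → Prop}

lemma Tri.iso (h : Tri P) {K L : CochainComplex C ℤ} (e : K ≅ L) : P K ↔ P L := h.qi e.hom

lemma Tri.shift_iff (h : Tri P) (K : CochainComplex C ℤ) (n : ℤ) : P (K⟦n⟧) ↔ P K := by
  induction n using Int.induction_on with
  | zero => exact h.iso ((shiftFunctorZero (CochainComplex C ℤ) ℤ).app K)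
  | succ n ih => exact (h.iso ((shiftFunctorAdd (CochainComplex C ℤ) (n : ℤ) 1).app K)).trans ((h.shift _).trans ih)
  | pred n ih =>
    refine Iff.trans ?_ ih
    rw [← h.shift]
    exact h.iso ((CategoryTheory.shiftFunctorAdd' (CochainComplex C ℤ) (-(n : ℤ) - 1) 1 (-(n : ℤ)) (by lia)).app K).symm

variable [HasDerivedCategory.{w} C]

lemma Tri.of_isoD (h : Tri P) {K L : CochainComplex C ℤ} (e : DerivedCategory.Q.obj K ≅ DerivedCategory.Q.obj L) :
    P K ↔ P L := by
  obtain ⟨M, s, hs, g, hg⟩ := DerivedCategory.right_fac e.hom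
  have hs' : QuasiIso s := (DerivedCategory.isIso_Q_map_iff_quasiIso _ s).1 hs
  have hg' : IsIso (DerivedCategory.Q.map g) := by
    have : DerivedCategory.Q.map g = DerivedCategory.Q.map s ≫ e.hom := by
      rw [hg, IsIso.hom_inv_id_assoc]
    rw [this]
    infer_instance
  have hg'' : QuasiIso g := (DerivedCategory.isIso_Q_map_iff_quasiIso _ g).1 hg'
  exact (h.qi s).symm.trans (h.qi g)

variable (P) in
/-- The property of objects of the derived category defined by `P`. -/
def toD : ObjectProperty (DerivedCategory C) := fun X => ∃ K, Nonempty (DerivedCategory.Q.obj K ≅ X) ∧ P K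

lemma Tri.toD_Q_iff (h : Tri P) (K : CochainComplex C ℤ) : toD P (DerivedCategory.Q.obj K) ↔ P K :=
  ⟨fun ⟨_, ⟨e⟩, hL⟩ => (h.of_isoD e).1 hL, fun hK => ⟨K, ⟨Iso.refl _⟩, hK⟩⟩

instance : (toD P).IsClosedUnderIsomorphisms where
  of_iso e := fun ⟨K, ⟨e'⟩, hK⟩ => ⟨K, ⟨e' ≪≫ e⟩, hK⟩

lemma Tri.isStableUnderShift (h : Tri P) : (toD P).IsStableUnderShift ℤ where
  isStableUnderShiftBy n :=
    { le_shift := fun _ ⟨K, ⟨e⟩, hK⟩ =>
        ⟨K⟦n⟧, ⟨(DerivedCategory.Q.commShiftIso n).app K ≪≫ (CategoryTheory.shiftFunctor _ n).mapIso e⟩,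
          (h.shift_iff K n).2 hK⟩ }

lemma Tri.isTriangulatedClosed₃ (h : Tri P) : (toD P).IsTriangulatedClosed₃ :=
  .mk' (fun T hT h₁ h₂ => by
    obtain ⟨K, ⟨e₁⟩, hK⟩ := h₁
    obtain ⟨L, ⟨e₂⟩, hL⟩ := h₂
    obtain ⟨M, s, hs, g, hg⟩ := DerivedCategory.right_fac (e₁.hom ≫ T.mor₁ ≫ e₂.inv)
    have hs' : QuasiIso s := (DerivedCategory.isIso_Q_map_iff_quasiIso _ s).1 hs
    have hM : P M := (h.qi s).2 hK
    have hT' := DerivedCategory.mappingCone_triangle_distinguished g
    let e : DerivedCategory.Q.mapTriangle.obj (mappingCone.triangle g) ≅ T :=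
      isoTriangleOfIso₁₂ _ _ hT' hT (asIso (DerivedCategory.Q.map s) ≪≫ e₁) e₂ (by
        dsimp
        have : DerivedCategory.Q.map g = DerivedCategory.Q.map s ≫ e₁.hom ≫ T.mor₁ ≫ e₂.inv := by
          rw [hg, IsIso.hom_inv_id_assoc]
        rw [this]
        simp)
    exact ⟨mappingCone g, ⟨Triangle.π₃.mapIso e⟩, h.cone g hM hL⟩)

lemma Tri.isTriangulated (h : Tri P) : (toD P).IsTriangulated := by
  have := h.isStableUnderShift
  have := h.isTriangulatedClosed₃
  have h₂ : (toD P).IsTriangulatedClosed₂ := .of_isTriangulatedClosed₃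
  have hz : (toD P).ContainsZero := by
    obtain ⟨K, hK⟩ := h.zero
    have hK' : toD P (DerivedCategory.Q.obj K) := (h.toD_Q_iff K).2 hK
    exact ⟨0, isZero_zero _, (toD P).ext_of_isTriangulatedClosed₃ _ (contractible_distinguished _) hK' hK'⟩
  constructor

lemma Tri.ses₁ (h : Tri P) {S : ShortComplex (CochainComplex C ℤ)} (hS : S.ShortExact) (h₂ : P S.X₂) (h₃ : P S.X₃) :
    P S.X₁ := by
  have := h.isTriangulated
  have hT : DerivedCategory.triangleOfSES hS ∈ distTriang _ := DerivedCategory.triangleOfSES_distinguished hS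
  exact (h.toD_Q_iff _).1 ((toD P).ext_of_isTriangulatedClosed₁ _ hT ((h.toD_Q_iff _).2 h₂) ((h.toD_Q_iff _).2 h₃))

lemma Tri.ses₂ (h : Tri P) {S : ShortComplex (CochainComplex C ℤ)} (hS : S.ShortExact) (h₁ : P S.X₁) (h₃ : P S.X₃) :
    P S.X₂ := by
  have := h.isTriangulated
  have hT : DerivedCategory.triangleOfSES hS ∈ distTriang _ := DerivedCategory.triangleOfSES_distinguished hS
  exact (h.toD_Q_iff _).1 ((toD P).ext_of_isTriangulatedClosed₂ _ hT ((h.toD_Q_iff _).2 h₁) ((h.toD_Q_iff _).2 h₃))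

lemma Tri.ses₃ (h : Tri P) {S : ShortComplex (CochainComplex C ℤ)} (hS : S.ShortExact) (h₁ : P S.X₁) (h₂ : P S.X₂) :
    P S.X₃ := by
  have := h.isTriangulated
  have hT : DerivedCategory.triangleOfSES hS ∈ distTriang _ := DerivedCategory.triangleOfSES_distinguished hS
  exact (h.toD_Q_iff _).1 ((toD P).ext_of_isTriangulatedClosed₃ _ hT ((h.toD_Q_iff _).2 h₁) ((h.toD_Q_iff _).2 h₂))

omit [HasDerivedCategory.{w} C] in
lemma Tri.of_acyclic (h : Tri P) {K : CochainComplex C ℤ} (hK : K.Acyclic) : P K := by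
  obtain ⟨K₀, hK₀⟩ := h.zero
  have : QuasiIso (0 : K ⟶ mappingCone (𝟙 K₀)) :=
    CohtopA.TrivCof.quasiIso_of_acyclic _ hK (CohtopA.KInjRes2.acyclic_mappingCone_id K₀)
  exact (h.qi (0 : K ⟶ mappingCone (𝟙 K₀))).2 (h.cone (𝟙 K₀) hK₀ hK₀)

variable (P) in
/-- The property of complexes defined by a property of the derived category. -/
def ofD (P : ObjectProperty (DerivedCategory C)) : CochainComplex C ℤ → Prop := fun K => P (DerivedCategory.Q.obj K)

omit P in
lemma tri_ofD (P : ObjectProperty (DerivedCategory C)) [P.IsTriangulated] [P.IsClosedUnderIsomorphisms] :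
    Tri (ofD P) where
  qi f _ := P.prop_iff_of_iso (asIso (DerivedCategory.Q.map f))
  shift K := by
    have e := (DerivedCategory.Q.commShiftIso (1 : ℤ)).app K
    exact (P.prop_iff_of_iso e).trans ⟨fun hK => P.prop_of_iso
      ((shiftEquiv (DerivedCategory C) (1 : ℤ)).unitIso.symm.app (DerivedCategory.Q.obj K)) (P.le_shift (-1 : ℤ) _ hK),
      fun hK => P.le_shift (1 : ℤ) _ hK⟩
  cone φ hK hL := P.ext_of_isTriangulatedClosed₃ _ (DerivedCategory.mappingCone_triangle_distinguished φ) hK hL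
  zero := by
    obtain ⟨Z, hZ, hZ'⟩ := (inferInstance : P.ContainsZero).exists_zero
    exact ⟨0, P.prop_of_isZero (DerivedCategory.Q.map_isZero (isZero_zero _))⟩

lemma Tri.toD_single (h : Tri P) {M : C} (hM : P ((CochainComplex.singleFunctor C 0).obj M)) (i : ℤ) :
    toD P ((DerivedCategory.singleFunctor C i).obj M) := by
  have := h.isStableUnderShift
  have e : (DerivedCategory.singleFunctor C i).obj M ≅
      (DerivedCategory.Q.obj ((CochainComplex.singleFunctor C 0).obj M))⟦-i⟧ :=
    (((DerivedCategory.singleFunctors C).shiftIso (-i) i 0 (by lia)).app M).symm ≪≫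
      (CategoryTheory.shiftFunctor _ (-i)).mapIso ((DerivedCategory.singleFunctorIsoCompQ C 0).app M)
  exact (toD P).prop_of_iso e.symm ((toD P).le_shift (-i) _ ((h.toD_Q_iff _).2 hM))

/-- Dévissage: if `P` holds for the cohomology objects (in degree `0`) of a bounded object `X`, it holds for `X`. -/
theorem Tri.devissage (h : Tri P) (X : DerivedCategory C) (a b : ℤ) [X.IsGE a] [X.IsLE b]
    (hX : ∀ i : ℤ, P ((CochainComplex.singleFunctor C 0).obj ((DerivedCategory.homologyFunctor C i).obj X))) :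
    toD P X := by
  have := h.isTriangulated
  refine LoccohB.Devissage.devissage (toD P) (fun Z hZ => (toD P).prop_of_isZero hZ)
    (fun T hT h₁ h₃ => (toD P).ext_of_isTriangulatedClosed₂ T hT h₁ h₃) X a b (fun i => ?_)
  exact h.toD_single (hX i) i

end Groth.Agent.Sga4h.CxProp
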