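import Groth.Prelude.Def_EtModD2
import Groth.Agent.Etrest.ModCons
import Groth.Agent.Etrest.ModFT
import Groth.Agent.PerfA.BddDev
import Groth.Agent.Sga4h.CxProp

/-!
# The triangulated subcategory `D^b_c(X_et, Λ)`

For a Noetherian coefficient ring `Λ` and an arbitrary scheme `X`:

* `consM Λ X`: constructible sheaves of `Λ`-modules, a weak Serre subcategory; `isConstructible_five`,
  `_kernel`, `_cokernel`, `_extension`, `_of_retract`, `_image`;
* `EtModD.IsDbc` is stable under isomorphisms, shifts, triangles (instance `IsTriangulated`), direct summands,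
  truncations; `isDbc_single_iff`, `isDbc_Q_of_terms`;
* dévissage: `isDbc_devissage` (properties of objects of the derived category), `tri_devissage`
  (`CxProp.Tri`, on complexes), `single₁`, `single₂`, `single₃` (2-of-3 for `F ↦ P (F[0])`).
-/

set_option autoImplicit false

universe u v w w'

open CategoryTheory CategoryTheory.Category CategoryTheory.Limits AlgebraicGeometry Pretriangulated
open DerivedCategory (homologyFunctor singleFunctor)
open scoped ZeroObject

attribute [local instance] HasDerivedCategory.standard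

namespace Groth.Agent.Sga4h.Dbc323

open Groth.Agent.PerfA.CohomIn

variable (Λ : Type (u + 1)) [CommRing Λ] (X : Scheme.{u})

/-- Constructible sheaves of `Λ`-modules. -/
def consM : ObjectProperty (EtModW.Mod Λ X) := fun F => EtModW.IsConstructible Λ F

variable {Λ X}

instance : (consM Λ X).IsClosedUnderIsomorphisms :=
  ⟨fun e h => Etrest.ModCons.isConstructible_of_iso e h⟩

theorem isConstructible_of_isZero {F : EtModW.Mod Λ X} (hF : IsZero F) : EtModW.IsConstructible Λ F :=
  Etrest.ModCons.isConstructible_of_ft (Etrest.ModFT.ftlc_of_isZero hF)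

instance : (consM Λ X).ContainsZero :=
  ⟨⟨0, isZero_zero _, isConstructible_of_isZero (isZero_zero _)⟩⟩

section five

variable [IsNoetherianRing Λ]

theorem ftFive : Etrest.ModCons.FTFive Λ := fun _ _ _ _ _ _ f₁ f₂ f₃ f₄ _ _ _ h₁ h₂ h₃ hA hB hD hE =>
  Etrest.ModFT.ftlc_five f₁ f₂ f₃ f₄ (Etrest.ModFT.stalkExact_of_exact h₁)
    (Etrest.ModFT.stalkExact_of_exact h₂) (Etrest.ModFT.stalkExact_of_exact h₃) hA hB hD hE

/-- The five lemma for constructible sheaves of modules. -/
theorem isConstructible_five {A B C D E : EtModW.Mod Λ X} (f₁ : A ⟶ B)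
    (f₂ : B ⟶ C) (f₃ : C ⟶ D) (f₄ : D ⟶ E) (w₁ : f₁ ≫ f₂ = 0) (w₂ : f₂ ≫ f₃ = 0)
    (w₃ : f₃ ≫ f₄ = 0)
    (h₁ : (ShortComplex.mk f₁ f₂ w₁).Exact) (h₂ : (ShortComplex.mk f₂ f₃ w₂).Exact)
    (h₃ : (ShortComplex.mk f₃ f₄ w₃).Exact)
    (hA : EtModW.IsConstructible Λ A) (hB : EtModW.IsConstructible Λ B)
    (hD : EtModW.IsConstructible Λ D) (hE : EtModW.IsConstructible Λ E) :
    EtModW.IsConstructible Λ C :=
  Etrest.ModCons.isConstructible_five_of_ftFive ftFive f₁ f₂ f₃ f₄ w₁ w₂ w₃ h₁ h₂ h₃ hA hB hD hE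

theorem isConstructible_kernel {F G : EtModW.Mod Λ X} (φ : F ⟶ G) (hF : EtModW.IsConstructible Λ F)
    (hG : EtModW.IsConstructible Λ G) : EtModW.IsConstructible Λ (kernel φ) := by
  have hz : EtModW.IsConstructible Λ (0 : EtModW.Mod Λ X) := isConstructible_of_isZero (isZero_zero _)
  refine isConstructible_five (0 : (0 : EtModW.Mod Λ X) ⟶ 0) (0 : (0 : EtModW.Mod Λ X) ⟶ kernel φ)
    (kernel.ι φ) φ (by simp) (by simp) (by simp) ?_ ?_ (ShortComplex.exact_kernel φ) hz hz hF hG
  · exact ShortComplex.exact_of_isZero_X₂ _ (isZero_zero _)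
  · exact (ShortComplex.exact_iff_mono _ rfl).2 (by dsimp; infer_instance)

theorem isConstructible_cokernel {F G : EtModW.Mod Λ X} (φ : F ⟶ G) (hF : EtModW.IsConstructible Λ F)
    (hG : EtModW.IsConstructible Λ G) : EtModW.IsConstructible Λ (cokernel φ) := by
  have hz : EtModW.IsConstructible Λ (0 : EtModW.Mod Λ X) := isConstructible_of_isZero (isZero_zero _)
  refine isConstructible_five φ (cokernel.π φ) (0 : cokernel φ ⟶ (0 : EtModW.Mod Λ X))
    (0 : (0 : EtModW.Mod Λ X) ⟶ 0) (by simp) (by simp) (by simp) (ShortComplex.exact_cokernel φ) ?_ ?_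
    hF hG hz hz
  · exact (ShortComplex.exact_iff_epi _ rfl).2 (by dsimp; infer_instance)
  · exact ShortComplex.exact_of_isZero_X₂ _ (isZero_zero _)

theorem isConstructible_extension {S : ShortComplex (EtModW.Mod Λ X)} (hS : S.ShortExact)
    (h₁ : EtModW.IsConstructible Λ S.X₁) (h₃ : EtModW.IsConstructible Λ S.X₃) :
    EtModW.IsConstructible Λ S.X₂ := by
  have hz : EtModW.IsConstructible Λ (0 : EtModW.Mod Λ X) := isConstructible_of_isZero (isZero_zero _)
  have := hS.mono_f
  have := hS.epi_g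
  refine isConstructible_five (0 : (0 : EtModW.Mod Λ X) ⟶ S.X₁) S.f S.g
    (0 : S.X₃ ⟶ (0 : EtModW.Mod Λ X)) (by simp) S.zero (by simp) ?_ hS.exact ?_ hz h₁ h₃ hz
  · exact (ShortComplex.exact_iff_mono _ rfl).2 (by dsimp; infer_instance)
  · exact (ShortComplex.exact_iff_epi _ rfl).2 (by dsimp; infer_instance)

instance : (consM Λ X).IsClosedUnderKernels where
  kernels_le := by
    rintro _ ⟨f, k, hk, hf1, hf2⟩
    exact Etrest.ModCons.isConstructible_of_iso
      ((kernelIsKernel f).conePointUniqueUpToIso hk) (isConstructible_kernel f hf1 hf2)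

instance : (consM Λ X).IsClosedUnderCokernels where
  cokernels_le := by
    rintro _ ⟨f, k, hk, hf1, hf2⟩
    exact Etrest.ModCons.isConstructible_of_iso
      ((cokernelIsCokernel f).coconePointUniqueUpToIso hk) (isConstructible_cokernel f hf1 hf2)

instance : (consM Λ X).IsClosedUnderExtensions where
  prop_X₂_of_shortExact hS h₁ h₃ := isConstructible_extension hS h₁ h₃

theorem isConstructible_image {F G : EtModW.Mod Λ X} (φ : F ⟶ G) (hF : EtModW.IsConstructible Λ F)
    (hG : EtModW.IsConstructible Λ G) : EtModW.IsConstructible Λ (image φ) := by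
  have h : EtModW.IsConstructible Λ (kernel (cokernel.π φ)) :=
    isConstructible_kernel _ hG (isConstructible_cokernel _ hF hG)
  exact Etrest.ModCons.isConstructible_of_iso (Abelian.imageIsoImage φ) h

/-- direct summands of constructible sheaves -/
theorem isConstructible_of_retract {F G : EtModW.Mod Λ X} (i : F ⟶ G) (r : G ⟶ F) (h : i ≫ r = 𝟙 F)
    (hG : EtModW.IsConstructible Λ G) : EtModW.IsConstructible Λ F := by
  have hc : IsColimit (CokernelCofork.ofπ (f := 𝟙 _ - r ≫ i) r (by
      simp only [Preadditive.sub_comp, Category.id_comp, Category.assoc, h, Category.comp_id,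
        sub_self])) := by
    refine CokernelCofork.IsColimit.ofπ _ _ (fun g hg => i ≫ g) (fun g hg => ?_) (fun g hg b hb => ?_)
    · rw [Preadditive.sub_comp, sub_eq_zero, Category.id_comp] at hg
      rw [← Category.assoc, ← hg]
    · rw [← hb, ← Category.assoc, h, Category.id_comp]
  exact (consM Λ X).prop_of_isColimit_cokernelCofork hc hG hG

end five

/-! ### `IsDbc` -/

variable (Λ X) in
theorem isDbc_eq : (EtModD.IsDbc : ObjectProperty (EtModD.D Λ X)) =
    (DerivedCategory.TStructure.t : Triangulated.TStructure (EtModD.D Λ X)).bounded ⊓ coh (consM Λ X) := by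
  ext K
  constructor
  · rintro ⟨⟨a, b, ha, hb⟩, h⟩
    exact ⟨⟨⟨a, ha⟩, ⟨b, hb⟩⟩, h⟩
  · rintro ⟨⟨⟨a, ha⟩, ⟨b, hb⟩⟩, h⟩
    exact ⟨⟨a, b, ha, hb⟩, h⟩

instance : (EtModD.IsDbc : ObjectProperty (EtModD.D Λ X)).IsClosedUnderIsomorphisms := by
  rw [isDbc_eq]; infer_instance

instance : (EtModD.IsDbc : ObjectProperty (EtModD.D Λ X)).IsStableUnderShift ℤ := by
  rw [isDbc_eq]; infer_instance

instance [IsNoetherianRing Λ] : (EtModD.IsDbc : ObjectProperty (EtModD.D Λ X)).IsTriangulated := by
  rw [isDbc_eq]; infer_instance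

theorem IsDbc.coh {K : EtModD.D Λ X} (h : EtModD.IsDbc K) : coh (consM Λ X) K := h.2

theorem isDbc_Q_iff (K : CochainComplex (EtModW.Mod Λ X) ℤ) :
    EtModD.IsDbc (DerivedCategory.Q.obj K) ↔
      (∃ a b : ℤ, K.IsGE a ∧ K.IsLE b) ∧ ∀ i : ℤ, EtModW.IsConstructible Λ (K.homology i) := by
  refine and_congr ?_ (coh_Q_iff (consM Λ X) K)
  simp only [DerivedCategory.isGE_Q_obj_iff, DerivedCategory.isLE_Q_obj_iff]

theorem isDbc_single {F : EtModW.Mod Λ X} (hF : EtModW.IsConstructible Λ F) (n : ℤ) :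
    EtModD.IsDbc ((singleFunctor (EtModW.Mod Λ X) n).obj F) :=
  ⟨⟨n, n, inferInstance, inferInstance⟩, coh_single (consM Λ X) F hF n⟩

theorem isDbc_single_iff (F : EtModW.Mod Λ X) (n : ℤ) :
    EtModD.IsDbc ((singleFunctor (EtModW.Mod Λ X) n).obj F) ↔ EtModW.IsConstructible Λ F :=
  ⟨fun h => (consM Λ X).prop_of_iso
    ((DerivedCategory.singleFunctorCompHomologyFunctorIso (EtModW.Mod Λ X) n).app F) (h.2 n),
    fun h => isDbc_single h n⟩

/-- The version for the complex `F[0]`. -/
theorem isDbc_Q_single_iff (F : EtModW.Mod Λ X) (n : ℤ) :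
    EtModD.IsDbc (DerivedCategory.Q.obj ((CochainComplex.singleFunctor (EtModW.Mod Λ X) n).obj F)) ↔
      EtModW.IsConstructible Λ F := by
  rw [← isDbc_single_iff F n]
  exact (EtModD.IsDbc : ObjectProperty (EtModD.D Λ X)).prop_iff_of_iso
    ((DerivedCategory.singleFunctorIsoCompQ (EtModW.Mod Λ X) n).app F).symm

theorem isDbc_of_isZero {K : EtModD.D Λ X} (hK : IsZero K) : EtModD.IsDbc K := by
  refine ⟨⟨0, 0, ?_, ?_⟩, fun i => isConstructible_of_isZero (Functor.map_isZero _ hK)⟩
  · rw [DerivedCategory.isGE_iff]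
    exact fun i _ => Functor.map_isZero _ hK
  · rw [DerivedCategory.isLE_iff]
    exact fun i _ => Functor.map_isZero _ hK

/-- truncations -/
theorem isDbc_truncGE {K : EtModD.D Λ X} (hK : EtModD.IsDbc K) (n : ℤ) :
    EtModD.IsDbc ((DerivedCategory.TStructure.t.truncGE n).obj K) := by
  obtain ⟨⟨a, b, ha, hb⟩, h⟩ := hK
  exact ⟨⟨n, b, inferInstance, PerfA.BddDev.isLE_truncGE K n b⟩, coh_truncGE (consM Λ X) K n h⟩

theorem isDbc_truncLT {K : EtModD.D Λ X} (hK : EtModD.IsDbc K) (n : ℤ) :
    EtModD.IsDbc ((DerivedCategory.TStructure.t.truncLT n).obj K) := by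
  obtain ⟨⟨a, b, ha, hb⟩, h⟩ := hK
  exact ⟨⟨a, n - 1, PerfA.BddDev.isGE_truncLT K n a, inferInstance⟩, coh_truncLT (consM Λ X) K n h⟩

/-- direct summands -/
theorem isDbc_of_retract [IsNoetherianRing Λ] {K L : EtModD.D Λ X} (i : K ⟶ L) (r : L ⟶ K)
    (h : i ≫ r = 𝟙 K) (hL : EtModD.IsDbc L) : EtModD.IsDbc K := by
  obtain ⟨⟨a, b, ha, hb⟩, hc⟩ := hL
  have hz : ∀ n, IsZero ((homologyFunctor _ n).obj L) → IsZero ((homologyFunctor _ n).obj K) := by
    intro n hn
    have h1 : (homologyFunctor _ n).map i ≫ (homologyFunctor _ n).map r = 𝟙 _ := by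
      rw [← Functor.map_comp, h]; exact (homologyFunctor _ n).map_id K
    rw [IsZero.iff_id_eq_zero, ← h1, hn.eq_of_tgt ((homologyFunctor _ n).map i) 0, zero_comp]
  refine ⟨⟨a, b, ?_, ?_⟩, coh_of_retract (consM Λ X) i r h hc⟩
  · rw [DerivedCategory.isGE_iff]
    exact fun n hn => hz n (L.isZero_of_isGE a n hn)
  · rw [DerivedCategory.isLE_iff]
    exact fun n hn => hz n (L.isZero_of_isLE b n hn)

instance [IsNoetherianRing Λ] :
    (EtModD.IsDbc : ObjectProperty (EtModD.D Λ X)).IsStableUnderRetracts where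
  of_retract h hY := isDbc_of_retract h.i h.r h.retract hY

/-- bounded complexes with constructible terms -/
theorem isDbc_Q_of_terms [IsNoetherianRing Λ] (K : CochainComplex (EtModW.Mod Λ X) ℤ) (a b : ℤ)
    [K.IsStrictlyGE a] [K.IsStrictlyLE b] (hK : ∀ i, EtModW.IsConstructible Λ (K.X i)) :
    EtModD.IsDbc (DerivedCategory.Q.obj K) :=
  ⟨⟨a, b, (DerivedCategory.isGE_Q_obj_iff K a).2 inferInstance,
    (DerivedCategory.isLE_Q_obj_iff K b).2 inferInstance⟩, coh_Q_of_terms (consM Λ X) K hK⟩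

/-! ### Dévissage -/

/-- A property of objects of `D(X_et, Λ)` stable under isomorphisms and extensions which holds for the
`F[-n]`, `F` constructible, holds for `D^b_c`. -/
theorem isDbc_devissage (P : EtModD.D Λ X → Prop)
    (hiso : ∀ {K L : EtModD.D Λ X}, (K ≅ L) → P K → P L)
    (hsingle : ∀ (F : EtModW.Mod Λ X) (n : ℤ), EtModW.IsConstructible Λ F →
      P ((singleFunctor _ n).obj F))
    (htri : ∀ T : Triangle (EtModD.D Λ X), T ∈ distinguishedTriangles → P T.obj₁ →
      P T.obj₃ → P T.obj₂)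
    (K : EtModD.D Λ X) (hK : EtModD.IsDbc K) : P K := by
  obtain ⟨⟨a, b, ha, hb⟩, h⟩ := hK
  exact PerfA.BddDev.devissage (consM Λ X) P hiso hsingle htri K a b h

/-- The same for a triangulated subcategory: enough for `F` in degree `0`. -/
theorem isDbc_le_of_single (P : ObjectProperty (EtModD.D Λ X)) [P.IsClosedUnderIsomorphisms]
    [P.IsTriangulated]
    (hsingle : ∀ F : EtModW.Mod Λ X, EtModW.IsConstructible Λ F → P ((singleFunctor _ 0).obj F)) :
    EtModD.IsDbc ≤ P := by
  intro K hK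
  refine isDbc_devissage P (fun e h => P.prop_of_iso e h) (fun F n hF => ?_)
    (fun T hT h₁ h₃ => P.ext_of_isTriangulatedClosed₂ T hT h₁ h₃) K hK
  exact P.prop_of_iso (((DerivedCategory.singleFunctors _).shiftIso (-n) n 0 (by lia)).app F)
    (P.le_shift (-n) _ (hsingle F hF))

open CxProp in
/-- Dévissage for a triangulated property of complexes. -/
theorem tri_devissage {P : CochainComplex (EtModW.Mod Λ X) ℤ → Prop} (h : Tri P)
    (hsingle : ∀ F : EtModW.Mod Λ X, EtModW.IsConstructible Λ F →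
      P ((CochainComplex.singleFunctor _ 0).obj F))
    (K : CochainComplex (EtModW.Mod Λ X) ℤ) (hK : EtModD.IsDbc (DerivedCategory.Q.obj K)) : P K := by
  obtain ⟨⟨a, b, ha, hb⟩, hc⟩ := hK
  exact (h.toD_Q_iff K).1 (h.devissage (DerivedCategory.Q.obj K) a b (fun i => hsingle _ (hc i)))

section singles

open CxProp

variable {C : Type u} [Category.{v} C] [Abelian C] {P : CochainComplex C ℤ → Prop}

omit X Λ in
/-- 2-of-3 for `F ↦ P (F[0])` -/
theorem single₁ (h : Tri P) {S : ShortComplex C} (hS : S.ShortExact)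
    (h₂ : P ((CochainComplex.singleFunctor C 0).obj S.X₂))
    (h₃ : P ((CochainComplex.singleFunctor C 0).obj S.X₃)) :
    P ((CochainComplex.singleFunctor C 0).obj S.X₁) :=
  h.ses₁ (hS.map_of_exact (HomologicalComplex.single C (ComplexShape.up ℤ) 0)) h₂ h₃

omit X Λ in
theorem single₂ (h : Tri P) {S : ShortComplex C} (hS : S.ShortExact)
    (h₁ : P ((CochainComplex.singleFunctor C 0).obj S.X₁))
    (h₃ : P ((CochainComplex.singleFunctor C 0).obj S.X₃)) :
    P ((CochainComplex.singleFunctor C 0).obj S.X₂) :=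
  h.ses₂ (hS.map_of_exact (HomologicalComplex.single C (ComplexShape.up ℤ) 0)) h₁ h₃

omit X Λ in
theorem single₃ (h : Tri P) {S : ShortComplex C} (hS : S.ShortExact)
    (h₁ : P ((CochainComplex.singleFunctor C 0).obj S.X₁))
    (h₂ : P ((CochainComplex.singleFunctor C 0).obj S.X₂)) :
    P ((CochainComplex.singleFunctor C 0).obj S.X₃) :=
  h.ses₃ (hS.map_of_exact (HomologicalComplex.single C (ComplexShape.up ℤ) 0)) h₁ h₂

/-- The short exact sequence `0 → ker f → F → im f → 0`. -/
theorem shortExact_kernel_image {F G : C} (f : F ⟶ G) :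
    (ShortComplex.mk (kernel.ι f) (Abelian.factorThruImage f)
      (by rw [← cancel_mono (Abelian.image.ι f)]; simp)).ShortExact :=
  { exact := by
      refine ShortComplex.exact_of_f_is_kernel _ ?_
      refine KernelFork.IsLimit.ofι' _ _ fun {W} k hk => ⟨kernel.lift f k ?_, kernel.lift_ι _ _ _⟩
      have hk' : k ≫ Abelian.factorThruImage f = 0 := hk
      rw [← Abelian.image.fac f, reassoc_of% hk', zero_comp]
    mono_f := by dsimp; infer_instance
    epi_g := by dsimp; infer_instance }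

/-- The short exact sequence `0 → im f → G → coker f → 0`. -/
theorem shortExact_image_cokernel {F G : C} (f : F ⟶ G) :
    (ShortComplex.mk (Abelian.image.ι f) (cokernel.π f) (by simp)).ShortExact :=
  { exact := by
      refine ShortComplex.exact_of_f_is_kernel _ ?_
      exact kernelIsKernel (cokernel.π f)
    mono_f := by dsimp; infer_instance
    epi_g := by dsimp; infer_instance }

omit X Λ in
/-- a morphism with `P`-kernel and `P`-cokernel detects `P` -/
theorem single_iff_of_hom (h : Tri P) {F G : C} (φ : F ⟶ G)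
    (hk : P ((CochainComplex.singleFunctor C 0).obj (kernel φ)))
    (hc : P ((CochainComplex.singleFunctor C 0).obj (cokernel φ))) :
    P ((CochainComplex.singleFunctor C 0).obj F) ↔ P ((CochainComplex.singleFunctor C 0).obj G) :=
  ⟨fun hF => single₂ h (shortExact_image_cokernel φ) (single₃ h (shortExact_kernel_image φ) hk hF) hc,
    fun hG => single₂ h (shortExact_kernel_image φ) hk (single₁ h (shortExact_image_cokernel φ) hG hc)⟩

end singles

end Groth.Agent.Sga4h.Dbc323
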