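import Groth.Agent.Etcore.LSpread
import Groth.Agent.Etcore.LFreePull
import Groth.Agent.Sga4h.LVanExact
import Groth.Agent.EtpbcA.Present
import Groth.Agent.EtpbcA.ConstrTop
import Groth.Agent.Sga4h.LamSerreFin
import Groth.Agent.Sga4h.BidWayOp
import Groth.Agent.Sga4h.Dbc323
import Mathlib.CategoryTheory.ObjectProperty.FiniteProducts
import Mathlib.CategoryTheory.ObjectProperty.Extensions

/-!
# Presentation of constructible sheaves of `Λ`-modules by finite sums of `Λ[U]`

* `exists_epi`: on a qcqs scheme a constructible sheaf of `Λ`-modules (`Λ` Noetherian) is a quotient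
  of a finite direct sum of sheaves `Λ[U]` with `U` étale over `X`, affine.
* `exists_shortExact`: on a Noetherian scheme, with constructible kernel.
* `quasiIso_single`, `quasiIso_of_LM`: a natural transformation of exact, way-out contravariant
  functors on complexes of sheaves of `Λ`-modules which is a quasi-isomorphism on `Λ[U]`, `U` affine
  étale, is a quasi-isomorphism on `D^b_c`.
-/

set_option autoImplicit false
universe u

open CategoryTheory CategoryTheory.Limits AlgebraicGeometry Opposite Topology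

namespace Groth.Agent.Sga4h.LamPres857

open Groth.Agent.Etbase Groth.Agent.Etcore Groth.Agent.EtpbcA Groth.Agent.Etcore.LVan
open Groth.Agent.Etcore.LFree Groth.Agent.Sga4h.LVanExact

attribute [local instance] Abelian.hasFiniteBiproducts

variable {Λ : Type (u + 1)} [CommRing Λ] {X : Scheme.{u}}

theorem surjAt_comp_of_surjective {F : EtModW.Mod Λ X} {M N : Type*} [AddCommGroup M] [Module Λ M]
    [AddCommGroup N] [Module Λ N] {U : X.Etale} {φ : M →ₗ[Λ] EtModW.sect Λ F U} {x : U.left}
    (h : SurjAt F φ x) (π : N →ₗ[Λ] M) (hπ : Function.Surjective π) :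
    SurjAt F (φ.comp π) x := by
  intro V g v hv t
  obtain ⟨m, hm⟩ := h V g v hv t
  obtain ⟨n, rfl⟩ := hπ m
  exact ⟨n, hm⟩

/-- Finitely many sections over an affine étale scheme generating a constructible sheaf along a
constructible set whose image contains a given point. -/
theorem exists_gens [IsNoetherianRing Λ] (F : EtModW.Mod Λ X) (hF : EtModW.IsConstructible Λ F)
    (x : X) :
    ∃ (U : X.Etale) (_ : IsAffine U.left) (C : Set U.left) (n : ℕ)
      (s : Fin n → EtModW.sect Λ F U), IsConstructible C ∧ x ∈ U.hom '' C ∧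
        ∀ c ∈ C, SurjAt F (Fintype.linearCombination Λ s) c := by
  obtain ⟨U, u, hu, M, i1, i2, i3, φ, hφ⟩ := LSpread.exists_good F hF x
  obtain ⟨W, hW, g, w, hw⟩ := Present.exists_affine_nhd U u
  obtain ⟨n, π, hπ⟩ := Module.Finite.exists_fin' Λ M
  let s : Fin n → EtModW.sect Λ F W := fun i => LVan.res F g (φ (π (Pi.single i 1)))
  have hs : Fintype.linearCombination Λ s = (resHom g φ).comp π := by
    refine LinearMap.pi_ext' fun i => LinearMap.ext_ring ?_
    simp [s, Fintype.linearCombination_apply_single]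
  refine ⟨W, hW, {c | SurjAt F (Fintype.linearCombination Λ s) c}, n, s, ?_, ⟨w, ?_, ?_⟩,
    fun c hc => hc⟩
  · have : CompactSpace W.left := inferInstance
    exact (LLocus.isLocallyConstructible_surjAt hF W _).isConstructible
  · change SurjAt F (Fintype.linearCombination Λ s) w
    rw [hs]
    refine surjAt_comp_of_surjective ?_ π hπ
    rw [surjAt_res_iff, hw]
    exact hφ.2
  · rw [← hu, ← hw]
    exact (Cover.hom_apply g w).symm

/-- The morphism from a finite sum of sheaves `Λ[U i]` attached to sections. -/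
noncomputable def mor {F : EtModW.Mod Λ X} {ι : Type} [Finite ι] (U : ι → X.Etale)
    (s : ∀ i, EtModW.sect Λ F (U i)) : (⨁ fun i => LM Λ (U i)) ⟶ F :=
  biproduct.desc fun i => desc (s i)

theorem ι_mor {F : EtModW.Mod Λ X} {ι : Type} [Finite ι] (U : ι → X.Etale)
    (s : ∀ i, EtModW.sect Λ F (U i)) (i : ι) :
    biproduct.ι (fun i => LM Λ (U i)) i ≫ mor U s = desc (s i) := biproduct.ι_desc _ _

theorem ev_mor {F : EtModW.Mod Λ X} {ι : Type} [Finite ι] (U : ι → X.Etale)
    (s : ∀ i, EtModW.sect Λ F (U i)) (i : ι) {V : X.Etale} (b : V ⟶ U i) :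
    ev (mor U s) V (ev (biproduct.ι (fun i => LM Λ (U i)) i) V
      (LVan.res _ b (gen Λ (U i)))) = LVan.res F b (s i) := by
  rw [← ev_comp, ι_mor, ← res_ev, desc_gen]

/-- On a qcqs scheme, a constructible sheaf of `Λ`-modules (`Λ` Noetherian) is a quotient of a finite
sum of sheaves `Λ[U]`, `U` affine étale. -/
theorem exists_epi [IsNoetherianRing Λ] [CompactSpace X] [QuasiSeparatedSpace X]
    (F : EtModW.Mod Λ X) (hF : EtModW.IsConstructible Λ F) :
    ∃ (n : ℕ) (U : Fin n → X.Etale) (_ : ∀ i, IsAffine (U i).left)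
      (s : ∀ i, EtModW.sect Λ F (U i)), Epi (mor U s) := by
  classical
  choose U hU C n s hC hx hs using exists_gens F hF
  let f : ∀ x, (U x).left ⟶ X := fun x => (U x).hom
  obtain ⟨t, ht⟩ := ConstrTop.finite_subcover (fun x => (U x).hom '' (C x))
    (fun x => by
      have := hU x
      have h0 : CompactSpace (U x).left := inferInstance
      have h1 : QuasiCompact (f x) := quasiCompact_of_compactSpace (X := (U x).left) (Y := X) _
      have h2 : AlgebraicGeometry.Etale (f x) := (U x).prop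
      exact ((f x).isLocallyConstructible_image (hC x).isLocallyConstructible).isConstructible)
    (Set.eq_univ_iff_forall.2 fun x => Set.mem_iUnion.2 ⟨x, hx x⟩)
  let I := Σ x : t, Fin (n x)
  obtain ⟨N, ⟨e⟩⟩ := Finite.exists_equiv_fin I
  refine ⟨N, fun i => U (e.symm i).1, fun i => hU _, fun i => s _ (e.symm i).2, ?_⟩
  apply epi_of_local
  intro T σ τ
  have h1 : T.hom τ ∈ ⋃ x ∈ t, (U x).hom '' (C x) := ht ▸ Set.mem_univ _
  simp only [Set.mem_iUnion] at h1
  obtain ⟨x, hxt, c, hc, hcτ⟩ := h1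
  obtain ⟨P, a, b, p, hap, hbp⟩ := exists_prod T (U x) τ c hcτ.symm
  obtain ⟨m, hm⟩ := hs x c hc P b p hbp (LVan.res F a σ)
  let idx : Fin (n x) → Fin N := fun j => e ⟨⟨x, hxt⟩, j⟩
  have hcast : ∀ j : Fin (n x), ∃ z : EtModW.sect Λ (⨁ fun i => LM Λ (U (e.symm i).1)) P,
      ev (mor (fun i => U (e.symm i).1) (fun i => s _ (e.symm i).2)) P z =
        LVan.res F b (s x j) := by
    intro j
    have h2 : ∀ q : I, q = e.symm (idx j) → ∀ b' : P ⟶ U q.1,
        ∃ z : EtModW.sect Λ (⨁ fun i => LM Λ (U (e.symm i).1)) P,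
        ev (mor (fun i => U (e.symm i).1) (fun i => s _ (e.symm i).2)) P z =
        LVan.res F b' (s q.1 q.2) := by
      rintro _ rfl b'
      exact ⟨_, ev_mor (fun i => U (e.symm i).1) (fun i => s _ (e.symm i).2) (idx j) b'⟩
    exact h2 ⟨⟨x, hxt⟩, j⟩ (e.symm_apply_apply _).symm b
  choose z hz using hcast
  refine ⟨P, a, p, ∑ j, m j • z j, hap, ?_⟩
  have h3 : ev (mor (fun i => U (e.symm i).1) (fun i => s _ (e.symm i).2)) P (∑ j, m j • z j) =
      LVan.res F b (Fintype.linearCombination Λ (s x) m) := by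
    rw [map_sum, Fintype.linearCombination_apply, map_sum]
    refine Finset.sum_congr rfl fun j _ => ?_
    rw [map_smul, hz, map_smul]
  rw [h3]
  exact hm.symm

/-- Finite sums of sheaves `Λ[U]`, `U` affine étale. -/
def FinLM (Λ : Type (u + 1)) [CommRing Λ] (X : Scheme.{u}) : ObjectProperty (EtModW.Mod Λ X) :=
  fun Z => ∃ (n : ℕ) (U : Fin n → X.Etale), (∀ i, IsAffine (U i).left) ∧
    Z = ⨁ fun i => LM Λ (U i)

/-- On a Noetherian scheme, constructible sheaves are quotients of finite sums of sheaves `Λ[U]`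
with constructible kernel. -/
theorem exists_shortExact [IsNoetherianRing Λ] [IsNoetherian X]
    (F : EtModW.Mod Λ X) (hF : EtModW.IsConstructible Λ F) :
    ∃ (Y Z : EtModW.Mod Λ X) (f : Y ⟶ Z) (g : Z ⟶ F) (w : f ≫ g = 0),
      (ShortComplex.mk f g w).ShortExact ∧ EtModW.IsConstructible Λ Y ∧ FinLM Λ X Z := by
  obtain ⟨n, U, hU, s, hs⟩ := exists_epi F hF
  refine ⟨kernel (mor U s), ⨁ fun i => LM Λ (U i), kernel.ι _, mor U s, kernel.condition _,
    { exact := ShortComplex.exact_of_f_is_kernel _ (kernelIsKernel _)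
      mono_f := inferInstance
      epi_g := hs }, ?_, n, U, hU, rfl⟩
  refine LamSerre.isConstructible_kernel _ (LamSerre.isConstructible_biproduct _ fun i => ?_)
  have := hU i
  exact LFreePull.isConstructible_LM_of_affine (U i)

section

variable {C : Type*} [Category* C] [Abelian C] (P : ObjectProperty C) [P.ContainsZero]
  [P.IsClosedUnderIsomorphisms] [P.IsClosedUnderExtensions]

omit [P.ContainsZero] in
theorem isClosedUnderBinaryProducts : P.IsClosedUnderBinaryProducts where
  limitsOfShape_le := by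
    rintro X ⟨p⟩
    have h1 := p.prop_diag_obj ⟨WalkingPair.left⟩
    have h2 := p.prop_diag_obj ⟨WalkingPair.right⟩
    let e : X ≅ (p.diag.obj ⟨WalkingPair.left⟩) ⊞ (p.diag.obj ⟨WalkingPair.right⟩) :=
      IsLimit.conePointsIsoOfNatIso p.isLimit (BinaryBiproduct.isLimit _ _)
        (diagramIsoPair p.diag)
    exact P.prop_of_iso e.symm (P.prop_biprod h1 h2)

theorem prop_biproduct {ι : Type} [Finite ι] (f : ι → C) (h : ∀ i, P (f i)) : P (⨁ f) := by
  have := isClosedUnderBinaryProducts P
  have := ObjectProperty.IsClosedUnderFiniteProducts.mk' (P := P)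
  exact P.prop_of_iso (biproduct.isoProduct f).symm (P.prop_product h)

end

section WayOut

open BidWayOp CochainComplex

attribute [local instance] HasDerivedCategory.standard

variable {D : Type*} [Category* D] [Abelian D]
  {F G : (CochainComplex (EtModW.Mod Λ X) ℤ)ᵒᵖ ⥤ CochainComplex D ℤ} [F.PreservesZeroMorphisms]
  [G.PreservesZeroMorphisms] (η : F ⟶ G)

/-- Sheaves on which `η` is a quasi-isomorphism. -/
def goodP : ObjectProperty (EtModW.Mod Λ X) :=
  fun M => QuasiIso (η.app (op ((CochainComplex.singleFunctor (EtModW.Mod Λ X) 0).obj M)))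

theorem goodP_containsZero : (goodP η).ContainsZero := by
  obtain ⟨Z, hZ⟩ : ∃ Z : EtModW.Mod Λ X, IsZero Z := HasZeroObject.zero
  refine ⟨Z, hZ, ?_⟩
  have h0 := (CochainComplex.singleFunctor (EtModW.Mod Λ X) 0).map_isZero hZ
  have h1 := F.map_isZero h0.op
  have h2 := G.map_isZero h0.op
  have : IsIso (η.app (op ((CochainComplex.singleFunctor (EtModW.Mod Λ X) 0).obj Z))) :=
    ⟨0, h1.eq_of_src _ _, h2.eq_of_src _ _⟩
  change QuasiIso (η.app (op ((CochainComplex.singleFunctor (EtModW.Mod Λ X) 0).obj Z)))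
  infer_instance

omit [F.PreservesZeroMorphisms] [G.PreservesZeroMorphisms] in
theorem goodP_iso (hF' : QisOp F) (hG' : QisOp G) : (goodP η).IsClosedUnderIsomorphisms :=
  ⟨fun e h => (quasiIso_congr η hF' hG'
    ((CochainComplex.singleFunctor (EtModW.Mod Λ X) 0).mapIso e).hom inferInstance).1 h⟩

theorem goodP_ext (hF : ExactOp F) (hG : ExactOp G) : (goodP η).IsClosedUnderExtensions :=
  ⟨fun hS h₁ h₃ => quasiIso_X₂ η hF hG (BidWay.single_shortExact hS 0) h₁ h₃⟩

/-- Way-out lemma for a constructible sheaf in degree `0`. -/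
theorem quasiIso_single [IsNoetherianRing Λ] [IsNoetherian X]
    (hF : ExactOp F) (hG : ExactOp G) (hF' : QisOp F) (hG' : QisOp G) (N : ℤ)
    (hFN : ∀ M, EtModW.IsConstructible Λ M →
      (F.obj (op ((CochainComplex.singleFunctor (EtModW.Mod Λ X) 0).obj M))).IsGE N)
    (hGN : ∀ M, EtModW.IsConstructible Λ M →
      (G.obj (op ((CochainComplex.singleFunctor (EtModW.Mod Λ X) 0).obj M))).IsGE N)
    (h : ∀ U : X.Etale, IsAffine U.left →
      QuasiIso (η.app (op ((CochainComplex.singleFunctor (EtModW.Mod Λ X) 0).obj (LM Λ U)))))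
    (M : EtModW.Mod Λ X) (hM : EtModW.IsConstructible Λ M) :
    QuasiIso (η.app (op ((CochainComplex.singleFunctor (EtModW.Mod Λ X) 0).obj M))) := by
  have i1 := goodP_containsZero η
  have i2 := goodP_iso η hF' hG'
  have i3 := goodP_ext η hF hG
  refine quasiIso_of_resolution η hF hG (FinLM Λ X) (fun M => EtModW.IsConstructible Λ M) ?_
    (fun M hM => exists_shortExact M hM) N hFN hGN M hM
  rintro _ ⟨n, U, hU, rfl⟩
  exact prop_biproduct (goodP η) (fun i => LM Λ (U i)) fun i => h (U i) (hU i)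

/-- Way-out lemma on `D^b_c`. -/
theorem quasiIso_of_LM [IsNoetherianRing Λ] [IsNoetherian X]
    (hF : ExactOp F) (hG : ExactOp G) (hF' : QisOp F) (hG' : QisOp G) (N : ℤ)
    (hFN : ∀ M, EtModW.IsConstructible Λ M →
      (F.obj (op ((CochainComplex.singleFunctor (EtModW.Mod Λ X) 0).obj M))).IsGE N)
    (hGN : ∀ M, EtModW.IsConstructible Λ M →
      (G.obj (op ((CochainComplex.singleFunctor (EtModW.Mod Λ X) 0).obj M))).IsGE N)
    (h : ∀ U : X.Etale, IsAffine U.left →
      QuasiIso (η.app (op ((CochainComplex.singleFunctor (EtModW.Mod Λ X) 0).obj (LM Λ U)))))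
    (E : CochainComplex (EtModW.Mod Λ X) ℤ) (hE : EtModD.IsDbc (DerivedCategory.Q.obj E)) :
    QuasiIso (η.app (op E)) := by
  obtain ⟨⟨a, b, ha, hb⟩, hc⟩ := (Dbc323.isDbc_Q_iff E).1 hE
  exact quasiIso_of_homology η hF hG hF' hG' E a b fun i =>
    quasiIso_single η hF hG hF' hG' N hFN hGN h _ (hc i)

end WayOut

end Groth.Agent.Sga4h.LamPres857
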