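import Groth.Agent.Sga4h.BidGlobUH

/-!
# `SheafDual` for iterated projective lines over separably closed fields

The input `hSD` of `BidFinal48.hP_of`.
-/

set_option autoImplicit false
universe u

open CategoryTheory CategoryTheory.Limits CategoryTheory.Abelian AlgebraicGeometry Opposite

namespace Groth.Agent.Sga4h.BidGlobSD

open Groth.Agent.Sga4h.BidGlobDual Groth.Agent.Sga4h.BidGlobPkg Groth.Agent.Sga4h.BidGeoIt
open Groth.Agent.Sga4B

/-- The separably closed case from the algebraically closed case. -/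
theorem hSD_of {m : ℕ}
    (h : ∀ (k : Type u) [Field k] [IsAlgClosed k], (m : k) ≠ 0 → ∀ d : ℕ, ∃ (tr : Ext.{u + 1}
      (cM (LMLS.Lam.{u} m) (IterP1.P (Spec (CommRingCat.of k)) d))
      (cM (LMLS.Lam.{u} m) (IterP1.P (Spec (CommRingCat.of k)) d)) (2 * d) →+ ZMod m), SheafDual m tr) :
    ∀ (k : Type u) [Field k] [IsSepClosed k], (m : k) ≠ 0 → ∀ d : ℕ, ∃ (N : ℕ)
      (tr : Ext.{u + 1} (EtModW.constMod (ULift.{u + 1} (ZMod m)) (It (Spec (CommRingCat.of k)) (d + 1)) (ULift.{u + 1} (ZMod m)))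
        (EtModW.constMod (ULift.{u + 1} (ZMod m)) (It (Spec (CommRingCat.of k)) (d + 1)) (ULift.{u + 1} (ZMod m))) N →+ ZMod m),
      SheafDual m tr := by
  intro k _ _ hk d
  have hk' : (m : AlgebraicClosure k) ≠ 0 := by
    intro h0
    apply hk
    apply (algebraMap k (AlgebraicClosure k)).injective
    rw [map_natCast, h0, map_zero]
  obtain ⟨tr, B⟩ := BidGlobUH.exists_sheafDual_P (LMLS.Lam.{u} m) k (d + 1) _ m
    (h (AlgebraicClosure k) hk' (d + 1))
  exact ⟨_, tr, B⟩

end Groth.Agent.Sga4h.BidGlobSD
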