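import Groth.Agent.Sga4h.BidEtCmp

/-!
# Reflexivity with respect to an object, abstract form

`ReflZ S L K`: `K` is reflexive with respect to `Hom•(-, J)` for a K-injective termwise injective resolution
`L ⟶ J` (equivalently for all of them: `ReflZ.iff`).  KERNEL SPEED: do not make an étale specific definition
out of this, the kernel unfolds functors when it compares abstracted instance proofs.
-/

set_option autoImplicit false
set_option linter.unusedSectionVars false
set_option backward.defeqAttrib.useBackward true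
set_option backward.isDefEq.respectTransparency false

universe v₁ v₂ u₁ u₂

namespace Groth.Agent.Sga4h.BidEtZ

open CategoryTheory Category Limits HomologicalComplex CochainComplex Opposite
open Groth.Agent.Dcoh.DerAdj Groth.Agent.Sga4h.DualCx Groth.Agent.PerfC Groth.Agent.Sga4h.BidCmp
open Groth.Agent.Sga4h.BidEtCx Groth.Agent.Sga4h.HomCx Groth.Agent.Dcoh.CxFun
open Groth.Agent.Sga4h.Refl Groth.Agent.Sga4h.DualSelf Groth.Agent.Sga4h.BidEtCmp

variable {C : Type u₁} [Category.{v₁} C] [Abelian C] {T : C ⥤ C ⥤ C} [T.Additive] [∀ X, (T.obj X).Additive]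
  [∀ (K₁ K₂ : CochainComplex C ℤ), CochainComplex.HasMapBifunctor K₁ K₂ T]
  [∀ E : CochainComplex C ℤ, (T.map₂CochainComplex.flip.obj E).IsLeftAdjoint]

/-- `K` is reflexive with respect to `L`. -/
def ReflZ (S : SymmData T) (L K : CochainComplex C ℤ) : Prop :=
  ∃ A : DualData T, A.S = S ∧ ∃ i : L ⟶ A.J, QuasiIso i ∧ A.Refl K

variable [∀ (J : Type), HasColimitsOfShape (Discrete J) C]
  [∀ (J : Type), (colim : (Discrete J ⥤ C) ⥤ C).PreservesMonomorphisms]

theorem ReflZ.iff {S : SymmData T} {L : CochainComplex C ℤ} (A : DualData T) (hS : A.S = S) (i : L ⟶ A.J)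
    (hi : QuasiIso i) (K : CochainComplex C ℤ) : ReflZ S L K ↔ A.Refl K := by
  constructor
  · rintro ⟨A₁, hS₁, i₁, hi₁, h⟩
    exact (refl_iff_of_resolution A₁ A (hS₁.trans hS.symm) i₁ i K).1 h
  · intro h
    exact ⟨A, hS, i, hi, h⟩

theorem ReflZ.of_quasiIso {S : SymmData T} {L K K' : CochainComplex C ℤ} (f : K ⟶ K') (hf : QuasiIso f)
    (h : ReflZ S L K) : ReflZ S L K' := by
  obtain ⟨A, hS, i, hi, h⟩ := h
  exact ⟨A, hS, i, hi, (A.refl_iff_of_quasiIso f).1 h⟩

theorem ReflZ.of_quasiIso' {S : SymmData T} {L K K' : CochainComplex C ℤ} (f : K ⟶ K') (hf : QuasiIso f)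
    (h : ReflZ S L K') : ReflZ S L K := by
  obtain ⟨A, hS, i, hi, h⟩ := h
  exact ⟨A, hS, i, hi, (A.refl_iff_of_quasiIso f).2 h⟩

theorem ReflZ.iff_of_quasiIso {S : SymmData T} {L K K' : CochainComplex C ℤ} (f : K ⟶ K') (hf : QuasiIso f) :
    ReflZ S L K ↔ ReflZ S L K' :=
  ⟨ReflZ.of_quasiIso f hf, ReflZ.of_quasiIso' f hf⟩

theorem ReflZ.of_retract {S : SymmData T} {L K K' : CochainComplex C ℤ} (i : K ⟶ K') (r : K' ⟶ K)
    (h : i ≫ r = 𝟙 K) (hK : ReflZ S L K') : ReflZ S L K := by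
  obtain ⟨A, hS, j, hj, h'⟩ := hK
  exact ⟨A, hS, j, hj, A.refl_of_retract i r h h'⟩

/-- Independence of the complex `L` up to quasi-isomorphism (`L ⟶ L'`). -/
theorem ReflZ.of_quasiIso_left {S : SymmData T} {L L' K : CochainComplex C ℤ} (f : L ⟶ L') (hf : QuasiIso f)
    (h : ReflZ S L' K) : ReflZ S L K := by
  obtain ⟨A, hS, i, hi, h⟩ := h
  exact ⟨A, hS, f ≫ i, inferInstance, h⟩

section Map

variable {C' : Type u₂} [Category.{v₂} C'] [Abelian C'] {T' : C' ⥤ C' ⥤ C'} [T'.Additive] [∀ X, (T'.obj X).Additive]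
  [∀ (K₁ K₂ : CochainComplex C' ℤ), CochainComplex.HasMapBifunctor K₁ K₂ T']
  [∀ E : CochainComplex C' ℤ, (T'.map₂CochainComplex.flip.obj E).IsLeftAdjoint]
  [∀ (J : Type), HasColimitsOfShape (Discrete J) C']
  [∀ (J : Type), (colim : (Discrete J ⥤ C') ⥤ C').PreservesMonomorphisms]
  {R : C ⥤ C'} [R.Additive] [PreservesFiniteLimits R] [PreservesFiniteColimits R]
  (τ : R ⋙ T' ⋙ (Functor.whiskeringLeft _ _ _).obj R ⟶ T ⋙ (Functor.whiskeringRight _ _ _).obj R)
  {S : SymmData T} {S' : SymmData T'}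
  (hσ : ∀ a b : C, (S'.σ (R.obj a) (R.obj b)).hom ≫ CxNat.comp τ a b =
    CxNat.comp τ b a ≫ R.map (S.σ a b).hom)
  (hcmp : ∀ (J : CochainComplex C ℤ) (J' : CochainComplex C' ℤ), J.IsKInjective → J'.IsKInjective →
    ∀ (f : (R.mapHomologicalComplex (ComplexShape.up ℤ)).obj J ⟶ J'), QuasiIso f →
      ∀ E : CochainComplex C ℤ, QuasiIso (BidCmp.cmp τ f E))

include hσ hcmp in
/-- `R (ev K)` is a quasi-isomorphism iff `R K` is reflexive. -/
theorem quasiIso_map_ev_iff (A : DualData T) (hS : A.S = S) {L : CochainComplex C ℤ} (i : L ⟶ A.J)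
    (hi : QuasiIso i) (A' : DualData T') (hS' : A'.S = S') {L' : CochainComplex C' ℤ} (i' : L' ⟶ A'.J)
    (hi' : QuasiIso i') (e : (R.mapHomologicalComplex (ComplexShape.up ℤ)).obj L ⟶ L') (he : QuasiIso e)
    (K : CochainComplex C ℤ) :
    QuasiIso ((R.mapHomologicalComplex (ComplexShape.up ℤ)).map (A.ev K)) ↔
      A'.Refl ((R.mapHomologicalComplex (ComplexShape.up ℤ)).obj K) := by
  subst hS hS'
  have := A'.kinj
  obtain ⟨j, hj⟩ := exists_quasiIso_of_resolution ((R.mapHomologicalComplex (ComplexShape.up ℤ)).map i) (e ≫ i')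
  exact BidEtCmp.quasiIso_map_ev_iff τ A A' hσ j K (hcmp _ _ A.kinj A'.kinj j hj K)
    (hcmp _ _ A.kinj A'.kinj j hj (A.D K))

include hσ hcmp in
/-- The image of a reflexive complex is reflexive. -/
theorem refl_map (A : DualData T) (hS : A.S = S) {L : CochainComplex C ℤ} (i : L ⟶ A.J)
    (hi : QuasiIso i) (A' : DualData T') (hS' : A'.S = S') {L' : CochainComplex C' ℤ} (i' : L' ⟶ A'.J)
    (hi' : QuasiIso i') (e : (R.mapHomologicalComplex (ComplexShape.up ℤ)).obj L ⟶ L') (he : QuasiIso e)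
    (K : CochainComplex C ℤ) (hK : A.Refl K) :
    A'.Refl ((R.mapHomologicalComplex (ComplexShape.up ℤ)).obj K) := by
  rw [← quasiIso_map_ev_iff τ hσ hcmp A hS i hi A' hS' i' hi' e he]
  have := hK.qis
  infer_instance

end Map

end Groth.Agent.Sga4h.BidEtZ
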