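import Groth.Agent.Sga4h.BidEtLoc
import Groth.Agent.Sga4h.BidEtZ

/-!
# Reflexive complexes of sheaves of modules are local for the etale topology

`A : DualData (EtModD.tensorBi Λ X)` with `A.S = symmEt Λ X` and a quasi-isomorphism `Λ[0] ⟶ A.J`.
* `reflZ_iff`: `ReflZ (symmEt Λ X) Λ[0] K ↔ A.Refl K`;
* `exists_dualData`;
* `quasiIso_res_ev_iff`: for `u : U ⟶ X` etale `u^* (A.ev K)` is a quasi-isomorphism iff `u^* K` is reflexive;
* `refl_res`: `u^*` of a reflexive complex is reflexive;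
* `refl_of_cover`: reflexivity is etale local.
-/

set_option autoImplicit false
universe u
open CategoryTheory CategoryTheory.Limits AlgebraicGeometry Opposite

attribute [local instance 5000] CategoryTheory.Abelian.toPreadditive
  CategoryTheory.Preadditive.preadditiveHasZeroMorphisms

namespace Groth.Agent.Sga4h.BidEtRefl

open scoped Groth.Agent.Sga4h.ModInst
open Groth.Agent.Sga4h.ModDTensor Groth.Agent.Sga4h.BidEtSh Groth.Agent.Sga4h.Refl Groth.Agent.Sga4h.DualEt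
open Groth.Agent.Sga4h.BidEtMod Groth.Agent.Sga4h.BidEtLoc Groth.Agent.Sga4h.BidEtZ

variable {Λ : Type (u + 1)} [CommRing Λ] {X : Scheme.{u}}

/-- Existence of duality data. -/
theorem exists_dualData (L : CochainComplex (EtModW.Mod Λ X) ℤ) :
    ∃ (A : DualData (EtModD.tensorBi Λ X)) (_ : A.S = symmEt Λ X) (i : L ⟶ A.J), QuasiIso i := by
  obtain ⟨J, i, hJ, hJ', hi, -⟩ := exists_kInj L
  exact ⟨dualData J hJ hJ', rfl, i, hi⟩

/-- Reflexivity is independent of the resolution. -/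
theorem reflZ_iff (A : DualData (EtModD.tensorBi Λ X)) (hA : A.S = symmEt Λ X)
    {L : CochainComplex (EtModW.Mod Λ X) ℤ} (i : L ⟶ A.J) (hi : QuasiIso i)
    (K : CochainComplex (EtModW.Mod Λ X) ℤ) : ReflZ (symmEt Λ X) L K ↔ A.Refl K :=
  ReflZ.iff A hA i hi K

/-- Reflexivity is independent of the resolution. -/
theorem refl_iff_of_resolution (A A' : DualData (EtModD.tensorBi Λ X)) (hA : A.S = symmEt Λ X)
    (hA' : A'.S = symmEt Λ X) {L : CochainComplex (EtModW.Mod Λ X) ℤ} (i : L ⟶ A.J) (hi : QuasiIso i)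
    (i' : L ⟶ A'.J) (hi' : QuasiIso i')
    (K : CochainComplex (EtModW.Mod Λ X) ℤ) : A.Refl K ↔ A'.Refl K :=
  BidEtCmp.refl_iff_of_resolution A A' (hA.trans hA'.symm) i i' K

section Res

variable {U : Scheme.{u}} (u : U ⟶ X) [AlgebraicGeometry.Etale u]

/-- The restriction of the constant sheaf. -/
theorem exists_quasiIso_const :
    ∃ e : ((resM Λ u).mapHomologicalComplex (ComplexShape.up ℤ)).obj
      ((CochainComplex.singleFunctor (EtModW.Mod Λ X) 0).obj (EtModW.constMod Λ X Λ)) ⟶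
      (CochainComplex.singleFunctor (EtModW.Mod Λ U) 0).obj (EtModW.constMod Λ U Λ), QuasiIso e := by
  let e : ((resM Λ u).mapHomologicalComplex (ComplexShape.up ℤ)).obj
      ((CochainComplex.singleFunctor (EtModW.Mod Λ X) 0).obj (EtModW.constMod Λ X Λ)) ≅
      (CochainComplex.singleFunctor (EtModW.Mod Λ U) 0).obj (EtModW.constMod Λ U Λ) :=
    ((HomologicalComplex.singleMapHomologicalComplex (resM Λ u) (ComplexShape.up ℤ) 0).app
      (EtModW.constMod Λ X Λ)) ≪≫
      (CochainComplex.singleFunctor (EtModW.Mod Λ U) 0).mapIso (constResM Λ u Λ)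
  exact ⟨e.hom, inferInstance⟩

theorem tauM_symm' (a b : EtModW.Mod Λ X) :
    ((symmEt Λ U).σ ((resM Λ u).obj a) ((resM Λ u).obj b)).hom ≫
      Groth.Agent.PerfC.CxNat.comp (F := EtModD.tensorBi Λ X) (F' := EtModD.tensorBi Λ U) (tauM Λ u) a b =
    Groth.Agent.PerfC.CxNat.comp (F := EtModD.tensorBi Λ X) (F' := EtModD.tensorBi Λ U) (tauM Λ u) b a ≫
      (resM Λ u).map ((symmEt Λ X).σ a b).hom :=
  tauM_symm Λ u b a

theorem quasiIso_cmp' (J : CochainComplex (EtModW.Mod Λ X) ℤ) (J' : CochainComplex (EtModW.Mod Λ U) ℤ)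
    (_ : J.IsKInjective) (_ : J'.IsKInjective)
    (f : ((resM Λ u).mapHomologicalComplex (ComplexShape.up ℤ)).obj J ⟶ J') (_ : QuasiIso f)
    (E : CochainComplex (EtModW.Mod Λ X) ℤ) : QuasiIso (BidCmp.cmp (tauM Λ u) f E) :=
  quasiIso_cmp Λ u f E

/-- `u^* (ev K)` is a quasi-isomorphism iff `u^* K` is reflexive. -/
theorem quasiIso_res_ev_iff (A : DualData (EtModD.tensorBi Λ X)) (hA : A.S = symmEt Λ X)
    (i : (CochainComplex.singleFunctor (EtModW.Mod Λ X) 0).obj (EtModW.constMod Λ X Λ) ⟶ A.J)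
    (hi : QuasiIso i) (A' : DualData (EtModD.tensorBi Λ U)) (hA' : A'.S = symmEt Λ U)
    (i' : (CochainComplex.singleFunctor (EtModW.Mod Λ U) 0).obj (EtModW.constMod Λ U Λ) ⟶ A'.J)
    (hi' : QuasiIso i') (K : CochainComplex (EtModW.Mod Λ X) ℤ) :
    QuasiIso (((resM Λ u).mapHomologicalComplex (ComplexShape.up ℤ)).map (A.ev K)) ↔
      A'.Refl (((resM Λ u).mapHomologicalComplex (ComplexShape.up ℤ)).obj K) := by
  obtain ⟨e, he⟩ := exists_quasiIso_const (Λ := Λ) u
  exact BidEtZ.quasiIso_map_ev_iff (S := symmEt Λ X) (S' := symmEt Λ U) (tauM Λ u) (tauM_symm' u)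
    (quasiIso_cmp' u) A hA i hi A' hA' i' hi' e he K

/-- The restriction of a reflexive complex is reflexive. -/
theorem refl_res (A : DualData (EtModD.tensorBi Λ X)) (hA : A.S = symmEt Λ X)
    (i : (CochainComplex.singleFunctor (EtModW.Mod Λ X) 0).obj (EtModW.constMod Λ X Λ) ⟶ A.J)
    (hi : QuasiIso i) (A' : DualData (EtModD.tensorBi Λ U)) (hA' : A'.S = symmEt Λ U)
    (i' : (CochainComplex.singleFunctor (EtModW.Mod Λ U) 0).obj (EtModW.constMod Λ U Λ) ⟶ A'.J)
    (hi' : QuasiIso i') (K : CochainComplex (EtModW.Mod Λ X) ℤ) (hK : A.Refl K) :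
    A'.Refl (((resM Λ u).mapHomologicalComplex (ComplexShape.up ℤ)).obj K) := by
  obtain ⟨e, he⟩ := exists_quasiIso_const (Λ := Λ) u
  exact BidEtZ.refl_map (S := symmEt Λ X) (S' := symmEt Λ U) (tauM Λ u) (tauM_symm' u)
    (quasiIso_cmp' u) A hA i hi A' hA' i' hi' e he K hK

end Res

/-- Reflexivity is etale local. -/
theorem refl_of_cover {ι : Type*} {U : ι → Scheme.{u}} (u : ∀ i, U i ⟶ X)
    [∀ i, AlgebraicGeometry.Etale (u i)] (hu : ∀ x : X, ∃ (i : ι) (y : U i), u i y = x)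
    (A : DualData (EtModD.tensorBi Λ X)) (hA : A.S = symmEt Λ X)
    (i : (CochainComplex.singleFunctor (EtModW.Mod Λ X) 0).obj (EtModW.constMod Λ X Λ) ⟶ A.J)
    (hi : QuasiIso i)
    (K : CochainComplex (EtModW.Mod Λ X) ℤ)
    (h : ∀ a, ∃ (A' : DualData (EtModD.tensorBi Λ (U a))) (_ : A'.S = symmEt Λ (U a))
      (i' : (CochainComplex.singleFunctor (EtModW.Mod Λ (U a)) 0).obj (EtModW.constMod Λ (U a) Λ) ⟶ A'.J),
      QuasiIso i' ∧ A'.Refl (((resM Λ (u a)).mapHomologicalComplex (ComplexShape.up ℤ)).obj K)) :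
    A.Refl K := by
  refine ⟨?_⟩
  exact quasiIso_of_res u hu _ (fun a => by
    obtain ⟨A', hA', i', hi', h'⟩ := h a
    exact (quasiIso_res_ev_iff (u a) A hA i hi A' hA' i' hi' K).2 h')

end Groth.Agent.Sga4h.BidEtRefl
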