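import Groth.Agent.Sga4h.BidRed538Main
import Groth.Agent.Sga4h.BidEtRefl

/-!
# Reflexivity and étale morphisms for the standard duality data
-/

set_option autoImplicit false

universe u

open CategoryTheory CategoryTheory.Limits AlgebraicGeometry

attribute [local instance 5000] CategoryTheory.Abelian.toPreadditive
  CategoryTheory.Preadditive.preadditiveHasZeroMorphisms

namespace Groth.Agent.Sga4h.BidRed538Et

open scoped Groth.Agent.Sga4h.ModInst
open Groth.Agent.Sga4h.Refl Groth.Agent.Sga4h.ModRestr Groth.Agent.Sga4h.BidRed538Asm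
open Groth.Agent.Sga4h.BidRed538Main

variable (Λ : Type (u + 1)) [CommRing Λ]

theorem res_eq {V X : Scheme.{u}} (j : V ⟶ X) [Etale j] : res Λ j = BidEtSh.resM Λ j := rfl

/-- Reflexivity is stable under restriction and étale local. -/
theorem etRefl : EtRefl (stdDual Λ) where
  res {V X} j _ E h := BidEtRefl.refl_res j (stdDual Λ X) rfl (stdι Λ X) (quasiIso_stdι Λ X)
    (stdDual Λ V) rfl (stdι Λ V) (quasiIso_stdι Λ V) E h
  loc {X ι} V j _ hj E h := BidEtRefl.refl_of_cover j
    (fun x => by
      obtain ⟨i, y, hy⟩ := hj x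
      exact ⟨i, y, hy⟩)
    (stdDual Λ X) rfl (stdι Λ X) (quasiIso_stdι Λ X) E
    (fun a => ⟨stdDual Λ (V a), rfl, stdι Λ (V a), quasiIso_stdι Λ (V a), h a⟩)

end Groth.Agent.Sga4h.BidRed538Et
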