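import Groth.Agent.Sga4h.ModRestr
import Groth.Agent.Etcore.ShriekToPush
import Groth.Agent.Etcore.LVan

/-!
# `F` is a direct summand of `j^* j_! F` for `j` étale and separated (sheaves of modules)

`sigmaM j F : F ⟶ j^* j_* F`: extension by zero from the graph.
-/

set_option autoImplicit false
universe u
open CategoryTheory CategoryTheory.Limits AlgebraicGeometry Opposite

namespace Groth.Agent.Sga4h.BidRed538Retr

open Groth.Agent.Sga4h.ModRestr Groth.Agent.Etcore.ShriekToPush Groth.Agent.Etcore.ClopenExt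
  Groth.Agent.Etcore.LVan

variable {Λ : Type (u + 1)} [CommRing Λ] {U X : Scheme.{u}} (j : U ⟶ X) [hj : AlgebraicGeometry.Etale j]
  [IsSeparated j]

attribute [local instance] Groth.Agent.Sga4h.EtaleRes.jCont

/-- Extension by zero from the graph, as a linear map. -/
noncomputable def extLin (F : EtModW.Mod Λ U) (V : U.Etale) :
    EtModW.sect Λ F V →ₗ[Λ] EtModW.sect Λ F ((EtCoh.bc j).obj ((EtShriek.compEtale j).obj V)) where
  toFun s := extHom (ab F) (gr j V) (isClopen_gr j V) (toAb F s)
  map_add' s t := map_add (extHom (ab F) (gr j V) (isClopen_gr j V)) (toAb F s) (toAb F t)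
  map_smul' c s := by
    refine ext_unique (ab F) (gr j V) (isClopen_gr j V) _ _ ?_ ?_
    · refine (map_extHom (ab F) (gr j V) (isClopen_gr j V) (toAb F (c • s))).trans ?_
      refine Eq.trans ?_ (map_smul (res F (gr j V)) c
        (show EtModW.sect Λ F _ from extHom (ab F) (gr j V) (isClopen_gr j V) (toAb F s))).symm
      exact congrArg (fun t : EtModW.sect Λ F V => c • t)
        (map_extHom (ab F) (gr j V) (isClopen_gr j V) (toAb F s)).symm
    · intro W g hd
      refine (map_extHom_of_disjoint (ab F) (gr j V) (isClopen_gr j V) (toAb F (c • s)) g hd).trans ?_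
      refine Eq.trans ?_ (map_smul (res F g) c
        (show EtModW.sect Λ F _ from extHom (ab F) (gr j V) (isClopen_gr j V) (toAb F s))).symm
      have h := map_extHom_of_disjoint (ab F) (gr j V) (isClopen_gr j V) (toAb F s) g hd
      exact (smul_zero (A := EtModW.sect Λ F W) c).symm.trans
        (congrArg (fun t : EtModW.sect Λ F W => c • t) h.symm)

/-- The natural map `F ⟶ j^* j_* F`. -/
noncomputable def sigmaM (F : EtModW.Mod Λ U) : F ⟶ (ModRestr.res Λ j).obj ((EtModW.push Λ j).obj F) :=
  ⟨{ app := fun V => ModuleCat.ofHom (extLin j F V.unop)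
     naturality := fun V W f => by
       ext s
       exact (map_extHom_gr j (ab F) f.unop (toAb F s)).symm }⟩

/-- `sigmaM` is a section of the counit. -/
theorem sigmaM_counit (F : EtModW.Mod Λ U) : sigmaM j F ≫ (resPushAdj Λ j).counit.app F = 𝟙 F := by
  ext V s
  exact map_extHom (ab F) (gr j V.unop) (isClopen_gr j V.unop) (toAb F s)

/-- `F` is a direct summand of `j^* j_! F`. -/
theorem exists_retract (F : EtModW.Mod Λ U) :
    ∃ (i : F ⟶ (ModRestr.res Λ j).obj ((ext Λ j).obj F)) (r : (ModRestr.res Λ j).obj ((ext Λ j).obj F) ⟶ F),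
      i ≫ r = 𝟙 F := by
  refine ⟨(extResAdj Λ j).unit.app F, (ModRestr.res Λ j).map (((extResAdj Λ j).homEquiv _ _).symm (sigmaM j F)) ≫
    (resPushAdj Λ j).counit.app F, ?_⟩
  have h : (extResAdj Λ j).unit.app F ≫ (ModRestr.res Λ j).map (((extResAdj Λ j).homEquiv _ _).symm (sigmaM j F)) =
      sigmaM j F := by
    refine (Adjunction.homEquiv_unit (extResAdj Λ j) _ _ _).symm.trans ?_
    exact Equiv.apply_symm_apply _ _
  rw [reassoc_of% h, sigmaM_counit]

end Groth.Agent.Sga4h.BidRed538Retr
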