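import Mathlib.LinearAlgebra.Determinant
import Mathlib.LinearAlgebra.Matrix.SchurComplement
import Mathlib.LinearAlgebra.FreeModule.Finite.Basic
import Mathlib.Algebra.BigOperators.Finprod
import Mathlib.Algebra.Group.Int.Even
import Mathlib.RingTheory.TensorProduct.Basic
import Mathlib.RingTheory.TensorProduct.Free
import Mathlib.RingTheory.TensorProduct.Finite
import Mathlib.Algebra.Polynomial.Basic
import Mathlib.Order.Interval.Finset.Defs
import Mathlib.Data.Int.Interval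

/-!
# Determinants of endomorphisms of contractible complexes of finite free modules
-/

set_option autoImplicit false

open TensorProduct Polynomial

namespace Groth.Agent.Sga4h.DetComplex

universe u v w

section Sylvester

variable {R : Type u} [CommRing R] {M : Type v} {N : Type w} [AddCommGroup M] [Module R M]
  [AddCommGroup N] [Module R N] [Module.Finite R M] [Module.Free R M] [Module.Finite R N]
  [Module.Free R N]

/-- Sylvester's identity `det (1 + g f) = det (1 + f g)` for linear maps. -/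
theorem det_one_add_comp_comm (f : M →ₗ[R] N) (g : N →ₗ[R] M) :
    LinearMap.det (LinearMap.id + g ∘ₗ f) = LinearMap.det (LinearMap.id + f ∘ₗ g) := by
  classical
  let bM := Module.Free.chooseBasis R M
  let bN := Module.Free.chooseBasis R N
  rw [← LinearMap.det_toMatrix bM, ← LinearMap.det_toMatrix bN, map_add, map_add,
    LinearMap.toMatrix_id, LinearMap.toMatrix_id, LinearMap.toMatrix_comp bM bN bM,
    LinearMap.toMatrix_comp bN bM bN, Matrix.det_one_add_mul_comm]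

end Sylvester

section Block

variable {R : Type*} [CommRing R] {M M₁ M₂ : Type*} [AddCommGroup M] [Module R M]
  [AddCommGroup M₁] [Module R M₁] [AddCommGroup M₂] [Module R M₂]
  [Module.Finite R M] [Module.Free R M] [Module.Finite R M₁] [Module.Free R M₁]
  [Module.Finite R M₂] [Module.Free R M₂]

/-- Determinant of a block triangular endomorphism. -/
theorem det_block (i₁ : M₁ →ₗ[R] M) (p₁ : M →ₗ[R] M₁) (i₂ : M₂ →ₗ[R] M) (p₂ : M →ₗ[R] M₂)
    (h11 : p₁ ∘ₗ i₁ = LinearMap.id) (h22 : p₂ ∘ₗ i₂ = LinearMap.id) (h21 : p₂ ∘ₗ i₁ = 0)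
    (h12 : p₁ ∘ₗ i₂ = 0) (hid : i₁ ∘ₗ p₁ + i₂ ∘ₗ p₂ = LinearMap.id) (φ : M →ₗ[R] M)
    (hφ : p₂ ∘ₗ φ ∘ₗ i₁ = 0) :
    LinearMap.det φ = LinearMap.det (p₁ ∘ₗ φ ∘ₗ i₁) * LinearMap.det (p₂ ∘ₗ φ ∘ₗ i₂) := by
  have h11' : ∀ x, p₁ (i₁ x) = x := fun x => LinearMap.congr_fun h11 x
  have h22' : ∀ x, p₂ (i₂ x) = x := fun x => LinearMap.congr_fun h22 x
  have h21' : ∀ x, p₂ (i₁ x) = 0 := fun x => LinearMap.congr_fun h21 x
  have h12' : ∀ x, p₁ (i₂ x) = 0 := fun x => LinearMap.congr_fun h12 x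
  have hid' : ∀ x, i₁ (p₁ x) + i₂ (p₂ x) = x := fun x => LinearMap.congr_fun hid x
  have hφ' : ∀ x, p₂ (φ (i₁ x)) = 0 := fun x => LinearMap.congr_fun hφ x
  have e1 : φ = (LinearMap.id + (i₂ ∘ₗ (p₂ ∘ₗ φ ∘ₗ i₂ - LinearMap.id)) ∘ₗ p₂) ∘ₗ
      (LinearMap.id + (i₁ ∘ₗ p₁ ∘ₗ φ ∘ₗ i₂) ∘ₗ p₂) ∘ₗ
      (LinearMap.id + (i₁ ∘ₗ (p₁ ∘ₗ φ ∘ₗ i₁ - LinearMap.id)) ∘ₗ p₁) := by
    ext x
    have h1 : φ x = φ (i₁ (p₁ x)) + φ (i₂ (p₂ x)) := by rw [← map_add, hid' x]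
    have h2 : φ (i₁ (p₁ x)) = i₁ (p₁ (φ (i₁ (p₁ x)))) := by
      conv_lhs => rw [← hid' (φ (i₁ (p₁ x)))]
      rw [hφ', map_zero, add_zero]
    have h3 := (hid' (φ (i₂ (p₂ x)))).symm
    simp only [LinearMap.coe_comp, Function.comp_apply, LinearMap.add_apply, LinearMap.id_apply,
      LinearMap.sub_apply, map_add, map_sub, h21', map_zero]
    rw [h1, h2]
    conv_lhs => rw [h3]
    conv_rhs => rw [← hid' x]
    simp only [map_add, h11', h22', h21', h12', map_zero]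
    abel
  conv_lhs => rw [e1]
  rw [LinearMap.det_comp, LinearMap.det_comp,
    det_one_add_comp_comm p₂ (i₂ ∘ₗ (p₂ ∘ₗ φ ∘ₗ i₂ - LinearMap.id)),
    det_one_add_comp_comm p₂ (i₁ ∘ₗ p₁ ∘ₗ φ ∘ₗ i₂),
    det_one_add_comp_comm p₁ (i₁ ∘ₗ (p₁ ∘ₗ φ ∘ₗ i₁ - LinearMap.id))]
  have e2 : LinearMap.id + p₂ ∘ₗ i₂ ∘ₗ (p₂ ∘ₗ φ ∘ₗ i₂ - LinearMap.id) = p₂ ∘ₗ φ ∘ₗ i₂ := by
    ext x; simp [h22']
  have e3 : LinearMap.id + p₂ ∘ₗ i₁ ∘ₗ p₁ ∘ₗ φ ∘ₗ i₂ = LinearMap.id := by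
    ext x; simp [h21']
  have e4 : LinearMap.id + p₁ ∘ₗ i₁ ∘ₗ (p₁ ∘ₗ φ ∘ₗ i₁ - LinearMap.id) = p₁ ∘ₗ φ ∘ₗ i₁ := by
    ext x; simp [h11']
  rw [e2, e3, e4, LinearMap.det_id]
  ring

/-- Determinant of `1 - t φ` over `A[t]` for a block triangular endomorphism `φ`. -/
theorem det_one_sub_block (i₁ : M₁ →ₗ[R] M) (p₁ : M →ₗ[R] M₁) (i₂ : M₂ →ₗ[R] M) (p₂ : M →ₗ[R] M₂)
    (h11 : ∀ x, p₁ (i₁ x) = x) (h22 : ∀ x, p₂ (i₂ x) = x) (h21 : ∀ x, p₂ (i₁ x) = 0)
    (h12 : ∀ x, p₁ (i₂ x) = 0) (hid : ∀ x, i₁ (p₁ x) + i₂ (p₂ x) = x) (φ : M →ₗ[R] M)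
    (u₁ : M₁ →ₗ[R] M₁) (u₂ : M₂ →ₗ[R] M₂)
    (hφ₁ : ∀ x, φ (i₁ x) = i₁ (u₁ x)) (hφ₂ : ∀ x, p₂ (φ (i₂ x)) = u₂ x) :
    LinearMap.det (LinearMap.id - (X : R[X]) • φ.baseChange R[X]) =
      LinearMap.det (LinearMap.id - (X : R[X]) • u₁.baseChange R[X]) *
        LinearMap.det (LinearMap.id - (X : R[X]) • u₂.baseChange R[X]) := by
  have h11' : p₁ ∘ₗ i₁ = LinearMap.id := LinearMap.ext h11
  have h22' : p₂ ∘ₗ i₂ = LinearMap.id := LinearMap.ext h22
  have h21' : p₂ ∘ₗ i₁ = 0 := LinearMap.ext h21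
  have h12' : p₁ ∘ₗ i₂ = 0 := LinearMap.ext h12
  have hid' : i₁ ∘ₗ p₁ + i₂ ∘ₗ p₂ = LinearMap.id := LinearMap.ext hid
  have hφ₁' : φ ∘ₗ i₁ = i₁ ∘ₗ u₁ := LinearMap.ext hφ₁
  have hφ₂' : p₂ ∘ₗ φ ∘ₗ i₂ = u₂ := LinearMap.ext hφ₂
  have g1 : p₁ ∘ₗ φ ∘ₗ i₁ = u₁ := by
    rw [hφ₁', ← LinearMap.comp_assoc, h11', LinearMap.id_comp]
  have g2 : p₂ ∘ₗ φ ∘ₗ i₁ = 0 := by
    rw [hφ₁', ← LinearMap.comp_assoc, h21', LinearMap.zero_comp]
  rw [det_block (i₁.baseChange R[X]) (p₁.baseChange R[X]) (i₂.baseChange R[X])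
    (p₂.baseChange R[X])]
  · congr 2
    · rw [LinearMap.sub_comp, LinearMap.comp_sub, LinearMap.id_comp, ← LinearMap.baseChange_comp,
        LinearMap.smul_comp, LinearMap.comp_smul, ← LinearMap.baseChange_comp,
        ← LinearMap.baseChange_comp, h11', g1, LinearMap.baseChange_id]
    · rw [LinearMap.sub_comp, LinearMap.comp_sub, LinearMap.id_comp, ← LinearMap.baseChange_comp,
        LinearMap.smul_comp, LinearMap.comp_smul, ← LinearMap.baseChange_comp,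
        ← LinearMap.baseChange_comp, h22', hφ₂', LinearMap.baseChange_id]
  · rw [← LinearMap.baseChange_comp, h11', LinearMap.baseChange_id]
  · rw [← LinearMap.baseChange_comp, h22', LinearMap.baseChange_id]
  · rw [← LinearMap.baseChange_comp, h21', LinearMap.baseChange_zero]
  · rw [← LinearMap.baseChange_comp, h12', LinearMap.baseChange_zero]
  · rw [← LinearMap.baseChange_comp, ← LinearMap.baseChange_comp, ← LinearMap.baseChange_add,
      hid', LinearMap.baseChange_id]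
  · rw [LinearMap.sub_comp, LinearMap.comp_sub, LinearMap.id_comp, ← LinearMap.baseChange_comp,
        LinearMap.smul_comp, LinearMap.comp_smul, ← LinearMap.baseChange_comp,
        ← LinearMap.baseChange_comp, h21', g2, LinearMap.baseChange_zero, smul_zero]
    exact sub_self (0 : R[X] ⊗[R] M₁ →ₗ[R[X]] R[X] ⊗[R] M₂)

end Block

section Finprod

/-- The two ways of splitting a finitely supported product. -/
theorem finprod_even_eq_finprod_odd {R : Type*} [CommMonoid R] (a : ℤ → R)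
    (ha : (Function.mulSupport a).Finite) :
    ∏ᶠ i : {i : ℤ // Even i}, a i.1 * a (i.1 + 1) = ∏ᶠ i : {i : ℤ // Odd i}, a i.1 * a (i.1 + 1) := by
  have hinj1 : Function.Injective (fun i : ℤ => i + 1) := fun i j h => by simpa using h
  have ha1 : (Function.mulSupport fun i : ℤ => a (i + 1)).Finite :=
    ha.preimage (f := fun i : ℤ => i + 1) hinj1.injOn
  have f1 : ∀ (p : ℤ → Prop), (Function.mulSupport fun i : {i : ℤ // p i} => a i.1).Finite := fun p =>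
    ha.preimage (f := fun i : {i : ℤ // p i} => i.1) Subtype.val_injective.injOn
  have f2 : ∀ (p : ℤ → Prop), (Function.mulSupport fun i : {i : ℤ // p i} => a (i.1 + 1)).Finite :=
    fun p => ha1.preimage (f := fun i : {i : ℤ // p i} => i.1) Subtype.val_injective.injOn
  rw [finprod_mul_distrib (f1 _) (f2 _), finprod_mul_distrib (f1 _) (f2 _)]
  have g1 : ∏ᶠ i : {i : ℤ // Even i}, a (i.1 + 1) = ∏ᶠ i : {i : ℤ // Odd i}, a i.1 := by
    refine finprod_eq_of_bijective (fun i => ⟨i.1 + 1, i.2.add_one⟩) ⟨?_, ?_⟩ (fun _ => rfl)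
    · intro i j h
      simpa [Subtype.ext_iff] using h
    · rintro ⟨j, hj⟩
      exact ⟨⟨j - 1, by simpa using hj.sub_odd odd_one⟩, by simp⟩
  have g2 : ∏ᶠ i : {i : ℤ // Odd i}, a (i.1 + 1) = ∏ᶠ i : {i : ℤ // Even i}, a i.1 := by
    refine finprod_eq_of_bijective (fun i => ⟨i.1 + 1, i.2.add_one⟩) ⟨?_, ?_⟩ (fun _ => rfl)
    · intro i j h
      simpa [Subtype.ext_iff] using h
    · rintro ⟨j, hj⟩
      exact ⟨⟨j - 1, hj.sub_odd odd_one⟩, by simp⟩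
  rw [g1, g2, mul_comm]

end Finprod

section Contractible

variable {R : Type*} [CommRing R] {M : ℤ → Type*} [∀ i, AddCommGroup (M i)] [∀ i, Module R (M i)]
  [∀ i, Module.Finite R (M i)] [∀ i, Module.Free R (M i)]

/-- The one-step identity: `det φ = det (1 + (φ - 1) ds) * det (1 + sd (φ - 1))`. -/
theorem det_step {M M₀ M₁ : Type*} [AddCommGroup M] [Module R M]
    [AddCommGroup M₀] [Module R M₀] [AddCommGroup M₁] [Module R M₁]
    [Module.Finite R M] [Module.Free R M] [Module.Finite R M₀] [Module.Free R M₀]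
    [Module.Finite R M₁] [Module.Free R M₁]
    (d₀ : M₀ →ₗ[R] M) (d : M →ₗ[R] M₁) (s₀ : M →ₗ[R] M₀) (s : M₁ →ₗ[R] M)
    (hdd : d ∘ₗ d₀ = 0) (hs : d₀ ∘ₗ s₀ + s ∘ₗ d = LinearMap.id)
    (φ₀ : M₀ →ₗ[R] M₀) (φ : M →ₗ[R] M) (h₀ : φ ∘ₗ d₀ = d₀ ∘ₗ φ₀) :
    LinearMap.det φ = LinearMap.det (LinearMap.id + ((φ - LinearMap.id) ∘ₗ d₀) ∘ₗ s₀) *
      LinearMap.det (LinearMap.id + s ∘ₗ (d ∘ₗ (φ - LinearMap.id))) := by
  have hdd' : ∀ x, d (d₀ x) = 0 := fun x => LinearMap.congr_fun hdd x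
  have hs' : ∀ x, d₀ (s₀ x) + s (d x) = x := fun x => LinearMap.congr_fun hs x
  have h₀' : ∀ x, φ (d₀ x) = d₀ (φ₀ x) := fun x => LinearMap.congr_fun h₀ x
  have hdsd : ∀ x, d (s (d x)) = d x := fun x => by
    conv_rhs => rw [← hs' x]
    rw [map_add, hdd', zero_add]
  have hdφd : ∀ x, d (φ (d₀ x)) = 0 := fun x => by rw [h₀', hdd']
  have e1 : φ = (LinearMap.id + s ∘ₗ (d ∘ₗ (φ - LinearMap.id))) ∘ₗ
      (LinearMap.id + ((d₀ ∘ₗ s₀) ∘ₗ φ) ∘ₗ (s ∘ₗ d)) ∘ₗ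
      (LinearMap.id + ((φ - LinearMap.id) ∘ₗ d₀) ∘ₗ s₀) := by
    ext x
    have hdφφd : ∀ x, d (φ (φ (d₀ x))) = 0 := fun x => by rw [h₀', hdφd]
    simp only [LinearMap.coe_comp, Function.comp_apply, LinearMap.add_apply, LinearMap.id_apply,
      LinearMap.sub_apply, map_add, map_sub, hdd', hdφd, hdφφd, map_zero]
    have k2 : s (d (φ x)) = s (d (φ (s (d x)))) := by
      conv_lhs => rw [← hs' x]
      rw [map_add, map_add, hdφd, zero_add]
    have k3 : φ x = φ (d₀ (s₀ x)) + φ (s (d x)) := by rw [← map_add, hs']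
    have k4 := hs' (φ (s (d x)))
    have k5 := hs' x
    rw [k2, k3]
    conv_lhs => rw [← k4]
    generalize φ (d₀ (s₀ x)) = A
    rw [eq_sub_of_add_eq k5]
    abel
  conv_lhs => rw [e1]
  rw [LinearMap.det_comp, LinearMap.det_comp,
    det_one_add_comp_comm (s ∘ₗ d) ((d₀ ∘ₗ s₀) ∘ₗ φ)]
  have e2 : (LinearMap.id + (s ∘ₗ d) ∘ₗ (d₀ ∘ₗ s₀) ∘ₗ φ : M →ₗ[R] M) = LinearMap.id := by
    ext x; simp [hdd']
  rw [e2, LinearMap.det_id]
  ring

/-- For an endomorphism of a bounded contractible complex of finite free modules, the determinant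
of the even part equals the determinant of the odd part. -/
theorem finprod_det_even_eq_odd (d : ∀ i j : ℤ, M i →ₗ[R] M j) (s : ∀ i j : ℤ, M i →ₗ[R] M j)
    (hdd : ∀ i, d i (i + 1) ∘ₗ d (i - 1) i = 0)
    (hs : ∀ i, d (i - 1) i ∘ₗ s i (i - 1) + s (i + 1) i ∘ₗ d i (i + 1) = LinearMap.id)
    (φ : ∀ i, M i →ₗ[R] M i) (hφ : ∀ i, φ (i + 1) ∘ₗ d i (i + 1) = d i (i + 1) ∘ₗ φ i)
    (a b : ℤ) (hab : ∀ i, i < a ∨ b < i → Subsingleton (M i)) :
    ∏ᶠ i : {i : ℤ // Even i}, LinearMap.det (φ i.1) = ∏ᶠ i : {i : ℤ // Odd i}, LinearMap.det (φ i.1) := by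
  let α : ℤ → R := fun i =>
    LinearMap.det (LinearMap.id + ((φ i - LinearMap.id) ∘ₗ d (i - 1) i) ∘ₗ s i (i - 1))
  have hα : ∀ i j : ℤ, j + 1 = i → α i =
      LinearMap.det (LinearMap.id + ((φ i - LinearMap.id) ∘ₗ d j i) ∘ₗ s i j) := by
    intro i j h
    obtain rfl : j = i - 1 := by omega
    rfl
  have key : ∀ i, LinearMap.det (φ i) = α i * α (i + 1) := by
    intro i
    have hi : φ i ∘ₗ d (i - 1) i = d (i - 1) i ∘ₗ φ (i - 1) := by
      have := hφ (i - 1)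
      rwa [show i - 1 + 1 = i by ring] at this
    rw [det_step (d (i - 1) i) (d i (i + 1)) (s i (i - 1)) (s (i + 1) i) (hdd i) (hs i)
      (φ (i - 1)) (φ i) hi, hα (i + 1) i rfl,
      det_one_add_comp_comm (d i (i + 1) ∘ₗ (φ i - LinearMap.id)) (s (i + 1) i)]
    have e : (φ (i + 1) - LinearMap.id) ∘ₗ d i (i + 1) =
        d i (i + 1) ∘ₗ (φ i - LinearMap.id) := by
      rw [LinearMap.sub_comp, LinearMap.comp_sub, hφ i, LinearMap.comp_id, LinearMap.id_comp]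
    rw [e]
  have hfin : (Function.mulSupport α).Finite := by
    refine (Set.finite_Icc a b).subset ?_
    intro i hi
    by_contra hcon
    apply hi
    have : Subsingleton (M i) := hab i (by
      simp only [Set.mem_Icc, not_and_or, not_le] at hcon
      exact hcon)
    exact LinearMap.det_eq_one_of_subsingleton _
  simp only [key]
  exact finprod_even_eq_finprod_odd α hfin

end Contractible

end Groth.Agent.Sga4h.DetComplex
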