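import Groth.Agent.Sga4h.MuLocal2
import Groth.Agent.Sga4h.TensorConst
import Groth.Agent.Sga4h.LocCohLocal

/-!
# Tate twists are étale-locally `ℤ/n`, and vanishing of local cohomology of twists
-/

set_option autoImplicit false
universe u

open CategoryTheory CategoryTheory.Limits AlgebraicGeometry Opposite

namespace Groth.Agent.Sga4h.TateLocal

open Groth.Agent.Sga4h.EtaleRes Groth.Agent.Sga4h.EtaleRes2

/-- Étale locally `ℤ/n(d) ≅ ℤ/n`, for `n` invertible. -/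
theorem exists_local_iso {X : Scheme.{u}} (n : ℕ) (hn : IsUnit (n : Γ(X, ⊤))) (d : ℕ) (x : X) :
    ∃ (V : Scheme.{u}) (h : V ⟶ X) (_ : Etale h) (_ : EtShriek.JCont h) (v : V), h v = x ∧
      Nonempty ((EtShriek.restrAlong h).obj (EtCoh.const X (ZMod n)) ≅
        (EtShriek.restrAlong h).obj (EtDual.tate X n d)) := by
  obtain ⟨V, h, hh, v, hv, hn0, hnV, ⟨e⟩⟩ := MuLocal2.exists_local_iso n hn x
  obtain ⟨f⟩ := TensorConst.nonempty_tate_iso_const n e d
  have hJ := jCont h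
  exact ⟨V, h, hh, hJ, v, hv, ⟨constRestr h (ZMod n) ≪≫ f ≪≫ (tateRestr h n d).symm⟩⟩

/-- Vanishing of `H^p_Y(X, ℤ/n)` implies vanishing of `H^p_Y(X, ℤ/n(d))` (sheaves). -/
theorem isZero_locCoh_tate {X U : Scheme.{u}} (j : U ⟶ X) [Etale j] [EtCoh.BCCont j] (n : ℕ)
    (hn : IsUnit (n : Γ(X, ⊤))) (d p : ℕ)
    (h : IsZero ((EtDual.locCoh j p).obj (EtCoh.const X (ZMod n)))) :
    IsZero ((EtDual.locCoh j p).obj (EtDual.tate X n d)) :=
  LocCohLocal.isZero_locCoh_of_local j _ _ (exists_local_iso n hn d) p h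

end Groth.Agent.Sga4h.TateLocal
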