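import Groth.Prelude.Def_EtModD2
import Groth.Prelude.Def_Hens2
import Groth.Prelude.Def_EtCore
import Groth.Agent.S0065
import Groth.Agent.S0120
import Groth.Agent.Ega2.LocalExt
import Groth.Agent.Ega2.RegLow
import Mathlib.AlgebraicGeometry.Morphisms.OpenImmersion
import Mathlib.AlgebraicGeometry.Noetherian
import Mathlib.RingTheory.RegularLocalRing.Defs
import Mathlib.Order.KrullDimension
import Mathlib.RingTheory.DiscreteValuationRing.Basic

/-!
# Geometry of regular schemes of dimension at most one (for S3144)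

`geo2`: étale over regular of dimension `≤ 1` is of the same kind. `geo3`: small integral affine étale
neighbourhoods meeting the complement of a dense open in exactly one point.
-/

set_option autoImplicit false
universe u

open CategoryTheory CategoryTheory.Limits AlgebraicGeometry Opposite

namespace Groth.Agent.Sga4h.X144Geo2

theorem geo2 {S V : Scheme.{u}} [IsLocallyNoetherian S]
    (hreg : ∀ s : S, IsRegularLocalRing (S.presheaf.stalk s))
    (hdim : ∀ s : S, ringKrullDim (S.presheaf.stalk s) ≤ 1)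
    (p : V ⟶ S) [Etale p] :
    (∀ s : V, IsRegularLocalRing (V.presheaf.stalk s)) ∧
      (∀ s : V, ringKrullDim (V.presheaf.stalk s) ≤ 1) :=
  ⟨fun s => (Groth.Agent.S0065.result p s).2 (hreg _),
    fun s => (Groth.Agent.S0120.result p s).trans_le (hdim _)⟩

/-- a Noetherian quasi-sober `T1` space is finite. -/
theorem finite_of_t1 {α : Type*} [TopologicalSpace α] [TopologicalSpace.NoetherianSpace α]
    [QuasiSober α] [T1Space α] : Finite α := by
  have h := TopologicalSpace.NoetherianSpace.finite_irreducibleComponents (α := α)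
  have h1 : ∀ x : α, irreducibleComponent x = {x} := by
    intro x
    obtain ⟨g, hg⟩ := QuasiSober.sober (isIrreducible_irreducibleComponent (x := x))
      isClosed_irreducibleComponent
    have h2 : closure ({g} : Set α) = irreducibleComponent x := hg
    rw [closure_singleton] at h2
    have h3 : x ∈ ({g} : Set α) := h2 ▸ mem_irreducibleComponent
    rw [← h2, Set.mem_singleton_iff.1 h3]
  have := h.to_subtype
  exact Finite.of_injective (β := irreducibleComponents α)
    (fun x => ⟨irreducibleComponent x, irreducibleComponent_mem_irreducibleComponents x⟩)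
    (fun x y hxy => by
      have := congrArg Subtype.val hxy
      simp only [h1] at this
      exact Set.singleton_injective this)

theorem eq_or_eq_of_specializes (X : Scheme.{u}) (a b c : X) (h1 : a ⤳ b) (h2 : b ⤳ c)
    (hc : ringKrullDim (X.presheaf.stalk c) ≤ 1) : a = b ∨ b = c := by
  by_contra hne
  push Not at hne
  obtain ⟨hab, hbc⟩ := hne
  rw [ringKrullDim_stalk_eq_coheight] at hc
  have l1 : b < a := ⟨h1, fun h => hab (h1.antisymm h).eq⟩
  have l2 : c < b := ⟨h2, fun h => hbc (h2.antisymm h).eq⟩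
  have e1 := Order.coheight_add_one_le l1
  have e2 := Order.coheight_add_one_le l2
  have e3 : (2 : ℕ∞) ≤ Order.coheight c :=
    calc (2 : ℕ∞) = 0 + 1 + 1 := by norm_num
      _ ≤ Order.coheight a + 1 + 1 := by gcongr; exact zero_le
      _ ≤ Order.coheight b + 1 := by gcongr
      _ ≤ Order.coheight c := e2
  have e4 : Order.coheight c ≤ 1 := by exact_mod_cast hc
  exact absurd (e3.trans e4) (by decide)

/-- a closed subset of an integral Noetherian scheme with local rings of dimension at most one, not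
containing the generic point, is finite, and its subsets are closed. -/
theorem finite_and_isClosed {X : Scheme.{u}} [IsIntegral X] [IsNoetherian X]
    (hdim : ∀ s : X, ringKrullDim (X.presheaf.stalk s) ≤ 1) (T : Set X) (hT : IsClosed T)
    (hη : genericPoint X ∉ T) : T.Finite ∧ ∀ T' ⊆ T, IsClosed T' := by
  have hcl : Topology.IsClosedEmbedding (Subtype.val : T → X) := hT.isClosedEmbedding_subtypeVal
  have hsp : ∀ a b : X, a ∈ T → a ⤳ b → a = b := fun a b ha hab =>
    (eq_or_eq_of_specializes X (genericPoint X) a b (genericPoint_specializes a) hab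
      (hdim b)).resolve_left (fun h => hη (h ▸ ha))
  have hcl1 : ∀ a ∈ T, IsClosed ({a} : Set X) := fun a ha => by
    rw [← closure_subset_iff_isClosed]
    intro b hb
    exact (hsp a b ha (specializes_iff_mem_closure.2 hb)).symm
  have : TopologicalSpace.NoetherianSpace T :=
    Topology.IsInducing.subtypeVal.noetherianSpace
  have : QuasiSober T := hcl.quasiSober
  have : T1Space T := ⟨fun a => by
    have h := (hcl1 a.1 a.2).preimage (continuous_subtype_val (p := (· ∈ T)))
    convert h using 1
    ext b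
    simp [Subtype.ext_iff]⟩
  have hfin : Finite T := finite_of_t1
  have hfin' : T.Finite := hfin
  refine ⟨hfin', fun T' hT' => ?_⟩
  rw [← Set.biUnion_of_singleton T']
  exact (hfin'.subset hT').isClosed_biUnion fun a ha => hcl1 a (hT' ha)

theorem geo3 {S U : Scheme.{u}} [IsLocallyNoetherian S]
    (hreg : ∀ s : S, IsRegularLocalRing (S.presheaf.stalk s))
    (hdim : ∀ s : S, ringKrullDim (S.presheaf.stalk s) ≤ 1)
    (j : U ⟶ S) [IsOpenImmersion j] (hU : Dense (Set.range j.base)) (z : S)
    (hz : z ∉ Set.range j.base)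
    (V : S.Etale) (v : V.left) (hv : V.hom v = z) :
    ∃ (W : S.Etale) (g : W ⟶ V) (w : W.left), g.left w = v ∧ IsOpenImmersion g.left ∧
      IsIntegral W.left ∧ IsAffine W.left ∧ IsNoetherian W.left ∧
      ∀ w' : W.left, W.hom w' ∉ Set.range j.base ↔ w' = w := by
  have : Etale V.hom := V.prop
  obtain ⟨hr, hd⟩ := geo2 hreg hdim V.hom
  have hln : IsLocallyNoetherian V.left :=
    LocallyOfFiniteType.isLocallyNoetherian (X := V.left) (Y := S) V.hom
  have : IsDomain (V.left.presheaf.stalk v) :=
    Groth.Agent.Ega2.RegLow.isDomain _ (h := hr v) (hd v)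
  obtain ⟨W0, hv0, hW0, hint, -⟩ := Groth.Agent.Ega2.LocalExt.exists_integral_nhd v
    (FractionRing (V.left.presheaf.stalk v))
  have : IsAffine (W0 : Scheme.{u}) := hW0
  have : IsLocallyNoetherian (W0 : Scheme.{u}) := inferInstance
  have : IsNoetherian (W0 : Scheme.{u}) := ⟨⟩
  have hd0 := (geo2 hreg hdim (W0.ι ≫ V.hom)).2
  let T : Set W0.toScheme := {w | (W0.ι ≫ V.hom) w ∉ Set.range j.base}
  have hTc : IsClosed T := by
    have h1 : IsOpen (Set.range j.base) := j.isOpenEmbedding.isOpen_range
    exact (h1.preimage (W0.ι ≫ V.hom).continuous).isClosed_compl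
  have hη : genericPoint W0.toScheme ∉ T := by
    intro h
    have h1 : Dense ((W0.ι ≫ V.hom) ⁻¹' (Set.range j.base)) :=
      hU.preimage (W0.ι ≫ V.hom).isOpenMap
    obtain ⟨y, hy⟩ := h1.nonempty
    have h2 : IsOpen ((W0.ι ≫ V.hom) ⁻¹' (Set.range j.base)) :=
      (j.isOpenEmbedding.isOpen_range).preimage (W0.ι ≫ V.hom).continuous
    exact h ((genericPoint_specializes y).mem_open h2 hy)
  obtain ⟨hTf, hTcl⟩ := finite_and_isClosed hd0 T hTc hη
  let v0 : W0.toScheme := ⟨v, hv0⟩
  have hv0T : v0 ∈ T := by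
    intro h
    apply hz
    rw [← hv]
    exact h
  have hO : IsOpen (T \ {v0})ᶜ := (hTcl _ Set.sdiff_subset).isOpen_compl
  obtain ⟨W1, hW1, hvW1, hW1O⟩ : ∃ W1 : W0.toScheme.Opens, IsAffineOpen W1 ∧ v0 ∈ W1 ∧
      (W1 : Set W0.toScheme) ⊆ (T \ {v0})ᶜ := by
    obtain ⟨_, ⟨W1, hW1, rfl⟩, hvW1, hW1O⟩ :=
      W0.toScheme.isBasis_affineOpens.exists_subset_of_mem_open
        (show v0 ∈ (T \ {v0})ᶜ from fun h => h.2 rfl) hO
    exact ⟨W1, hW1, hvW1, hW1O⟩
  have : IsAffine (W1 : Scheme.{u}) := hW1
  have : Nonempty (W1 : Scheme.{u}) := ⟨⟨v0, hvW1⟩⟩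
  have hint1 : IsIntegral (W1 : Scheme.{u}) := isIntegral_of_isOpenImmersion W1.ι
  have hn1 : IsNoetherian (W1 : Scheme.{u}) := ⟨⟩
  refine ⟨Scheme.Etale.mk (W1.ι ≫ W0.ι ≫ V.hom),
    MorphismProperty.Over.homMk (W1.ι ≫ W0.ι) (Category.assoc _ _ _) trivial, ⟨v0, hvW1⟩, rfl,
    inferInstanceAs (IsOpenImmersion (W1.ι ≫ W0.ι)), hint1, hW1, hn1, fun w' => ?_⟩
  constructor
  · intro h
    have h1 : w'.1 ∈ T := h
    have h2 : w'.1 = v0 := by
      by_contra hne
      exact hW1O w'.2 ⟨h1, hne⟩
    exact Subtype.ext h2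
  · rintro rfl
    exact hv0T

end Groth.Agent.Sga4h.X144Geo2
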