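import Groth.Agent.Sga4h.HomAcyc
import Groth.Agent.Sga4h.RDExact
import Groth.Agent.EtpbcB.Acyc

/-!
# Right derived functors of the internal Hom

* `extSheafIso` : `EtModD.extSheaf A q ≅ (homShF A).rightDerived q`;
* `resExt` : `(homShF A).rightDerived q ⋙ res p ≅ res p ⋙ (homShF (res p A)).rightDerived q`
  for `p` etale;
* `homShFCongr`, `extCongr` : isomorphic sheaves;
* `jHom j A = homShF A ⋙ res j ⋙ push j`, its right derived functors `jHom_rightDerived`, the unit
  `toJHom`, the contravariance `jHomMap`, short exactness on injectives.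
-/

set_option autoImplicit false
universe u

open CategoryTheory CategoryTheory.Limits AlgebraicGeometry Opposite

namespace Groth.Agent.Sga4h.HomExt

open Groth.Agent.Sga4h.ModRestr Groth.Agent.Sga4h.HomSh Groth.Agent.Sga4h.HomRes
open Groth.Agent.Sga4h.HomAcyc Groth.Agent.EtpbcB.Acyc

variable {Λ : Type (u + 1)} [CommRing Λ] {X U V : Scheme.{u}}

/-- `Ext^q(A, -)` computed with the explicit internal Hom. -/
noncomputable def extSheafIso (A : EtModW.Mod Λ X) [EtModD.HasSheafHom A] (q : ℕ) :
    EtModD.extSheaf A q ≅ (homShF A).rightDerived q :=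
  RDExact.congrIso (homShIso A) q

/-- `Ext^q` commutes with restriction along etale morphisms. -/
noncomputable def resExt (p : V ⟶ X) [Etale p] (A : EtModW.Mod Λ X) (q : ℕ) :
    (homShF A).rightDerived q ⋙ res Λ p ≅
      res Λ p ⋙ (homShF ((res Λ p).obj A)).rightDerived q :=
  (RDExact.postIso (homShF A) (res Λ p) q).symm ≪≫
    RDExact.congrIso (resHomShF p A) q ≪≫
    RDExact.preIso (res Λ p) (homShF ((res Λ p).obj A)) (fun I _ => injective_res Λ p I) q

/-- `homShF A` only depends on the isomorphism class of `A`. -/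
noncomputable def homShFCongr {A B : EtModW.Mod Λ X} (e : A ≅ B) : homShF A ≅ homShF B where
  hom := homShFMap e.inv
  inv := homShFMap e.hom
  hom_inv_id := by rw [← homShFMap_comp, e.hom_inv_id, homShFMap_id]
  inv_hom_id := by rw [← homShFMap_comp, e.inv_hom_id, homShFMap_id]

/-- `Ext^q(A, -)` only depends on the isomorphism class of `A`. -/
noncomputable def extCongr {A B : EtModW.Mod Λ X} (e : A ≅ B) (q : ℕ) :
    (homShF A).rightDerived q ≅ (homShF B).rightDerived q :=
  RDExact.congrIso (homShFCongr e) q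

/-- Functoriality of `homSh` in isomorphisms of the second variable. -/
noncomputable def homShCongr {A B H H' : EtModW.Mod Λ X} (e : A ≅ B) (k : H ≅ H') :
    homSh A H ≅ homSh B H' :=
  (homShF A).mapIso k ≪≫ (homShFCongr e).app H'

/-- `H ↦ j_* j^* Hom(A, H)`. -/
noncomputable def jHom (j : U ⟶ X) [Etale j] (A : EtModW.Mod Λ X) :
    EtModW.Mod Λ X ⥤ EtModW.Mod Λ X :=
  homShF A ⋙ res Λ j ⋙ EtModW.push Λ j

instance additive_jHom (j : U ⟶ X) [Etale j] (A : EtModW.Mod Λ X) : (jHom j A).Additive :=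
  inferInstanceAs (homShF A ⋙ res Λ j ⋙ EtModW.push Λ j).Additive

/-- The unit `Hom(A, -) ⟶ j_* j^* Hom(A, -)`. -/
noncomputable def toJHom (j : U ⟶ X) [Etale j] (A : EtModW.Mod Λ X) : homShF A ⟶ jHom j A :=
  Functor.whiskerLeft (homShF A) (resPushAdj Λ j).unit

theorem toJHom_app (j : U ⟶ X) [Etale j] (A H : EtModW.Mod Λ X) :
    (toJHom j A).app H = (resPushAdj Λ j).unit.app (homSh A H) := rfl

/-- Contravariance of `jHom` in `A`. -/
noncomputable def jHomMap (j : U ⟶ X) [Etale j] {A B : EtModW.Mod Λ X} (f : A ⟶ B) :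
    jHom j B ⟶ jHom j A :=
  Functor.whiskerRight (homShFMap f) (res Λ j ⋙ EtModW.push Λ j)

theorem homShFMap_toJHom (j : U ⟶ X) [Etale j] {A B : EtModW.Mod Λ X} (f : A ⟶ B) :
    homShFMap f ≫ toJHom j A = toJHom j B ≫ jHomMap j f := by
  ext H : 2
  exact (resPushAdj Λ j).unit.naturality ((homShFMap f).app H)

theorem homShFMap_zero {S : ShortComplex (EtModW.Mod Λ X)} :
    homShFMap S.g ≫ homShFMap S.f = 0 := by
  ext H : 2
  exact homSh_zero H

theorem jHomMap_zero (j : U ⟶ X) [Etale j] {S : ShortComplex (EtModW.Mod Λ X)} :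
    jHomMap j S.g ≫ jHomMap j S.f = 0 := by
  ext H : 2
  have h : (homShFMap S.g).app H ≫ (homShFMap S.f).app H = 0 := homSh_zero H
  have h2 := congrArg (res Λ j ⋙ EtModW.push Λ j).map h
  rw [Functor.map_comp, Functor.map_zero] at h2
  exact h2

/-- `jHom j A ≅ res j ⋙ homShF (res j A) ⋙ push j`. -/
noncomputable def jHomIso (j : U ⟶ X) [Etale j] (A : EtModW.Mod Λ X) :
    jHom j A ≅ res Λ j ⋙ (homShF ((res Λ j).obj A) ⋙ EtModW.push Λ j) :=
  (Functor.associator _ _ _).symm ≪≫
    Functor.isoWhiskerRight (resHomShF j A) (EtModW.push Λ j) ≪≫ Functor.associator _ _ _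

instance preservesFiniteLimits_homShF (A : EtModW.Mod Λ X) :
    PreservesFiniteLimits (homShF A) :=
  have : PreservesLimitsOfSize.{0, 0} (homShF A) := (homShAdj A).rightAdjoint_preservesLimits
  PreservesLimitsOfSize.preservesFiniteLimits _

instance preservesFiniteLimits_push (j : U ⟶ X) : PreservesFiniteLimits (EtModW.push Λ j) :=
  inferInstance

/-- The right derived functors of `jHom` at `H` are the higher direct images of
`Hom(A|U, H|U)`, if the higher `Ext^q(A|U, H|U)` vanish. -/
theorem jHom_rightDerived (j : U ⟶ X) [Etale j] (A H : EtModW.Mod Λ X)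
    (hA : ∀ q, 1 ≤ q → IsZero (((homShF ((res Λ j).obj A)).rightDerived q).obj
      ((res Λ j).obj H))) (q : ℕ) :
    Nonempty (((jHom j A).rightDerived q).obj H ≅
      (EtModW.Rpush Λ j q).obj (homSh ((res Λ j).obj A) ((res Λ j).obj H))) := by
  have h1 := comp_acyclic (homShF ((res Λ j).obj A)) (EtModW.push Λ j)
    (fun I hI => acyclic_homSh j ((res Λ j).obj A) I) ((res Λ j).obj H)
    (fun q hq => hA q hq) q
  obtain ⟨e⟩ := h1
  exact ⟨(RDExact.congrIso (jHomIso j A) q).app H ≪≫
    (RDExact.preIso (res Λ j) (homShF ((res Λ j).obj A) ⋙ EtModW.push Λ j)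
      (fun I _ => injective_res Λ j I) q).app H ≪≫ e.symm⟩

/-- `Hom(-, I)` is exact for `I` injective. -/
theorem homShFMap_shortExact {S : ShortComplex (EtModW.Mod Λ X)} (hS : S.ShortExact)
    (I : EtModW.Mod Λ X) (hI : Injective I) :
    (ShortComplex.mk ((homShFMap S.g).app I) ((homShFMap S.f).app I)
      (congr_app homShFMap_zero I)).ShortExact :=
  homSh_shortExact hS I

theorem resHomSh_inv_naturality (j : U ⟶ X) [Etale j] {A B : EtModW.Mod Λ X} (f : A ⟶ B)
    (I : EtModW.Mod Λ X) :
    (resHomSh j B I).inv ≫ (res Λ j).map (homShMap₂ f (𝟙 I)) =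
      homShMap₂ ((res Λ j).map f) (𝟙 ((res Λ j).obj I)) ≫ (resHomSh j A I).inv := by
  rw [Iso.inv_comp_eq, ← Category.assoc, Iso.eq_comp_inv, resHomSh_naturality,
    CategoryTheory.Functor.map_id]

/-- `j_* j^* Hom(-, I)` is exact for `I` injective. -/
theorem jHomMap_shortExact (j : U ⟶ X) [Etale j] {S : ShortComplex (EtModW.Mod Λ X)}
    (hS : S.ShortExact) (I : EtModW.Mod Λ X) (hI : Injective I) :
    (ShortComplex.mk ((jHomMap j S.g).app I) ((jHomMap j S.f).app I)
      (congr_app (jHomMap_zero j) I)).ShortExact := by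
  have hI' : Injective ((res Λ j).obj I) := injective_res Λ j I
  have hS' : (S.map (res Λ j)).ShortExact := hS.map_of_exact (res Λ j)
  have h := push_homSh_shortExact hS' ((res Λ j).obj I) j
  refine ShortComplex.shortExact_of_iso ?_ h
  refine ShortComplex.isoMk ((EtModW.push Λ j).mapIso (resHomSh j _ _).symm)
    ((EtModW.push Λ j).mapIso (resHomSh j _ _).symm)
    ((EtModW.push Λ j).mapIso (resHomSh j _ _).symm) ?_ ?_
  · have h1 := congrArg (EtModW.push Λ j).map (resHomSh_inv_naturality j S.g I)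
    rw [Functor.map_comp, Functor.map_comp] at h1
    exact h1
  · have h1 := congrArg (EtModW.push Λ j).map (resHomSh_inv_naturality j S.f I)
    rw [Functor.map_comp, Functor.map_comp] at h1
    exact h1

end Groth.Agent.Sga4h.HomExt
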