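import Groth.Prelude.Def_EtModD2
import Groth.Prelude.Def_Hens2
import Groth.Prelude.Def_EtCore
import Groth.Agent.Sga4h.HomExt
import Groth.Agent.Etcore.LFLC
import Groth.Agent.Etrest.ModLoc
import Groth.Agent.Etrest.ModAb
import Mathlib.AlgebraicGeometry.Morphisms.OpenImmersion
import Mathlib.AlgebraicGeometry.Morphisms.Separated
import Mathlib.AlgebraicGeometry.Noetherian
import Mathlib.RingTheory.RegularLocalRing.Defs
import Mathlib.Data.ZMod.Defs
import Mathlib.Order.KrullDimension

/-!
# The internal Hom and direct image along an open immersion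

* `isIso_unit_homSh`: if `H ⟶ j_* j^* H` is an isomorphism, so is
  `Hom(G, H) ⟶ j_* j^* Hom(G, H)`;
* `nonempty_homSh_push`: then `Hom(j_* F, H) ≅ j_* Hom(F, j^* H)`.
-/

set_option autoImplicit false
universe u
open CategoryTheory CategoryTheory.Limits AlgebraicGeometry Opposite
open Groth.Agent.Sga4h.ModRestr Groth.Agent.Sga4h.HomSh Groth.Agent.Sga4h.HomExt
open Groth.Agent.Etcore

namespace Groth.Agent.Sga4h.X144Hom

section General

open Groth.Agent.Sga4h.HomPre

variable {Λ : Type (u + 1)} [CommRing Λ] {C D : Type (u + 1)} [Category.{u} C] [Category.{u} D]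
  {c : D ⥤ C} {b : C ⥤ D} (adj : c ⊣ b)

theorem map_counit [IsIso adj.unit] (W : C) :
    c.map (b.map (adj.counit.app W)) = adj.counit.app (c.obj (b.obj W)) := by
  have h1 : adj.unit.app (b.obj W) ≫ b.map (adj.counit.app W) = 𝟙 _ :=
    adj.right_triangle_components W
  have h2 : c.map (adj.unit.app (b.obj W)) ≫ adj.counit.app (c.obj (b.obj W)) = 𝟙 _ :=
    adj.left_triangle_components (b.obj W)
  have h3 : c.map (adj.unit.app (b.obj W)) ≫ c.map (b.map (adj.counit.app W)) = 𝟙 _ := by
    rw [← c.map_comp, h1, c.map_id]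
  exact (cancel_epi (c.map (adj.unit.app (b.obj W)))).1 (h3.trans h2.symm)

variable (A H : Cᵒᵖ ⥤ ModuleCat.{u + 1} Λ)

theorem injective_homPre_map (hH : ∀ W : C, IsIso (H.map (adj.counit.app W).op)) (W : C) :
    Function.Injective ((homPre A H).map (adj.counit.app W).op) := by
  intro φ ψ h
  refine ext_ev (fun W' g => ?_)
  have := hH W'
  rw [← cancel_mono (H.map (adj.counit.app W').op), ← ev_naturality, ← ev_naturality]
  have e : adj.counit.app W' ≫ g = c.map (b.map g) ≫ adj.counit.app W :=
    (adj.counit.naturality g).symm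
  have h2 : ev φ (c.map (b.map g) ≫ adj.counit.app W) =
      ev ψ (c.map (b.map g) ≫ adj.counit.app W) := by
    rw [← ev_map, ← ev_map]
    exact congrArg (fun x => ev x (c.map (b.map g))) h
  rw [e, h2]

theorem surjective_homPre_map [IsIso adj.unit]
    (hH : ∀ W : C, IsIso (H.map (adj.counit.app W).op)) (W : C) :
    Function.Surjective ((homPre A H).map (adj.counit.app W).op) := by
  intro χ
  let χ' : (homPre A H).obj (op (c.obj (b.obj W))) := χ
  refine ⟨mk (fun W' g => A.map (adj.counit.app W').op ≫ ev χ' (c.map (b.map g)) ≫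
    (have := hH W'; inv (H.map (adj.counit.app W').op))) (fun W' W'' g h => ?_), ?_⟩
  · have i1 := hH W'
    have i2 := hH W''
    have n1 : adj.counit.app W'' ≫ h = c.map (b.map h) ≫ adj.counit.app W' :=
      (adj.counit.naturality h).symm
    have n2 : A.map h.op ≫ A.map (adj.counit.app W'').op =
        A.map (adj.counit.app W').op ≫ A.map (c.map (b.map h)).op := by
      rw [← A.map_comp, ← A.map_comp, ← op_comp, ← op_comp, n1]
    have n3 : H.map h.op ≫ H.map (adj.counit.app W'').op =
        H.map (adj.counit.app W').op ≫ H.map (c.map (b.map h)).op := by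
      rw [← H.map_comp, ← H.map_comp, ← op_comp, ← op_comp, n1]
    have n4 := ev_naturality χ' (c.map (b.map g)) (c.map (b.map h))
    rw [← c.map_comp, ← b.map_comp] at n4
    rw [reassoc_of% n2, reassoc_of% n4, Category.assoc, Category.assoc]
    congr 2
    rw [IsIso.comp_inv_eq, Category.assoc, n3, IsIso.inv_hom_id_assoc]
  · refine ext_ev (fun W' g => ?_)
    have i1 := hH W'
    refine (ev_map _ _ _).trans ((ev_mk _ _ _).trans ?_)
    have n1 : c.map (b.map (g ≫ adj.counit.app W)) = adj.counit.app W' ≫ g := by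
      rw [b.map_comp, c.map_comp, map_counit adj W]
      exact adj.counit.naturality g
    rw [n1]
    have n2 := ev_naturality χ' g (adj.counit.app W')
    rw [reassoc_of% n2, IsIso.hom_inv_id, Category.comp_id]

theorem isIso_homPre_map [IsIso adj.unit]
    (hH : ∀ W : C, IsIso (H.map (adj.counit.app W).op)) (W : C) :
    IsIso ((homPre A H).map (adj.counit.app W).op) :=
  (ConcreteCategory.isIso_iff_bijective _).2
    ⟨injective_homPre_map adj A H hH W, surjective_homPre_map adj A H hH W⟩

end General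

variable (Λ : Type (u+1)) [CommRing Λ]

/-- (P2) -/
theorem isIso_unit_homSh {X U : Scheme.{u}} (j : U ⟶ X) [IsOpenImmersion j] (G H : EtModW.Mod Λ X) [IsIso ((resPushAdj Λ j).unit.app H)] :
    IsIso ((resPushAdj Λ j).unit.app (homSh G H)) := by
  have h1 : ∀ W : X.Etale, IsIso (H.obj.map ((Groth.Agent.Sga4h.EtaleRes.compBcAdj j).counit.app W).op) := by
    intro W
    have h2 : IsIso (((resPushAdj Λ j).unit.app H).hom) :=
      inferInstanceAs (IsIso ((sheafToPresheaf _ _).map ((resPushAdj Λ j).unit.app H)))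
    exact inferInstanceAs (IsIso (((resPushAdj Λ j).unit.app H).hom.app (op W)))
  have h3 : IsIso ((sheafToPresheaf _ _).map ((resPushAdj Λ j).unit.app (homSh G H))) := by
    have h4 : ∀ W, IsIso (((sheafToPresheaf _ _).map
        ((resPushAdj Λ j).unit.app (homSh G H))).app W) := fun W =>
      isIso_homPre_map (Groth.Agent.Sga4h.EtaleRes.compBcAdj j) G.obj H.obj h1 W.unop
    exact NatIso.isIso_of_isIso_app _
  exact isIso_of_reflects_iso _ (sheafToPresheaf _ _)

/-- `Hom(j_* F, H) ≅ j_* Hom(F, j^* H)` if `H ≅ j_* j^* H`. -/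
theorem nonempty_homSh_push {X U : Scheme.{u}} (j : U ⟶ X) [IsOpenImmersion j] (F : EtModW.Mod Λ U) (H : EtModW.Mod Λ X) [IsIso ((resPushAdj Λ j).unit.app H)] :
    Nonempty (homSh ((EtModW.push Λ j).obj F) H ≅ (EtModW.push Λ j).obj (homSh F ((res Λ j).obj H))) := by
  have h1 := isIso_unit_homSh Λ j ((EtModW.push Λ j).obj F) H
  let e1 : homSh ((EtModW.push Λ j).obj F) H ≅ (EtModW.push Λ j).obj
      ((res Λ j).obj (homSh ((EtModW.push Λ j).obj F) H)) :=
    asIso ((resPushAdj Λ j).unit.app (homSh ((EtModW.push Λ j).obj F) H))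
  let e2 : (res Λ j).obj ((EtModW.push Λ j).obj F) ≅ F :=
    (asIso (resPushAdj Λ j).counit).app F
  exact ⟨e1 ≪≫ (EtModW.push Λ j).mapIso
    (Groth.Agent.Sga4h.HomRes.resHomSh j ((EtModW.push Λ j).obj F) H ≪≫
      (homShFCongr e2).app ((res Λ j).obj H))⟩

end Groth.Agent.Sga4h.X144Hom
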