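import Groth.Agent.Sga4h.ModRestr
import Groth.Agent.Etcore.LFLC

/-!
# Pointwise injectivity and surjectivity after restriction to an étale scheme (for S3144)
-/

set_option autoImplicit false
universe u
open CategoryTheory CategoryTheory.Limits AlgebraicGeometry Opposite
open Groth.Agent.Sga4h.ModRestr Groth.Agent.Etcore

namespace Groth.Agent.Sga4h.X144IR

variable {Λ : Type (u+1)} [CommRing Λ] {X : Scheme.{u}}

/-- The canonical map from `V` considered as étale over `V` composed with `V ⟶ X`, to `V`. -/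
noncomputable def toSelf (V : X.Etale) [Etale V.hom] :
    (EtShriek.compEtale V.hom).obj (EtCoh.top V.left) ⟶ V :=
  MorphismProperty.Over.homMk (𝟙 V.left) (by
    change 𝟙 V.left ≫ V.hom = 𝟙 V.left ≫ V.hom
    rfl) trivial

theorem van_res_iff {V : Scheme.{u}} (p : V ⟶ X) [Etale p] (G : EtModW.Mod Λ X) (W : V.Etale)
    (s : EtModW.sect Λ G ((EtShriek.compEtale p).obj W)) (w : W.left) :
    LVan.Van ((res Λ p).obj G) (U := W) s w ↔ LVan.Van G (U := (EtShriek.compEtale p).obj W) s w := by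
  constructor
  · rintro ⟨Z, k, z, hz, h⟩
    exact ⟨(EtShriek.compEtale p).obj Z, (EtShriek.compEtale p).map k, z, hz, h⟩
  · rintro ⟨Z, k, z, hz, h⟩
    have hk : AlgebraicGeometry.Etale k.left := Etbase.EtSite.etale_left k
    have hW : AlgebraicGeometry.Etale W.hom := W.prop
    let kl : Z.left ⟶ W.left := k.left
    have hkl : AlgebraicGeometry.Etale kl := hk
    let Z' : V.Etale := Scheme.Etale.mk (kl ≫ W.hom)
    let k' : Z' ⟶ W := MorphismProperty.Over.homMk kl rfl trivial
    have hkw : k.left ≫ W.hom ≫ p = Z.hom := Over.w k.hom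
    let e : (EtShriek.compEtale p).obj Z' ⟶ Z := MorphismProperty.Over.homMk (𝟙 Z.left) (by
      change 𝟙 Z.left ≫ Z.hom = (kl ≫ W.hom) ≫ p
      rw [Category.id_comp, Category.assoc]
      exact hkw.symm) trivial
    have he : (EtShriek.compEtale p).map k' = e ≫ k := by
      apply (Scheme.Etale.forget _ ⋙ Over.forget _).map_injective
      exact (Category.id_comp kl).symm
    refine ⟨Z', k', z, hz, ?_⟩
    change LVan.res G ((EtShriek.compEtale p).map k') s = 0
    rw [he, LVan.res_comp, h, map_zero]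

theorem inj_surj_res (Λ : Type (u+1)) [CommRing Λ] {X : Scheme.{u}} (V : X.Etale) [Etale V.hom]
    (G : EtModW.Mod Λ X) (M : Type (u+1)) [AddCommGroup M] [Module Λ M]
    (φ : M →ₗ[Λ] EtModW.sect Λ G V) (v : V.left) (h1 : LVan.InjAt G φ v) (h2 : LVan.SurjAt G φ v) :
    ∃ φ' : M →ₗ[Λ] EtModW.sect Λ ((res Λ V.hom).obj G) (EtCoh.top V.left),
      LVan.InjAt ((res Λ V.hom).obj G) φ' v ∧ LVan.SurjAt ((res Λ V.hom).obj G) φ' v := by
  let φ' : M →ₗ[Λ] EtModW.sect Λ G ((EtShriek.compEtale V.hom).obj (EtCoh.top V.left)) :=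
    LVan.resHom (toSelf V) φ
  have hi : LVan.InjAt G φ' v := (LVan.injAt_res_iff (toSelf V) v φ).2 h1
  have hs : LVan.SurjAt G φ' v := (LVan.surjAt_res_iff (toSelf V) v φ).2 h2
  refine ⟨φ', fun m hm => hi m ((van_res_iff V.hom G _ _ _).1 hm), ?_⟩
  intro W g w hw t
  obtain ⟨m, hm⟩ := hs ((EtShriek.compEtale V.hom).obj W) ((EtShriek.compEtale V.hom).map g) w hw t
  exact ⟨m, (van_res_iff V.hom G W _ w).2 hm⟩

end Groth.Agent.Sga4h.X144IR
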