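import Groth.Agent.Sga4h.TameFieldK2
import Mathlib.RingTheory.DiscreteValuationRing.Basic

/-!
# Étale cohomology of the fraction field of a strictly henselian DVR: `K1` and `K2`

`R` strictly henselian DVR, `K` its fraction field, `n` invertible in `R`.

* `K1`: `H^q(Spec K, A) = 0` for `q ≥ 2` and `A` killed by `n`;
* `K2`: `|H¹(Spec K, ℤ/n)| = n`.
-/

set_option autoImplicit false

universe u

open CategoryTheory AlgebraicGeometry

namespace Groth.Agent.Sga4h.TameField

variable (R K : Type u) [CommRing R] [IsDomain R] [IsDiscreteValuationRing R] [Field K]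
  [Algebra R K] [IsFractionRing R K] (hR : EtCoh.IsStrictlyHenselianLocalRing R) (n : ℕ)
  (hn : IsUnit (n : R))

include R hR hn in
/-- `cd_n(K) ≤ 1`. -/
theorem K1 (A : EtCoh.Ab (Spec (CommRingCat.of K))) (hA : EtCoh.KilledBy n A) (q : ℕ)
    (hq : 2 ≤ q) : Subsingleton (EtCoh.H (Spec (CommRingCat.of K)) A q) := by
  obtain ⟨r, rfl⟩ := Nat.exists_eq_add_of_le' hq
  exact Groth.Agent.CurvesA.EtFieldH.subsingleton_H A (r + 2)
    (TameFieldK1.ext_eq_zero R hR n hn A ((Groth.Agent.Sga5.EtKilled.killedBy_iff n).1 hA) r)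

include R hR hn in
/-- `|H¹(K, ℤ/n)| = n`. -/
theorem K2 : Nat.card (EtCoh.H (Spec (CommRingCat.of K))
    (EtCoh.const (Spec (CommRingCat.of K)) (ZMod n)) 1) = n :=
  TameFieldK2.card_H1 R K hR n hn

end Groth.Agent.Sga4h.TameField
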