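import Groth.Agent.Sga4h.TameFieldK2

/-!
# `H¹(K, ℤ/n)` is cyclic for `K` the fraction field of a strictly henselian DVR
-/

set_option autoImplicit false

universe u

open CategoryTheory Category Limits Opposite AlgebraicGeometry Abelian
open Groth.Agent.CurvesA Groth.Agent.CurvesA.EtFieldObj Groth.Agent.CurvesA.EtFieldDesc
  Groth.Agent.CurvesA.EtFieldTr

namespace Groth.Agent.Sga4h.TameFieldCyc

open TameFieldK2

variable (R K : Type u) [CommRing R] [IsDomain R] [IsDiscreteValuationRing R] [Field K]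
  [Algebra R K] [IsFractionRing R K]

include R in
theorem exists_surj_mu (hR : EtCoh.IsStrictlyHenselianLocalRing R) (n : ℕ) (hn : IsUnit (n : R)) :
    ∃ Φ : ℤ →+ EtCoh.H (Spec (CommRingCat.of K)) (EtCoh.mu (Spec (CommRingCat.of K)) n) 1,
      Function.Surjective Φ := by
  obtain ⟨p, hp1, hp2⟩ := exists_hom_int R K hR n hn
  obtain ⟨e⟩ := exists_H0_Gm K
  have hnΓ := isUnit_Γ R K n hn
  have hsub := subsingleton_H1_Gm K
  let δ := Dix.KummerLES.δ (X := Spec (CommRingCat.of K)) hnΓ 0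
  let Φ : ℤ →+ EtCoh.H (Spec (CommRingCat.of K)) (EtCoh.mu (Spec (CommRingCat.of K)) n) 1 :=
    (δ.comp e.symm.toAddMonoidHom).comp (zmultiplesHom _ (Additive.ofMul p))
  have hΦ : ∀ k : ℤ, Φ k = δ (e.symm (Additive.ofMul (p ^ k))) := fun k => rfl
  refine ⟨Φ, ?_⟩
  intro y
  obtain ⟨x, hx⟩ := Dix.KummerLES.exists_δ_of_map_eq_zero hnΓ 0 y (Subsingleton.elim _ _)
  obtain ⟨k, w, hkw⟩ := hp1 (e x).toMul
  refine ⟨k, ?_⟩
  have h1 : x = e.symm (Additive.ofMul (p ^ k)) + n • e.symm (Additive.ofMul w) := by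
    rw [← map_nsmul, ← map_add]
    apply e.injective
    rw [AddEquiv.apply_symm_apply, ← ofMul_pow, ← ofMul_mul, ← hkw]
    rfl
  rw [hΦ, ← hx, h1, map_add]
  have h2 : δ (n • e.symm (Additive.ofMul w)) = 0 := Dix.KummerLES.δ_nsmul hnΓ 0 _
  exact (add_zero _).symm.trans (congrArg (fun a => δ (e.symm (Additive.ofMul (p ^ k))) + a) h2.symm)

/-- `H¹(K, ℤ/n)` is cyclic. -/
theorem exists_surj (hR : EtCoh.IsStrictlyHenselianLocalRing R) (n : ℕ) (hn : IsUnit (n : R)) :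
    ∃ Φ : ℤ →+ EtCoh.H (Spec (CommRingCat.of K))
      (EtCoh.const (Spec (CommRingCat.of K)) (ZMod n)) 1, Function.Surjective Φ := by
  obtain ⟨z, hz⟩ := TameFieldAlg.exists_primitiveRoot R K hR n hn
  have hnK : (n : K) ≠ 0 := by
    have := (hn.map (algebraMap R K)).ne_zero
    rwa [map_natCast] at this
  obtain ⟨i⟩ := MuConst.nonempty_iso_const_mu K n hnK z hz (𝟙 (Spec (CommRingCat.of K)))
  obtain ⟨Φ, hΦ⟩ := exists_surj_mu R K hR n hn
  let e := ((EtCoh.HF (Spec (CommRingCat.of K)) 1).mapIso i).addCommGroupIsoToAddEquiv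
  refine ⟨e.symm.toAddMonoidHom.comp Φ, ?_⟩
  exact e.symm.surjective.comp hΦ

end Groth.Agent.Sga4h.TameFieldCyc
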