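import Groth.Agent.Sga4h.TameFieldDual
import Mathlib.Algebra.Homology.DerivedCategory.Ext.ExactSequences
import Mathlib.CategoryTheory.Abelian.Basic
import Mathlib.SetTheory.Cardinal.Finite

/-!
# The duality `Ext¹(Z, F) = Hom(Hom(F, C), Ext¹(Z, C))`
-/

set_option autoImplicit false

universe w v u

open CategoryTheory Category Limits Abelian

namespace Groth.Agent.Sga4h.TameFieldFive

variable {𝒜 : Type u} [Category.{v} 𝒜] [Abelian 𝒜] [HasExt.{w} 𝒜] (Z C : 𝒜)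

/-- Pushforward of classes. -/
noncomputable def pf {F G : 𝒜} (φ : F ⟶ G) : Ext Z F 1 →+ Ext Z G 1 where
  toFun x := x.comp (Ext.mk₀ φ) (add_zero 1)
  map_zero' := by simp
  map_add' x y := by simp

theorem pf_comp {F G H : 𝒜} (φ : F ⟶ G) (ψ : G ⟶ H) (x : Ext Z F 1) :
    pf Z (φ ≫ ψ) x = pf Z ψ (pf Z φ x) := by
  change x.comp (Ext.mk₀ (φ ≫ ψ)) (add_zero 1) =
    (x.comp (Ext.mk₀ φ) (add_zero 1)).comp (Ext.mk₀ ψ) (add_zero 1)
  rw [← Ext.mk₀_comp_mk₀, Ext.comp_assoc_of_third_deg_zero]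

theorem pf_id {F : 𝒜} (x : Ext Z F 1) : pf Z (𝟙 F) x = x := Ext.comp_mk₀_id _

theorem pf_add {F G : 𝒜} (φ ψ : F ⟶ G) (x : Ext Z F 1) :
    pf Z (φ + ψ) x = pf Z φ x + pf Z ψ x := by
  change x.comp (Ext.mk₀ (φ + ψ)) (add_zero 1) = _
  rw [Ext.mk₀_add, Ext.comp_add]
  rfl

theorem pf_zero {F G : 𝒜} (x : Ext Z F 1) : pf Z (0 : F ⟶ G) x = 0 := by
  change x.comp (Ext.mk₀ (0 : F ⟶ G)) (add_zero 1) = _
  rw [Ext.mk₀_zero, Ext.comp_zero]

/-- The pairing. -/
noncomputable def θ (F : 𝒜) : Ext Z F 1 →+ ((F ⟶ C) →+ Ext Z C 1) where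
  toFun x := { toFun := fun φ => pf Z φ x
               map_zero' := pf_zero Z x
               map_add' := fun φ ψ => pf_add Z φ ψ x }
  map_zero' := by
    ext φ
    exact map_zero (pf Z φ)
  map_add' x y := by
    ext φ
    exact map_add (pf Z φ) x y

theorem θ_apply {F : 𝒜} (x : Ext Z F 1) (φ : F ⟶ C) : θ Z C F x φ = pf Z φ x := rfl

/-- Duality holds for `F`. -/
structure Good (n : ℕ) (F : 𝒜) : Prop where
  kill : n • 𝟙 F = 0
  fin : Finite (F ⟶ C)
  bij : Function.Bijective (θ Z C F)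

variable {Z C} {n : ℕ}

omit [HasExt.{w} 𝒜] in
theorem nsmul_hom {F G : 𝒜} (hF : n • 𝟙 F = 0) (φ : F ⟶ G) : n • φ = 0 := by
  rw [← id_comp φ, ← Preadditive.nsmul_comp, hF, zero_comp]

theorem Good.biprod {A B : 𝒜} (hA : Good Z C n A) (hB : Good Z C n B) : Good Z C n (A ⊞ B) := by
  refine ⟨?_, ?_, ?_, ?_⟩
  · rw [← biprod.total, nsmul_add, ← Preadditive.comp_nsmul, nsmul_hom hA.kill,
      ← Preadditive.comp_nsmul, nsmul_hom hB.kill, comp_zero, comp_zero, add_zero]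
  · have h1 := hA.fin
    have h2 := hB.fin
    refine Finite.of_injective (fun φ : A ⊞ B ⟶ C => (biprod.inl ≫ φ, biprod.inr ≫ φ)) ?_
    intro φ ψ h
    exact biprod.hom_ext' _ _ (congrArg Prod.fst h) (congrArg Prod.snd h)
  · rw [injective_iff_map_eq_zero]
    intro x hx
    have h1 : pf Z biprod.fst x = 0 := by
      refine hA.bij.1 ?_
      ext φ
      rw [θ_apply, ← pf_comp, map_zero]
      exact DFunLike.congr_fun hx (biprod.fst ≫ φ)
    have h2 : pf Z biprod.snd x = 0 := by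
      refine hB.bij.1 ?_
      ext φ
      rw [θ_apply, ← pf_comp, map_zero]
      exact DFunLike.congr_fun hx (biprod.snd ≫ φ)
    rw [← pf_id Z x, ← biprod.total, pf_add, pf_comp, pf_comp, h1, h2, map_zero, map_zero, add_zero]
  · intro ψ
    obtain ⟨a, ha⟩ := hA.bij.2 (ψ.comp (Preadditive.leftComp C (biprod.fst : A ⊞ B ⟶ A)))
    obtain ⟨b, hb⟩ := hB.bij.2 (ψ.comp (Preadditive.leftComp C (biprod.snd : A ⊞ B ⟶ B)))
    refine ⟨pf Z biprod.inl a + pf Z biprod.inr b, ?_⟩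
    ext φ
    rw [θ_apply, map_add, ← pf_comp, ← pf_comp]
    have h1 : pf Z (biprod.inl ≫ φ) a = ψ (biprod.fst ≫ biprod.inl ≫ φ) :=
      DFunLike.congr_fun ha (biprod.inl ≫ φ)
    have h2 : pf Z (biprod.inr ≫ φ) b = ψ (biprod.snd ≫ biprod.inr ≫ φ) :=
      DFunLike.congr_fun hb (biprod.inr ≫ φ)
    rw [h1, h2, ← map_add]
    congr 1
    rw [← assoc, ← assoc, ← Preadditive.add_comp, biprod.total, id_comp]

/-- The generator. -/
theorem good_of_gen (hn : 0 < n) {J : 𝒜} (hJ : n • 𝟙 J = 0) (tr : J ⟶ C)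
    (hgen : ∀ φ : J ⟶ C, ∃ k : ℤ, φ = k • tr)
    (hsurj : Function.Surjective (pf Z tr)) (h1 : Nat.card (Ext Z J 1) = n)
    (h2 : Nat.card (Ext Z C 1) = n) : Good Z C n J := by
  have f1 : Finite (Ext Z J 1) := Nat.finite_of_card_ne_zero (by omega)
  have hb : Function.Bijective (pf Z tr) :=
    hsurj.bijective_of_nat_card_le (by omega)
  have hz : ∀ (k : ℤ) (x : Ext Z J 1), pf Z (k • tr) x = k • pf Z tr x := by
    intro k x
    rw [← θ_apply, map_zsmul, θ_apply]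
  refine ⟨hJ, ?_, ?_, ?_⟩
  · have : NeZero n := ⟨hn.ne'⟩
    refine Finite.of_surjective (fun k : ZMod n => (ZMod.val k) • tr) fun φ => ?_
    obtain ⟨k, rfl⟩ := hgen φ
    refine ⟨(k : ZMod n), ?_⟩
    have h3 : ((ZMod.val (k : ZMod n) : ℕ) : ℤ) = k % n := ZMod.val_intCast k
    change ZMod.val (k : ZMod n) • tr = k • tr
    rw [← natCast_zsmul, h3, Int.emod_def, sub_smul, mul_comm, mul_smul, natCast_zsmul,
      nsmul_hom hJ, smul_zero, sub_zero]
  · rw [injective_iff_map_eq_zero]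
    intro x hx
    exact hb.1 ((DFunLike.congr_fun hx tr).trans (map_zero _).symm)
  · intro ψ
    obtain ⟨x, hx⟩ := hb.2 (ψ tr)
    refine ⟨x, ?_⟩
    ext φ
    obtain ⟨k, rfl⟩ := hgen φ
    rw [θ_apply, hz, hx, map_zsmul]

/-- Right exactness. -/
theorem Good.of_exact (hn : 0 < n) (hc : ∃ Φ : ℤ →+ Ext Z C 1, Function.Surjective Φ)
    (hT : Nat.card (Ext Z C 1) = n) {Q' Q A : 𝒜} (g : Q' ⟶ Q) (p : Q ⟶ A) (w : g ≫ p = 0)
    [Epi p] (hex : (ShortComplex.mk g p w).Exact) (hs : Function.Surjective (pf Z p))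
    (hQ' : Good Z C n Q') (hQ : Good Z C n Q) : Good Z C n A := by
  have f1 := hQ'.fin
  have f2 := hQ.fin
  have hinj : Function.Injective (Preadditive.leftComp C p) := fun φ ψ h => by
    rw [← cancel_epi p]
    exact h
  refine ⟨?_, ?_, ?_, ?_⟩
  · rw [← cancel_epi p, Preadditive.comp_nsmul, comp_id, comp_zero, nsmul_hom hQ.kill]
  · exact Finite.of_injective _ hinj
  · rw [injective_iff_map_eq_zero]
    intro x hx
    obtain ⟨y, rfl⟩ := hs x
    let r := (Preadditive.leftComp C g).rangeRestrict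
    have hr : Function.Surjective r := AddMonoidHom.rangeRestrict_surjective _
    have hk : r.ker ≤ (θ Z C Q y).ker := by
      intro φ hφ
      have h0 : g ≫ φ = 0 := congrArg Subtype.val hφ
      have h3 : p ≫ hex.desc φ h0 = φ := hex.g_desc _ _
      rw [AddMonoidHom.mem_ker, θ_apply, ← h3, pf_comp]
      exact DFunLike.congr_fun hx (hex.desc φ h0)
    obtain ⟨ψ, hψ⟩ := TameFieldDual.exists_extend hc hT hn (fun φ => nsmul_hom hQ'.kill φ)
      (AddSubgroup.subtype (Preadditive.leftComp C g).range) Subtype.val_injective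
      (r.liftOfSurjective hr ⟨θ Z C Q y, hk⟩)
    obtain ⟨z, rfl⟩ := hQ'.bij.2 ψ
    have h4 : pf Z g z = y := by
      refine hQ.bij.1 ?_
      ext φ
      rw [θ_apply, ← pf_comp]
      have h5 := DFunLike.congr_fun hψ (r φ)
      have h6 : r.liftOfSurjective hr ⟨θ Z C Q y, hk⟩ (r φ) = θ Z C Q y φ :=
        AddMonoidHom.liftOfRightInverse_comp_apply _ _ _ _ _
      exact h5.trans h6
    rw [← h4, ← pf_comp, w, pf_zero]
  · intro ψ
    obtain ⟨ψ', hψ'⟩ := TameFieldDual.exists_extend hc hT hn (fun φ => nsmul_hom hQ.kill φ)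
      (Preadditive.leftComp C p) hinj ψ
    obtain ⟨y, rfl⟩ := hQ.bij.2 ψ'
    refine ⟨pf Z p y, ?_⟩
    ext φ
    rw [θ_apply, ← pf_comp]
    exact DFunLike.congr_fun hψ' φ

/-- Surjectivity from vanishing of `Ext²`. -/
theorem pf_surjective {Q A : 𝒜} (p : Q ⟶ A) [Epi p]
    (h : ∀ x : Ext Z (kernel p) 2, x = 0) : Function.Surjective (pf Z p) := by
  intro x
  have hS : (ShortComplex.mk (kernel.ι p) p (kernel.condition p)).ShortExact :=
    { exact := ShortComplex.exact_kernel p }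
  obtain ⟨y, hy⟩ := Ext.covariant_sequence_exact₃ Z hS x (by norm_num : 1 + 1 = 2) (h _)
  exact ⟨y, hy⟩

/-- The count. -/
theorem Good.card (hn : 0 < n) (hc : ∃ Φ : ℤ →+ Ext Z C 1, Function.Surjective Φ)
    (hT : Nat.card (Ext Z C 1) = n) {A : 𝒜} (hA : Good Z C n A) :
    Finite (Ext Z A 1) ∧ Nat.card (Ext Z A 1) = Nat.card (A ⟶ C) := by
  have h1 := hA.fin
  have h2 : Nat.card (Ext Z A 1) = Nat.card (A ⟶ C) := by
    rw [Nat.card_congr (Equiv.ofBijective _ hA.bij)]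
    exact TameFieldDual.card_hom hc hT hn _ (fun φ => nsmul_hom hA.kill φ)
  refine ⟨Nat.finite_of_card_ne_zero ?_, h2⟩
  rw [h2]
  exact Nat.card_pos.ne'

end Groth.Agent.Sga4h.TameFieldFive
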