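import Groth.Prelude.Def_EtModD2
import Groth.Prelude.Def_Hens2
import Groth.Prelude.Def_EtCore
import Groth.Agent.Sga4h.HomExt
import Groth.Agent.Sga4h.X144Geo2
import Groth.Agent.Etcore.LFLC
import Groth.Agent.Etrest.ModLoc
import Groth.Agent.Etrest.ModSpec
import Groth.Agent.Etrest.ModAb
import Mathlib.AlgebraicGeometry.Morphisms.OpenImmersion
import Mathlib.AlgebraicGeometry.Morphisms.Separated
import Mathlib.AlgebraicGeometry.Noetherian
import Mathlib.RingTheory.RegularLocalRing.Defs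
import Mathlib.Data.ZMod.Defs
import Mathlib.Order.KrullDimension

/-!
# Local vanishing of sheaves of modules, and good neighbourhoods of a bad point (S3144)

* `isZero_of_local`: a sheaf of modules is zero if around every point some étale restriction has zero stalk.
* `exists_nbhd`: two sheaves with finite stalk at a point `z` of a regular scheme of dimension `≤ 1` have their
  stalks realised by sections on a common integral affine étale neighbourhood whose only bad point is over `z`.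
-/

set_option autoImplicit false
universe u
open CategoryTheory CategoryTheory.Limits AlgebraicGeometry Opposite
open Groth.Agent.Sga4h.ModRestr Groth.Agent.Sga4h.HomSh Groth.Agent.Sga4h.HomExt
open Groth.Agent.Etcore
open Groth.Agent.EtpbcA.Germ (Fib fmap pt exists_lift pt_fmap hom_pt)

namespace Groth.Agent.Sga4h.X144Nbd

variable (Λ : Type (u+1)) [CommRing Λ]

theorem isZero_of_sections {X : Scheme.{u}} (N : EtModW.Mod Λ X)
    (h : ∀ (U : X.Etale) (s : EtModW.sect Λ N U), s = 0) : IsZero N := by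
  rw [IsZero.iff_id_eq_zero]
  apply Sheaf.hom_ext
  ext U s
  exact (h U.unop s).trans (h U.unop _).symm

/-- (ZR) -/
theorem isZero_of_local {X : Scheme.{u}} (N : EtModW.Mod Λ X)
    (h : ∀ x : X, ∃ (V : Scheme.{u}) (p : V ⟶ X) (_ : Etale p) (Ω : Type u) (_ : Field Ω) (_ : IsSepClosed Ω)
      (ξ : Spec (.of Ω) ⟶ V),
      (∀ t, (ξ ≫ p) t = x) ∧ IsZero ((EtModW.stalk Λ ξ).obj ((res Λ p).obj N))) : IsZero N := by
  refine isZero_of_sections Λ N (fun U s => ?_)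
  refine Groth.Agent.Etrest.ModGerm.sect_ext Λ N s 0 (fun x => ?_)
  obtain ⟨V, p, hp, Ω, _, _, ξ, hξ, hz⟩ := h (U.hom x)
  have hx : U.hom x = p (ξ default) := by
    rw [← hξ default]
    exact Scheme.Hom.comp_apply _ _ _
  obtain ⟨z, hz1, hz2⟩ := Scheme.Pullback.exists_preimage_pullback (f := U.hom) (g := p) x (ξ default) hx
  let U' : V.Etale := (EtCoh.bc p).obj U
  let z' : U'.left := z
  let t0 : Fib ξ (EtCoh.top V) := Over.homMk ξ (Category.comp_id _)
  obtain ⟨t', -, ht'⟩ := exists_lift ξ (MorphismProperty.Over.homMk U'.hom : U' ⟶ EtCoh.top V) t0 z' hz2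
  let c : (EtShriek.compEtale p).obj U' ⟶ U := (EtaleRes.compBcAdj p).counit.app U
  have hs : Subsingleton ((EtModW.stalk Λ ξ).obj ((res Λ p).obj N) : Type (u + 1)) :=
    ModuleCat.subsingleton_of_isZero hz
  have h0 : Groth.Agent.Etrest.ModGerm.germ Λ ξ ((res Λ p).obj N) t'
      (Groth.Agent.Etrest.ModGerm.res Λ N c s : EtModW.sect Λ ((res Λ p).obj N) U') = 0 := hs.elim _ _
  rw [Groth.Agent.Etrest.ModGerm.germ_eq_zero_iff] at h0
  obtain ⟨W, g, w, hw, e⟩ := h0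
  refine ⟨(EtShriek.compEtale p).obj W, (EtShriek.compEtale p).map g ≫ c, ⟨pt ξ w, ?_⟩, ?_⟩
  · change pullback.fst U.hom p (g.left (pt ξ w)) = x
    rw [← pt_fmap, hw, ht']
    exact hz1
  · rw [Groth.Agent.Etrest.ModGerm.res_comp, map_zero]
    exact e

section germ

variable {Λ} {X : Scheme.{u}} {Ω : Type u} [Field Ω] [IsSepClosed Ω] (ξ : Spec (CommRingCat.of Ω) ⟶ X)
  {F : EtModW.Mod Λ X} {U : X.Etale} {M : Type (u + 1)} [AddCommGroup M] [Module Λ M]

/-- Vanishing around the point of a geometric point is vanishing of the germ. -/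
theorem van_iff_germ (t : Fib ξ U) (s : EtModW.sect Λ F U) :
    LVan.Van F s (pt ξ t) ↔ Groth.Agent.Etrest.ModGerm.germ Λ ξ F t s = 0 := by
  rw [Groth.Agent.Etrest.ModGerm.germ_eq_zero_iff]
  constructor
  · rintro ⟨V, g, v, hv, e⟩
    obtain ⟨t', ht', -⟩ := exists_lift ξ g t v hv
    exact ⟨V, g, t', ht', e⟩
  · rintro ⟨V, g, v, hv, e⟩
    exact ⟨V, g, pt ξ v, by rw [← pt_fmap, hv], e⟩

theorem injAt_of_germ (t : Fib ξ U) (φ : M →ₗ[Λ] EtModW.sect Λ F U)
    (h : Function.Injective (fun m => Groth.Agent.Etrest.ModGerm.germ Λ ξ F t (φ m))) :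
    LVan.InjAt F φ (pt ξ t) := by
  intro m hm
  rw [van_iff_germ] at hm
  apply h
  change _ = Groth.Agent.Etrest.ModGerm.germ Λ ξ F t (φ 0)
  rw [map_zero, map_zero]
  exact hm

theorem surjAt_of_germ (t : Fib ξ U) (φ : M →ₗ[Λ] EtModW.sect Λ F U)
    (h : Function.Surjective (fun m => Groth.Agent.Etrest.ModGerm.germ Λ ξ F t (φ m))) :
    LVan.SurjAt F φ (pt ξ t) := by
  intro V g v hv s
  obtain ⟨t', ht', rfl⟩ := exists_lift ξ g t v hv
  obtain ⟨m, hm⟩ := h (Groth.Agent.Etrest.ModGerm.germ Λ ξ F t' s)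
  refine ⟨m, ?_⟩
  rw [van_iff_germ, map_sub, sub_eq_zero, ← hm]
  change _ = Groth.Agent.Etrest.ModGerm.germ Λ ξ F t' (Groth.Agent.Etrest.ModGerm.res Λ F g (φ m))
  rw [Groth.Agent.Etrest.ModGerm.germ_res, ht']

end germ

/-- (NB) -/
theorem exists_nbhd [IsNoetherianRing Λ] {S U : Scheme.{u}} [IsLocallyNoetherian S]
    (hreg : ∀ s : S, IsRegularLocalRing (S.presheaf.stalk s)) (hdim : ∀ s : S, ringKrullDim (S.presheaf.stalk s) ≤ 1)
    (j : U ⟶ S) [IsOpenImmersion j] (hU : Dense (Set.range j.base)) (z : S) (hz : z ∉ Set.range j.base)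
    {Ω : Type u} [Field Ω] [IsSepClosed Ω] (ξ : Spec (.of Ω) ⟶ S) (hξ : ∀ t, ξ t = z)
    (G D : EtModW.Mod Λ S) [Finite ((EtModW.stalk Λ ξ).obj G)] [Finite ((EtModW.stalk Λ ξ).obj D)] :
    ∃ (V : S.Etale) (v : V.left), V.hom v = z ∧ IsIntegral V.left ∧ IsAffine V.left ∧ IsNoetherian V.left ∧
      (∀ w : V.left, V.hom w ∉ Set.range j.base ↔ w = v) ∧
      (∃ (M : Type (u+1)) (_ : AddCommGroup M) (_ : Module Λ M) (_ : Finite M) (φ : M →ₗ[Λ] EtModW.sect Λ G V), LVan.InjAt G φ v ∧ LVan.SurjAt G φ v) ∧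
      (∃ (M : Type (u+1)) (_ : AddCommGroup M) (_ : Module Λ M) (_ : Finite M) (φ : M →ₗ[Λ] EtModW.sect Λ D V), LVan.InjAt D φ v ∧ LVan.SurjAt D φ v) := by
  obtain ⟨U₁, t₁, φ₁, h₁⟩ := Groth.Agent.Etrest.ModSpec.exists_spread Λ ξ G
  obtain ⟨U₂, g, t₂, φ₂, hg, h₂⟩ := Groth.Agent.Etrest.ModSpec.exists_spread_hom_over Λ ξ D
    (LinearMap.id : ((EtModW.stalk Λ ξ).obj D : Type (u + 1)) →ₗ[Λ] _) t₁
  obtain ⟨V, k, v, hv, -, h3, h4, h5, h6⟩ := X144Geo2.geo3 hreg hdim j hU z hz U₂ (pt ξ t₂)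
    ((hom_pt ξ t₂).trans (hξ _))
  have hV : V.hom v = z := by
    have e : k.left ≫ U₂.hom = V.hom := MorphismProperty.Over.w k
    have e2 : V.hom v = U₂.hom (k.left v) := by
      rw [← e]
      exact Scheme.Hom.comp_apply _ _ _
    rw [e2, hv]
    exact (hom_pt ξ t₂).trans (hξ _)
  let ψ₁ : ((EtModW.stalk Λ ξ).obj G : Type (u + 1)) →ₗ[Λ] EtModW.sect Λ G U₂ := LVan.resHom g φ₁
  have e₁ : ∀ a, Groth.Agent.Etrest.ModGerm.germ Λ ξ G t₂ (ψ₁ a) = a := by
    intro a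
    refine (Groth.Agent.Etrest.ModGerm.germ_res Λ ξ G g t₂ (φ₁ a)).trans ?_
    rw [hg, h₁]
  have b₁ : Function.Bijective (fun m => Groth.Agent.Etrest.ModGerm.germ Λ ξ G t₂ (ψ₁ m)) := by
    have : (fun m => Groth.Agent.Etrest.ModGerm.germ Λ ξ G t₂ (ψ₁ m)) = id := funext e₁
    rw [this]
    exact Function.bijective_id
  have b₂ : Function.Bijective (fun m => Groth.Agent.Etrest.ModGerm.germ Λ ξ D t₂ (φ₂ m)) := by
    have : (fun m => Groth.Agent.Etrest.ModGerm.germ Λ ξ D t₂ (φ₂ m)) = id := funext h₂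
    rw [this]
    exact Function.bijective_id
  refine ⟨V, v, hV, h3, h4, h5, h6, ⟨_, inferInstance, inferInstance, inferInstance, LVan.resHom k ψ₁, ?_, ?_⟩,
    ⟨_, inferInstance, inferInstance, inferInstance, LVan.resHom k φ₂, ?_, ?_⟩⟩
  · rw [LVan.injAt_res_iff, hv]
    exact injAt_of_germ ξ t₂ ψ₁ b₁.1
  · rw [LVan.surjAt_res_iff, hv]
    exact surjAt_of_germ ξ t₂ ψ₁ b₁.2
  · rw [LVan.injAt_res_iff, hv]
    exact injAt_of_germ ξ t₂ φ₂ b₂.1
  · rw [LVan.surjAt_res_iff, hv]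
    exact surjAt_of_germ ξ t₂ φ₂ b₂.2

end Groth.Agent.Sga4h.X144Nbd
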