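import Groth.Agent.Sga4h.ModRestr
import Groth.Agent.Etcore.LPullComp
import Mathlib.AlgebraicGeometry.Morphisms.OpenImmersion

/-!
# Restriction of sheaves of modules along etale morphisms: composition, squares, locally constant
sheaves, and the unit of restriction and direct image
-/

set_option autoImplicit false
universe u
open CategoryTheory CategoryTheory.Limits AlgebraicGeometry Opposite

namespace Groth.Agent.Sga4h.X144Res

open Groth.Agent.Sga4h.ModRestr Groth.Agent.Sga4h.EtaleRes

variable (Λ : Type (u+1)) [CommRing Λ]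

attribute [local instance] jCont

/-- `compEtale` is compatible with composition. -/
noncomputable def compEtaleComp {X V W : Scheme.{u}} (f : V ⟶ X) (g : W ⟶ V) [hf : Etale f]
    [hg : Etale g] [Etale (g ≫ f)] :
    EtShriek.compEtale g ⋙ EtShriek.compEtale f ≅ EtShriek.compEtale (g ≫ f) :=
  (MorphismProperty.Over.mapComp (P := EtCoh.etaleMP.{u}) ⊤ hg hf).symm

/-- `compEtale` along equal morphisms. -/
noncomputable def compEtaleCongr {X V : Scheme.{u}} {f g : V ⟶ X} (h : f = g) [hf : Etale f]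
    [Etale g] :
    EtShriek.compEtale f ≅ EtShriek.compEtale g :=
  MorphismProperty.Over.mapCongr (P := EtCoh.etaleMP.{u}) ⊤ h hf

/-- (RC) -/
noncomputable def resComp {X V W : Scheme.{u}} (f : V ⟶ X) (g : W ⟶ V) [Etale f] [Etale g] [Etale (g ≫ f)] :
    res Λ (g ≫ f) ≅ res Λ f ⋙ res Λ g :=
  (Functor.sheafPushforwardContinuousComp' (F := EtShriek.compEtale g) (G := EtShriek.compEtale f)
    (FG := EtShriek.compEtale (g ≫ f)) (compEtaleComp f g) (ModuleCat.{u + 1} Λ)
    W.smallEtaleTopology V.smallEtaleTopology X.smallEtaleTopology).symm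

/-- Restriction along equal morphisms. -/
noncomputable def resCongr {X V : Scheme.{u}} {f g : V ⟶ X} (h : f = g) [Etale f] [Etale g] :
    res Λ f ≅ res Λ g :=
  Functor.sheafPushforwardContinuousIso (compEtaleCongr h) (ModuleCat.{u + 1} Λ)
    V.smallEtaleTopology X.smallEtaleTopology

/-- (RC2) -/
noncomputable def resSquare {X V W W' : Scheme.{u}} (f : V ⟶ X) (g : W ⟶ V) (f' : W' ⟶ X) (g' : W ⟶ W') [Etale f] [Etale g] [Etale f'] [Etale g']
    (h : g ≫ f = g' ≫ f') : res Λ f ⋙ res Λ g ≅ res Λ f' ⋙ res Λ g' :=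
  (resComp Λ f g).symm ≪≫ resCongr Λ h ≪≫ resComp Λ f' g'

/-- The inverse image along an etale morphism is restriction. -/
noncomputable def pullIsoRes {X V : Scheme.{u}} (p : V ⟶ X) [Etale p] :
    EtModW.pull Λ p ≅ res Λ p :=
  Adjunction.leftAdjointUniq (Groth.Agent.Etcore.LPull.pullPushAdj p) (resPushAdj Λ p)

/-- (FR) -/
theorem ftlc_res {X V : Scheme.{u}} (p : V ⟶ X) [Etale p] (F : EtModW.Mod Λ X) (hF : EtModW.IsFTLocConst _ F) :
    EtModW.IsFTLocConst _ ((res Λ p).obj F) :=
  Groth.Agent.Etcore.LPullComp.isFTLC_of_iso ((pullIsoRes Λ p).app F)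
    (Groth.Agent.Etcore.LPullComp.isFTLC_pull p F hF)

theorem isIso_unit_iff {X V : Scheme.{u}} (p : V ⟶ X) [Etale p] (F : EtModW.Mod Λ X) :
    IsIso ((resPushAdj Λ p).unit.app F) ↔
      ∀ W : X.Etale, IsIso (F.obj.map ((compBcAdj p).counit.app W).op) := by
  constructor
  · intro h W
    exact inferInstanceAs (IsIso (((sheafToPresheaf _ _).map ((resPushAdj Λ p).unit.app F)).app (op W)))
  · intro h
    have : IsIso ((sheafToPresheaf _ _).map ((resPushAdj Λ p).unit.app F)) := by
      have : ∀ W, IsIso (((sheafToPresheaf _ _).map ((resPushAdj Λ p).unit.app F)).app W) :=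
        fun W => h W.unop
      exact NatIso.isIso_of_isIso_app _
    exact isIso_of_reflects_iso _ (sheafToPresheaf _ _)

section Open

variable {S U V U' : Scheme.{u}} (j : U ⟶ S) [IsOpenImmersion j] (p : V ⟶ S)
    (j' : U' ⟶ V) [IsOpenImmersion j'] (h : Set.range j'.base = p.base ⁻¹' Set.range j.base)

include h in
/-- For `a : A → V`, `A ×_V U'` and `A ×_S U` are the same open subscheme of `A`. -/
theorem range_eq {A : Scheme.{u}} (a : A ⟶ V) :
    Set.range (pullback.fst a j') = Set.range (pullback.fst (a ≫ p) j) := by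
  rw [IsOpenImmersion.range_pullbackFst, IsOpenImmersion.range_pullbackFst]
  ext w
  have h1 : (a w ∈ Set.range j'.base ↔ p (a w) ∈ Set.range j.base) := by
    rw [h]; rfl
  change a w ∈ Set.range j' ↔ (a ≫ p) w ∈ Set.range j
  rw [Scheme.Hom.comp_apply]
  exact h1

/-- the underlying isomorphism of schemes -/
noncomputable def leftIso {A : Scheme.{u}} (a : A ⟶ V) : pullback a j' ≅ pullback (a ≫ p) j :=
  IsOpenImmersion.isoOfRangeEq (pullback.fst a j') (pullback.fst (a ≫ p) j) (range_eq j p j' h a)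

theorem leftIso_hom_fst {A : Scheme.{u}} (a : A ⟶ V) :
    (leftIso j p j' h a).hom ≫ pullback.fst (a ≫ p) j = pullback.fst a j' :=
  IsOpenImmersion.isoOfRangeEq_hom_fac _ _ _

theorem leftIso_hom_snd {A : Scheme.{u}} (a : A ⟶ V) :
    (leftIso j p j' h a).hom ≫ pullback.snd (a ≫ p) j ≫ j = (pullback.snd a j' ≫ j') ≫ p := by
  rw [← pullback.condition, ← pullback.condition, ← Category.assoc, leftIso_hom_fst, Category.assoc]

end Open

/-- the isomorphism of etale `S`-schemes -/
noncomputable def overIso {S U V U' : Scheme.{u}} (j : U ⟶ S) [IsOpenImmersion j] (p : V ⟶ S) [Etale p]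
    (j' : U' ⟶ V) [IsOpenImmersion j'] (h : Set.range j'.base = p.base ⁻¹' Set.range j.base)
    (W : V.Etale) :
    (EtShriek.compEtale p).obj ((EtShriek.compEtale j').obj ((EtCoh.bc j').obj W)) ≅
      (EtShriek.compEtale j).obj ((EtCoh.bc j).obj ((EtShriek.compEtale p).obj W)) :=
  MorphismProperty.Over.isoMk (leftIso j p j' h W.hom) (leftIso_hom_snd j p j' h W.hom)

theorem overIso_hom_comp {S U V U' : Scheme.{u}} (j : U ⟶ S) [IsOpenImmersion j] (p : V ⟶ S) [Etale p]
    (j' : U' ⟶ V) [IsOpenImmersion j'] (h : Set.range j'.base = p.base ⁻¹' Set.range j.base)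
    (W : V.Etale) :
    (overIso j p j' h W).hom ≫ (compBcAdj j).counit.app ((EtShriek.compEtale p).obj W) =
      (EtShriek.compEtale p).map ((compBcAdj j').counit.app W) :=
  MorphismProperty.Over.Hom.ext (leftIso_hom_fst j p j' h W.hom)

/-- (UR) -/
theorem isIso_unit_res {S U V U' : Scheme.{u}} (j : U ⟶ S) [IsOpenImmersion j] (p : V ⟶ S) [Etale p] (j' : U' ⟶ V) [IsOpenImmersion j']
    (h : Set.range j'.base = p.base ⁻¹' Set.range j.base) (G : EtModW.Mod Λ S) [IsIso ((resPushAdj Λ j).unit.app G)] :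
    IsIso ((resPushAdj Λ j').unit.app ((res Λ p).obj G)) := by
  have h1 := (isIso_unit_iff Λ j G).1 inferInstance
  rw [isIso_unit_iff]
  intro W
  have h2 : IsIso (G.obj.map ((compBcAdj j).counit.app ((EtShriek.compEtale p).obj W)).op) := h1 _
  change IsIso (G.obj.map ((EtShriek.compEtale p).map ((compBcAdj j').counit.app W)).op)
  rw [← overIso_hom_comp j p j' h W, op_comp, Functor.map_comp]
  infer_instance

end Groth.Agent.Sga4h.X144Res
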