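import Groth.Prelude.Def_EtModD2
import Groth.Agent.Sga4h.EtaleRes
import Groth.Agent.Etcore.ShriekExact
import Mathlib.Algebra.Category.ModuleCat.AB
import Mathlib.CategoryTheory.Preadditive.Injective.Resolution
import Mathlib.CategoryTheory.Preadditive.Injective.Preserves
import Mathlib.CategoryTheory.Adjunction.Additive

/-!
# Restriction of sheaves of `Λ`-modules along an etale morphism `p : V ⟶ X`

* `res Λ p : Mod Λ X ⥤ Mod Λ V`, `F ↦ (W ↦ F(W → V → X))`;
* `ext Λ p` its left adjoint (extension by zero), exact;
* `resPushAdj Λ p : res Λ p ⊣ push Λ p`;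
* `res` is exact, additive and preserves injective objects;
* `resConst`: the restriction of a constant sheaf is constant.
-/

set_option autoImplicit false
universe u
open CategoryTheory CategoryTheory.Limits AlgebraicGeometry Opposite

namespace Groth.Agent.Sga4h.ModRestr

open Groth.Agent.Sga4h.EtaleRes

variable (Λ : Type (u + 1)) [CommRing Λ] {V X : Scheme.{u}}

attribute [local instance] jCont

/-- Restriction of sheaves of `Λ`-modules along an etale morphism. -/
noncomputable def res (p : V ⟶ X) [Etale p] : EtModW.Mod Λ X ⥤ EtModW.Mod Λ V :=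
  (EtShriek.compEtale p).sheafPushforwardContinuous (ModuleCat.{u + 1} Λ)
    V.smallEtaleTopology X.smallEtaleTopology

/-- Extension by zero of sheaves of `Λ`-modules along an etale morphism. -/
noncomputable def ext (p : V ⟶ X) [Etale p] : EtModW.Mod Λ V ⥤ EtModW.Mod Λ X :=
  (EtShriek.compEtale p).sheafPullback (ModuleCat.{u + 1} Λ)
    V.smallEtaleTopology X.smallEtaleTopology

/-- Extension by zero is left adjoint to restriction. -/
noncomputable def extResAdj (p : V ⟶ X) [Etale p] : ext Λ p ⊣ res Λ p :=
  (EtShriek.compEtale p).sheafAdjunctionContinuous (ModuleCat.{u + 1} Λ)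
    V.smallEtaleTopology X.smallEtaleTopology

/-- Restriction is left adjoint to direct image. -/
noncomputable def resPushAdj (p : V ⟶ X) [Etale p] : res Λ p ⊣ EtModW.push Λ p :=
  (compBcAdj p).sheafPushforwardContinuous (E := ModuleCat.{u + 1} Λ) V.smallEtaleTopology
    X.smallEtaleTopology

theorem res_obj_obj (p : V ⟶ X) [Etale p] (F : EtModW.Mod Λ X) :
    ((res Λ p).obj F).obj = (EtShriek.compEtale p).op ⋙ F.obj := rfl

theorem res_map_hom (p : V ⟶ X) [Etale p] {F G : EtModW.Mod Λ X} (f : F ⟶ G) :
    ((res Λ p).map f).hom = Functor.whiskerLeft (EtShriek.compEtale p).op f.hom := rfl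

theorem resPushAdj_unit_app_hom_app (p : V ⟶ X) [Etale p]
    (F : EtModW.Mod Λ X) (W : X.Etaleᵒᵖ) :
    ((resPushAdj Λ p).unit.app F).hom.app W =
      F.obj.map ((compBcAdj p).counit.app W.unop).op := rfl

theorem resPushAdj_counit_app_hom_app (p : V ⟶ X) [Etale p]
    (F : EtModW.Mod Λ V) (W : V.Etaleᵒᵖ) :
    ((resPushAdj Λ p).counit.app F).hom.app W =
      F.obj.map ((compBcAdj p).unit.app W.unop).op := rfl

instance isLeftAdjoint_res (p : V ⟶ X) [Etale p] : (res Λ p).IsLeftAdjoint :=
  (resPushAdj Λ p).isLeftAdjoint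

instance isRightAdjoint_res (p : V ⟶ X) [Etale p] : (res Λ p).IsRightAdjoint :=
  (extResAdj Λ p).isRightAdjoint

instance isRightAdjoint_push (p : V ⟶ X) [Etale p] : (EtModW.push Λ p).IsRightAdjoint :=
  (resPushAdj Λ p).isRightAdjoint

instance isLeftAdjoint_ext (p : V ⟶ X) [Etale p] : (ext Λ p).IsLeftAdjoint :=
  (extResAdj Λ p).isLeftAdjoint

instance preservesFiniteLimits_res (p : V ⟶ X) [Etale p] : PreservesFiniteLimits (res Λ p) :=
  have : PreservesLimitsOfSize.{0, 0} (res Λ p) := (extResAdj Λ p).rightAdjoint_preservesLimits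
  PreservesLimitsOfSize.preservesFiniteLimits _

instance preservesFiniteColimits_res (p : V ⟶ X) [Etale p] :
    PreservesFiniteColimits (res Λ p) :=
  have : PreservesColimitsOfSize.{0, 0} (res Λ p) :=
    (resPushAdj Λ p).leftAdjoint_preservesColimits
  PreservesColimitsOfSize.preservesFiniteColimits _

instance preservesFiniteColimits_ext (p : V ⟶ X) [Etale p] :
    PreservesFiniteColimits (ext Λ p) :=
  have : PreservesColimitsOfSize.{0, 0} (ext Λ p) :=
    (extResAdj Λ p).leftAdjoint_preservesColimits
  PreservesColimitsOfSize.preservesFiniteColimits _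

instance additive_res (p : V ⟶ X) [Etale p] : (res Λ p).Additive where

instance additive_ext (p : V ⟶ X) [Etale p] : (ext Λ p).Additive :=
  (extResAdj Λ p).left_adjoint_additive

section Exact

open Groth.Agent.Etcore.ShriekExact

instance hasExactColimitsOfShape_costr (j : V ⟶ X) [Etale j] (W : (X.Etale)ᵒᵖ) :
    HasExactColimitsOfShape (CostructuredArrow (EtShriek.compEtale j).op W)
      (ModuleCat.{u + 1} Λ) :=
  hasExactColimitsOfShape_of_final _ (discFunctor j W.unop)

instance preservesFiniteLimits_lan (j : V ⟶ X) [Etale j] :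
    PreservesFiniteLimits ((EtShriek.compEtale j).op.lan :
      ((V.Etale)ᵒᵖ ⥤ ModuleCat.{u + 1} Λ) ⥤ _) where
  preservesFiniteLimits J _ _ := preservesLimitsOfShape_lan J _ (fun W => inferInstance)

instance preservesFiniteLimits_ext (j : V ⟶ X) [Etale j] :
    PreservesFiniteLimits (ext Λ j) := by
  have : PreservesFiniteLimits ((EtShriek.compEtale j).op.lan ⋙
      presheafToSheaf X.smallEtaleTopology (ModuleCat.{u + 1} Λ)) :=
    comp_preservesFiniteLimits _ _
  have : PreservesFiniteLimits (Functor.sheafPullbackConstruction.sheafPullback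
      (EtShriek.compEtale j) (ModuleCat.{u + 1} Λ) V.smallEtaleTopology X.smallEtaleTopology) :=
    comp_preservesFiniteLimits _ _
  exact preservesFiniteLimits_of_natIso
    (Functor.sheafPullbackConstruction.sheafPullbackIso
      (EtShriek.compEtale j) (ModuleCat.{u + 1} Λ) V.smallEtaleTopology
        X.smallEtaleTopology).symm

instance preservesMonomorphisms_ext (j : V ⟶ X) [Etale j] :
    (ext Λ j).PreservesMonomorphisms := inferInstance

instance preservesInjectiveObjects_res (j : V ⟶ X) [Etale j] :
    (res Λ j).PreservesInjectiveObjects :=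
  Functor.preservesInjectiveObjects_of_adjunction_of_preservesMonomorphisms (extResAdj Λ j)

theorem injective_res (j : V ⟶ X) [Etale j] (I : EtModW.Mod Λ X) [Injective I] :
    Injective ((res Λ j).obj I) := (res Λ j).injective_obj I

end Exact

/-- Restriction along an etale morphism commutes with sheafification. -/
noncomputable def sheafifyRes (j : V ⟶ X) [Etale j] (P : X.Etaleᵒᵖ ⥤ ModuleCat.{u + 1} Λ) :
    (res Λ j).obj ((presheafToSheaf X.smallEtaleTopology (ModuleCat.{u + 1} Λ)).obj P) ≅
      (presheafToSheaf V.smallEtaleTopology (ModuleCat.{u + 1} Λ)).obj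
        ((EtShriek.compEtale j).op ⋙ P) :=
  (((EtShriek.compEtale j).pushforwardContinuousSheafificationCompatibility (ModuleCat.{u + 1} Λ)
    V.smallEtaleTopology X.smallEtaleTopology).app P).symm

/-- The restriction of a constant sheaf is constant. -/
noncomputable def resConst (j : V ⟶ X) [Etale j] (M : Type (u + 1)) [AddCommGroup M]
    [Module Λ M] : (res Λ j).obj (EtModW.constMod Λ X M) ≅ EtModW.constMod Λ V M :=
  sheafifyRes Λ j ((Functor.const X.Etaleᵒᵖ).obj (ModuleCat.of Λ M))

instance isIso_compBcAdj_unit (j : V ⟶ X) [Etale j] [Mono j] :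
    IsIso (compBcAdj j).unit := by
  have : (EtShriek.compEtale j).FullyFaithful := .ofFullyFaithful _
  infer_instance

instance isIso_resPushAdj_counit (j : V ⟶ X) [Etale j] [Mono j] :
    IsIso (resPushAdj Λ j).counit := by
  have : ∀ F, IsIso ((resPushAdj Λ j).counit.app F) := by
    intro F
    have : IsIso ((sheafToPresheaf _ _).map ((resPushAdj Λ j).counit.app F)) := by
      have : ∀ W, IsIso (((sheafToPresheaf _ _).map ((resPushAdj Λ j).counit.app F)).app W) := by
        intro W
        have : IsIso ((compBcAdj j).unit.app W.unop) := inferInstance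
        exact inferInstanceAs (IsIso (F.obj.map ((compBcAdj j).unit.app W.unop).op))
      exact NatIso.isIso_of_isIso_app _
    exact isIso_of_reflects_iso _ (sheafToPresheaf _ _)
  exact NatIso.isIso_of_isIso_app _

instance isIso_extResAdj_unit (j : V ⟶ X) [Etale j] [Mono j] :
    IsIso (extResAdj Λ j).unit :=
  (show Adjunction.Triple (ext Λ j) (res Λ j) (EtModW.push Λ j) from
    { adj₁ := extResAdj Λ j
      adj₂ := resPushAdj Λ j }).isIso_unit_iff_isIso_counit.2 inferInstance

end Groth.Agent.Sga4h.ModRestr
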