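import Groth.Agent.Sga4h.Dbc323
import Groth.Agent.Sga4h.ModRestr
import Groth.Agent.Etcore.LSpread

/-!
# `D^b_c` is local for the étale topology

* `isConstructible_of_res`: constructibility of sheaves of modules over a Noetherian ring is local for the étale
  topology;
* `isDbc_of_res`: the same for bounded complexes with constructible cohomology on a Noetherian scheme.
-/

set_option autoImplicit false

universe u

open CategoryTheory CategoryTheory.Limits AlgebraicGeometry Opposite

attribute [local instance] HasDerivedCategory.standard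
attribute [local instance 5000] CategoryTheory.Abelian.toPreadditive
  CategoryTheory.Preadditive.preadditiveHasZeroMorphisms

namespace Groth.Agent.Sga4h.DbcLoc539

open Groth.Agent.Etcore.LVan

variable {Λ : Type (u + 1)} [CommRing Λ] {V W : Scheme.{u}} (g : W ⟶ V) [Etale g]

theorem etale_left {X : Scheme.{u}} {A B : X.Etale} (f : A ⟶ B) :
    Etale (X := A.left) (Y := B.left) f.left := by
  have h : Etale (f.left ≫ B.hom) := by
    have := MorphismProperty.Over.w f
    rw [this]
    exact A.prop
  have := B.prop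
  infer_instance

/-- The morphism of schemes. -/
abbrev lft {U : W.Etale} {A : V.Etale} (h : A ⟶ (EtShriek.compEtale g).obj U) : A.left ⟶ U.left := h.left

theorem lft_w {U : W.Etale} {A : V.Etale} (h : A ⟶ (EtShriek.compEtale g).obj U) :
    (lft g h ≫ (show U.left ⟶ W from U.hom)) ≫ g = A.hom := by
  rw [Category.assoc]
  exact MorphismProperty.Over.w h

/-- An étale scheme over `V` with a map to (the image of) an étale `W`-scheme is an étale `W`-scheme. -/
noncomputable def over {U : W.Etale} {A : V.Etale} (h : A ⟶ (EtShriek.compEtale g).obj U) : W.Etale :=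
  haveI : Etale (X := U.left) (Y := W) U.hom := U.prop
  haveI : Etale (lft g h) := etale_left h
  Scheme.Etale.mk (lft g h ≫ (show U.left ⟶ W from U.hom))

/-- The structure map. -/
noncomputable def overHom {U : W.Etale} {A : V.Etale} (h : A ⟶ (EtShriek.compEtale g).obj U) :
    over g h ⟶ U :=
  MorphismProperty.Over.homMk (A := over g h) (B := U) (lft g h) rfl

/-- The comparison. -/
noncomputable def overCmp {U : W.Etale} {A : V.Etale} (h : A ⟶ (EtShriek.compEtale g).obj U) :
    (EtShriek.compEtale g).obj (over g h) ⟶ A :=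
  MorphismProperty.Over.homMk (A := (EtShriek.compEtale g).obj (over g h)) (B := A) (𝟙 A.left)
    ((Category.id_comp _).trans (lft_w g h).symm)

theorem overCmp_comp {U : W.Etale} {A : V.Etale} (h : A ⟶ (EtShriek.compEtale g).obj U) :
    overCmp g h ≫ h = (EtShriek.compEtale g).map (overHom g h) := by
  apply MorphismProperty.Over.Hom.ext
  exact Category.id_comp _

section Germs

variable {F : EtModW.Mod Λ V} {U : W.Etale}

/-- A section of `F` over the étale `V`-scheme `U`, seen as a section of the restriction of `F`. -/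
theorem van_of_van (s : EtModW.sect Λ F ((EtShriek.compEtale g).obj U)) (x : U.left)
    (h : Van F (U := (EtShriek.compEtale g).obj U) s x) : Van ((ModRestr.res Λ g).obj F) (U := U) s x := by
  obtain ⟨A, a, v, hv, e⟩ := h
  refine ⟨over g a, overHom g a, v, hv, ?_⟩
  change Etcore.LVan.res F ((EtShriek.compEtale g).map (overHom g a)) s = 0
  rw [← overCmp_comp g a, res_comp, e, map_zero]

theorem van_of_van' (s : EtModW.sect Λ F ((EtShriek.compEtale g).obj U)) (x : U.left)
    (h : Van ((ModRestr.res Λ g).obj F) (U := U) s x) : Van F (U := (EtShriek.compEtale g).obj U) s x := by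
  obtain ⟨A, a, v, hv, e⟩ := h
  exact ⟨(EtShriek.compEtale g).obj A, (EtShriek.compEtale g).map a, v, hv, e⟩

variable {M : Type*} [AddCommGroup M] [Module Λ M]

theorem injAt_of_injAt (φ : M →ₗ[Λ] EtModW.sect Λ F ((EtShriek.compEtale g).obj U)) (x : U.left)
    (h : InjAt ((ModRestr.res Λ g).obj F) (U := U) φ x) : InjAt F (U := (EtShriek.compEtale g).obj U) φ x :=
  fun m hm => h m (van_of_van g _ x hm)

theorem surjAt_of_surjAt (φ : M →ₗ[Λ] EtModW.sect Λ F ((EtShriek.compEtale g).obj U)) (x : U.left)
    (h : SurjAt ((ModRestr.res Λ g).obj F) (U := U) φ x) :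
    SurjAt F (U := (EtShriek.compEtale g).obj U) φ x := by
  intro A a v hv t
  obtain ⟨m, hm⟩ := h (over g a) (overHom g a) v hv (Etcore.LVan.res F (overCmp g a) t)
  refine ⟨m, ?_⟩
  have h1 := van_of_van' g _ _ hm
  refine Van.of_res (overCmp g a) v ?_
  have e : Etcore.LVan.res F (overCmp g a) (t - Etcore.LVan.res F a (φ m)) =
      Etcore.LVan.res F (overCmp g a) t - Etcore.LVan.res F ((EtShriek.compEtale g).map (overHom g a)) (φ m) := by
    rw [map_sub, ← overCmp_comp g a, res_comp]
  rw [e]
  exact h1

end Germs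

/-- Constructibility of sheaves of modules is local for the étale topology. -/
theorem isConstructible_of_res [IsNoetherianRing Λ] (F : EtModW.Mod Λ V)
    (h : ∀ x : V, ∃ (W : Scheme.{u}) (g : W ⟶ V) (_ : Etale g) (w : W), g w = x ∧
      EtModW.IsConstructible Λ ((ModRestr.res Λ g).obj F)) : EtModW.IsConstructible Λ F := by
  rw [Etcore.LSpread.isConstructible_iff_good]
  intro x
  obtain ⟨W, g, hg, w, hw, hc⟩ := h x
  obtain ⟨U, u, hu, M, _, _, _, φ, C, hC, huC, hgood⟩ := (Etcore.LSpread.isConstructible_iff_good _).1 hc w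
  refine ⟨(EtShriek.compEtale g).obj U, u, ?_, M, inferInstance, inferInstance, inferInstance, φ, C, hC, huC,
    fun c hcC => ⟨injAt_of_injAt g φ c (hgood c hcC).1, surjAt_of_surjAt g φ c (hgood c hcC).2⟩⟩
  change g (U.hom u) = x
  rw [hu, hw]

/-- A sheaf with zero restriction to the members of an étale covering is zero. -/
theorem isZero_of_res (F : EtModW.Mod Λ V)
    (h : ∀ x : V, ∃ (W : Scheme.{u}) (g : W ⟶ V) (_ : Etale g) (w : W), g w = x ∧
      IsZero ((ModRestr.res Λ g).obj F)) : IsZero F := by
  have h0 : ∀ (U : V.Etale) (s : EtModW.sect Λ F U), s = 0 := by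
    intro U s
    refine eq_zero_of_van s fun x => ?_
    obtain ⟨W, g, hg, w, hw, hz⟩ := h (U.hom x)
    obtain ⟨z, hz1, -⟩ := Scheme.Pullback.exists_preimage_pullback (f := U.hom) (g := g) x w hw.symm
    let c : (EtShriek.compEtale g).obj ((EtCoh.bc g).obj U) ⟶ U := (EtaleRes.compBcAdj g).counit.app U
    have hid : 𝟙 ((ModRestr.res Λ g).obj F) = 0 := hz.eq_of_src _ _
    refine ⟨_, c, z, hz1, ?_⟩
    exact congrArg (fun k : (ModRestr.res Λ g).obj F ⟶ (ModRestr.res Λ g).obj F =>
      (k.hom.app (op ((EtCoh.bc g).obj U))).hom (Etcore.LVan.res F c s)) hid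
  rw [IsZero.iff_id_eq_zero]
  apply Sheaf.hom_ext
  ext U s
  exact (h0 U.unop s).trans (h0 U.unop _).symm

section Complexes

/-- The homology of the restriction of a complex. -/
noncomputable def homologyIso (K : CochainComplex (EtModW.Mod Λ V) ℤ) (i : ℤ) :
    (((ModRestr.res Λ g).mapHomologicalComplex (ComplexShape.up ℤ)).obj K).homology i ≅
      (ModRestr.res Λ g).obj (K.homology i) :=
  (K.sc i).mapHomologyIso (ModRestr.res Λ g)

/-- `D^b_c` is local for the étale topology on a Noetherian scheme. -/
theorem isDbc_of_res [IsNoetherianRing Λ] [IsNoetherian V] (K : CochainComplex (EtModW.Mod Λ V) ℤ)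
    (h : ∀ x : V, ∃ (W : Scheme.{u}) (g : W ⟶ V) (_ : Etale g) (w : W), g w = x ∧
      EtModD.IsDbc (DerivedCategory.Q.obj
        (((ModRestr.res Λ g).mapHomologicalComplex (ComplexShape.up ℤ)).obj K))) :
    EtModD.IsDbc (DerivedCategory.Q.obj K) := by
  choose W g hg w hw hK using h
  simp only [Dbc323.isDbc_Q_iff] at hK ⊢
  choose a b ha hb using fun x => (hK x).1
  have hcons := fun x => (hK x).2
  obtain ⟨t, -, ht⟩ := isCompact_univ.elim_nhds_subcover (X := V) (fun x => Set.range (g x))
    (fun x _ => (g x).isOpenMap.isOpen_range.mem_nhds ⟨w x, hw x⟩)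
  have hcov : ∀ y : V, ∃ x ∈ t, ∃ z : W x, g x z = y := by
    intro y
    obtain ⟨x, hx, z, hz⟩ := Set.mem_iUnion₂.1 (ht (Set.mem_univ y))
    exact ⟨x, hx, z, hz⟩
  obtain ⟨A, hA⟩ : ∃ A : ℤ, ∀ x ∈ t, A ≤ a x := by
    classical
    clear ht hcov
    induction t using Finset.induction_on with
    | empty => exact ⟨0, by simp⟩
    | insert x s _ ih =>
      obtain ⟨A, hA⟩ := ih
      refine ⟨min A (a x), fun y hy => ?_⟩
      rcases Finset.mem_insert.1 hy with rfl | hy
      · exact min_le_right _ _
      · exact (min_le_left _ _).trans (hA y hy)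
  obtain ⟨B, hB⟩ : ∃ B : ℤ, ∀ x ∈ t, b x ≤ B := by
    classical
    clear ht hcov hA
    induction t using Finset.induction_on with
    | empty => exact ⟨0, by simp⟩
    | insert x s _ ih =>
      obtain ⟨B, hB⟩ := ih
      refine ⟨max B (b x), fun y hy => ?_⟩
      rcases Finset.mem_insert.1 hy with rfl | hy
      · exact le_max_right _ _
      · exact (hB y hy).trans (le_max_left _ _)
  refine ⟨⟨A, B, ?_, ?_⟩, fun i => ?_⟩
  · rw [CochainComplex.isGE_iff]
    intro i hi
    rw [HomologicalComplex.exactAt_iff_isZero_homology]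
    refine isZero_of_res _ fun y => ?_
    obtain ⟨x, hx, z, hz⟩ := hcov y
    refine ⟨W x, g x, hg x, z, hz, ?_⟩
    have := ha x
    exact (CochainComplex.isZero_of_isGE _ (a x) i (hi.trans_le (hA x hx))).of_iso (homologyIso (g x) K i).symm
  · rw [CochainComplex.isLE_iff]
    intro i hi
    rw [HomologicalComplex.exactAt_iff_isZero_homology]
    refine isZero_of_res _ fun y => ?_
    obtain ⟨x, hx, z, hz⟩ := hcov y
    refine ⟨W x, g x, hg x, z, hz, ?_⟩
    have := hb x
    exact (CochainComplex.isZero_of_isLE _ (b x) i ((hB x hx).trans_lt hi)).of_iso (homologyIso (g x) K i).symm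
  · refine isConstructible_of_res _ fun y => ⟨W y, g y, hg y, w y, hw y, ?_⟩
    exact Etrest.ModCons.isConstructible_of_iso (homologyIso (g y) K i) (hcons y i)

end Complexes

end Groth.Agent.Sga4h.DbcLoc539
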