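import Groth.Agent.Sga4h.RegClass
import Groth.Agent.Sga4h.X144Res

/-!
# Étale locality of `RDual` from étale locality of `Dualizing` on Noetherian schemes
-/

set_option autoImplicit false

universe u

open CategoryTheory CategoryTheory.Limits AlgebraicGeometry

namespace Groth.Agent.Sga4h.RegLocGeo

open Groth.Agent.Sga4h.RegFinal Groth.Agent.Sga4h.RegClass Groth.Agent.Sga4h.ModRestr

variable (Λ : Type (u + 1)) [CommRing Λ] [IsNoetherianRing Λ]

/-- Étale locality of `Dualizing` on Noetherian schemes. -/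
def LocNoeth : Prop := ∀ (X : Scheme.{u}) [IsNoetherian X] (G : EtModW.Mod Λ X),
  (∀ x : X, ∃ (V : Scheme.{u}) (g : V ⟶ X) (_ : Etale g) (v : V), g v = x ∧
    Dualizing (EtModW.constMod Λ V Λ) ((res Λ g).obj G)) → Dualizing (EtModW.constMod Λ X Λ) G

variable {Λ}

/-- Two étale `X`-schemes with points over the same point of `X` have a common affine Noetherian refinement. -/
lemma exists_affine {X V W : Scheme.{u}} (f : W ⟶ X) (g : V ⟶ X) [Etale f] [Etale g] [IsLocallyNoetherian W]
    (w : W) (v : V) (h : f w = g v) :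
    ∃ (P : Scheme.{u}) (a : P ⟶ W) (b : P ⟶ V) (_ : Etale a) (_ : Etale b) (p : P), a ≫ f = b ≫ g ∧ a p = w ∧
      IsAffine P ∧ IsNoetherian P := by
  obtain ⟨q, hq₁, hq₂⟩ := Scheme.Pullback.exists_preimage_pullback w v h
  obtain ⟨U, hU, hqU, -⟩ := exists_isAffineOpen_mem_and_subset (x := q) (U := (⊤ : (pullback f g).Opens)) trivial
  have : IsLocallyNoetherian (pullback f g) := LocallyOfFiniteType.isLocallyNoetherian (pullback.fst f g)
  have : IsAffine U := hU
  have hN : IsLocallyNoetherian U := isLocallyNoetherian_of_isOpenImmersion U.ι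
  have hN' : IsNoetherian U := { }
  exact ⟨U, U.ι ≫ pullback.fst f g, U.ι ≫ pullback.snd f g, inferInstance, inferInstance, ⟨q, hqU⟩, by
    rw [Category.assoc, Category.assoc, pullback.condition], hq₁, inferInstance, inferInstance⟩

theorem RDual.loc (hloc : LocNoeth Λ) {X : Scheme.{u}} (F : EtModW.Mod Λ X)
    (h : ∀ x : X, ∃ (V : Scheme.{u}) (g : V ⟶ X) (_ : Etale g) (v : V), g v = x ∧ RDual Λ V ((res Λ g).obj F)) :
    RDual Λ X F := by
  intro W f _ _ _
  refine hloc W _ (fun w => ?_)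
  obtain ⟨V, g, _, v, hv, hV⟩ := h (f w)
  obtain ⟨P, a, b, _, _, p, hab, hp, _, _⟩ := exists_affine f g w v hv.symm
  exact ⟨P, a, inferInstance, p, hp, Dualizing.iso ((X144Res.resSquare Λ g b f a hab.symm).app F) (hV P b)⟩

/-- On a Noetherian scheme, `RDual` implies `Dualizing`. -/
theorem RDual.dualizing (hloc : LocNoeth Λ) {X : Scheme.{u}} [IsNoetherian X] {F : EtModW.Mod Λ X}
    (h : RDual Λ X F) : Dualizing (EtModW.constMod Λ X Λ) F := by
  refine hloc X F (fun x => ?_)
  obtain ⟨U, hU, hxU, -⟩ := exists_isAffineOpen_mem_and_subset (x := x) (U := (⊤ : X.Opens)) trivial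
  have : IsAffine U := hU
  have hN : IsLocallyNoetherian U := isLocallyNoetherian_of_isOpenImmersion U.ι
  have hN' : IsNoetherian U := { }
  exact ⟨U, U.ι, inferInstance, ⟨x, hxU⟩, rfl, h U U.ι⟩

end Groth.Agent.Sga4h.RegLocGeo
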