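import Groth.Agent.Sga4h.BidEtRefl
import Groth.Agent.Sga4h.DbcLoc539
import Groth.Agent.Sga4h.RegLocGeo

/-!
# Étale locality of `Dualizing` on Noetherian schemes

* `exists_quasiIso_D`: `R (A.D K) ⟶ A'.D (R K)` is a quasi-isomorphism (abstract form);
* `locNoeth : RegLocGeo.LocNoeth Λ`.
-/

set_option autoImplicit false

universe u

open CategoryTheory CategoryTheory.Limits AlgebraicGeometry Opposite

attribute [local instance] HasDerivedCategory.standard
attribute [local instance 5000] CategoryTheory.Abelian.toPreadditive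
  CategoryTheory.Preadditive.preadditiveHasZeroMorphisms

namespace Groth.Agent.Sga4h.LocNoeth539

section Abstract

universe v₁ v₂ u₁ u₂

open HomologicalComplex CochainComplex
open Groth.Agent.Dcoh.DerAdj Groth.Agent.Sga4h.DualCx Groth.Agent.PerfC Groth.Agent.Sga4h.BidCmp
open Groth.Agent.Sga4h.BidEtCx Groth.Agent.Sga4h.HomCx Groth.Agent.Dcoh.CxFun
open Groth.Agent.Sga4h.Refl Groth.Agent.Sga4h.DualSelf Groth.Agent.Sga4h.BidEtCmp

variable {C : Type u₁} [Category.{v₁} C] [Abelian C] {T : C ⥤ C ⥤ C} [T.Additive] [∀ X, (T.obj X).Additive]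
  [∀ (K₁ K₂ : CochainComplex C ℤ), CochainComplex.HasMapBifunctor K₁ K₂ T]
  [∀ E : CochainComplex C ℤ, (T.map₂CochainComplex.flip.obj E).IsLeftAdjoint]
  {C' : Type u₂} [Category.{v₂} C'] [Abelian C'] {T' : C' ⥤ C' ⥤ C'} [T'.Additive] [∀ X, (T'.obj X).Additive]
  [∀ (K₁ K₂ : CochainComplex C' ℤ), CochainComplex.HasMapBifunctor K₁ K₂ T']
  [∀ E : CochainComplex C' ℤ, (T'.map₂CochainComplex.flip.obj E).IsLeftAdjoint]
  {R : C ⥤ C'} [R.Additive] [PreservesFiniteLimits R] [PreservesFiniteColimits R]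
  (τ : R ⋙ T' ⋙ (Functor.whiskeringLeft _ _ _).obj R ⟶ T ⋙ (Functor.whiskeringRight _ _ _).obj R)
  (hcmp : ∀ (J : CochainComplex C ℤ) (J' : CochainComplex C' ℤ), J.IsKInjective → J'.IsKInjective →
    ∀ (f : (R.mapHomologicalComplex (ComplexShape.up ℤ)).obj J ⟶ J'), QuasiIso f →
      ∀ E : CochainComplex C ℤ, QuasiIso (BidCmp.cmp τ f E))

include hcmp in
/-- `R (D K)` and `D' (R K)` are quasi-isomorphic. -/
theorem exists_quasiIso_D (A : DualData T) {L : CochainComplex C ℤ} (i : L ⟶ A.J)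
    (hi : QuasiIso i) (A' : DualData T') {L' : CochainComplex C' ℤ} (i' : L' ⟶ A'.J)
    (hi' : QuasiIso i') (e : (R.mapHomologicalComplex (ComplexShape.up ℤ)).obj L ⟶ L') (he : QuasiIso e)
    (K : CochainComplex C ℤ) :
    ∃ f : (R.mapHomologicalComplex (ComplexShape.up ℤ)).obj (A.D K) ⟶
      A'.D ((R.mapHomologicalComplex (ComplexShape.up ℤ)).obj K), QuasiIso f := by
  have := A'.kinj
  obtain ⟨j, hj⟩ := exists_quasiIso_of_resolution ((R.mapHomologicalComplex (ComplexShape.up ℤ)).map i) (e ≫ i')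
  exact ⟨_, hcmp _ _ A.kinj A'.kinj j hj K⟩

end Abstract

open scoped Groth.Agent.Sga4h.ModInst
open Groth.Agent.Sga4h.ModDTensor Groth.Agent.Sga4h.BidEtSh Groth.Agent.Sga4h.Refl Groth.Agent.Sga4h.DualEt
open Groth.Agent.Sga4h.BidEtMod Groth.Agent.Sga4h.BidEtLoc Groth.Agent.Sga4h.BidEtZ
open Groth.Agent.Sga4h.RegFinal Groth.Agent.Sga4h.BidEtRefl

variable {Λ : Type (u + 1)} [CommRing Λ] {X U : Scheme.{u}} (u : U ⟶ X) [AlgebraicGeometry.Etale u]

/-- `u^* (D K)` and `D (u^* K)` are quasi-isomorphic. -/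
theorem exists_quasiIso_res_D (A : DualData (EtModD.tensorBi Λ X))
    (i : (CochainComplex.singleFunctor (EtModW.Mod Λ X) 0).obj (EtModW.constMod Λ X Λ) ⟶ A.J)
    (hi : QuasiIso i) (A' : DualData (EtModD.tensorBi Λ U))
    (i' : (CochainComplex.singleFunctor (EtModW.Mod Λ U) 0).obj (EtModW.constMod Λ U Λ) ⟶ A'.J)
    (hi' : QuasiIso i') (K : CochainComplex (EtModW.Mod Λ X) ℤ) :
    ∃ f : ((resM Λ u).mapHomologicalComplex (ComplexShape.up ℤ)).obj (A.D K) ⟶
      A'.D (((resM Λ u).mapHomologicalComplex (ComplexShape.up ℤ)).obj K), QuasiIso f := by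
  obtain ⟨e, he⟩ := exists_quasiIso_const (Λ := Λ) u
  exact exists_quasiIso_D (tauM Λ u) (quasiIso_cmp' u) A i hi A' i' hi' e he K

/-- The restriction of a sheaf in degree zero. -/
theorem exists_quasiIso_single (G : EtModW.Mod Λ X) :
    ∃ e : ((resM Λ u).mapHomologicalComplex (ComplexShape.up ℤ)).obj
      ((CochainComplex.singleFunctor (EtModW.Mod Λ X) 0).obj G) ⟶
      (CochainComplex.singleFunctor (EtModW.Mod Λ U) 0).obj ((resM Λ u).obj G), QuasiIso e := by
  let e : ((resM Λ u).mapHomologicalComplex (ComplexShape.up ℤ)).obj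
      ((CochainComplex.singleFunctor (EtModW.Mod Λ X) 0).obj G) ≅
      (CochainComplex.singleFunctor (EtModW.Mod Λ U) 0).obj ((resM Λ u).obj G) :=
    ((HomologicalComplex.singleMapHomologicalComplex (resM Λ u) (ComplexShape.up ℤ) 0).app G)
  exact ⟨e.hom, inferInstance⟩

theorem isDbc_of_quasiIso {K L : CochainComplex (EtModW.Mod Λ X) ℤ} (f : K ⟶ L) (hf : QuasiIso f)
    (h : EtModD.IsDbc (DerivedCategory.Q.obj L)) : EtModD.IsDbc (DerivedCategory.Q.obj K) :=
  ObjectProperty.prop_of_iso _ (asIso (DerivedCategory.Q.map f)).symm h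

theorem isDbc_of_quasiIso' {K L : CochainComplex (EtModW.Mod Λ X) ℤ} (f : K ⟶ L) (hf : QuasiIso f)
    (h : EtModD.IsDbc (DerivedCategory.Q.obj K)) : EtModD.IsDbc (DerivedCategory.Q.obj L) :=
  ObjectProperty.prop_of_iso _ (asIso (DerivedCategory.Q.map f)) h

/-- From `Dualizing` on `U`: reflexivity of the restriction. -/
theorem refl_res_single (G : EtModW.Mod Λ X)
    (h : Dualizing (EtModW.constMod Λ U Λ) ((resM Λ u).obj G)) (J : CochainComplex (EtModW.Mod Λ U) ℤ)
    (hJ : J.IsKInjective) (hJ' : ∀ n, Injective (J.X n))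
    (i : (CochainComplex.singleFunctor (EtModW.Mod Λ U) 0).obj (EtModW.constMod Λ U Λ) ⟶ J) (hi : QuasiIso i) :
    (dualData J hJ hJ').Refl (((resM Λ u).mapHomologicalComplex (ComplexShape.up ℤ)).obj
      ((CochainComplex.singleFunctor (EtModW.Mod Λ X) 0).obj G)) := by
  obtain ⟨e, he⟩ := exists_quasiIso_single u G
  exact ((dualData J hJ hJ').refl_iff_of_quasiIso e).2 (h.refl J hJ hJ' i hi)

/-- From `Dualizing` on `U`: the dual of the restriction. -/
theorem isDbc_res_single (G : EtModW.Mod Λ X)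
    (h : Dualizing (EtModW.constMod Λ U Λ) ((resM Λ u).obj G)) (J : CochainComplex (EtModW.Mod Λ U) ℤ)
    (hJ : J.IsKInjective) (hJ' : ∀ n, Injective (J.X n))
    (i : (CochainComplex.singleFunctor (EtModW.Mod Λ U) 0).obj (EtModW.constMod Λ U Λ) ⟶ J) (hi : QuasiIso i) :
    EtModD.IsDbc (DerivedCategory.Q.obj ((dualData J hJ hJ').D
      (((resM Λ u).mapHomologicalComplex (ComplexShape.up ℤ)).obj
      ((CochainComplex.singleFunctor (EtModW.Mod Λ X) 0).obj G)))) := by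
  obtain ⟨e, he⟩ := exists_quasiIso_single u G
  exact isDbc_of_quasiIso' ((dualData J hJ hJ').Dmap e) inferInstance (h.isDbc J hJ hJ' i hi)

/-- Étale locality of `Dualizing` on Noetherian schemes. -/
theorem dualizing_of_res [IsNoetherianRing Λ] [IsNoetherian X] (G : EtModW.Mod Λ X)
    (h : ∀ x : X, ∃ (V : Scheme.{u}) (g : V ⟶ X) (_ : Etale g) (v : V), g v = x ∧
      Dualizing (EtModW.constMod Λ V Λ) ((resM Λ g).obj G)) : Dualizing (EtModW.constMod Λ X Λ) G := by
  refine ⟨fun J hJ hJ' i hi => ?_, fun J hJ hJ' i hi => ?_⟩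
  · choose V g hg v hv hD using h
    refine refl_of_cover g (fun x => ⟨x, v x, hv x⟩) (dualData J hJ hJ') rfl i hi _ (fun x => ?_)
    obtain ⟨J', i', hJ1, hJ2, hi', -⟩ := exists_kInj
      ((CochainComplex.singleFunctor (EtModW.Mod Λ (V x)) 0).obj (EtModW.constMod Λ (V x) Λ))
    exact ⟨dualData J' hJ1 hJ2, rfl, i', hi', refl_res_single (g x) G (hD x) J' hJ1 hJ2 i' hi'⟩
  · refine DbcLoc539.isDbc_of_res _ (fun x => ?_)
    obtain ⟨V, g, hg, v, hv, hD⟩ := h x
    obtain ⟨J', i', hJ1, hJ2, hi', -⟩ := exists_kInj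
      ((CochainComplex.singleFunctor (EtModW.Mod Λ V) 0).obj (EtModW.constMod Λ V Λ))
    obtain ⟨f, hf⟩ := exists_quasiIso_res_D g (dualData J hJ hJ') i hi (dualData J' hJ1 hJ2) i' hi'
      ((CochainComplex.singleFunctor (EtModW.Mod Λ X) 0).obj G)
    exact ⟨V, g, hg, v, hv, isDbc_of_quasiIso f hf (isDbc_res_single g G hD J' hJ1 hJ2 i' hi')⟩

/-- Étale locality of `Dualizing` on Noetherian schemes. -/
theorem locNoeth [IsNoetherianRing Λ] : RegLocGeo.LocNoeth Λ := fun _ _ G h => dualizing_of_res G h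

end Groth.Agent.Sga4h.LocNoeth539
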