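import Groth.Agent.Sga4h.Refl
import Mathlib.Algebra.Homology.DerivedCategory.TStructure

/-!
# Reflexivity from abstract isomorphisms

* `nonempty_D_iso`: the duality functor on objects isomorphic in the derived category;
* `refl_of_coHopf`: if `D K ≅ L` and `D L ≅ K` in the derived category (any isomorphisms) and every monomorphism
  `Hᵐ(K) ⟶ Hᵐ(K)` is an isomorphism, then the evaluation `K ⟶ D (D K)` is a quasi-isomorphism;
* `nonempty_single_iso`: a complex with cohomology concentrated in degree `0`.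
-/

set_option autoImplicit false
set_option backward.defeqAttrib.useBackward true
set_option backward.isDefEq.respectTransparency false

universe w v₁ u₁

namespace Groth.Agent.Sga4h.ReflHopf

open CategoryTheory Category Limits HomologicalComplex CochainComplex Opposite ZeroObject
open Groth.Agent.Sga4h.HomCx Groth.Agent.Sga4h.DualCx Groth.Agent.Sga4h.DualSelf Groth.Agent.Sga4h.Refl

variable {C : Type u₁} [Category.{v₁} C] [Abelian C] [HasDerivedCategory.{w} C]

lemma nonempty_homology_iso {K L : CochainComplex C ℤ} (e : DerivedCategory.Q.obj K ≅ DerivedCategory.Q.obj L)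
    (m : ℤ) : Nonempty (K.homology m ≅ L.homology m) :=
  ⟨((DerivedCategory.homologyFunctorFactors C m).app K).symm ≪≫ (DerivedCategory.homologyFunctor C m).mapIso e ≪≫
    (DerivedCategory.homologyFunctorFactors C m).app L⟩

/-- A complex with cohomology concentrated in degree `0`. -/
lemma nonempty_single_iso {K : CochainComplex C ℤ} (hK : ∀ m : ℤ, m ≠ 0 → K.ExactAt m) {X : C}
    (e : K.homology 0 ≅ X) :
    Nonempty (DerivedCategory.Q.obj K ≅ DerivedCategory.Q.obj ((CochainComplex.singleFunctor C 0).obj X)) := by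
  have h1 : K.IsGE 0 := by
    rw [CochainComplex.isGE_iff]
    exact fun i hi => hK i hi.ne
  have h2 : K.IsLE 0 := by
    rw [CochainComplex.isLE_iff]
    exact fun i hi => hK i hi.ne'
  obtain ⟨Y, ⟨e₁⟩⟩ := DerivedCategory.exists_iso_singleFunctor_obj_of_isGE_of_isLE (DerivedCategory.Q.obj K) 0
  let e₂ : DerivedCategory.Q.obj K ≅ DerivedCategory.Q.obj ((CochainComplex.singleFunctor C 0).obj Y) :=
    e₁ ≪≫ (DerivedCategory.singleFunctorIsoCompQ C 0).app Y
  obtain ⟨e₃⟩ := nonempty_homology_iso e₂ 0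
  let e₄ : ((CochainComplex.singleFunctor C 0).obj Y).homology 0 ≅ Y :=
    (HomologicalComplex.homologyFunctorSingleIso C (ComplexShape.up ℤ) 0).app Y
  exact ⟨e₂ ≪≫ DerivedCategory.Q.mapIso ((CochainComplex.singleFunctor C 0).mapIso (e₄.symm ≪≫ e₃.symm ≪≫ e))⟩

variable {T : C ⥤ C ⥤ C} [T.Additive] [∀ X, (T.obj X).Additive]
  [∀ (K₁ K₂ : CochainComplex C ℤ), CochainComplex.HasMapBifunctor K₁ K₂ T]
  [∀ E : CochainComplex C ℤ, (T.map₂CochainComplex.flip.obj E).IsLeftAdjoint]
  [∀ (J : Type), HasColimitsOfShape (Discrete J) C]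
  [∀ (J : Type), (colim : (Discrete J ⥤ C) ⥤ C).PreservesMonomorphisms]
  (A : DualData T)

/-- The duality functor on objects isomorphic in the derived category. -/
lemma nonempty_D_iso {K L : CochainComplex C ℤ}
    (h : Nonempty (DerivedCategory.Q.obj K ≅ DerivedCategory.Q.obj L)) :
    Nonempty (DerivedCategory.Q.obj (A.D K) ≅ DerivedCategory.Q.obj (A.D L)) := by
  obtain ⟨e⟩ := h
  obtain ⟨M, s, hs, g, hg⟩ := DerivedCategory.right_fac e.hom
  have hs' : QuasiIso s := (DerivedCategory.isIso_Q_map_iff_quasiIso _ s).1 hs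
  have hg' : IsIso (DerivedCategory.Q.map g) := by
    have : DerivedCategory.Q.map g = DerivedCategory.Q.map s ≫ e.hom := by
      rw [hg, IsIso.hom_inv_id_assoc]
    rw [this]
    infer_instance
  have hg'' : QuasiIso g := (DerivedCategory.isIso_Q_map_iff_quasiIso _ g).1 hg'
  exact ⟨asIso (DerivedCategory.Q.map (A.Dmap s)) ≪≫ (asIso (DerivedCategory.Q.map (A.Dmap g))).symm⟩

/-- Reflexivity from abstract isomorphisms. -/
theorem refl_of_coHopf {K L : CochainComplex C ℤ}
    (h₁ : Nonempty (DerivedCategory.Q.obj (A.D K) ≅ DerivedCategory.Q.obj L))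
    (h₂ : Nonempty (DerivedCategory.Q.obj (A.D L) ≅ DerivedCategory.Q.obj K))
    (hK : ∀ (m : ℤ) (f : K.homology m ⟶ K.homology m), Mono f → IsIso f) : A.Refl K := by
  obtain ⟨e₁⟩ := h₁
  obtain ⟨e₂⟩ := h₂
  obtain ⟨e₃⟩ := nonempty_D_iso A (K := A.D (A.D L)) (L := A.D K) (nonempty_D_iso A ⟨e₂⟩)
  obtain ⟨e₄⟩ := nonempty_D_iso A ⟨e₁⟩
  have h : A.Refl (A.D L) := by
    refine ⟨?_⟩
    rw [quasiIso_iff]
    intro m
    rw [quasiIsoAt_iff_isIso_homologyMap]
    have hm : Mono (homologyMap (A.ev (A.D L)) m) := by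
      have h0 := congrArg (fun f => homologyMap f m) (A.ev_comp_Dmap_ev L)
      rw [homologyMap_comp, homologyMap_id] at h0
      exact mono_of_mono_fac h0
    obtain ⟨a⟩ := nonempty_homology_iso e₂ m
    obtain ⟨b⟩ := nonempty_homology_iso (e₃ ≪≫ e₄ ≪≫ e₂) m
    have h5 : Mono (a.inv ≫ homologyMap (A.ev (A.D L)) m ≫ b.hom) := inferInstance
    have h6 := hK m _ h5
    have h7 : homologyMap (A.ev (A.D L)) m = a.hom ≫ (a.inv ≫ homologyMap (A.ev (A.D L)) m ≫ b.hom) ≫ b.inv := by
      simp
    rw [h7]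
    infer_instance
  exact (A.tri_refl.of_isoD e₂).1 h

/-- Reflexivity from abstract isomorphisms, for objects in degree zero. -/
theorem refl_single_of_coHopf {X Y : C}
    (h₁ : Nonempty (DerivedCategory.Q.obj (A.D ((CochainComplex.singleFunctor C 0).obj X)) ≅
      DerivedCategory.Q.obj ((CochainComplex.singleFunctor C 0).obj Y)))
    (h₂ : Nonempty (DerivedCategory.Q.obj (A.D ((CochainComplex.singleFunctor C 0).obj Y)) ≅
      DerivedCategory.Q.obj ((CochainComplex.singleFunctor C 0).obj X)))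
    (hX : ∀ f : X ⟶ X, Mono f → IsIso f) : A.Refl ((CochainComplex.singleFunctor C 0).obj X) := by
  refine refl_of_coHopf A h₁ h₂ (fun m f hf => ?_)
  by_cases hm : m = 0
  · subst hm
    let e : ((CochainComplex.singleFunctor C 0).obj X).homology 0 ≅ X :=
      (HomologicalComplex.homologyFunctorSingleIso C (ComplexShape.up ℤ) 0).app X
    have h5 : Mono (e.inv ≫ f ≫ e.hom) := inferInstance
    have h6 := hX _ h5
    have h7 : f = e.hom ≫ (e.inv ≫ f ≫ e.hom) ≫ e.inv := by simp
    rw [h7]
    infer_instance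
  · have hz : IsZero (((CochainComplex.singleFunctor C 0).obj X).homology m) :=
      HomologicalComplex.isZero_single_obj_homology (c := ComplexShape.up ℤ) 0 X m hm
    exact ⟨0, hz.eq_of_src _ _, hz.eq_of_src _ _⟩

end Groth.Agent.Sga4h.ReflHopf
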