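import Groth.Agent.Sga4h.HomSh
import Groth.Agent.Sga4h.ModRestr
import Groth.Agent.EtpbcA.OverSite
import Mathlib.CategoryTheory.Preadditive.Injective.Basic

/-!
# The internal Hom commutes with restriction along etale morphisms

* `resHomSh p A H : (res p) (homSh A H) ≅ homSh (res p A) (res p H)`, natural in `A` and `H`;
* `homShTop A H : (homSh A H)(X) ≃ (A ⟶ H)`.
-/

set_option autoImplicit false

universe u

open CategoryTheory CategoryTheory.Limits MonoidalCategory Opposite TensorProduct AlgebraicGeometry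

namespace Groth.Agent.Sga4h.HomRes

open HomPre HomSh ModRestr

section Over

variable {V X : Scheme.{u}}

instance full_post (p : V ⟶ X) [hp : Etale p] (W : V.Etale) :
    (Over.post (X := W) (EtShriek.compEtale p)).Full where
  map_surjective {A B} k := by
    have e0 : k.left.left ≫ B.hom.left = A.hom.left :=
      congrArg (fun x => x.left) (Over.w k)
    let k' : A.left ⟶ B.left := MorphismProperty.Over.homMk k.left.left (by
      have h1 : A.hom.left ≫ W.hom = A.left.hom := MorphismProperty.Over.w A.hom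
      have h2 : B.hom.left ≫ W.hom = B.left.hom := MorphismProperty.Over.w B.hom
      exact (congrArg (fun x => k.left.left ≫ x) h2.symm).trans
        ((Category.assoc _ _ _).symm.trans ((congrArg (fun x => x ≫ W.hom) e0).trans h1)))
    refine ⟨Over.homMk k' (MorphismProperty.Over.Hom.ext e0), ?_⟩
    apply Over.OverMorphism.ext
    exact MorphismProperty.Over.Hom.ext rfl

instance faithful_post (p : V ⟶ X) [hp : Etale p] (W : V.Etale) :
    (Over.post (X := W) (EtShriek.compEtale p)).Faithful where
  map_injective {A B} k k' h := by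
    apply Over.OverMorphism.ext
    exact MorphismProperty.Over.Hom.ext (congrArg (fun x => x.left.left) h)

instance essSurj_post (p : V ⟶ X) [hp : Etale p] (W : V.Etale) :
    (Over.post (X := W) (EtShriek.compEtale p)).EssSurj where
  mem_essImage Z := by
    have e : Z.hom.left ≫ W.hom ≫ p = Z.left.hom := MorphismProperty.Over.w Z.hom
    have hW : EtCoh.etaleMP ((Z.hom.left ≫ W.hom) ≫ p) :=
      (congrArg (fun k => EtCoh.etaleMP k) ((Category.assoc _ _ _).trans e)).mpr Z.left.prop
    let Z' : V.Etale := MorphismProperty.Over.mk ⊤ (Z.hom.left ≫ W.hom)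
      (EtCoh.etaleMP.of_postcomp (W' := EtCoh.etaleMP) (Z.hom.left ≫ W.hom) p hp hW)
    let g : Z' ⟶ W := MorphismProperty.Over.homMk Z.hom.left rfl
    let i : (EtShriek.compEtale p).obj Z' ≅ Z.left :=
      MorphismProperty.Over.isoMk (Iso.refl _)
        ((Category.id_comp Z.left.hom).trans (e.symm.trans (Category.assoc _ _ _).symm))
    exact ⟨Over.mk g, ⟨Over.isoMk i (MorphismProperty.Over.Hom.ext (Category.id_comp _))⟩⟩

instance isEquivalence_post (p : V ⟶ X) [hp : Etale p] (W : V.Etale) :
    (Over.post (X := W) (EtShriek.compEtale p)).IsEquivalence where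

end Over

section General

variable {Λ : Type (u + 1)} [CommRing Λ] {C D : Type (u + 1)} [Category.{u} C] [Category.{u} D]
  (c : D ⥤ C)

/-- Comparison of the internal Hom of presheaves and of their restrictions. -/
noncomputable def resHomPre (A H : Cᵒᵖ ⥤ ModuleCat.{u + 1} Λ) :
    c.op ⋙ homPre A H ⟶ homPre (c.op ⋙ A) (c.op ⋙ H) where
  app W := ModuleCat.ofHom
    { toFun := fun φ => Functor.whiskerLeft (Over.post (X := W.unop) c).op
        (show ov (c.obj W.unop) A ⟶ ov (c.obj W.unop) H from φ)
      map_add' := fun _ _ => rfl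
      map_smul' := fun _ _ => rfl }
  naturality W W' f := by
    ext φ : 2
    refine ext_ev (W := W'.unop) (fun W'' g => ?_)
    change ev (W := c.obj W.unop) φ (c.map g ≫ c.map f.unop) =
      ev (W := c.obj W.unop) φ (c.map (g ≫ f.unop))
    rw [Functor.map_comp]

theorem ev_resHomPre (A H : Cᵒᵖ ⥤ ModuleCat.{u + 1} Λ) {W W' : D}
    (φ : (homPre A H).obj (op (c.obj W))) (g : W' ⟶ W) :
    ev ((resHomPre c A H).app (op W) φ) g = ev φ (c.map g) := rfl

theorem bijective_resHomPre [∀ W : D, (Over.post (X := W) c).IsEquivalence]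
    (A H : Cᵒᵖ ⥤ ModuleCat.{u + 1} Λ) (W : D) :
    Function.Bijective ((resHomPre c A H).app (op W)) := by
  have h : ((Functor.whiskeringLeft _ _ (ModuleCat.{u + 1} Λ)).obj
    (Over.post (X := W) c).op).IsEquivalence := inferInstance
  exact (Functor.FullyFaithful.ofFullyFaithful ((Functor.whiskeringLeft _ _
    (ModuleCat.{u + 1} Λ)).obj (Over.post (X := W) c).op)).map_bijective
      (ov (c.obj W) A) (ov (c.obj W) H)

instance isIso_resHomPre [∀ W : D, (Over.post (X := W) c).IsEquivalence]
    (A H : Cᵒᵖ ⥤ ModuleCat.{u + 1} Λ) : IsIso (resHomPre c A H) := by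
  have (W : Dᵒᵖ) : IsIso ((resHomPre c A H).app W) :=
    (ConcreteCategory.isIso_iff_bijective _).2 (bijective_resHomPre c A H W.unop)
  exact NatIso.isIso_of_isIso_app _

end General

variable {Λ : Type (u + 1)} [CommRing Λ] {V X : Scheme.{u}}

/-- The comparison map `(homSh A H)|_V ⟶ homSh A|_V H|_V`. -/
noncomputable def resHomShHom (p : V ⟶ X) [Etale p] (A H : EtModW.Mod Λ X) :
    (res Λ p).obj (homSh A H) ⟶ homSh ((res Λ p).obj A) ((res Λ p).obj H) :=
  ⟨resHomPre (EtShriek.compEtale p) A.obj H.obj⟩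

instance isIso_resHomShHom (p : V ⟶ X) [Etale p] (A H : EtModW.Mod Λ X) :
    IsIso (resHomShHom p A H) := by
  have : IsIso ((sheafToPresheaf _ _).map (resHomShHom p A H)) :=
    inferInstanceAs (IsIso (resHomPre (EtShriek.compEtale p) A.obj H.obj))
  exact isIso_of_reflects_iso _ (sheafToPresheaf _ _)

/-- The internal Hom commutes with restriction along etale morphisms. -/
noncomputable def resHomSh (p : V ⟶ X) [Etale p] (A H : EtModW.Mod Λ X) :
    (res Λ p).obj (homSh A H) ≅ homSh ((res Λ p).obj A) ((res Λ p).obj H) :=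
  asIso (resHomShHom p A H)

theorem hev_resHomSh (p : V ⟶ X) [Etale p] (A H : EtModW.Mod Λ X) {W W' : V.Etale}
    (φ : (homSh A H).obj.obj (op ((EtShriek.compEtale p).obj W))) (g : W' ⟶ W) :
    hev ((resHomSh p A H).hom.hom.app (op W) φ) g =
      hev φ ((EtShriek.compEtale p).map g) := rfl

theorem resHomSh_naturality (p : V ⟶ X) [Etale p] {A B H H' : EtModW.Mod Λ X}
    (f : A ⟶ B) (k : H ⟶ H') :
    (res Λ p).map (homShMap₂ f k) ≫ (resHomSh p A H').hom =
      (resHomSh p B H).hom ≫ homShMap₂ ((res Λ p).map f) ((res Λ p).map k) := by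
  ext : 1
  rfl

/-- `resHomSh` as an isomorphism of functors. -/
noncomputable def resHomShF (p : V ⟶ X) [Etale p] (A : EtModW.Mod Λ X) :
    homShF A ⋙ res Λ p ≅ res Λ p ⋙ homShF ((res Λ p).obj A) :=
  NatIso.ofComponents (fun H => resHomSh p A H) (fun {H H'} k => by
    refine (resHomSh_naturality p (𝟙 A) k).trans ?_
    rw [CategoryTheory.Functor.map_id]
    rfl)

section Sections

open Groth.Agent.EtpbcA.OverSite

/-- The morphism of sheaves on `W` defined by a section of `homSh A H` over `W`. -/
noncomputable def secHom {A H : EtModW.Mod Λ X} (W : X.Etale)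
    (φ : (homSh A H).obj.obj (op W)) :
    (res Λ (str W)).obj A ⟶ (res Λ (str W)).obj H :=
  ⟨Functor.whiskerLeft (toOver W).op (show ov W A.obj ⟶ ov W H.obj from φ)⟩

theorem secHom_app {A H : EtModW.Mod Λ X} (W : X.Etale)
    (φ : (homSh A H).obj.obj (op W)) (W' : W.left.Etale) :
    (secHom W φ).hom.app (op W') = hev φ ((toOver W).obj W').hom := rfl

theorem secHom_bijective {A H : EtModW.Mod Λ X} (W : X.Etale) :
    Function.Bijective (secHom (A := A) (H := H) W) := by
  have h : ((Functor.whiskeringLeft _ _ (ModuleCat.{u + 1} Λ)).obj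
    (toOver W).op).IsEquivalence := inferInstance
  have h1 := (Functor.FullyFaithful.ofFullyFaithful ((Functor.whiskeringLeft _ _
    (ModuleCat.{u + 1} Λ)).obj (toOver W).op)).map_bijective (ov W A.obj) (ov W H.obj)
  constructor
  · intro φ ψ h
    exact h1.1 (congrArg (fun k => k.hom) h)
  · intro k
    obtain ⟨φ, hφ⟩ := h1.2 k.hom
    exact ⟨φ, ObjectProperty.hom_ext _ hφ⟩

theorem secHom_homShMap₂ {A B H H' : EtModW.Mod Λ X} (f : A ⟶ B) (k : H ⟶ H') (W : X.Etale)
    (φ : (homSh B H).obj.obj (op W)) :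
    secHom W ((homShMap₂ f k).hom.app (op W) φ) =
      (res Λ (str W)).map f ≫ secHom W φ ≫ (res Λ (str W)).map k := by
  ext : 1
  rfl

/-- Sections of the internal Hom into an injective sheaf can be extended along monomorphisms. -/
theorem surjective_of_mono {A B I : EtModW.Mod Λ X} (f : A ⟶ B) [Mono f] [Injective I]
    (W : X.Etale) : Function.Surjective ((homShMap₂ f (𝟙 I)).hom.app (op W)) := by
  intro φ
  have h1 : Mono ((res Λ (str W)).map f) := inferInstance
  have h2 : Injective ((res Λ (str W)).obj I) := injective_res Λ (str W) I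
  obtain ⟨ψ, hψ⟩ := (secHom_bijective W).2 (Injective.factorThru (secHom W φ)
    ((res Λ (str W)).map f))
  refine ⟨ψ, (secHom_bijective W).1 ?_⟩
  rw [secHom_homShMap₂, hψ, CategoryTheory.Functor.map_id, Category.comp_id,
    Injective.comp_factorThru]

/-- If `A → B → C` is exact with `B → C` epi, sections of `homSh C H` are the sections of
`homSh B H` that vanish on `A`. -/
theorem exact_of_epi {H : EtModW.Mod Λ X} (S : ShortComplex (EtModW.Mod Λ X)) (hS : S.Exact)
    [Epi S.g] (W : X.Etale) (φ : (homSh S.X₂ H).obj.obj (op W))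
    (hφ : (homShMap₂ S.f (𝟙 H)).hom.app (op W) φ = 0) :
    ∃ ψ : (homSh S.X₃ H).obj.obj (op W), (homShMap₂ S.g (𝟙 H)).hom.app (op W) ψ = φ := by
  have h1 : (res Λ (str W)).map S.f ≫ secHom W φ = 0 := by
    have := congrArg (secHom W) hφ
    rw [secHom_homShMap₂, CategoryTheory.Functor.map_id, Category.comp_id] at this
    exact this
  have h2 : (S.map (res Λ (str W))).Exact := hS.map _
  have h3 : Epi (S.map (res Λ (str W))).g := inferInstanceAs (Epi ((res Λ (str W)).map S.g))
  obtain ⟨ψ, hψ⟩ := (secHom_bijective W).2 (h2.desc (secHom W φ) h1)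
  refine ⟨ψ, (secHom_bijective W).1 ?_⟩
  rw [secHom_homShMap₂, hψ, CategoryTheory.Functor.map_id, Category.comp_id]
  exact h2.g_desc (secHom W φ) h1

theorem injective_of_epi {B C H : EtModW.Mod Λ X} (g : B ⟶ C) [Epi g] (W : X.Etale) :
    Function.Injective ((homShMap₂ g (𝟙 H)).hom.app (op W)) := by
  intro φ ψ h
  have := congrArg (secHom W) h
  rw [secHom_homShMap₂, secHom_homShMap₂, CategoryTheory.Functor.map_id, Category.comp_id,
    Category.comp_id, cancel_epi] at this
  exact (secHom_bijective W).1 this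

end Sections

end Groth.Agent.Sga4h.HomRes
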