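import Groth.Prelude.Def_EtModD2
import Groth.Agent.Sga4h.HomRes
import Groth.Agent.Etrest.ModLoc
import Groth.Agent.Etrest.ModAb
import Groth.Agent.Etrest.ModFT
import Groth.Agent.EtpbcA.ConsVan
import Groth.Agent.EtpbcA.ConsTorsion

/-!
# The internal Hom of locally constant sheaves of modules

* `preEquiv`: if `A` is constant over `U` with value `M` then sections of `homSh A H` over `U` are
  linear maps `M → H(U)`;
* `theta`, `isConstVia_theta`: if `A`, `H` are constant over `U` with values `M` (finitely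
  generated), `N` then `homSh A H` is constant over `U` with value `M →ₗ N`.
* `nonempty_iso_constMod_iff`: constant sheaves in terms of `IsConstVia`.
* `bidual A K : A ⟶ homSh (homSh A K) K`.
* `isIso_of_constVia`.
-/

set_option autoImplicit false
universe u

open CategoryTheory CategoryTheory.Limits AlgebraicGeometry Opposite

namespace Groth.Agent.Sga4h.X144Const

open Groth.Agent.EtpbcA.Germ (Fib fmap pt mem_iff exists_common exists_geomPt exists_lift)
open Groth.Agent.Etrest.ModGerm Groth.Agent.Etrest.ModLoc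
open Groth.Agent.Sga4h.HomPre Groth.Agent.Sga4h.HomSh

variable {Λ : Type (u + 1)} [CommRing Λ] {X : Scheme.{u}}

section Pre

variable {A H : EtModW.Mod Λ X} {U : X.Etale} {M N : Type (u + 1)} [AddCommGroup M] [Module Λ M]
  [AddCommGroup N] [Module Λ N]

/-- The component of a section of `homSh A H` over `U` at `g : V ⟶ U`, as a linear map. -/
noncomputable def lev {A H : EtModW.Mod Λ X} {U V : X.Etale} (s : EtModW.sect Λ (homSh A H) U)
    (g : V ⟶ U) : EtModW.sect Λ A V →ₗ[Λ] EtModW.sect Λ H V :=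
  (hev (A := A) (H := H) s g).hom

theorem lev_res (s : EtModW.sect Λ (homSh A H) U) {V W : X.Etale} (g : V ⟶ U) (h : W ⟶ V)
    (a : EtModW.sect Λ A V) : lev s (h ≫ g) (res Λ A h a) = res Λ H h (lev s g a) :=
  ev_naturality_apply (A := A.obj) (H := H.obj) s g h a

theorem res_lev (s : EtModW.sect Λ (homSh A H) U) {V W : X.Etale} (g : V ⟶ U) (h : W ⟶ V) :
    lev (res Λ (homSh A H) g s) h = lev s (h ≫ g) := rfl

theorem lev_ext {s t : EtModW.sect Λ (homSh A H) U}
    (h : ∀ (V : X.Etale) (g : V ⟶ U), lev s g = lev t g) : s = t :=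
  ext_ev (A := A.obj) (H := H.obj) (fun V g => ModuleCat.hom_ext (h V g))

/-- Restriction of a section of `homSh A H` to the image of `φ : M → A(U)`. -/
noncomputable def pre (H : EtModW.Mod Λ X) (φ : M →ₗ[Λ] EtModW.sect Λ A U) :
    EtModW.sect Λ (homSh A H) U →ₗ[Λ] (M →ₗ[Λ] EtModW.sect Λ H U) where
  toFun s := (lev s (𝟙 U)).comp φ
  map_add' _ _ := rfl
  map_smul' _ _ := rfl

theorem pre_apply (φ : M →ₗ[Λ] EtModW.sect Λ A U) (s : EtModW.sect Λ (homSh A H) U) (m : M) :
    pre H φ s m = lev s (𝟙 U) (φ m) := rfl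

theorem pre_res (φ : M →ₗ[Λ] EtModW.sect Λ A U) (s : EtModW.sect Λ (homSh A H) U) {V : X.Etale}
    (g : V ⟶ U) : pre H ((res Λ A g).comp φ) (res Λ (homSh A H) g s) =
      (res Λ H g).comp (pre H φ s) := by
  ext m
  change lev (res Λ (homSh A H) g s) (𝟙 V) (res Λ A g (φ m)) = res Λ H g (lev s (𝟙 U) (φ m))
  rw [res_lev, ← lev_res]
  have : 𝟙 V ≫ g = g ≫ 𝟙 U := by rw [Category.id_comp, Category.comp_id]
  rw [this]

theorem const_hom_ext {P : (Over U)ᵒᵖ ⥤ ModuleCat.{u + 1} Λ}
    {c d : (Functor.const (Over U)ᵒᵖ).obj (ModuleCat.of Λ M) ⟶ P}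
    (h : c.app (op (Over.mk (𝟙 U))) = d.app (op (Over.mk (𝟙 U)))) : c = d := by
  ext V m
  have h1 := NatTrans.naturality_apply c (Over.homMk V.unop.hom : V.unop ⟶ Over.mk (𝟙 U)).op m
  have h2 := NatTrans.naturality_apply d (Over.homMk V.unop.hom : V.unop ⟶ Over.mk (𝟙 U)).op m
  refine Eq.trans h1 (Eq.trans ?_ h2.symm)
  rw [h]

theorem pre_bijective {φ : M →ₗ[Λ] EtModW.sect Λ A U} (h : IsConstVia Λ A U φ) :
    Function.Bijective (pre H φ) := by
  have hW := (isLocallyBijective_constToOver Λ A U φ).2 h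
  have hb : Function.Bijective (fun s : (A.over U).obj ⟶ (H.over U).obj =>
      constToOver Λ A U φ ≫ s) := hW _ (H.over U).property
  constructor
  · intro s t hst
    refine hb.1 ?_
    apply const_hom_ext
    ext m
    change lev s (𝟙 U) (res Λ A (𝟙 U) (φ m)) = lev t (𝟙 U) (res Λ A (𝟙 U) (φ m))
    rw [res_id]
    exact LinearMap.congr_fun hst m
  · intro f
    obtain ⟨s, hs⟩ := hb.2 (constToOver Λ H U f)
    refine ⟨s, ?_⟩
    ext m
    have h1 := congrArg (fun c => c.app (op (Over.mk (𝟙 U))) m) hs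
    change lev s (𝟙 U) (res Λ A (𝟙 U) (φ m)) = res Λ H (𝟙 U) (f m) at h1
    rw [res_id, res_id] at h1
    exact h1

/-- Sections of `homSh A H` over `U` where `A` is constant with value `M`. -/
noncomputable def preEquiv (H : EtModW.Mod Λ X) {φ : M →ₗ[Λ] EtModW.sect Λ A U}
    (h : IsConstVia Λ A U φ) :
    EtModW.sect Λ (homSh A H) U ≃ₗ[Λ] (M →ₗ[Λ] EtModW.sect Λ H U) :=
  LinearEquiv.ofBijective (pre H φ) (pre_bijective h)

/-- The map `Hom(M, N) → (homSh A H)(U)` if `A` is constant with value `M` over `U`, and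
`N → H(U)`. -/
noncomputable def theta {φ : M →ₗ[Λ] EtModW.sect Λ A U} (h : IsConstVia Λ A U φ)
    (ψ : N →ₗ[Λ] EtModW.sect Λ H U) : (M →ₗ[Λ] N) →ₗ[Λ] EtModW.sect Λ (homSh A H) U :=
  (preEquiv H h).symm.toLinearMap.comp (LinearMap.compRight Λ ψ)

theorem pre_theta {φ : M →ₗ[Λ] EtModW.sect Λ A U} (h : IsConstVia Λ A U φ)
    (ψ : N →ₗ[Λ] EtModW.sect Λ H U) (f : M →ₗ[Λ] N) : pre H φ (theta h ψ f) = ψ.comp f :=
  (preEquiv H h).apply_symm_apply _

/-- The internal Hom of sheaves which are constant over `U` with values `M`, `N` is constant over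
`U` with value `M →ₗ N` if `M` is finitely generated. -/
theorem isConstVia_theta [Module.Finite Λ M] {φ : M →ₗ[Λ] EtModW.sect Λ A U}
    (h : IsConstVia Λ A U φ) {ψ : N →ₗ[Λ] EtModW.sect Λ H U} (h' : IsConstVia Λ H U ψ) :
    IsConstVia Λ (homSh A H) U (theta h ψ) := by
  refine IsConstVia.of_sections _ ?_ ?_
  · intro V g v f hf
    have h1 := pre_res φ (theta h ψ f) g
    rw [hf, map_zero, pre_theta] at h1
    ext m
    refine h'.injective g v ?_
    rw [LinearMap.zero_apply, map_zero, map_zero]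
    exact (LinearMap.congr_fun h1 m).symm
  · intro V g v s
    let f := pre H ((res Λ A g).comp φ) s
    obtain ⟨a, e, he⟩ := Module.Finite.exists_fin (R := Λ) (M := M)
    obtain ⟨W, k, w, hw, hk⟩ := EtpbcA.ConsVan.exists_common_finite v
      (fun (i : Fin a) (W : X.Etale) (k : W ⟶ V) => ∃ n : N, res Λ H k (f (e i)) =
        res Λ H (k ≫ g) (ψ n))
      (by
        rintro i W Z k l ⟨n, hn⟩
        refine ⟨n, ?_⟩
        rw [res_comp, hn, Category.assoc, res_comp Λ H (k ≫ g) l])
      (by
        intro i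
        obtain ⟨W, k, w, n, hw, hn⟩ := h'.surjective g v (f (e i))
        exact ⟨W, k, w, hw, n, hn⟩)
    let ψW : N →ₗ[Λ] EtModW.sect Λ H W := (res Λ H (k ≫ g)).comp ψ
    let fW : M →ₗ[Λ] EtModW.sect Λ H W := (res Λ H k).comp f
    have hinj : Function.Injective ψW := fun n n' hn => h'.injective (k ≫ g) w hn
    have hrange : ∀ m, fW m ∈ LinearMap.range ψW := by
      have : (⊤ : Submodule Λ M) ≤ (LinearMap.range ψW).comap fW := by
        rw [← he, Submodule.span_le]
        rintro _ ⟨i, rfl⟩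
        obtain ⟨n, hn⟩ := hk i
        exact ⟨n, hn.symm⟩
      exact fun m => this (Submodule.mem_top (x := m))
    let q : M →ₗ[Λ] N := (LinearEquiv.ofInjective ψW hinj).symm.toLinearMap.comp
      (fW.codRestrict _ hrange)
    have hq : ψW.comp q = fW := by
      ext m
      have := (LinearEquiv.ofInjective ψW hinj).apply_symm_apply (fW.codRestrict _ hrange m)
      exact congrArg Subtype.val this
    refine ⟨W, k, w, q, hw, ?_⟩
    refine (pre_bijective (H := H) (h.res (k ≫ g))).1 ?_
    rw [pre_res, pre_theta]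
    have h2 := pre_res (H := H) ((res Λ A g).comp φ) s k
    have h3 : (res Λ A k).comp ((res Λ A g).comp φ) = (res Λ A (k ≫ g)).comp φ := by
      ext m
      exact (res_comp Λ A g k (φ m)).symm
    rw [h3] at h2
    rw [h2]
    exact hq.symm

end Pre

section Glob

variable {F : EtModW.Mod Λ X} {M : Type (u + 1)} [AddCommGroup M] [Module Λ M]

variable (X) in
/-- The terminal étale `X`-scheme. -/
noncomputable def tU : X.Etale := Scheme.Etale.mk (𝟙 X)

/-- The map to the terminal object. -/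
noncomputable def toT (V : X.Etale) : V ⟶ tU X :=
  MorphismProperty.Over.homMk V.hom (Category.comp_id _)

theorem toT_uniq {V : X.Etale} (f g : V ⟶ tU X) : f = g := by
  apply MorphismProperty.Over.Hom.ext
  have h1 : f.left ≫ 𝟙 X = V.hom := MorphismProperty.Over.w f
  have h2 : g.left ≫ 𝟙 X = V.hom := MorphismProperty.Over.w g
  exact ((Category.comp_id f.left).symm.trans h1).trans
    (h2.symm.trans (Category.comp_id g.left))

/-- The map from the constant presheaf attached to a linear map `M → F(X)`. -/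
noncomputable def constToGlob (φ : M →ₗ[Λ] EtModW.sect Λ F (tU X)) :
    (Functor.const X.Etaleᵒᵖ).obj (ModuleCat.of Λ M) ⟶ F.obj where
  app V := ModuleCat.ofHom ((res Λ F (toT V.unop)).comp φ)
  naturality V W f := by
    ext m
    change res Λ F (toT W.unop) (φ m) = res Λ F f.unop (res Λ F (toT V.unop) (φ m))
    rw [← res_comp, toT_uniq (toT W.unop)]

lemma constToGlob_app (φ : M →ₗ[Λ] EtModW.sect Λ F (tU X)) (V : X.Etaleᵒᵖ) (m : M) :
    (constToGlob φ).app V m = res Λ F (toT V.unop) (φ m) := rfl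

lemma isLocallyBijective_constToGlob (φ : M →ₗ[Λ] EtModW.sect Λ F (tU X)) :
    X.smallEtaleTopology.W (constToGlob φ) ↔ IsConstVia Λ F (tU X) φ := by
  rw [GrothendieckTopology.W_iff_isLocallyBijective]
  constructor
  · rintro ⟨h1, h2⟩
    refine IsConstVia.of_sections φ ?_ ?_
    · intro V g v m hm
      have := h1.equalizerSieve_mem (X := op V) m 0 (by
        rw [map_zero, constToGlob_app, toT_uniq (toT _) g]
        exact hm)
      rw [mem_iff] at this
      obtain ⟨W, k, hk, w, hw⟩ := this v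
      exact hk
    · intro V g v s
      have := h2.imageSieve_mem (U := V) s
      rw [mem_iff] at this
      obtain ⟨W, k, ⟨m, hm⟩, w, hw⟩ := this v
      refine ⟨W, k, w, m, hw, ?_⟩
      rw [toT_uniq (k ≫ g) (toT W)]
      exact hm.symm
  · intro h
    refine ⟨⟨?_⟩, ⟨?_⟩⟩
    · intro V m m' e
      rw [mem_iff]
      intro v
      refine ⟨V.unop, 𝟙 _, ?_, v, rfl⟩
      have : m = m' := h.injective (toT V.unop) v e
      subst this
      rfl
    · intro V s
      rw [mem_iff]
      intro v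
      obtain ⟨W, k, w, m, hw, e⟩ := h.surjective (toT V) v s
      refine ⟨W, k, ⟨m, ?_⟩, w, hw⟩
      rw [toT_uniq (k ≫ _) (toT W)] at e
      exact e.symm

/-- `F` is isomorphic to the constant sheaf `M` iff some `φ : M → F(X)` exhibits it. -/
theorem nonempty_iso_constMod_iff :
    Nonempty (F ≅ EtModW.constMod Λ X M) ↔
      ∃ φ : M →ₗ[Λ] EtModW.sect Λ F (tU X), IsConstVia Λ F (tU X) φ := by
  constructor
  · rintro ⟨e⟩
    let P : X.Etaleᵒᵖ ⥤ ModuleCat.{u + 1} Λ :=
      (Functor.const X.Etaleᵒᵖ).obj (ModuleCat.of Λ M)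
    let c : P ⟶ F.obj := toSheafify X.smallEtaleTopology P ≫ e.inv.hom
    have hc : X.smallEtaleTopology.W c :=
      MorphismProperty.comp_mem _ _ _ (GrothendieckTopology.W_toSheafify _ P)
        ((GrothendieckTopology.W_sheafToPresheaf_map_iff_isIso _ e.inv).2 inferInstance)
    let φ : M →ₗ[Λ] EtModW.sect Λ F (tU X) := (c.app (op (tU X))).hom
    have hφ : c = constToGlob φ := by
      ext V m
      rw [constToGlob_app]
      exact NatTrans.naturality_apply c (toT V.unop).op m
    exact ⟨φ, by rwa [← isLocallyBijective_constToGlob, ← hφ]⟩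
  · rintro ⟨φ, hφ⟩
    rw [← isLocallyBijective_constToGlob, GrothendieckTopology.W_iff] at hφ
    exact ⟨(asIso ((sheafificationAdjunction X.smallEtaleTopology
      (ModuleCat.{u + 1} Λ)).counit.app F)).symm ≪≫
        (asIso ((presheafToSheaf X.smallEtaleTopology (ModuleCat.{u + 1} Λ)).map
          (constToGlob φ))).symm⟩

variable (X) in
theorem exists_constVia_constMod (M : Type (u + 1)) [AddCommGroup M] [Module Λ M] :
    ∃ φ : M →ₗ[Λ] EtModW.sect Λ (EtModW.constMod Λ X M) (tU X),
      IsConstVia Λ (EtModW.constMod Λ X M) (tU X) φ :=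
  nonempty_iso_constMod_iff.1 ⟨Iso.refl _⟩

/-- The internal Hom of constant sheaves. -/
theorem nonempty_homSh_const {N : Type (u + 1)} [AddCommGroup N] [Module Λ N]
    [Module.Finite Λ M] :
    Nonempty (homSh (EtModW.constMod Λ X M) (EtModW.constMod Λ X N) ≅
      EtModW.constMod Λ X (M →ₗ[Λ] N)) := by
  obtain ⟨φ, hφ⟩ := exists_constVia_constMod (Λ := Λ) X M
  obtain ⟨ψ, hψ⟩ := exists_constVia_constMod (Λ := Λ) X N
  exact nonempty_iso_constMod_iff.2 ⟨theta hφ ψ, isConstVia_theta hφ hψ⟩

end Glob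

section Ftlc

theorem finite_hom [IsNoetherianRing Λ] {M N : Type (u + 1)} [AddCommGroup M] [Module Λ M]
    [Module.Finite Λ M] [AddCommGroup N] [Module Λ N] [Module.Finite Λ N] :
    Module.Finite Λ (M →ₗ[Λ] N) := by
  obtain ⟨a, e, he⟩ := Module.Finite.exists_fin (R := Λ) (M := M)
  have : IsNoetherian Λ (Fin a → N) := isNoetherian_of_isNoetherianRing_of_finite Λ _
  let f : (M →ₗ[Λ] N) →ₗ[Λ] (Fin a → N) :=
    { toFun := fun g i => g (e i)
      map_add' := fun _ _ => rfl
      map_smul' := fun _ _ => rfl }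
  refine Module.Finite.of_injective f fun g g' h => ?_
  refine LinearMap.ext_on he ?_
  rintro _ ⟨i, rfl⟩
  exact congrFun h i

/-- The internal Hom of finite type locally constant sheaves. -/
theorem ftlc_homSh [IsNoetherianRing Λ] {A H : EtModW.Mod Λ X} (hA : EtModW.IsFTLocConst Λ A)
    (hH : EtModW.IsFTLocConst Λ H) : EtModW.IsFTLocConst Λ (homSh A H) := by
  rw [ftlc_iff] at hA hH ⊢
  intro x
  obtain ⟨U, u, M, _, _, _, φ, hu, hφ⟩ := hA x
  obtain ⟨V, v, N, _, _, _, ψ, hv, hψ⟩ := hH x
  obtain ⟨W, p, q, w, hw, hw'⟩ := EtpbcA.ConsTorsion.exists_prod U V u v (hu.trans hv.symm)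
  have := finite_hom (Λ := Λ) (M := M) (N := N)
  refine ⟨W, w, M →ₗ[Λ] N, inferInstance, inferInstance, inferInstance,
    theta (hφ.res p) ((res Λ H q).comp ψ), ?_, isConstVia_theta _ (hψ.res q)⟩
  have : p.left ≫ U.hom = W.hom := MorphismProperty.Over.w p
  rw [← this, Scheme.Hom.comp_apply, hw, hu]

end Ftlc

section Bidual

variable (A K : EtModW.Mod Λ X)

/-- The biduality morphism. -/
noncomputable def bidual : A ⟶ homSh (homSh A K) K where
  hom :=
    { app := fun W => ModuleCat.ofHom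
        { toFun := fun a => mk (A := (homSh A K).obj) (H := K.obj) (W := W.unop)
            (fun V g => ModuleCat.ofHom
              { toFun := fun s => lev s (𝟙 V) (res Λ A g a)
                map_add' := fun _ _ => rfl
                map_smul' := fun _ _ => rfl })
            (fun V Z g h => by
              ext s
              change lev (res Λ (homSh A K) h s) (𝟙 Z) (res Λ A (h ≫ g) a) =
                res Λ K h (lev s (𝟙 V) (res Λ A g a))
              rw [res_lev, ← lev_res, res_comp]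
              have : 𝟙 Z ≫ h = h ≫ 𝟙 V := by rw [Category.id_comp, Category.comp_id]
              rw [this])
          map_add' := fun a b => by
            refine lev_ext (A := homSh A K) (H := K) fun V g => ?_
            ext s
            change lev s (𝟙 V) (res Λ A g (a + b)) =
              lev s (𝟙 V) (res Λ A g a) + lev s (𝟙 V) (res Λ A g b)
            rw [map_add, map_add]
          map_smul' := fun r a => by
            refine lev_ext (A := homSh A K) (H := K) fun V g => ?_
            ext s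
            change lev s (𝟙 V) (res Λ A g (r • a)) = r • lev s (𝟙 V) (res Λ A g a)
            rw [map_smul, map_smul] }
      naturality := fun W W' f => by
        ext a
        refine lev_ext (A := homSh A K) (H := K) fun V g => ?_
        ext s
        change lev s (𝟙 V) (res Λ A g (res Λ A f.unop a)) =
          lev s (𝟙 V) (res Λ A (g ≫ f.unop) a)
        rw [res_comp] }

variable {A K}

theorem lev_bidual {U V : X.Etale} (a : EtModW.sect Λ A U) (g : V ⟶ U)
    (s : EtModW.sect Λ (homSh A K) V) :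
    lev (A := homSh A K) (H := K) (ev Λ (bidual A K) U a) g s = lev s (𝟙 V) (res Λ A g a) := rfl

variable {U : X.Etale} {M N : Type (u + 1)} [AddCommGroup M] [Module Λ M]
  [AddCommGroup N] [Module Λ N]

theorem bidual_comp [Module.Finite Λ M] {φ : M →ₗ[Λ] EtModW.sect Λ A U}
    (h : IsConstVia Λ A U φ) {ψ : N →ₗ[Λ] EtModW.sect Λ K U} (h' : IsConstVia Λ K U ψ) :
    (ev Λ (bidual A K) U).comp φ = (theta (isConstVia_theta h h') ψ).comp
      (LinearMap.flip (LinearMap.id : (M →ₗ[Λ] N) →ₗ[Λ] (M →ₗ[Λ] N))) := by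
  ext m
  refine (pre_bijective (H := K) (isConstVia_theta h h')).1 ?_
  change pre K (theta h ψ) (ev Λ (bidual A K) U (φ m)) = pre K (theta h ψ)
    (theta (isConstVia_theta h h') ψ (LinearMap.flip LinearMap.id m))
  rw [pre_theta]
  ext f
  rw [pre_apply, lev_bidual, res_id, ← pre_apply (H := K), pre_theta]
  rfl

/-- A morphism which is locally an isomorphism of constant sheaves is an isomorphism. -/
theorem isIso_of_constVia {A C : EtModW.Mod Λ X} (β : A ⟶ C)
    (h : ∀ x : X, ∃ (U : X.Etale) (u : U.left) (M : Type (u + 1)) (_ : AddCommGroup M)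
      (_ : Module Λ M) (φ : M →ₗ[Λ] EtModW.sect Λ A U), U.hom u = x ∧ IsConstVia Λ A U φ ∧
        IsConstVia Λ C U ((ev Λ β U).comp φ)) : IsIso β := by
  rw [← GrothendieckTopology.W_sheafToPresheaf_map_iff_isIso,
    GrothendieckTopology.W_iff_isLocallyBijective]
  refine ⟨⟨?_⟩, ⟨?_⟩⟩
  · intro V s s' e
    rw [mem_iff]
    intro v
    obtain ⟨U, u, M, _, _, φ, hu, hφ, hβ⟩ := h (V.unop.hom v)
    obtain ⟨W, p, q, w, hw, hw'⟩ := EtpbcA.ConsTorsion.exists_prod V.unop U v u hu.symm
    obtain ⟨W', k, w', m, hk, hm⟩ := hφ.surjective q w (res Λ A p (s - s'))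
    have e' : ev Λ β V.unop (s - s') = 0 := by
      rw [map_sub, sub_eq_zero]
      exact e
    have h1 : res Λ C (k ≫ q) ((ev Λ β U).comp φ m) = res Λ C (k ≫ q) ((ev Λ β U).comp φ 0) := by
      rw [map_zero, map_zero, LinearMap.comp_apply, ← ev_res, ← hm, ev_res, ev_res, e', map_zero,
        map_zero]
    have h2 : m = 0 := hβ.injective (k ≫ q) w' h1
    rw [h2, map_zero, map_zero, map_sub, map_sub, sub_eq_zero] at hm
    refine ⟨W', k ≫ p, ?_, w', ?_⟩
    · change res Λ A (k ≫ p) s = res Λ A (k ≫ p) s'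
      rw [res_comp, res_comp]
      exact hm
    · change (k.left ≫ p.left) w' = v
      rw [Scheme.Hom.comp_apply, hk, hw]
  · intro V s
    rw [mem_iff]
    intro v
    obtain ⟨U, u, M, _, _, φ, hu, hφ, hβ⟩ := h (V.hom v)
    obtain ⟨W, p, q, w, hw, hw'⟩ := EtpbcA.ConsTorsion.exists_prod V U v u hu.symm
    obtain ⟨W', k, w', m, hk, hm⟩ := hβ.surjective q w (res Λ C p s)
    refine ⟨W', k ≫ p, ⟨res Λ A (k ≫ q) (φ m), ?_⟩, w', ?_⟩
    · change ev Λ β W' (res Λ A (k ≫ q) (φ m)) = res Λ C (k ≫ p) s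
      rw [ev_res, res_comp Λ C p k s, hm]
      rfl
    · change (k.left ≫ p.left) w' = v
      rw [Scheme.Hom.comp_apply, hk, hw]

end Bidual

end Groth.Agent.Sga4h.X144Const
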