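import Groth.Prelude.Def_EtModD2
import Groth.Prelude.Def_Hens2
import Groth.Prelude.Def_EtCore
import Groth.Agent.Sga4h.HomRes
import Groth.Agent.Sga4h.X144Const
import Groth.Agent.Sga4h.X144Alg
import Groth.Agent.Etrest.ModLoc
import Groth.Agent.Etrest.ModAb

/-!
# Duality for finite type locally constant sheaves of `ℤ/n`-modules

* `dual1`: `homSh A (ℤ/n)` is finite type locally constant if `A` is;
* `dual2`: biduality;
* `dual3`: the dual of a constant sheaf.
-/

set_option autoImplicit false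
universe u

open CategoryTheory CategoryTheory.Limits AlgebraicGeometry Opposite
open Groth.Agent.Sga4h.ModRestr Groth.Agent.Sga4h.HomSh Groth.Agent.Etrest.ModGerm
  Groth.Agent.EtpbcA.Germ Groth.Agent.Etrest.ModAb

namespace Groth.Agent.Sga4h.X144Dual

open Groth.Agent.Sga4h.X144Const Groth.Agent.Etrest.ModLoc

theorem ftlc_const {X : Scheme.{u}} (Λ : Type (u + 1)) [CommRing Λ] (M : Type (u + 1))
    [AddCommGroup M] [Module Λ M] [Module.Finite Λ M] :
    EtModW.IsFTLocConst Λ (EtModW.constMod Λ X M) := by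
  rw [ftlc_iff]
  intro x
  obtain ⟨φ, hφ⟩ := exists_constVia_constMod (Λ := Λ) X M
  exact ⟨tU X, x, M, inferInstance, inferInstance, inferInstance, φ, rfl, hφ⟩

theorem dual1 (n : ℕ) {X : Scheme.{u}} [NeZero n] (A : EtModW.Mod (ULift.{u+1} (ZMod n)) X)
    (hA : EtModW.IsFTLocConst _ A) :
    EtModW.IsFTLocConst _ (homSh A (EtModW.constMod (ULift.{u+1} (ZMod n)) X
      (ULift.{u+1} (ZMod n)))) :=
  ftlc_homSh hA (ftlc_const _ _)

/-- The biduality morphism is an isomorphism. -/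
theorem isIso_bidual (n : ℕ) {X : Scheme.{u}} [NeZero n]
    (A : EtModW.Mod (ULift.{u+1} (ZMod n)) X) (hA : EtModW.IsFTLocConst _ A) :
    IsIso (bidual A (EtModW.constMod (ULift.{u+1} (ZMod n)) X (ULift.{u+1} (ZMod n)))) := by
  apply isIso_of_constVia
  intro x
  rw [ftlc_iff] at hA
  obtain ⟨U, u, M, _, _, _, φ, hu, hφ⟩ := hA x
  obtain ⟨ψ₀, hψ₀⟩ := exists_constVia_constMod (Λ := ULift.{u+1} (ZMod n)) X
    (ULift.{u+1} (ZMod n))
  have : Finite M := Module.finite_of_finite (ULift.{u+1} (ZMod n))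
  let ψ := (Etrest.ModGerm.res _ _ (toT U)).comp ψ₀
  have hψ : IsConstVia _ _ U ψ := hψ₀.res (toT U)
  refine ⟨U, u, M, inferInstance, inferInstance, φ, hu, hφ, ?_⟩
  rw [bidual_comp hφ hψ]
  have : Finite (M →ₗ[ULift.{u+1} (ZMod n)] ULift.{u+1} (ZMod n)) := X144Alg.finite_dual n M
  exact (isConstVia_theta (isConstVia_theta hφ hψ) hψ).comp_equiv
    (LinearEquiv.ofBijective _ (X144Alg.eval_bijective n M))

theorem dual2 (n : ℕ) {X : Scheme.{u}} [NeZero n] (A : EtModW.Mod (ULift.{u+1} (ZMod n)) X)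
    (hA : EtModW.IsFTLocConst _ A) :
    Nonempty (homSh (homSh A (EtModW.constMod (ULift.{u+1} (ZMod n)) X (ULift.{u+1} (ZMod n))))
      (EtModW.constMod (ULift.{u+1} (ZMod n)) X (ULift.{u+1} (ZMod n))) ≅ A) := by
  have := isIso_bidual n A hA
  exact ⟨(asIso (bidual A _)).symm⟩

theorem dual3 {X : Scheme.{u}} (Λ : Type (u+1)) [CommRing Λ] (M : Type (u+1)) [AddCommGroup M]
    [Module Λ M] [Module.FinitePresentation Λ M] :
    Nonempty (homSh (EtModW.constMod Λ X M) (EtModW.constMod Λ X Λ) ≅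
      EtModW.constMod Λ X (M →ₗ[Λ] Λ)) :=
  nonempty_homSh_const

end Groth.Agent.Sga4h.X144Dual
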