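import Groth.Agent.Sga4B.IterP1
import Groth.Agent.FlatB.AffSpaceSmooth

/-!
# `𝔸^{n+1}_S ⟶ 𝔸^n_S` is smooth of relative dimension one
-/

set_option autoImplicit false
universe u

open CategoryTheory CategoryTheory.Limits AlgebraicGeometry

namespace Groth.Agent.Sga4h.AffProj640

theorem isStandardSmooth_ulift (R : Type u) [CommRing R] :
    (algebraMap R (MvPolynomial (ULift.{u} (Fin 1)) R)).IsStandardSmoothOfRelativeDimension 1 := by
  have h : (algebraMap R (MvPolynomial (Fin 1) R)).IsStandardSmoothOfRelativeDimension 1 := by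
    rw [RingHom.isStandardSmoothOfRelativeDimension_algebraMap]
    exact FlatB.AffSpaceSmooth.isStandardSmoothOfRelativeDimension R 1
  have h2 := RingHom.isStandardSmoothOfRelativeDimension_respectsIso.1 _
    (MvPolynomial.renameEquiv R Equiv.ulift.{u, 0}.symm).toRingEquiv h
  have h3 : ((MvPolynomial.renameEquiv R (Equiv.ulift.{u, 0} (α := Fin 1)).symm).toRingEquiv.toRingHom.comp
      (algebraMap R (MvPolynomial (Fin 1) R))) = algebraMap R (MvPolynomial (ULift.{u} (Fin 1)) R) := by
    ext r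
    simp
  rw [← h3]
  exact h2

instance smooth_line (S : Scheme.{u}) : SmoothOfRelativeDimension 1 (𝔸(ULift.{u} (Fin 1); S) ↘ S) := by
  wlog hS : ∃ R, S = Spec R
  · refine (IsZariskiLocalAtTarget.iff_of_openCover (P := @SmoothOfRelativeDimension 1) S.affineCover).mpr ?_
    intro i
    have := this (S.affineCover.X i) ⟨_, rfl⟩
    rwa [← (AffineSpace.isPullback_map (n := ULift.{u} (Fin 1)) (S.affineCover.f i)).isoPullback_hom_snd,
      MorphismProperty.cancel_left_of_respectsIso (P := @SmoothOfRelativeDimension 1)] at this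
  obtain ⟨R, rfl⟩ := hS
  rw [← MorphismProperty.cancel_left_of_respectsIso (P := @SmoothOfRelativeDimension 1)
    (AffineSpace.SpecIso (ULift.{u} (Fin 1)) R).inv, AffineSpace.SpecIso_inv_over]
  rw [HasRingHomProperty.Spec_iff (P := @SmoothOfRelativeDimension 1)]
  exact RingHom.locally_of RingHom.isStandardSmoothOfRelativeDimension_respectsIso _
    (isStandardSmooth_ulift R)

instance smooth_toInit (n : ℕ) (S : Scheme.{u}) :
    SmoothOfRelativeDimension 1 (Sga4B.IterP1.toInit n S) := by
  rw [← Sga4B.IterP1.splitHom_over]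
  have : IsIso (Sga4B.IterP1.splitHom n S) := inferInstanceAs (IsIso (Sga4B.IterP1.split n S).hom)
  have h : SmoothOfRelativeDimension (0 + 1) (Sga4B.IterP1.splitHom n S ≫
    (𝔸(ULift.{u} (Fin 1); 𝔸(ULift.{u} (Fin n); S)) ↘ 𝔸(ULift.{u} (Fin n); S))) := inferInstance
  exact h

theorem toInit_over (n : ℕ) (S : Scheme.{u}) : Sga4B.IterP1.toInit n S ≫ (𝔸(ULift.{u} (Fin n); S) ↘ S) =
    𝔸(ULift.{u} (Fin (n + 1)); S) ↘ S :=
  AffineSpace.reindex_over _ _

end Groth.Agent.Sga4h.AffProj640
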