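import Mathlib.CategoryTheory.Abelian.Injective.Dimension
import Mathlib.CategoryTheory.Abelian.Injective.Extend
import Mathlib.CategoryTheory.Abelian.Injective.Resolution
import Mathlib.Algebra.Homology.HomotopyCategory.KInjective
import Mathlib.Algebra.Homology.ShortComplex.ShortExact
import Mathlib.Algebra.Homology.HomologicalComplexAbelian

/-!
# Bounded injective resolutions of objects of finite injective dimension

`exists_bounded`: if `L` has injective dimension `≤ N` then there is a quasi-isomorphism from `L[0]` to a
K-injective complex of injectives vanishing strictly outside `[0, N]`.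
`exists_injective`: the version without boundedness above.
-/

set_option autoImplicit false
set_option backward.defeqAttrib.useBackward true
set_option backward.isDefEq.respectTransparency false

universe w v u

namespace Groth.Agent.Sga4h.BidInj

open CategoryTheory Category Limits HomologicalComplex CochainComplex

variable {C : Type u} [Category.{v} C] [Abelian C]

/-- The short complex of cycles `Z^n → K^n → Z^{n+1}`. -/
noncomputable def cyclesSC (K : CochainComplex C ℤ) (n m : ℤ) : ShortComplex C :=
  ShortComplex.mk (K.iCycles n) (K.toCycles n m) (by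
    rw [← cancel_mono (K.iCycles m), assoc, toCycles_i, iCycles_d, zero_comp])

lemma cyclesSC_shortExact (K : CochainComplex C ℤ) (n m : ℤ) (h : n + 1 = m) (hK : K.ExactAt m) :
    (cyclesSC K n m).ShortExact where
  mono_f := by dsimp [cyclesSC]; infer_instance
  epi_g := by
    dsimp [cyclesSC]
    rw [exactAt_iff_isZero_homology] at hK
    exact Preadditive.epi_of_isZero_cokernel' _ (K.homologyIsCokernel n m (by simp; lia)) hK
  exact := by
    refine ShortComplex.exact_of_f_is_kernel _ ?_
    refine KernelFork.IsLimit.ofι _ _ (fun {A} k hk => K.liftCycles k m (by simp; lia) ?_) ?_ ?_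
    · have := congr_arg (fun φ => φ ≫ K.iCycles m) hk
      simpa [cyclesSC] using this
    · intros; simp [cyclesSC]
    · intro A k hk m' hm'
      rw [← cancel_mono (K.iCycles n)]
      simpa [cyclesSC] using hm'

variable [EnoughInjectives C]

/-- Injective resolution in the form of a K-injective complex of injectives in degrees `≥ 0`. -/
theorem exists_injective (L : C) :
    ∃ (J : CochainComplex C ℤ) (ι : (CochainComplex.singleFunctor C 0).obj L ⟶ J),
      QuasiIso ι ∧ (∀ n, Injective (J.X n)) ∧ J.IsStrictlyGE 0 ∧ J.IsKInjective := by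
  let R := injectiveResolution L
  refine ⟨R.cochainComplex, R.ι', inferInstance, fun n => inferInstance, inferInstance, ?_⟩
  exact CochainComplex.isKInjective_of_injective _ 0

omit [EnoughInjectives C] in
lemma injective_cycles {J : CochainComplex C ℤ} (hJ : ∀ n, Injective (J.X n)) (hJ0 : J.IsLE 0)
    (N : ℕ) [HasInjectiveDimensionLT (J.cycles 0) (N + 1)] (n : ℕ) (hn : n ≤ N) :
    HasInjectiveDimensionLT (J.cycles n) (N + 1 - n) := by
  induction n with
  | zero => simpa
  | succ n ih =>
    have h1 := ih (by lia)
    have h2 := cyclesSC_shortExact J n ((n + 1 : ℕ) : ℤ) (by simp) (J.exactAt_of_isLE 0 _ (by lia))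
    have h3 := h2.hasInjectiveDimensionLT_X₃_iff (N - n - 1) (hJ n)
    rw [show N + 1 - (n + 1) = N - n - 1 + 1 by lia]
    refine h3.2 ?_
    rw [show N - n - 1 + 2 = N + 1 - n by lia]
    exact h1

/-- Bounded injective resolution of an object of injective dimension `≤ N`. -/
theorem exists_bounded (L : C) (N : ℕ) [HasInjectiveDimensionLT L (N + 1)] :
    ∃ (J : CochainComplex C ℤ) (ι : (CochainComplex.singleFunctor C 0).obj L ⟶ J),
      QuasiIso ι ∧ (∀ n, Injective (J.X n)) ∧ J.IsStrictlyGE 0 ∧ J.IsStrictlyLE N ∧
        J.IsKInjective := by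
  obtain ⟨J, ι, hι, hJ, hJ0, hJK⟩ := exists_injective L
  have hLE : J.IsLE 0 := by
    have := (isSupported_iff_of_quasiIso ι (ComplexShape.embeddingUpIntLE 0)).1 (by
      change ((CochainComplex.singleFunctor C 0).obj L).IsLE 0
      infer_instance)
    exact this
  have hLEN : J.IsLE N := J.isLE_of_le 0 N (by lia)
  have hcyc : HasInjectiveDimensionLT (J.cycles 0) (N + 1) := by
    have h1 : IsIso (J.homologyπ 0) := J.isIso_homologyπ (-1) 0 (by simp)
      ((J.isZero_of_isStrictlyGE 0 (-1) (by lia)).eq_of_src _ _)
    have e : J.cycles 0 ≅ L := asIso (J.homologyπ 0) ≪≫ (asIso (homologyMap ι 0)).symm ≪≫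
      singleObjHomologySelfIso _ _ _
    exact hasInjectiveDimensionLT_of_iso e.symm _
  have hs : ((CochainComplex.singleFunctor C 0).obj L).IsStrictlyLE N :=
    isStrictlyLE_of_le _ 0 N (by lia)
  have hinj (n : ℤ) : Injective ((J.truncLE N).X n) := by
    obtain h | rfl | h := lt_trichotomy n (N : ℤ)
    · exact Injective.of_iso (J.truncLEXIso N n h).symm (hJ n)
    · have h1 : HasInjectiveDimensionLT (J.cycles N) 1 := by
        have h := injective_cycles hJ hLE N N le_rfl
        rwa [show N + 1 - N = 1 by lia] at h
      have h2 : Injective (J.cycles N) := injective_iff_hasInjectiveDimensionLT_one.2 h1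
      exact Injective.of_iso (J.truncLEXIsoCycles N).symm h2
    · exact ((J.truncLE N).isZero_of_isStrictlyLE N n h).injective
  have hGE : (J.truncLE N).IsStrictlyGE 0 := by
    rw [isStrictlyGE_iff]
    intro i hi
    exact (J.isZero_of_isStrictlyGE 0 i hi).of_iso (J.truncLEXIso N i (by lia))
  refine ⟨J.truncLE N, inv (((CochainComplex.singleFunctor C 0).obj L).ιTruncLE N) ≫ truncLEMap ι N,
    ?_, hinj, hGE, inferInstance, isKInjective_of_injective _ 0⟩
  have h1 : QuasiIso (truncLEMap ι (N : ℤ) ≫ J.ιTruncLE N) := by
    rw [CochainComplex.ιTruncLE_naturality]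
    infer_instance
  have h2 : QuasiIso (truncLEMap ι (N : ℤ)) := quasiIso_of_comp_right _ (J.ιTruncLE N)
  infer_instance

end Groth.Agent.Sga4h.BidInj
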