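import Groth.Agent.Sga4h.BidRefl
import Groth.Agent.Sga4h.BidInj
import Mathlib.Algebra.Homology.DerivedCategory.TStructure

/-!
# Boundedness of the dual

If `J` is a resolution of an object `L` of finite injective dimension then `D_J K` is bounded for bounded `K`,
whatever the (K-injective, termwise injective) representative `J` is.
-/

set_option autoImplicit false
set_option backward.defeqAttrib.useBackward true
set_option backward.isDefEq.respectTransparency false

universe w w' v₁ u₁

namespace Groth.Agent.Sga4h.BidBdd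

open CategoryTheory Category Limits HomologicalComplex CochainComplex Opposite ZeroObject
open Groth.Agent.Dcoh.CxFun Groth.Agent.Sga4h.HomCx Groth.Agent.Sga4h.DualCx Groth.Agent.Sga4h.DualSelf
open Groth.Agent.Sga4h.Refl Groth.Agent.Sga4h.BidRefl

variable {C : Type u₁} [Category.{v₁} C] [Abelian C]

/-- An isomorphism `Q K ≅ Q J` with `J` K-injective comes from a quasi-isomorphism `K ⟶ J`. -/
lemma exists_quasiIso_of_iso_Q [HasDerivedCategory.{w} C] {K J : CochainComplex C ℤ} [J.IsKInjective]
    (e : DerivedCategory.Q.obj K ≅ DerivedCategory.Q.obj J) :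
    ∃ j : K ⟶ J, QuasiIso j ∧ DerivedCategory.Q.map j = e.hom := by
  obtain ⟨g, hg⟩ := (IsKInjective.Qh_map_bijective ((HomotopyCategory.quotient _ _).obj K) J).surjective
    ((DerivedCategory.quotientCompQhIso C).hom.app K ≫ e.hom ≫
      (DerivedCategory.quotientCompQhIso C).inv.app J)
  obtain ⟨j, rfl⟩ := (HomotopyCategory.quotient _ _).map_surjective g
  have hj : DerivedCategory.Q.map j = e.hom := by
    rw [← cancel_mono ((DerivedCategory.quotientCompQhIso C).inv.app J),
      ← cancel_epi ((DerivedCategory.quotientCompQhIso C).hom.app K), ← hg]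
    have := (DerivedCategory.quotientCompQhIso C).inv.naturality j
    simp only [Functor.comp_map] at this
    rw [this, Iso.hom_inv_id_app_assoc]
  have : IsIso (DerivedCategory.Q.map j) := by
    rw [hj]
    infer_instance
  exact ⟨j, by rwa [← DerivedCategory.isIso_Q_map_iff_quasiIso], hj⟩

variable {T : C ⥤ C ⥤ C} [T.Additive] [∀ X, (T.obj X).Additive]
  [∀ (K₁ K₂ : CochainComplex C ℤ), CochainComplex.HasMapBifunctor K₁ K₂ T]
  [∀ E : CochainComplex C ℤ, (T.map₂CochainComplex.flip.obj E).IsLeftAdjoint]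
  [∀ (J : Type), HasColimitsOfShape (Discrete J) C]
  [∀ (J : Type), (colim : (Discrete J ⥤ C) ⥤ C).PreservesMonomorphisms]

omit [∀ (J : Type), HasColimitsOfShape (Discrete J) C]
  [∀ (J : Type), (colim : (Discrete J ⥤ C) ⥤ C).PreservesMonomorphisms] in
/-- Change of the dualizing complex: quasi-isomorphic duals. -/
lemma exists_quasiIso_D [HasDerivedCategory.{w} C] (A B : DualData T)
    (e : DerivedCategory.Q.obj A.J ≅ DerivedCategory.Q.obj B.J) :
    ∃ j : A.J ⟶ B.J, QuasiIso j ∧ ∀ K : CochainComplex C ℤ, QuasiIso ((mapJ T j).app (op K)) := by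
  have := A.kinj
  have := B.kinj
  obtain ⟨j, hj, -⟩ := exists_quasiIso_of_iso_Q e
  exact ⟨j, hj, fun K => quasiIso_mapJ j K⟩

/-- Boundedness below of the dual: `J` cohomologically in degrees `≥ 0`. -/
theorem isGE_D_of_iso [HasDerivedCategory.{w} C] [EnoughInjectives C] (A : DualData T) (L : C)
    (e : DerivedCategory.Q.obj A.J ≅ DerivedCategory.Q.obj ((CochainComplex.singleFunctor C 0).obj L))
    (K : CochainComplex C ℤ) (b c : ℤ) (hc : c + b = 0) [K.IsLE b] : (A.D K).IsGE c := by
  obtain ⟨J, ι, hι, hJ, hJ0, hJK⟩ := BidInj.exists_injective L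
  let B : DualData T := ⟨A.S, J, hJ, hJK, A.flat⟩
  obtain ⟨j, -, hj⟩ := exists_quasiIso_D A B (e ≪≫ asIso (DerivedCategory.Q.map ι))
  have h1 : (B.D K).IsGE c := isGE_D B 0 b c hc
  rw [isGE_iff] at h1 ⊢
  intro i hi
  have := hj K
  exact (exactAt_iff_of_quasiIsoAt ((mapJ T j).app (op K)) i).2 (h1 i hi)

/-- Boundedness above of the dual if `L` has finite injective dimension. -/
theorem isLE_D_of_iso [HasDerivedCategory.{w} C] [EnoughInjectives C] (A : DualData T) (L : C) (N : ℕ)
    [HasInjectiveDimensionLT L (N + 1)]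
    (e : DerivedCategory.Q.obj A.J ≅ DerivedCategory.Q.obj ((CochainComplex.singleFunctor C 0).obj L))
    (K : CochainComplex C ℤ) (a d : ℤ) (hd : d + a = N) [K.IsGE a] : (A.D K).IsLE d := by
  obtain ⟨J, ι, hι, hJ, hJ0, hJN, hJK⟩ := BidInj.exists_bounded L N
  let B : DualData T := ⟨A.S, J, hJ, hJK, A.flat⟩
  obtain ⟨j, -, hj⟩ := exists_quasiIso_D A B (e ≪≫ asIso (DerivedCategory.Q.map ι))
  have h1 : (B.D K).IsLE d := isLE_D B N a d hd
  rw [isLE_iff] at h1 ⊢
  intro i hi
  have := hj K
  exact (exactAt_iff_of_quasiIsoAt ((mapJ T j).app (op K)) i).2 (h1 i hi)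

/-- Version in the derived category. -/
theorem isGE_Q_D [HasDerivedCategory.{w} C] [EnoughInjectives C] (A : DualData T) (L : C)
    (e : DerivedCategory.Q.obj A.J ≅ DerivedCategory.Q.obj ((CochainComplex.singleFunctor C 0).obj L))
    (K : CochainComplex C ℤ) (b c : ℤ) (hc : c + b = 0) (h : (DerivedCategory.Q.obj K).IsLE b) :
    (DerivedCategory.Q.obj (A.D K)).IsGE c := by
  have : K.IsLE b := by rwa [← DerivedCategory.isLE_Q_obj_iff]
  have := isGE_D_of_iso A L e K b c hc
  rwa [DerivedCategory.isGE_Q_obj_iff]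

/-- Version in the derived category. -/
theorem isLE_Q_D [HasDerivedCategory.{w} C] [EnoughInjectives C] (A : DualData T) (L : C) (N : ℕ)
    [HasInjectiveDimensionLT L (N + 1)]
    (e : DerivedCategory.Q.obj A.J ≅ DerivedCategory.Q.obj ((CochainComplex.singleFunctor C 0).obj L))
    (K : CochainComplex C ℤ) (a d : ℤ) (hd : d + a = N) (h : (DerivedCategory.Q.obj K).IsGE a) :
    (DerivedCategory.Q.obj (A.D K)).IsLE d := by
  have : K.IsGE a := by rwa [← DerivedCategory.isGE_Q_obj_iff]
  have := isLE_D_of_iso A L N e K a d hd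
  rwa [DerivedCategory.isLE_Q_obj_iff]

omit [∀ (J : Type), HasColimitsOfShape (Discrete J) C]
  [∀ (J : Type), (colim : (Discrete J ⥤ C) ⥤ C).PreservesMonomorphisms] in
/-- Injective dimension from the vanishing of all `Ext`s in large degrees. -/
lemma hasInjectiveDimensionLT_of_ext [HasExt.{w'} C] (L : C) (N : ℕ)
    (h : ∀ (F : C) (q : ℕ) (_ : N < q) (e : Abelian.Ext.{w'} F L q), e = 0) :
    HasInjectiveDimensionLT L (N + 1) := by
  rw [hasInjectiveDimensionLT_iff.{w'}]
  intro i hi Y e
  exact h Y i (by lia) e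

end Groth.Agent.Sga4h.BidBdd
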