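import Groth.Agent.Sga4h.ModDTensor
import Groth.Agent.PerfC.BifAdj

/-!
# Instances for the category `EtModW.Mod Λ X` of sheaves of `Λ`-modules on the small étale site

Exactness of countable coproducts and of sequential colimits; `- ⊗ E` on complexes is a left adjoint.

KERNEL SPEED: files about complexes of sheaves of modules should start with
`attribute [local instance 5000] CategoryTheory.Abelian.toPreadditive
  CategoryTheory.Preadditive.preadditiveHasZeroMorphisms` and `open scoped Groth.Agent.Sga4h.ModInst`:
then the preadditive structures are those of the abelian structure, as in general statements on abelian categories.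
-/

set_option autoImplicit false

universe u

open CategoryTheory CategoryTheory.Limits AlgebraicGeometry

attribute [local instance 5000] CategoryTheory.Abelian.toPreadditive
  CategoryTheory.Preadditive.preadditiveHasZeroMorphisms

namespace Groth.Agent.Sga4h.ModInst

variable (Λ : Type (u + 1)) [CommRing Λ] (X : Scheme.{u})

instance hasColimitsOfShape (J : Type) [Category.{0} J] : HasColimitsOfShape J (EtModW.Mod Λ X) :=
  EtModD.hasColimitsOfSize0.has_colimits_of_shape J

instance hasExactColimitsOfShape_discrete (J : Type) : HasExactColimitsOfShape (Discrete J) (EtModW.Mod Λ X) := by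
  have := IsGrothendieckAbelian.hasColimits (EtModW.Mod Λ X)
  have : HasCoproducts.{u + 1} (EtModW.Mod Λ X) := fun J => this.has_colimits_of_shape _
  have h : AB4OfSize.{u + 1} (EtModW.Mod Λ X) := IsGrothendieckAbelian.ab4OfSize (EtModW.Mod Λ X)
  have := h.ofShape (ULift.{u + 1} J)
  exact HasExactColimitsOfShape.of_domain_equivalence _
    (Discrete.equivalence Equiv.ulift : Discrete (ULift.{u + 1} J) ≌ Discrete J)

instance hasExactColimitsOfShape_filtered (J : Type) [Category.{0} J] [IsFiltered J] :
    HasExactColimitsOfShape J (EtModW.Mod Λ X) := by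
  have h : AB5OfSize.{u + 1, u + 1} (EtModW.Mod Λ X) := IsGrothendieckAbelian.ab5OfSize
  have h' := @AB5OfSize_of_univLE.{0, 0, u + 1, u + 1} (EtModW.Mod Λ X) _ _ _ _ h
  exact h'.ofShape J

instance hasExactColimitsOfShape_nat : HasExactColimitsOfShape ℕ (EtModW.Mod Λ X) :=
  hasExactColimitsOfShape_filtered Λ X ℕ

instance preservesMonomorphisms_colim_discrete (J : Type) :
    (colim : (Discrete J ⥤ EtModW.Mod Λ X) ⥤ EtModW.Mod Λ X).PreservesMonomorphisms :=
  have : PreservesFiniteLimits (colim : (Discrete J ⥤ EtModW.Mod Λ X) ⥤ EtModW.Mod Λ X) :=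
    HasExactColimitsOfShape.preservesFiniteLimits
  inferInstance

instance preservesMonomorphisms_colim_nat :
    (colim : (ℕ ⥤ EtModW.Mod Λ X) ⥤ EtModW.Mod Λ X).PreservesMonomorphisms :=
  have : PreservesFiniteLimits (colim : (ℕ ⥤ EtModW.Mod Λ X) ⥤ EtModW.Mod Λ X) :=
    HasExactColimitsOfShape.preservesFiniteLimits
  inferInstance

scoped instance (priority := 5000) additiveB : (EtModD.tensorBi Λ X).Additive := EtModD.additive_tensorBi Λ X

variable {Λ X}

scoped instance (priority := 5000) additiveB_obj (F : EtModW.Mod Λ X) : ((EtModD.tensorBi Λ X).obj F).Additive :=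
  EtModD.additive_tensorBi_obj Λ X F

scoped instance (priority := 5000) hasMapBifunctorB (K L : CochainComplex (EtModW.Mod Λ X) ℤ) :
    CochainComplex.HasMapBifunctor K L (EtModD.tensorBi Λ X) := inferInstance

instance isLeftAdjoint_tensorCx_flip_obj (E : CochainComplex (EtModW.Mod Λ X) ℤ) :
    ((EtModD.tensorBi Λ X).map₂CochainComplex.flip.obj E).IsLeftAdjoint :=
  have (q : ℤ) : PreservesColimitsOfSize.{u + 1, u + 1} ((EtModD.tensorBi Λ X).flip.obj (E.X q)) :=
    (Adjunction.ofIsLeftAdjoint ((EtModD.tensorBi Λ X).flip.obj (E.X q))).leftAdjoint_preservesColimits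
  PerfC.BifAdj.isLeftAdjoint_flip_obj (EtModD.tensorBi Λ X) E

instance isLeftAdjoint_tensorCx_obj (E : CochainComplex (EtModW.Mod Λ X) ℤ) :
    ((EtModD.tensorBi Λ X).map₂CochainComplex.obj E).IsLeftAdjoint :=
  have (q : ℤ) : PreservesColimitsOfSize.{u + 1, u + 1} ((EtModD.tensorBi Λ X).obj (E.X q)) :=
    (Adjunction.ofIsLeftAdjoint ((EtModD.tensorBi Λ X).obj (E.X q))).leftAdjoint_preservesColimits
  PerfC.BifAdj.isLeftAdjoint_obj (EtModD.tensorBi Λ X) E

/-- The functor of the prelude in terms of the abelian structure. -/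
theorem tensorCx_eq : EtModD.tensorCx Λ X = (EtModD.tensorBi Λ X).map₂CochainComplex := rfl

end Groth.Agent.Sga4h.ModInst
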