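import Groth.Agent.Sga4h.Refl
import Groth.Agent.Sga4h.ModInst
import Groth.Agent.CohtopA.KInjRes2
import Mathlib.RingTheory.Flat.CategoryTheory

/-!
# The duality functor on complexes of sheaves of `Λ`-modules on the small étale site

* `symmEt Λ X : SymmData (EtModD.tensorBi Λ X)`;
* `enoughFlat Λ X`;
* `dualData`, `exists_kInj`: duality data from K-injective termwise injective complexes, and their existence.
-/

set_option autoImplicit false

universe u

open CategoryTheory CategoryTheory.Limits AlgebraicGeometry MonoidalCategory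

attribute [local instance 5000] CategoryTheory.Abelian.toPreadditive
  CategoryTheory.Preadditive.preadditiveHasZeroMorphisms

namespace Groth.Agent.Sga4h.DualEt

open scoped Groth.Agent.Sga4h.ModInst
open Groth.Agent.Sga4h.ModDTensor Groth.Agent.Sga4h.DualSelf Groth.Agent.Sga4h.DualCx Groth.Agent.Sga4h.Refl

variable (Λ : Type (u + 1)) [CommRing Λ] (X : Scheme.{u})

/-- The symmetry of the tensor product of sheaves of modules. -/
noncomputable def symmEt : SymmData (EtModD.tensorBi Λ X) where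
  σ M N := ((tensorFlipIso Λ X).app M).app N
  nat₁ {M M'} f N := NatTrans.congr_app ((tensorFlipIso Λ X).hom.naturality f) N
  nat₂ M {N N'} f := ((tensorFlipIso Λ X).hom.app M).naturality f
  symm M N := by
    refine ((sh Λ X).map_comp _ _).symm.trans ?_
    refine (congrArg (sh Λ X).map ?_).trans ((sh Λ X).map_id _)
    exact SymmetricCategory.symmetry _ _

/-- The presheaf `V ↦ Λ[F(V)]`. -/
noncomputable def freeP (F : EtModW.Mod Λ X) : PMod Λ X :=
  ((inc Λ X).obj F : PMod Λ X) ⋙ forget (ModuleCat.{u + 1} Λ) ⋙ ModuleCat.free Λ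

/-- The counit `Λ[F(V)] ⟶ F(V)`. -/
noncomputable def freeCounit (F : EtModW.Mod Λ X) : freeP Λ X F ⟶ (inc Λ X).obj F :=
  Functor.whiskerLeft _ (ModuleCat.adj Λ).counit

instance epi_freeCounit (F : EtModW.Mod Λ X) : Epi (freeCounit Λ X F) := by
  have (V : X.Etaleᵒᵖ) : Epi ((freeCounit Λ X F).app V) :=
    inferInstanceAs (Epi ((ModuleCat.adj Λ).counit.app (((inc Λ X).obj F : PMod Λ X).obj V)))
  exact NatTrans.epi_of_epi_app _

variable {Λ X}

/-- If all `Q(V)` are flat then `Q ⊗ -` is exact on presheaves. -/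
lemma preservesFiniteLimits_tensorLeft (Q : PMod Λ X) (hQ : ∀ V, Module.Flat Λ (Q.obj V)) :
    PreservesFiniteLimits (tensorLeft Q) where
  preservesFiniteLimits J _ _ := preservesLimitsOfShape_of_evaluation _ _ (fun V => by
    have := hQ V
    have h : PreservesFiniteLimits (tensorLeft (Q.obj V) : ModuleCat.{u + 1} Λ ⥤ _) := inferInstance
    exact inferInstanceAs (PreservesLimitsOfShape J ((evaluation _ _).obj V ⋙ tensorLeft (Q.obj V))))

/-- `T (a Q) G ≅ a (Q ⊗ G)`. -/
noncomputable def tensorShIso (Q : PMod Λ X) :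
    (EtModD.tensorBi Λ X).obj ((sh Λ X).obj Q) ≅ inc Λ X ⋙ tensorLeft Q ⋙ sh Λ X :=
  (Functor.leftUnitor _).symm ≪≫
    Functor.isoWhiskerRight (asIso (sheafificationAdjunction X.smallEtaleTopology (ModuleCat.{u + 1} Λ)).counit).symm
      ((EtModD.tensorBi Λ X).obj ((sh Λ X).obj Q)) ≪≫
    Functor.isoWhiskerLeft (inc Λ X) ((shBiIso Λ X).app Q).symm

lemma preservesFiniteLimits_tensorBi (Q : PMod Λ X) (hQ : ∀ V, Module.Flat Λ (Q.obj V)) :
    PreservesFiniteLimits ((EtModD.tensorBi Λ X).obj ((sh Λ X).obj Q)) := by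
  have := preservesFiniteLimits_tensorLeft Q hQ
  have h1 : PreservesFiniteLimits (inc Λ X ⋙ tensorLeft Q ⋙ sh Λ X) := inferInstance
  exact preservesFiniteLimits_of_natIso (tensorShIso Q).symm

lemma flat_free (T : Type (u + 1)) : Module.Flat Λ ((ModuleCat.free Λ).obj T) :=
  inferInstanceAs (Module.Flat Λ (T →₀ Λ))

lemma flat_freeP (F : EtModW.Mod Λ X) (V : X.Etaleᵒᵖ) : Module.Flat Λ ((freeP Λ X F).obj V) :=
  flat_free _

variable (Λ X) in
/-- There are enough flat sheaves. -/
theorem enoughFlat : EnoughFlat (EtModD.tensorBi Λ X) := fun F => by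
  refine ⟨(sh Λ X).obj (freeP Λ X F), (sh Λ X).map (freeCounit Λ X F) ≫
    (sheafificationAdjunction X.smallEtaleTopology (ModuleCat.{u + 1} Λ)).counit.app F, ?_,
    preservesFiniteLimits_tensorBi _ (flat_freeP F), ?_⟩
  · have h1 : Epi ((sh Λ X).map (freeCounit Λ X F)) := inferInstance
    have h2 : IsIso ((sheafificationAdjunction X.smallEtaleTopology (ModuleCat.{u + 1} Λ)).counit.app F) :=
      inferInstance
    exact @epi_comp _ _ _ _ _ _ h1 _ (IsIso.epi_of_iso _)
  · have h : PreservesColimitsOfSize.{0, 0} ((EtModD.tensorBi Λ X).obj ((sh Λ X).obj (freeP Λ X F))) :=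
      (Adjunction.ofIsLeftAdjoint ((EtModD.tensorBi Λ X).obj
        ((sh Λ X).obj (freeP Λ X F)))).leftAdjoint_preservesColimits
    exact PreservesColimitsOfSize.preservesFiniteColimits.{0, 0} _

/-- Duality data with a given K-injective termwise injective `J`. -/
noncomputable def dualData (J : CochainComplex (EtModW.Mod Λ X) ℤ) (hJ : J.IsKInjective)
    (hJ' : ∀ n, Injective (J.X n)) : DualData (EtModD.tensorBi Λ X) where
  S := symmEt Λ X
  J := J
  inj := hJ'
  kinj := hJ
  flat := enoughFlat Λ X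

/-- K-injective resolutions. -/
theorem exists_kInj (M : CochainComplex (EtModW.Mod Λ X) ℤ) :
    ∃ (J : CochainComplex (EtModW.Mod Λ X) ℤ) (i : M ⟶ J), J.IsKInjective ∧ (∀ n, Injective (J.X n)) ∧
      QuasiIso i ∧ Mono i := by
  obtain ⟨J, i, hJ, hi, hi', hJ'⟩ :=
    CohtopA.KInjRes2.exists_kInjective_resolution.{u + 1} M
  exact ⟨J, i, hJ, hJ', hi, HomologicalComplex.mono_of_mono_f _ hi'⟩

end Groth.Agent.Sga4h.DualEt
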