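import Groth.Agent.Sga4h.BidBdd
import Groth.Agent.Sga4h.DualEt

/-!
# Boundedness of the dual: étale sheaves of modules
-/

set_option autoImplicit false

universe u

open CategoryTheory CategoryTheory.Limits AlgebraicGeometry

attribute [local instance 5000] CategoryTheory.Abelian.toPreadditive
  CategoryTheory.Preadditive.preadditiveHasZeroMorphisms

attribute [local instance] HasDerivedCategory.standard

namespace Groth.Agent.Sga4h.BidBddEt

open scoped Groth.Agent.Sga4h.ModInst
open Groth.Agent.Sga4h.DualEt Groth.Agent.Sga4h.Refl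

variable {Λ : Type (u + 1)} [CommRing Λ] {X : Scheme.{u}} (J : CochainComplex (EtModW.Mod Λ X) ℤ)
  (hJ : J.IsKInjective) (hJ' : ∀ n, Injective (J.X n)) (L : EtModW.Mod Λ X)
  (e : DerivedCategory.Q.obj J ≅ DerivedCategory.Q.obj ((CochainComplex.singleFunctor _ 0).obj L))

include e in
theorem isGE_D (K : CochainComplex (EtModW.Mod Λ X) ℤ) (b : ℤ) (h : (DerivedCategory.Q.obj K).IsLE b) :
    (DerivedCategory.Q.obj ((dualData J hJ hJ').D K)).IsGE (-b) :=
  BidBdd.isGE_Q_D (dualData J hJ hJ') L e K b (-b) (by lia) h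

include e in
theorem isLE_D (N : ℕ) (hN : HasInjectiveDimensionLT L (N + 1)) (K : CochainComplex (EtModW.Mod Λ X) ℤ) (a : ℤ)
    (h : (DerivedCategory.Q.obj K).IsGE a) :
    (DerivedCategory.Q.obj ((dualData J hJ hJ').D K)).IsLE (N - a) :=
  BidBdd.isLE_Q_D (dualData J hJ hJ') L N e K a (N - a) (by lia) h

end Groth.Agent.Sga4h.BidBddEt
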