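import Groth.Agent.Sga4h.DualCx
import Groth.Agent.PerfC.CxNat

/-!
# Comparison of duality functors along a monoidal functor, abstractly

`R : C ⥤ C'` additive with a natural transformation `τ : R A ⊗ R B ⟶ R (A ⊗ B)`, a morphism `j : R J ⟶ J'`
of complexes.  We get the comparison map `cmp : R (D_J E) ⟶ D_{J'} (R E)`, natural in `E`, and when `τ` is
compatible with the symmetries, `R (ev_E) ≫ cmp_{D E} = ev_{R E} ≫ D' (cmp_E)`.
-/

set_option autoImplicit false
set_option backward.defeqAttrib.useBackward true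
set_option backward.isDefEq.respectTransparency false

universe w v₁ v₂ v₃ u₁ u₂ u₃

namespace Groth.Agent.Sga4h.BidCmp

open CategoryTheory Category Limits HomologicalComplex CochainComplex Opposite
open Groth.Agent.Sga4h.DualCx Groth.Agent.PerfC

section Eval

variable {C : Type u₁} [Category.{v₁} C] [Abelian C] (T : C ⥤ C ⥤ C) [T.Additive] [∀ X, (T.obj X).Additive]
  [∀ (K₁ K₂ : CochainComplex C ℤ), CochainComplex.HasMapBifunctor K₁ K₂ T]
  [∀ E : CochainComplex C ℤ, (T.map₂CochainComplex.flip.obj E).IsLeftAdjoint]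

/-- The evaluation `D E ⊗ E ⟶ J`. -/
noncomputable def cev (J E : CochainComplex C ℤ) :
    (T.map₂CochainComplex.obj ((dualFun T J).obj (op E))).obj E ⟶ J :=
  (dualEquiv T _ E J).symm (𝟙 _)

variable {T}

lemma dualEquiv_cev (J E : CochainComplex C ℤ) : dualEquiv T _ E J (cev T J E) = 𝟙 _ :=
  Equiv.apply_symm_apply _ _

lemma map_dualEquiv_cev {K E J : CochainComplex C ℤ} (φ : (T.map₂CochainComplex.obj K).obj E ⟶ J) :
    (T.map₂CochainComplex.map (dualEquiv T K E J φ)).app E ≫ cev T J E = φ := by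
  apply (dualEquiv T K E J).injective
  rw [dualEquiv_naturality_left, dualEquiv_cev, comp_id]

lemma eq_of_cev {K E J : CochainComplex C ℤ} {u v : K ⟶ (dualFun T J).obj (op E)}
    (h : (T.map₂CochainComplex.map u).app E ≫ cev T J E = (T.map₂CochainComplex.map v).app E ≫ cev T J E) :
    u = v := by
  have h' := congrArg (dualEquiv T K E J) h
  rwa [dualEquiv_naturality_left, dualEquiv_naturality_left, dualEquiv_cev, comp_id, comp_id] at h'

lemma map_map_cev {E E' J : CochainComplex C ℤ} (g : E ⟶ E') :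
    (T.map₂CochainComplex.map ((dualFun T J).map g.op)).app E ≫ cev T J E =
      (T.map₂CochainComplex.obj ((dualFun T J).obj (op E'))).map g ≫ cev T J E' := by
  apply (dualEquiv T _ E J).injective
  rw [dualEquiv_naturality_left, dualEquiv_cev, comp_id, dualEquiv_naturality_mid, dualEquiv_cev, id_comp]

variable (s : T.map₂CochainComplex.flip ≅ T.map₂CochainComplex)

/-- The evaluation map `E ⟶ D (D E)`. -/
noncomputable def evMap (J E : CochainComplex C ℤ) :
    E ⟶ (dualFun T J).obj (op ((dualFun T J).obj (op E))) :=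
  dualEquiv T E _ J ((s.hom.app ((dualFun T J).obj (op E))).app E ≫ cev T J E)

end Eval

section Tcx

variable {C : Type u₁} [Category.{v₁} C] [Abelian C] {T : C ⥤ C ⥤ C} [T.Additive] [∀ X, (T.obj X).Additive]
  [∀ (K₁ K₂ : CochainComplex C ℤ), CochainComplex.HasMapBifunctor K₁ K₂ T]
  {C' : Type u₂} [Category.{v₂} C'] [Abelian C'] {T' : C' ⥤ C' ⥤ C'} [T'.Additive] [∀ X, (T'.obj X).Additive]
  [∀ (K₁ K₂ : CochainComplex C' ℤ), CochainComplex.HasMapBifunctor K₁ K₂ T']
  {R : C ⥤ C'} [R.Additive]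
  (τ : R ⋙ T' ⋙ (Functor.whiskeringLeft _ _ _).obj R ⟶ T ⋙ (Functor.whiskeringRight _ _ _).obj R)

/-- `R K ⊗ R E ⟶ R (K ⊗ E)` on complexes. -/
noncomputable def tcx (K E : CochainComplex C ℤ) :
    (T'.map₂CochainComplex.obj ((R.mapHomologicalComplex (ComplexShape.up ℤ)).obj K)).obj
        ((R.mapHomologicalComplex (ComplexShape.up ℤ)).obj E) ⟶
      (R.mapHomologicalComplex (ComplexShape.up ℤ)).obj ((T.map₂CochainComplex.obj K).obj E) :=
  ((CxNat.natTrans τ).app K).app E

@[reassoc]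
lemma tcx_nat₁ {K K' : CochainComplex C ℤ} (f : K ⟶ K') (E : CochainComplex C ℤ) :
    (T'.map₂CochainComplex.map ((R.mapHomologicalComplex (ComplexShape.up ℤ)).map f)).app
        ((R.mapHomologicalComplex (ComplexShape.up ℤ)).obj E) ≫ tcx τ K' E =
      tcx τ K E ≫ (R.mapHomologicalComplex (ComplexShape.up ℤ)).map ((T.map₂CochainComplex.map f).app E) :=
  congr_app ((CxNat.natTrans τ).naturality f) E

@[reassoc]
lemma tcx_nat₂ (K : CochainComplex C ℤ) {E E' : CochainComplex C ℤ} (g : E ⟶ E') :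
    (T'.map₂CochainComplex.obj ((R.mapHomologicalComplex (ComplexShape.up ℤ)).obj K)).map
        ((R.mapHomologicalComplex (ComplexShape.up ℤ)).map g) ≫ tcx τ K E' =
      tcx τ K E ≫ (R.mapHomologicalComplex (ComplexShape.up ℤ)).map ((T.map₂CochainComplex.obj K).map g) :=
  ((CxNat.natTrans τ).app K).naturality g

end Tcx

section Cmp

variable {C : Type u₁} [Category.{v₁} C] [Abelian C] {T : C ⥤ C ⥤ C} [T.Additive] [∀ X, (T.obj X).Additive]
  [∀ (K₁ K₂ : CochainComplex C ℤ), CochainComplex.HasMapBifunctor K₁ K₂ T]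
  [∀ E : CochainComplex C ℤ, (T.map₂CochainComplex.flip.obj E).IsLeftAdjoint]
  {C' : Type u₂} [Category.{v₂} C'] [Abelian C'] {T' : C' ⥤ C' ⥤ C'} [T'.Additive] [∀ X, (T'.obj X).Additive]
  [∀ (K₁ K₂ : CochainComplex C' ℤ), CochainComplex.HasMapBifunctor K₁ K₂ T']
  [∀ E : CochainComplex C' ℤ, (T'.map₂CochainComplex.flip.obj E).IsLeftAdjoint]
  {R : C ⥤ C'} [R.Additive]
  (τ : R ⋙ T' ⋙ (Functor.whiskeringLeft _ _ _).obj R ⟶ T ⋙ (Functor.whiskeringRight _ _ _).obj R)

variable {J : CochainComplex C ℤ} {J' : CochainComplex C' ℤ}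
  (j : (R.mapHomologicalComplex (ComplexShape.up ℤ)).obj J ⟶ J')

/-- The comparison map `R (D_J E) ⟶ D_{J'} (R E)`. -/
noncomputable def cmp (E : CochainComplex C ℤ) :
    (R.mapHomologicalComplex (ComplexShape.up ℤ)).obj ((dualFun T J).obj (op E)) ⟶
      (dualFun T' J').obj (op ((R.mapHomologicalComplex (ComplexShape.up ℤ)).obj E)) :=
  dualEquiv T' _ _ J' (tcx τ _ E ≫ (R.mapHomologicalComplex (ComplexShape.up ℤ)).map (cev T J E) ≫ j)

lemma cmp_cev (E : CochainComplex C ℤ) :
    (T'.map₂CochainComplex.map (cmp τ j E)).app _ ≫ cev T' J' _ =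
      tcx τ _ E ≫ (R.mapHomologicalComplex (ComplexShape.up ℤ)).map (cev T J E) ≫ j :=
  map_dualEquiv_cev _

/-- The transport of a pairing `K ⊗ E ⟶ J` along `R`. -/
lemma dualEquiv_tcx {K E : CochainComplex C ℤ} (φ : (T.map₂CochainComplex.obj K).obj E ⟶ J) :
    dualEquiv T' ((R.mapHomologicalComplex (ComplexShape.up ℤ)).obj K)
        ((R.mapHomologicalComplex (ComplexShape.up ℤ)).obj E) J'
        (tcx τ K E ≫ (R.mapHomologicalComplex (ComplexShape.up ℤ)).map φ ≫ j) =
      (R.mapHomologicalComplex (ComplexShape.up ℤ)).map (dualEquiv T K E J φ) ≫ cmp τ j E := by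
  rw [cmp, ← dualEquiv_naturality_left, tcx_nat₁_assoc, ← Functor.map_comp_assoc, map_dualEquiv_cev]

/-- The comparison map is natural. -/
@[reassoc]
lemma cmp_naturality {E E' : CochainComplex C ℤ} (g : E ⟶ E') :
    (R.mapHomologicalComplex (ComplexShape.up ℤ)).map ((dualFun T J).map g.op) ≫ cmp τ j E =
      cmp τ j E' ≫ (dualFun T' J').map ((R.mapHomologicalComplex (ComplexShape.up ℤ)).map g).op := by
  rw [cmp, ← dualEquiv_naturality_left, cmp, ← dualEquiv_naturality_mid, tcx_nat₁_assoc, tcx_nat₂_assoc,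
    ← Functor.map_comp_assoc, map_map_cev, Functor.map_comp_assoc]

variable (s : T.map₂CochainComplex.flip ≅ T.map₂CochainComplex)
  (s' : T'.map₂CochainComplex.flip ≅ T'.map₂CochainComplex)
  (hs : ∀ K E : CochainComplex C ℤ, (s'.hom.app ((R.mapHomologicalComplex (ComplexShape.up ℤ)).obj K)).app
      ((R.mapHomologicalComplex (ComplexShape.up ℤ)).obj E) ≫ tcx τ K E =
    tcx τ E K ≫ (R.mapHomologicalComplex (ComplexShape.up ℤ)).map ((s.hom.app K).app E))

include hs in
/-- Compatibility of the comparison map with the evaluation maps. -/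
theorem evMap_cmp (E : CochainComplex C ℤ) :
    (R.mapHomologicalComplex (ComplexShape.up ℤ)).map (evMap s J E) ≫ cmp τ j ((dualFun T J).obj (op E)) =
      evMap s' J' ((R.mapHomologicalComplex (ComplexShape.up ℤ)).obj E) ≫ (dualFun T' J').map (cmp τ j E).op := by
  have h1 : (s'.hom.app _).app ((R.mapHomologicalComplex (ComplexShape.up ℤ)).obj E) ≫
      (T'.map₂CochainComplex.map (cmp τ j E)).app _ =
      (T'.map₂CochainComplex.obj ((R.mapHomologicalComplex (ComplexShape.up ℤ)).obj E)).map (cmp τ j E) ≫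
        (s'.hom.app _).app ((R.mapHomologicalComplex (ComplexShape.up ℤ)).obj E) :=
    (congr_app (s'.hom.naturality (cmp τ j E)) ((R.mapHomologicalComplex (ComplexShape.up ℤ)).obj E)).symm
  rw [evMap, ← dualEquiv_tcx, evMap, ← dualEquiv_naturality_mid, ← reassoc_of% h1, cmp_cev,
    reassoc_of% (hs ((dualFun T J).obj (op E)) E), Functor.map_comp_assoc]

end Cmp

section Flip

variable {C : Type u₁} [Category.{v₁} C] [Abelian C] {T : C ⥤ C ⥤ C} [T.Additive] [∀ X, (T.obj X).Additive]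
  [∀ (K₁ K₂ : CochainComplex C ℤ), CochainComplex.HasMapBifunctor K₁ K₂ T]
  {C' : Type u₂} [Category.{v₂} C'] [Abelian C'] {T' : C' ⥤ C' ⥤ C'} [T'.Additive] [∀ X, (T'.obj X).Additive]
  [∀ (K₁ K₂ : CochainComplex C' ℤ), CochainComplex.HasMapBifunctor K₁ K₂ T']
  {R : C ⥤ C'} [R.Additive]
  (τ : R ⋙ T' ⋙ (Functor.whiskeringLeft _ _ _).obj R ⟶ T ⋙ (Functor.whiskeringRight _ _ _).obj R)
  (σ : T.flip ≅ T) (σ' : T'.flip ≅ T')
  (hσ : ∀ a b : C, (σ'.hom.app (R.obj a)).app (R.obj b) ≫ CxNat.comp τ a b =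
    CxNat.comp τ b a ≫ R.map ((σ.hom.app a).app b))

omit [T'.Additive] [∀ (X : C'), (T'.obj X).Additive] in
lemma ι_flipIso_hom (K E : CochainComplex C ℤ) (p q n : ℤ) (h : p + q = n) :
    ιMapBifunctor E K T (ComplexShape.up ℤ) p q n h ≫
      (((CxNat.flipIso (F := T) σ).hom.app K).app E).f n =
    (p * q).negOnePow •
      ((σ.hom.app (K.X q)).app (E.X p) ≫
        ιMapBifunctor K E T (ComplexShape.up ℤ) q p n (by simpa [add_comm] using h)) := by
  dsimp [CxNat.flipIso, CxNat.flipNatIso, CxNat.congrIso, CxNat.congrNat]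
  rw [ι_mapBifunctorFlipIso_inv_assoc]
  rw [Linear.units_smul_comp, CxNat.ι_congrHomX]
  rfl

lemma ι_tcx (K E : CochainComplex C ℤ) (p q n : ℤ) (h : p + q = n) :
    ιMapBifunctor ((R.mapHomologicalComplex (ComplexShape.up ℤ)).obj K)
      ((R.mapHomologicalComplex (ComplexShape.up ℤ)).obj E) T' (ComplexShape.up ℤ) p q n h ≫
      (tcx τ K E).f n = CxNat.comp τ (K.X p) (E.X q) ≫
        R.map (ιMapBifunctor K E T (ComplexShape.up ℤ) p q n h) :=
  CxNat.ι_natHomX τ K E p q n h

include hσ in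
/-- Compatibility of `tcx` with the symmetries. -/
theorem tcx_flip (K E : CochainComplex C ℤ) :
    (((CxNat.flipIso (F := T') σ').hom).app ((R.mapHomologicalComplex (ComplexShape.up ℤ)).obj K)).app
      ((R.mapHomologicalComplex (ComplexShape.up ℤ)).obj E) ≫ tcx τ K E =
    tcx τ E K ≫ (R.mapHomologicalComplex (ComplexShape.up ℤ)).map
      (((CxNat.flipIso (F := T) σ).hom.app K).app E) := by
  ext n : 1
  refine mapBifunctor.hom_ext (fun p q h => ?_)
  have h1 := ι_flipIso_hom (T := T') σ' ((R.mapHomologicalComplex (ComplexShape.up ℤ)).obj K)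
    ((R.mapHomologicalComplex (ComplexShape.up ℤ)).obj E) p q n h
  have h2 := ι_flipIso_hom σ K E p q n h
  have h3 := ι_tcx τ K E q p n (by simpa [add_comm] using h)
  have h4 := ι_tcx τ E K p q n h
  rw [comp_f, comp_f]
  rw [reassoc_of% h1, Linear.units_smul_comp, assoc, h3, reassoc_of% h4]
  dsimp
  rw [← R.map_comp, h2, Functor.map_units_smul, Linear.comp_units_smul, R.map_comp,
    reassoc_of% (hσ (K.X q) (E.X p))]

end Flip

end Groth.Agent.Sga4h.BidCmp
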