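import Groth.Agent.Sga4h.BidGeoIt

/-!
# Limit data in the form used by the limit theorems
-/

set_option autoImplicit false

universe u

open CategoryTheory CategoryTheory.Limits AlgebraicGeometry

namespace Groth.Agent.Sga4h.BidGeoLim

/-- the limit data of a cofiltered limit of affine etale schemes, with the given scheme as cone point -/
theorem IsEtLim.exists_data {X' X : Scheme.{u}} {g : X' ⟶ X} (h : IsEtLim g) [CompactSpace X]
    [QuasiSeparatedSpace X] :
    ∃ (I : Type u) (_ : SmallCategory I) (_ : IsCofiltered I) (D : I ⥤ Scheme.{u})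
      (_ : ∀ {i j : I} (f : i ⟶ j), IsAffineHom (D.map f)) (_ : ∀ i, CompactSpace (D.obj i))
      (_ : ∀ i, QuasiSeparatedSpace (D.obj i)) (t : D ⟶ (Functor.const I).obj X)
      (_ : ∀ i, Etale (t.app i)) (_ : ∀ i, IsAffineHom (t.app i))
      (π : (Functor.const I).obj X' ⟶ D), Nonempty (IsLimit (Cone.mk X' π)) ∧
      ∀ i, π.app i ≫ t.app i = g := by
  obtain ⟨I, _, _, D, t, c, e, ⟨hc⟩, het, haff, htr, hq⟩ := h
  refine ⟨I, inferInstance, inferInstance, D, fun {i j} f => htr i j f, ?_, ?_, t, het, haff,
    (Functor.const I).map e.hom ≫ c.π, ⟨?_⟩, ?_⟩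
  · intro i
    have := haff i
    have : CompactSpace ↥(((Functor.const I).obj X).obj i) := inferInstanceAs (CompactSpace X)
    exact QuasiCompact.compactSpace_of_compactSpace (t.app i)
  · intro i
    have := haff i
    have : QuasiSeparatedSpace ↥(((Functor.const I).obj X).obj i) :=
      inferInstanceAs (QuasiSeparatedSpace X)
    exact quasiSeparatedSpace_of_quasiSeparated (t.app i)
  · refine IsLimit.ofIsoLimit hc (Cone.ext e.symm ?_)
    intro i
    change c.π.app i = e.inv ≫ e.hom ≫ c.π.app i
    rw [e.inv_hom_id_assoc]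
  · intro i
    rw [← hq i]
    simp

end Groth.Agent.Sga4h.BidGeoLim
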