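import Groth.Agent.Sga4h.BidIndD48
import Groth.Agent.PerfA.ExactD

/-!
# The comparison of duality along `pull g` gives the local hypotheses of the induction step

`Cmp A A' g`: the maps `g⁻¹ D(E) ⟶ D'(g⁻¹ E)`, compatible with the evaluations and quasi-isomorphisms for
`E ∈ D^b_c`.  If biduality holds on `Y` and there are comparison maps, then `StepData.loc₁` and `StepData.loc₂` hold.
-/

set_option autoImplicit false
universe w v₁ v₂ u₁ u₂ u

open CategoryTheory CategoryTheory.Limits AlgebraicGeometry Opposite TopologicalSpace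

attribute [local instance 5000] CategoryTheory.Abelian.toPreadditive
  CategoryTheory.Preadditive.preadditiveHasZeroMorphisms

namespace Groth.Agent.Sga4h.BidIndLoc48

attribute [local instance] HasDerivedCategory.standard
open scoped Groth.Agent.Sga4h.ModInst
open Groth.Agent.Sga4h.Refl DerivedCategory

section Abstract

variable {C : Type u₁} [Category.{v₁} C] [Abelian C] {C' : Type u₂} [Category.{v₂} C'] [Abelian C']
  (R : C ⥤ C') [R.Additive] [PreservesFiniteLimits R] [PreservesFiniteColimits R]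

/-- an exact functor turns quasi-isomorphisms of complexes into isomorphisms on the images of homology -/
theorem isIso_map_homologyMap_iff {K L : CochainComplex C ℤ} (f : K ⟶ L) (q : ℤ) :
    IsIso (R.map (HomologicalComplex.homologyMap f q)) ↔
      IsIso (HomologicalComplex.homologyMap ((R.mapHomologicalComplex (ComplexShape.up ℤ)).map f) q) := by
  have h := (PerfA.ExactD.mapCxHomology R (ComplexShape.up ℤ) q).hom.naturality f
  exact (MorphismProperty.isomorphisms C').arrow_mk_iso_iff
    (Arrow.isoMk ((PerfA.ExactD.mapCxHomology R (ComplexShape.up ℤ) q).symm.app K)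
      ((PerfA.ExactD.mapCxHomology R (ComplexShape.up ℤ) q).symm.app L)
      ((PerfA.ExactD.mapCxHomology R (ComplexShape.up ℤ) q).inv.naturality f).symm)

/-- an exact functor preserves quasi-isomorphisms -/
theorem quasiIso_map {K L : CochainComplex C ℤ} (f : K ⟶ L) [QuasiIso f] :
    QuasiIso ((R.mapHomologicalComplex (ComplexShape.up ℤ)).map f) := by
  rw [quasiIso_iff]
  intro q
  rw [quasiIsoAt_iff_isIso_homologyMap, ← isIso_map_homologyMap_iff R]
  infer_instance

theorem isIso_map_of_quasiIso {K L : CochainComplex C ℤ} (f : K ⟶ L)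
    (h : QuasiIso ((R.mapHomologicalComplex (ComplexShape.up ℤ)).map f)) (q : ℤ) :
    IsIso (R.map (HomologicalComplex.homologyMap f q)) := by
  rw [quasiIso_iff] at h
  rw [isIso_map_homologyMap_iff, ← quasiIsoAt_iff_isIso_homologyMap]
  exact h q

/-- The homology of the image of a complex under an exact functor. -/
noncomputable def homologyMapIso (K : CochainComplex C ℤ) (q : ℤ) :
    ((R.mapHomologicalComplex (ComplexShape.up ℤ)).obj K).homology q ≅ R.obj (K.homology q) :=
  (PerfA.ExactD.mapCxHomology R (ComplexShape.up ℤ) q).app K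

end Abstract

section Pull

variable {Λ : Type (u + 1)} [CommRing Λ] {X Y : Scheme.{u}}

instance additive_pull (g : Y ⟶ X) : (EtModW.pull Λ g).Additive := by
  have := preservesBinaryBiproducts_of_preservesBinaryProducts (EtModW.pull Λ g)
  exact Functor.additive_of_preservesBinaryBiproducts _

/-- The inverse image of complexes. -/
noncomputable abbrev R (g : Y ⟶ X) :
    CochainComplex (EtModW.Mod Λ X) ℤ ⥤ CochainComplex (EtModW.Mod Λ Y) ℤ :=
  (EtModW.pull Λ g).mapHomologicalComplex (ComplexShape.up ℤ)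

/-- The cohomology sheaves of a complex. -/
noncomputable def hdIso (K : CochainComplex (EtModW.Mod Λ X) ℤ) (q : ℤ) :
    EtModD.HD (Q.obj K) q ≅ K.homology q :=
  (homologyFunctorFactors (EtModW.Mod Λ X) q).app K

/-- The inverse image of the cohomology sheaves. -/
noncomputable def pullHDIso (g : Y ⟶ X) (K : CochainComplex (EtModW.Mod Λ X) ℤ) (q : ℤ) :
    EtModD.HD (Q.obj ((R g).obj K)) q ≅ (EtModW.pull Λ g).obj (EtModD.HD (Q.obj K) q) :=
  hdIso _ q ≪≫ homologyMapIso (EtModW.pull Λ g) K q ≪≫ (EtModW.pull Λ g).mapIso (hdIso K q).symm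

/-- The inverse image of a complex in `D^b_c` is in `D^b_c`. -/
theorem isDbc_pull (g : Y ⟶ X) (K : CochainComplex (EtModW.Mod Λ X) ℤ) (hK : EtModD.IsDbc (Q.obj K)) :
    EtModD.IsDbc (Q.obj ((R g).obj K)) := by
  obtain ⟨⟨a, b, ha, hb⟩, hc⟩ := hK
  refine ⟨⟨a, b, ?_, ?_⟩, fun i => ?_⟩
  · rw [isGE_iff] at ha ⊢
    intro i hi
    exact ((EtModW.pull Λ g).map_isZero (ha i hi)).of_iso (pullHDIso g K i)
  · rw [isLE_iff] at hb ⊢
    intro i hi
    exact ((EtModW.pull Λ g).map_isZero (hb i hi)).of_iso (pullHDIso g K i)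
  · exact Etcore.LCrit.isConstructible_of_iso (pullHDIso g K i).symm
      (Etcore.LCrit.isConstructible_pull g _ (hc i))

/-- Comparison of duality along `g`. -/
structure Cmp (A : DualData (EtModD.tensorBi Λ X)) (A' : DualData (EtModD.tensorBi Λ Y)) (g : Y ⟶ X) where
  /-- the comparison map -/
  cmp : ∀ E : CochainComplex (EtModW.Mod Λ X) ℤ, (R g).obj (A.D E) ⟶ A'.D ((R g).obj E)
  /-- compatibility with the evaluation -/
  comm : ∀ E : CochainComplex (EtModW.Mod Λ X) ℤ,
    (R g).map (A.ev E) ≫ cmp (A.D E) = A'.ev ((R g).obj E) ≫ A'.Dmap (cmp E)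
  /-- the comparison map is a quasi-isomorphism on `D^b_c` -/
  qis : ∀ E : CochainComplex (EtModW.Mod Λ X) ℤ, EtModD.IsDbc (Q.obj E) → QuasiIso (cmp E)

variable {A : DualData (EtModD.tensorBi Λ X)} {A' : DualData (EtModD.tensorBi Λ Y)} {g : Y ⟶ X}

/-- Biduality on `Y`. -/
structure Bid (A' : DualData (EtModD.tensorBi Λ Y)) : Prop where
  /-- the dual is in `D^b_c` -/
  dbc : ∀ K : CochainComplex (EtModW.Mod Λ Y) ℤ, EtModD.IsDbc (Q.obj K) → EtModD.IsDbc (Q.obj (A'.D K))
  /-- biduality -/
  refl : ∀ K : CochainComplex (EtModW.Mod Λ Y) ℤ, EtModD.IsDbc (Q.obj K) → A'.Refl K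

/-- The pullback of the cohomology sheaves of the dual are constructible. -/
theorem Cmp.loc₁ (c : Cmp A A' g) (h : Bid A') (K : CochainComplex (EtModW.Mod Λ X) ℤ)
    (hK : EtModD.IsDbc (Q.obj K)) (q : ℤ) :
    EtModW.IsConstructible Λ ((EtModW.pull Λ g).obj (EtModD.HD (Q.obj (A.D K)) q)) := by
  have := c.qis K hK
  have e1 : EtModD.HD (Q.obj ((R g).obj (A.D K))) q ≅ EtModD.HD (Q.obj (A'.D ((R g).obj K))) q :=
    (homologyFunctor _ q).mapIso (asIso (Q.map (c.cmp K)))
  exact Etcore.LCrit.isConstructible_of_iso (e1.symm ≪≫ pullHDIso g (A.D K) q)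
    ((h.dbc _ (isDbc_pull g K hK)).2 q)

/-- The pullback of the evaluation is a quasi-isomorphism. -/
theorem Cmp.loc₂ (c : Cmp A A' g) (h : Bid A') (K : CochainComplex (EtModW.Mod Λ X) ℤ)
    (hK : EtModD.IsDbc (Q.obj K)) (hK' : EtModD.IsDbc (Q.obj (A.D K))) (q : ℤ) :
    IsIso ((EtModW.pull Λ g).map (HomologicalComplex.homologyMap (A.ev K) q)) := by
  have h1 := c.qis K hK
  have h2 := c.qis _ hK'
  have h3 := (h.refl _ (isDbc_pull g K hK)).qis
  have h4 : QuasiIso ((R g).map (A.ev K) ≫ c.cmp (A.D K)) := by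
    rw [c.comm]
    infer_instance
  have h5 : QuasiIso ((R g).map (A.ev K)) := (quasiIso_iff_comp_right _ (c.cmp (A.D K))).1 h4
  exact isIso_map_of_quasiIso (EtModW.pull Λ g) (A.ev K) h5 q

end Pull

end Groth.Agent.Sga4h.BidIndLoc48
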