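import Groth.Agent.Sga4h.ModPoint
import Groth.Agent.Etrest.ModCons
import Groth.Agent.Etrest.ModSpec
import Groth.Agent.EtpbcA.PullFLC
import Groth.Agent.EtpbcB.SepClosedPoint
import Groth.Agent.Sga4B.ZModInj

/-!
# Constructible sheaves of modules on the spectrum of a separably closed field
-/

set_option autoImplicit false
universe u

open CategoryTheory CategoryTheory.Limits AlgebraicGeometry Opposite

namespace Groth.Agent.Sga4h.ModPoint

open Groth.Agent.EtpbcB.SepClosedPoint Groth.Agent.Etcore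

variable (Λ : Type (u + 1)) [CommRing Λ]

section

variable (k : Type u) [Field k] [IsSepClosed k]

/-- Global sections over `Spec k` are the stalk at the identity. -/
noncomputable def ΓIsoStalk : Γ Λ (Spec (CommRingCat.of k)) ≅ EtModW.stalk Λ (pt k) :=
  NatIso.ofComponents
    (fun _ => @asIso _ _ _ _ ((Scheme.pointSmallEtale (pt k)).toPresheafFiber
        (EtCoh.top (Spec (CommRingCat.of k))) (elt k) _) (isIso_toPresheafFiber Λ k _))
    (fun f => ((Scheme.pointSmallEtale (pt k)).toPresheafFiber_naturality f.hom _ _).symm)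

/-- Finite type locally constant sheaves have finite global sections. -/
theorem finite_Γ_of_ftlc (F : EtModW.Mod Λ (Spec (CommRingCat.of k))) (hF : EtModW.IsFTLocConst Λ F) :
    Module.Finite Λ ((Γ Λ _).obj F) := by
  have := Etrest.ModSpec.finite_stalk_of_ftlc Λ hF (pt k)
  exact Module.Finite.equiv ((ΓIsoStalk Λ k).app F).toLinearEquiv.symm

/-- The inverse image of a constant sheaf. -/
noncomputable def pullConst {X Y : Scheme.{u}} (f : X ⟶ Y) (M : ModuleCat.{u + 1} Λ) :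
    (EtModW.pull Λ f).obj ((constantSheaf Y.smallEtaleTopology (ModuleCat.{u + 1} Λ)).obj M) ≅
      (constantSheaf X.smallEtaleTopology (ModuleCat.{u + 1} Λ)).obj M :=
  (EtpbcA.PullFLC.constPull (EtCoh.bc f) (ModuleCat.{u + 1} Λ) Y.smallEtaleTopology X.smallEtaleTopology
    (topTerminal Y) (IsTerminal.ofIso (topTerminal X) (bcTop f).symm)).app M

variable {k}

/-- The inverse image to another separably closed field has the same global sections. -/
noncomputable def ΓPull {Ω : Type u} [Field Ω] [IsSepClosed Ω]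
    (h : Spec (CommRingCat.of Ω) ⟶ Spec (CommRingCat.of k)) (F : EtModW.Mod Λ (Spec (CommRingCat.of k))) :
    (Γ Λ _).obj F ≅ (Γ Λ _).obj ((EtModW.pull Λ h).obj F) :=
  asIso ((constAdj Λ (Spec (CommRingCat.of Ω))).unit.app ((Γ Λ _).obj F)) ≪≫
    (Γ Λ _).mapIso ((pullConst Λ h _).symm ≪≫
      (EtModW.pull Λ h).mapIso (asIso ((constAdj Λ (Spec (CommRingCat.of k))).counit.app F)))

/-- Constructible sheaves on the spectrum of a separably closed field have finite global sections. -/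
theorem finite_Γ_of_isConstructible (F : EtModW.Mod Λ (Spec (CommRingCat.of k)))
    (hF : EtModW.IsConstructible Λ F) : Module.Finite Λ ((Γ Λ _).obj F) := by
  obtain ⟨V, -, T, g, hg, -, ⟨t, ht⟩, -, hT⟩ :=
    (Etrest.ModCons.isConstructible_iff_local F).1 hF (default : Spec (CommRingCat.of k))
  obtain ⟨Ω, _, _, ζ, hζ⟩ := Stalks.exists_geom t
  have h1 : EtModW.IsFTLocConst Λ ((EtModW.pull Λ (ζ ≫ g)).obj F) :=
    LPullComp.isFTLC_of_iso ((LPullComp.pullComp Λ ζ g).app F) (LPullComp.isFTLC_pull ζ _ hT)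
  have := finite_Γ_of_ftlc Λ Ω _ h1
  exact Module.Finite.equiv (ΓPull Λ (ζ ≫ g) F).toLinearEquiv.symm

end

/-- `ℤ/m` is a self-injective ring. -/
theorem injective_zmod (m : ℕ) (hm : 0 < m) :
    Injective (ModuleCat.of (ULift.{u + 1} (ZMod m)) (ULift.{u + 1} (ZMod m))) := by
  refine ⟨fun {M N} g i hi => ?_⟩
  have hi' : Function.Injective i := (ModuleCat.mono_iff_injective i).1 hi
  let H : AddSubgroup N := i.hom.toAddMonoidHom.range
  have hN : ∀ x : N, m • x = 0 := fun x => by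
    have : (m • (1 : ULift.{u + 1} (ZMod m))) • x = m • x := by
      rw [smul_assoc, one_smul]
    rw [← this]
    have : m • (1 : ULift.{u + 1} (ZMod m)) = 0 := by
      ext
      simp
    rw [this, zero_smul]
  let e : M ≃+ H := AddEquiv.ofBijective i.hom.toAddMonoidHom.rangeRestrict
    ⟨fun x y h => hi' (congrArg Subtype.val h), AddMonoidHom.rangeRestrict_surjective _⟩
  obtain ⟨b, hb⟩ := Sga4B.ZModInj.exists_extend m hm hN H
    ((AddEquiv.ulift.toAddMonoidHom.comp g.hom.toAddMonoidHom).comp e.symm.toAddMonoidHom)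
  let b' : N →+ ULift.{u + 1} (ZMod m) := AddEquiv.ulift.symm.toAddMonoidHom.comp b
  have hb' (r : ULift.{u + 1} (ZMod m)) (x : N) : b' (r • x) = r • b' x := by
    obtain ⟨r⟩ := r
    obtain ⟨r, rfl⟩ := ZMod.intCast_surjective r
    have h1 : (ULift.up (r : ZMod m) : ULift.{u + 1} (ZMod m)) = (r : ULift.{u + 1} (ZMod m)) := rfl
    rw [h1, Int.cast_smul_eq_zsmul, Int.cast_smul_eq_zsmul, map_zsmul]
  refine ⟨ModuleCat.ofHom { toFun := b', map_add' := map_add b', map_smul' := hb' }, ?_⟩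
  ext x
  have h1 := hb (e x)
  have h2 : ((e x : H) : N) = i x := rfl
  rw [h2] at h1
  change b (i x) = (g x).down
  rw [h1]
  change ((g.hom (e.symm (e x))) : ULift.{u + 1} (ZMod m)).down = (g x).down
  rw [e.symm_apply_apply]

open ZeroObject

variable {Λ}

instance additive_Γ (X : Scheme.{u}) : (Γ Λ X).Additive where
  map_add := rfl

lemma finite_Γ_biprod {X : Scheme.{u}} (M N : EtModW.Mod Λ X)
    [Finite ((Γ Λ X).obj M)] [Finite ((Γ Λ X).obj N)] : Finite ((Γ Λ X).obj (M ⊞ N)) := by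
  let g : (Γ Λ X).obj (M ⊞ N) → (Γ Λ X).obj M × (Γ Λ X).obj N :=
    fun z => ((Γ Λ X).map biprod.fst z, (Γ Λ X).map biprod.snd z)
  refine Finite.of_injective g (fun z z' h => ?_)
  have h1 : (Γ Λ X).map (biprod.fst : M ⊞ N ⟶ M) z = (Γ Λ X).map (biprod.fst : M ⊞ N ⟶ M) z' :=
    congrArg Prod.fst h
  have h2 : (Γ Λ X).map (biprod.snd : M ⊞ N ⟶ N) z = (Γ Λ X).map (biprod.snd : M ⊞ N ⟶ N) z' :=
    congrArg Prod.snd h
  have h3 : 𝟙 ((Γ Λ X).obj (M ⊞ N)) =
      (Γ Λ X).map biprod.fst ≫ (Γ Λ X).map biprod.inl + (Γ Λ X).map biprod.snd ≫ (Γ Λ X).map biprod.inr := by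
    rw [← Functor.map_comp, ← Functor.map_comp, ← Functor.map_add, biprod.total]
    exact ((Γ Λ X).map_id _).symm
  have h4 (w : (Γ Λ X).obj (M ⊞ N)) : w = (Γ Λ X).map biprod.inl ((Γ Λ X).map biprod.fst w) +
      (Γ Λ X).map biprod.inr ((Γ Λ X).map biprod.snd w) := by
    conv_lhs => rw [← ModuleCat.id_apply _ w, h3]
    rfl
  rw [h4 z, h4 z', h1, h2]

lemma finite_Γ_const (k : Type u) [Field k] [IsSepClosed k] [Finite Λ] :
    Finite ((Γ Λ _).obj (EtModW.constMod Λ (Spec (CommRingCat.of k)) Λ)) :=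
  Finite.of_equiv Λ (asIso ((constAdj Λ (Spec (CommRingCat.of k))).unit.app
    (ModuleCat.of Λ Λ))).toLinearEquiv.toEquiv

lemma finite_Γ_zero (X : Scheme.{u}) : Finite ((Γ Λ X).obj (0 : EtModW.Mod Λ X)) := by
  have := ModuleCat.subsingleton_of_isZero ((Γ Λ _).map_isZero (isZero_zero (EtModW.Mod Λ X)))
  infer_instance

/-- Every finite set of global sections lies in the image of a sheaf of a class containing `Λ` and stable under
biproducts. -/
theorem exists_image (k : Type u) [Field k] [IsSepClosed k] [Finite Λ]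
    (P : ObjectProperty (EtModW.Mod Λ (Spec (CommRingCat.of k)))) (h0 : P 0) (h1 : P (EtModW.constMod Λ _ Λ))
    (h2 : ∀ M N, P M → P N → P (M ⊞ N)) (F : EtModW.Mod Λ (Spec (CommRingCat.of k)))
    (s : Finset ((Γ Λ _).obj F)) :
    ∃ (Z : EtModW.Mod Λ (Spec (CommRingCat.of k))) (φ : Z ⟶ F),
      P Z ∧ Finite ((Γ Λ _).obj Z) ∧ ∀ x ∈ s, ∃ z, (Γ Λ _).map φ z = x := by
  classical
  induction s using Finset.induction_on with
  | empty => exact ⟨0, 0, h0, finite_Γ_zero _, fun x hx => by simp at hx⟩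
  | insert x s hx ih =>
    obtain ⟨Z, φ, h3, h4, h5⟩ := ih
    let ψ₀ : ModuleCat.of Λ Λ ⟶ (Γ Λ _).obj F := ModuleCat.ofHom (LinearMap.toSpanSingleton _ _ x)
    let ψ : EtModW.constMod Λ (Spec (CommRingCat.of k)) Λ ⟶ F :=
      ((constAdj Λ (Spec (CommRingCat.of k))).homEquiv _ _).symm ψ₀
    have hψ : (constAdj Λ (Spec (CommRingCat.of k))).unit.app _ ≫ (Γ Λ _).map ψ = ψ₀ :=
      ((constAdj Λ (Spec (CommRingCat.of k))).homEquiv_unit _ _ ψ).symm.trans (Equiv.apply_symm_apply _ _)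
    have := finite_Γ_const (Λ := Λ) k
    refine ⟨EtModW.constMod Λ (Spec (CommRingCat.of k)) Λ ⊞ Z, biprod.desc ψ φ,
      h2 _ _ h1 h3, finite_Γ_biprod _ _, fun y hy => ?_⟩
    rw [Finset.mem_insert] at hy
    rcases hy with rfl | hy
    · refine ⟨(Γ Λ _).map biprod.inl ((constAdj Λ (Spec (CommRingCat.of k))).unit.app _
        (1 : Λ)), ?_⟩
      rw [← ModuleCat.comp_apply, ← Functor.map_comp, biprod.inl_desc, ← ModuleCat.comp_apply, hψ]
      simp [ψ₀]
    · obtain ⟨z, hz⟩ := h5 y hy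
      refine ⟨(Γ Λ _).map biprod.inr z, ?_⟩
      rw [← ModuleCat.comp_apply, ← Functor.map_comp, biprod.inr_desc, hz]

/-- Epimorphisms onto sheaves with finite global sections. -/
theorem exists_shortExact (k : Type u) [Field k] [IsSepClosed k] [Finite Λ]
    (P : ObjectProperty (EtModW.Mod Λ (Spec (CommRingCat.of k)))) (h0 : P 0) (h1 : P (EtModW.constMod Λ _ Λ))
    (h2 : ∀ M N, P M → P N → P (M ⊞ N)) (F : EtModW.Mod Λ (Spec (CommRingCat.of k)))
    (hF : Finite ((Γ Λ _).obj F)) :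
    ∃ (Y Z : EtModW.Mod Λ (Spec (CommRingCat.of k))) (f : Y ⟶ Z) (g : Z ⟶ F) (w : f ≫ g = 0),
      (ShortComplex.mk f g w).ShortExact ∧ Finite ((Γ Λ _).obj Y) ∧ P Z := by
  have := Fintype.ofFinite ((Γ Λ _).obj F)
  obtain ⟨Z, φ, h3, h4, h5⟩ := exists_image k P h0 h1 h2 F Finset.univ
  have h6 : Epi ((Γ Λ _).map φ) := (ModuleCat.epi_iff_surjective _).2 (fun x => h5 x (Finset.mem_univ _))
  have h7 : Epi φ := (Γ Λ _).epi_of_epi_map h6
  refine ⟨kernel φ, Z, kernel.ι φ, φ, kernel.condition φ,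
    { exact := ShortComplex.exact_kernel φ }, ?_, h3⟩
  have h8 : Mono ((Γ Λ _).map (kernel.ι φ)) := inferInstance
  exact Finite.of_injective _ ((ModuleCat.mono_iff_injective _).1 h8)

end Groth.Agent.Sga4h.ModPoint
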