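import Groth.Agent.Sga4h.BidBdd
import Groth.Agent.Sga4h.BidIndLoc48
import Groth.Agent.Sga4h.BidRed538Main
import Groth.Agent.Sga4h.ModPointCons

/-!
# Bounded below resolutions of the constant sheaf and their inverse images

* `exists_bdd`: a K-injective resolution of the constant sheaf by injectives in degrees `≥ 0`;
* `exists_alpha`: comparison of resolutions of the constant sheaf along a morphism.
-/

set_option autoImplicit false
universe u

open CategoryTheory CategoryTheory.Limits AlgebraicGeometry Opposite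

attribute [local instance 5000] CategoryTheory.Abelian.toPreadditive
  CategoryTheory.Preadditive.preadditiveHasZeroMorphisms

namespace Groth.Agent.Sga4h.BidCmp756

attribute [local instance] HasDerivedCategory.standard
open scoped Groth.Agent.Sga4h.ModInst
open Groth.Agent.Sga4h.BidIndLoc48 Groth.Agent.Sga4h.BidRed538Main

variable (Λ : Type (u + 1)) [CommRing Λ]

/-- Injective resolution of the constant sheaf in degrees `≥ 0`. -/
theorem exists_bdd (X : Scheme.{u}) : ∃ (J : CochainComplex (EtModW.Mod Λ X) ℤ) (i : unitCx Λ X ⟶ J),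
    J.IsStrictlyGE 0 ∧ (∀ n, Injective (J.X n)) ∧ J.IsKInjective ∧ QuasiIso i := by
  obtain ⟨J, i, h1, h2, h3, h4⟩ := BidInj.exists_injective (EtModW.constMod Λ X Λ)
  exact ⟨J, i, h3, h2, h4, h1⟩

variable {Λ} {X Y : Scheme.{u}}

/-- Comparison of resolutions of the constant sheaf along a morphism. -/
theorem exists_alpha (g : Y ⟶ X) {J : CochainComplex (EtModW.Mod Λ X) ℤ} (i : unitCx Λ X ⟶ J) [QuasiIso i]
    {J₁ : CochainComplex (EtModW.Mod Λ Y) ℤ} [J₁.IsKInjective] (i₁ : unitCx Λ Y ⟶ J₁) [QuasiIso i₁] :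
    ∃ α : (R g).obj J ⟶ J₁, QuasiIso α := by
  have h1 : QuasiIso ((R g).map i) := quasiIso_map (EtModW.pull Λ g) i
  let e0 : (R g).obj (unitCx Λ X) ≅ unitCx Λ Y :=
    (HomologicalComplex.singleMapHomologicalComplex (EtModW.pull Λ g) (ComplexShape.up ℤ) 0).app
        (EtModW.constMod Λ X Λ) ≪≫
      (CochainComplex.singleFunctor (EtModW.Mod Λ Y) 0).mapIso
        (ModPoint.pullConst Λ g (ModuleCat.of Λ Λ))
  have e : DerivedCategory.Q.obj ((R g).obj J) ≅ DerivedCategory.Q.obj J₁ :=
    (asIso (DerivedCategory.Q.map ((R g).map i))).symm ≪≫ DerivedCategory.Q.mapIso e0 ≪≫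
      asIso (DerivedCategory.Q.map i₁)
  obtain ⟨α, hα, -⟩ := BidBdd.exists_quasiIso_of_iso_Q e
  exact ⟨α, hα⟩

end Groth.Agent.Sga4h.BidCmp756
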