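import Groth.Agent.Sga4h.DualSelf
import Groth.Agent.Cohder.HomSeqTau1
import Groth.Agent.Sga4h.CxProp
import Groth.Agent.CohtopA.KInjRes2
import Mathlib.Algebra.Homology.HomotopyCategory.DegreewiseSplit
import Mathlib.Algebra.Homology.DerivedCategory.Fractions

/-!
# Exactness of the duality functor on complexes and reflexive complexes

`A : DualData T` bundles a symmetry of `T`, a K-injective complex `J` of injectives and the existence of enough
`T`-flat objects.  `A.D K = Hom•(K, J)`, `A.ev K : K ⟶ A.D (A.D K)`, `A.Refl K` iff `A.ev K` is a quasi-isomorphism.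
-/

set_option autoImplicit false
set_option backward.defeqAttrib.useBackward true
set_option backward.isDefEq.respectTransparency false

universe w v₁ v₂ v₃ u₁ u₂ u₃

namespace Groth.Agent.Sga4h.Refl

open CategoryTheory Category Limits HomologicalComplex CochainComplex Opposite ZeroObject
open Groth.Agent.Dcoh.CxFun Groth.Agent.Sga4h.HomCx Groth.Agent.Sga4h.DualCx Groth.Agent.Sga4h.DualSelf

variable {C : Type u₁} [Category.{v₁} C] [Abelian C]

/-- The data needed for the duality `Hom•(-, J)`. -/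
structure DualData (T : C ⥤ C ⥤ C) where
  /-- the symmetry -/
  S : SymmData T
  /-- the dualizing complex (K-injective, termwise injective) -/
  J : CochainComplex C ℤ
  inj : ∀ n, Injective (J.X n)
  kinj : J.IsKInjective
  flat : EnoughFlat T

variable {T : C ⥤ C ⥤ C} [T.Additive] [∀ X, (T.obj X).Additive]
  [∀ (K₁ K₂ : CochainComplex C ℤ), CochainComplex.HasMapBifunctor K₁ K₂ T]
  [∀ E : CochainComplex C ℤ, (T.map₂CochainComplex.flip.obj E).IsLeftAdjoint]

namespace DualData

variable (A : DualData T)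

/-- The duality functor. -/
noncomputable abbrev F : (CochainComplex C ℤ)ᵒᵖ ⥤ CochainComplex C ℤ := dualFun T A.J

/-- The dual complex. -/
noncomputable abbrev D (K : CochainComplex C ℤ) : CochainComplex C ℤ := A.F.obj (op K)

/-- The dual of a morphism. -/
noncomputable abbrev Dmap {K L : CochainComplex C ℤ} (f : K ⟶ L) : A.D L ⟶ A.D K := A.F.map f.op

/-- The evaluation. -/
noncomputable abbrev ev (K : CochainComplex C ℤ) : K ⟶ A.D (A.D K) := DualSelf.ev A.S A.J K

@[reassoc]
lemma ev_naturality {K L : CochainComplex C ℤ} (f : K ⟶ L) :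
    f ≫ A.ev L = A.ev K ≫ A.Dmap (A.Dmap f) := DualSelf.ev_naturality A.S A.J f

@[reassoc (attr := simp)]
lemma ev_comp_Dmap_ev (K : CochainComplex C ℤ) : A.ev (A.D K) ≫ A.Dmap (A.ev K) = 𝟙 _ :=
  DualSelf.ev_comp_map_ev A.S A.J K

instance isRightAdjoint : A.F.IsRightAdjoint := isRightAdjoint_dualFun A.S A.J

instance preservesLimitsOfSize : PreservesLimitsOfSize.{0, 0} A.F :=
  (Adjunction.ofIsRightAdjoint A.F).rightAdjoint_preservesLimits

instance preservesFiniteLimits : PreservesFiniteLimits A.F :=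
  PreservesLimitsOfSize.preservesFiniteLimits.{0, 0} A.F

instance additive : A.F.Additive := by
  have := preservesBinaryBiproducts_of_preservesBinaryProducts A.F
  exact Functor.additive_of_preservesBinaryBiproducts _

@[simp]
lemma Dmap_id (K : CochainComplex C ℤ) : A.Dmap (𝟙 K) = 𝟙 _ := A.F.map_id _

@[reassoc]
lemma Dmap_comp {K L M : CochainComplex C ℤ} (f : K ⟶ L) (g : L ⟶ M) :
    A.Dmap (f ≫ g) = A.Dmap g ≫ A.Dmap f := A.F.map_comp g.op f.op

@[simp]
lemma Dmap_zero (K L : CochainComplex C ℤ) : A.Dmap (0 : K ⟶ L) = 0 := by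
  change A.F.map 0 = 0
  simp

variable [∀ (J : Type), HasColimitsOfShape (Discrete J) C]
  [∀ (J : Type), (colim : (Discrete J ⥤ C) ⥤ C).PreservesMonomorphisms]

/-- The dual of a short complex. -/
noncomputable abbrev dualSC (S : ShortComplex (CochainComplex C ℤ)) : ShortComplex (CochainComplex C ℤ) :=
  ShortComplex.mk (A.Dmap S.g) (A.Dmap S.f) (by rw [← Dmap_comp, S.zero, Dmap_zero])

lemma shortExact_dualSC {S : ShortComplex (CochainComplex C ℤ)} (hS : S.ShortExact) :
    (A.dualSC S).ShortExact := by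
  have := hS.mono_f
  have := hS.epi_g
  have h1 : (S.op.map A.F).Exact :=
    hS.exact.op.map_of_mono_of_preservesKernel A.F (inferInstanceAs (Mono S.g.op)) inferInstance
  have h2 : Mono (A.F.map S.g.op) := inferInstance
  have h3 : Epi (A.F.map S.f.op) := epi_dualFun_map A.inj A.flat S.f
  exact { exact := h1, mono_f := h2, epi_g := h3 }

lemma acyclic_D {K : CochainComplex C ℤ} (hK : K.Acyclic) : (A.D K).Acyclic :=
  have := A.kinj
  acyclic_dualFun A.flat hK

/-- The dual of a monomorphic quasi-isomorphism is a quasi-isomorphism. -/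
lemma quasiIso_Dmap_of_mono {K L : CochainComplex C ℤ} (i : K ⟶ L) [Mono i] [QuasiIso i] :
    QuasiIso (A.Dmap i) := by
  have hS : (ShortComplex.mk i (cokernel.π i) (cokernel.condition i)).ShortExact :=
    { exact := ShortComplex.exact_cokernel i }
  have h := (CohtopA.TrivCof.quasiIso_iff_acyclic_cokernel i).1 inferInstance
  exact CohtopA.TrivCof.quasiIso_g_of_acyclic (A.shortExact_dualSC hS) (A.acyclic_D h)

instance quasiIso_Dmap {K L : CochainComplex C ℤ} (f : K ⟶ L) [QuasiIso f] : QuasiIso (A.Dmap f) := by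
  let N := mappingCone (𝟙 K)
  have hN : N.Acyclic := CohtopA.KInjRes2.acyclic_mappingCone_id K
  let i : K ⟶ N := mappingCone.inr (𝟙 K)
  have hi : Mono i := CohtopA.KInjRes2.mono_inr _
  have hfst : QuasiIso (biprod.fst : L ⊞ N ⟶ L) := by
    have hS : (ShortComplex.mk (biprod.inr : N ⟶ L ⊞ N) biprod.fst (by simp)).ShortExact :=
      (ShortComplex.Splitting.mk (S := ShortComplex.mk (biprod.inr : N ⟶ L ⊞ N) biprod.fst (by simp))
        biprod.snd biprod.inl (by simp) (by simp) (by simp [add_comm])).shortExact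
    exact CohtopA.TrivCof.quasiIso_g_of_acyclic hS hN
  have hinl : QuasiIso (biprod.inl : L ⟶ L ⊞ N) := by
    have h1 : QuasiIso ((biprod.inl : L ⟶ L ⊞ N) ≫ biprod.fst) := by
      rw [biprod.inl_fst]
      infer_instance
    exact (quasiIso_iff_comp_right _ (biprod.fst : L ⊞ N ⟶ L)).1 h1
  have hl : QuasiIso (biprod.lift f i) := by
    have h1 : QuasiIso (biprod.lift f i ≫ (biprod.fst : L ⊞ N ⟶ L)) := by
      rw [biprod.lift_fst]
      infer_instance
    exact (quasiIso_iff_comp_right _ (biprod.fst : L ⊞ N ⟶ L)).1 h1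
  have hlm : Mono (biprod.lift f i) := by
    have : Mono (biprod.lift f i ≫ biprod.snd) := by
      rw [biprod.lift_snd]
      exact hi
    exact mono_of_mono _ (biprod.snd : L ⊞ N ⟶ N)
  have h1 : QuasiIso (A.Dmap (biprod.lift f i)) := A.quasiIso_Dmap_of_mono _
  have h2 : QuasiIso (A.Dmap (biprod.inl : L ⟶ L ⊞ N)) := A.quasiIso_Dmap_of_mono _
  have h3 : QuasiIso (A.Dmap (biprod.fst : L ⊞ N ⟶ L)) := by
    have h4 : QuasiIso (A.Dmap (biprod.fst : L ⊞ N ⟶ L) ≫ A.Dmap (biprod.inl : L ⟶ L ⊞ N)) := by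
      rw [← Dmap_comp, biprod.inl_fst, Dmap_id]
      infer_instance
    exact (quasiIso_iff_comp_right _ (A.Dmap (biprod.inl : L ⟶ L ⊞ N))).1 h4
  have h5 : A.Dmap f = A.Dmap (biprod.fst : L ⊞ N ⟶ L) ≫ A.Dmap (biprod.lift f i) := by
    rw [← Dmap_comp, biprod.lift_fst]
  rw [h5]
  infer_instance

/-- A complex is reflexive if the evaluation map is a quasi-isomorphism. -/
structure Refl (K : CochainComplex C ℤ) : Prop where
  qis : QuasiIso (A.ev K)

lemma refl_iff_of_quasiIso {K L : CochainComplex C ℤ} (f : K ⟶ L) [QuasiIso f] :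
    A.Refl K ↔ A.Refl L := by
  have h := A.ev_naturality f
  constructor
  · intro hK
    have := hK.qis
    have h1 : QuasiIso (f ≫ A.ev L) := by
      rw [h]
      infer_instance
    exact ⟨(quasiIso_iff_comp_left f (A.ev L)).1 h1⟩
  · intro hL
    have := hL.qis
    have h1 : QuasiIso (A.ev K ≫ A.Dmap (A.Dmap f)) := by
      rw [← h]
      infer_instance
    exact ⟨(quasiIso_iff_comp_right (A.ev K) (A.Dmap (A.Dmap f))).1 h1⟩

lemma refl_of_acyclic {K : CochainComplex C ℤ} (hK : K.Acyclic) : A.Refl K :=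
  ⟨CohtopA.TrivCof.quasiIso_of_acyclic _ hK (A.acyclic_D (A.acyclic_D hK))⟩

/-- The map of short complexes `S ⟶ D D S`. -/
noncomputable def evSC (S : ShortComplex (CochainComplex C ℤ)) : S ⟶ A.dualSC (A.dualSC S) where
  τ₁ := A.ev S.X₁
  τ₂ := A.ev S.X₂
  τ₃ := A.ev S.X₃
  comm₁₂ := (A.ev_naturality S.f).symm
  comm₂₃ := (A.ev_naturality S.g).symm

lemma refl₁ {S : ShortComplex (CochainComplex C ℤ)} (hS : S.ShortExact) (h₂ : A.Refl S.X₂) (h₃ : A.Refl S.X₃) :
    A.Refl S.X₁ :=
  ⟨Cohder.HomSeqTau1.quasiIso_τ₁ (A.evSC S) hS (A.shortExact_dualSC (A.shortExact_dualSC hS)) h₂.qis h₃.qis⟩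

lemma refl₂ {S : ShortComplex (CochainComplex C ℤ)} (hS : S.ShortExact) (h₁ : A.Refl S.X₁) (h₃ : A.Refl S.X₃) :
    A.Refl S.X₂ :=
  ⟨Cohder.HomSeqTau1.quasiIso_τ₂ (A.evSC S) hS (A.shortExact_dualSC (A.shortExact_dualSC hS)) h₁.qis h₃.qis⟩

lemma refl₃ {S : ShortComplex (CochainComplex C ℤ)} (hS : S.ShortExact) (h₁ : A.Refl S.X₁) (h₂ : A.Refl S.X₂) :
    A.Refl S.X₃ :=
  ⟨HomologicalComplex.HomologySequence.quasiIso_τ₃ (A.evSC S) hS
    (A.shortExact_dualSC (A.shortExact_dualSC hS)) h₁.qis h₂.qis⟩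

omit [∀ (J : Type), HasColimitsOfShape (Discrete J) C]
  [∀ (J : Type), (colim : (Discrete J ⥤ C) ⥤ C).PreservesMonomorphisms] in
lemma exists_shortExact_cone {K L : CochainComplex C ℤ} (φ : K ⟶ L) :
    ∃ (f : L ⟶ mappingCone φ) (g : mappingCone φ ⟶ K⟦(1 : ℤ)⟧) (w : f ≫ g = 0),
      (ShortComplex.mk f g w).ShortExact :=
  ⟨mappingCone.inr φ, (mappingCone.triangle φ).mor₃, (mappingCone.triangleRotateShortComplex φ).zero,
    HomologicalComplex.shortExact_of_degreewise_shortExact _ fun i =>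
    (mappingCone.triangleRotateShortComplexSplitting φ i).shortExact⟩

lemma refl_shift_one_iff (K : CochainComplex C ℤ) : A.Refl (K⟦(1 : ℤ)⟧) ↔ A.Refl K := by
  obtain ⟨f, g, w, hS⟩ := exists_shortExact_cone (𝟙 K)
  have h2 : A.Refl (mappingCone (𝟙 K)) :=
    A.refl_of_acyclic (CohtopA.KInjRes2.acyclic_mappingCone_id K)
  exact ⟨fun h => A.refl₁ (S := ShortComplex.mk f g w) hS h2 h,
    fun h => A.refl₃ (S := ShortComplex.mk f g w) hS h h2⟩

lemma refl_mappingCone {K L : CochainComplex C ℤ} (φ : K ⟶ L) (hK : A.Refl K) (hL : A.Refl L) :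
    A.Refl (mappingCone φ) := by
  obtain ⟨f, g, w, hS⟩ := exists_shortExact_cone φ
  exact A.refl₂ (S := ShortComplex.mk f g w) hS hL ((A.refl_shift_one_iff K).2 hK)

/-- The dual of a reflexive complex is reflexive. -/
lemma refl_D {K : CochainComplex C ℤ} (hK : A.Refl K) : A.Refl (A.D K) := by
  have := hK.qis
  have h : QuasiIso (A.ev (A.D K) ≫ A.Dmap (A.ev K)) := by
    rw [ev_comp_Dmap_ev]
    infer_instance
  exact ⟨(quasiIso_iff_comp_right _ (A.Dmap (A.ev K))).1 h⟩

lemma refl_of_retract {K L : CochainComplex C ℤ} (i : K ⟶ L) (r : L ⟶ K) (h : i ≫ r = 𝟙 K)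
    (hL : A.Refl L) : A.Refl K := by
  have : (HomologicalComplex.quasiIso C (ComplexShape.up ℤ)).IsStableUnderRetracts := inferInstance
  refine ⟨(HomologicalComplex.quasiIso C (ComplexShape.up ℤ)).of_retract (f := A.ev K) (g := A.ev L) ?_ hL.qis⟩
  exact
    { i := Arrow.homMk i (A.Dmap (A.Dmap i)) (A.ev_naturality i)
      r := Arrow.homMk r (A.Dmap (A.Dmap r)) (A.ev_naturality r)
      retract := by
        refine Arrow.hom_ext _ _ h ?_
        change A.Dmap (A.Dmap i) ≫ A.Dmap (A.Dmap r) = 𝟙 _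
        rw [← Dmap_comp, ← Dmap_comp, h, Dmap_id, Dmap_id] }

/-- Reflexivity is a triangulated property. -/
lemma tri_refl : CxProp.Tri A.Refl where
  qi f _ := A.refl_iff_of_quasiIso f
  shift := A.refl_shift_one_iff
  cone φ hK hL := A.refl_mappingCone φ hK hL
  zero := ⟨mappingCone (𝟙 0), A.refl_of_acyclic (CohtopA.KInjRes2.acyclic_mappingCone_id _)⟩

/-- The complexes whose dual satisfies a triangulated property. -/
lemma tri_D [HasDerivedCategory.{w} C] {P : CochainComplex C ℤ → Prop} (h : CxProp.Tri P) :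
    CxProp.Tri (fun K => P (A.D K)) where
  qi f _ := (h.qi (A.Dmap f)).symm
  shift K := by
    obtain ⟨f, g, w, hS⟩ := exists_shortExact_cone (𝟙 K)
    have hN : P (A.D (mappingCone (𝟙 K))) :=
      h.of_acyclic (A.acyclic_D (CohtopA.KInjRes2.acyclic_mappingCone_id K))
    exact ⟨fun h₁ => h.ses₃ (A.shortExact_dualSC hS) h₁ hN, fun h₃ => h.ses₁ (A.shortExact_dualSC hS) hN h₃⟩
  cone {K L} φ hK hL := by
    obtain ⟨f, g, w, hS⟩ := exists_shortExact_cone (𝟙 K)
    have hN : P (A.D (mappingCone (𝟙 K))) :=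
      h.of_acyclic (A.acyclic_D (CohtopA.KInjRes2.acyclic_mappingCone_id K))
    have hK' : P (A.D (K⟦(1 : ℤ)⟧)) := h.ses₁ (A.shortExact_dualSC hS) hN hK
    obtain ⟨f', g', w', hS'⟩ := exists_shortExact_cone φ
    exact h.ses₂ (A.shortExact_dualSC hS') hK' hL
  zero := ⟨mappingCone (𝟙 0), h.of_acyclic (A.acyclic_D (CohtopA.KInjRes2.acyclic_mappingCone_id _))⟩

end DualData

end Groth.Agent.Sga4h.Refl
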