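import Groth.Agent.Sga4h.BidEtCx
import Groth.Agent.Sga4h.BidCmp
import Groth.Agent.Sga4h.Refl
import Groth.Agent.Cohder.RDInt

/-!
# Duality and functors with a projection formula

`R : C ⥤ C'` exact with exact left adjoint `S` satisfying the projection formula, `A : DualData T`,
`A' : DualData T'`, `j : R A.J ⟶ A'.J` a quasi-isomorphism.  Then `cmp τ j E : R (A.D E) ⟶ A'.D (R E)` is a
quasi-isomorphism and `A'.Refl (R E)` iff `R (A.ev E)` is a quasi-isomorphism.
-/

set_option autoImplicit false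
set_option linter.unusedSectionVars false
set_option backward.defeqAttrib.useBackward true
set_option backward.isDefEq.respectTransparency false

universe v₁ v₂ u₁ u₂

namespace Groth.Agent.Sga4h.BidEtCmp

open CategoryTheory Category Limits HomologicalComplex CochainComplex Opposite
open Groth.Agent.Dcoh.DerAdj Groth.Agent.Sga4h.DualCx Groth.Agent.PerfC Groth.Agent.Sga4h.BidCmp
open Groth.Agent.Sga4h.BidEtCx Groth.Agent.Sga4h.HomCx Groth.Agent.Dcoh.CxFun
open Groth.Agent.Sga4h.Refl Groth.Agent.Sga4h.DualSelf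

section JDep

variable {C : Type u₁} [Category.{v₁} C] [Abelian C] {T : C ⥤ C ⥤ C} [T.Additive] [∀ X, (T.obj X).Additive]
  [∀ (K₁ K₂ : CochainComplex C ℤ), CochainComplex.HasMapBifunctor K₁ K₂ T]
  [∀ E : CochainComplex C ℤ, (T.map₂CochainComplex.flip.obj E).IsLeftAdjoint]

/-- The map `Hom•(E, J) ⟶ Hom•(E, J')` induced by `j : J ⟶ J'`. -/
noncomputable def dualJ {J J' : CochainComplex C ℤ} (j : J ⟶ J') (E : CochainComplex C ℤ) :
    (dualFun T J).obj (op E) ⟶ (dualFun T J').obj (op E) :=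
  ((rightBi (T.map₂CochainComplex.flip)).obj (op E)).map j

lemma dualEquiv_naturality_right {K E J J' : CochainComplex C ℤ}
    (g : (T.map₂CochainComplex.obj K).obj E ⟶ J) (j : J ⟶ J') :
    dualEquiv T K E J' (g ≫ j) = dualEquiv T K E J g ≫ dualJ (T := T) j E :=
  (Adjunction.ofIsLeftAdjoint (T.map₂CochainComplex.flip.obj E)).homEquiv_naturality_right g j

omit [T.Additive] [∀ X, (T.obj X).Additive]
  [∀ (K₁ K₂ : CochainComplex C ℤ), CochainComplex.HasMapBifunctor K₁ K₂ T]
  [∀ E : CochainComplex C ℤ, (T.map₂CochainComplex.flip.obj E).IsLeftAdjoint] in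
lemma quasiIso_of_htpyFunctor {D : Type u₂} [Category.{v₂} D] [Abelian D]
    (G : CochainComplex C ℤ ⥤ CochainComplex D ℤ) [HtpyFunctor G]
    {J J' : CochainComplex C ℤ} [J.IsKInjective] [J'.IsKInjective] (j : J ⟶ J')
    [QuasiIso j] : QuasiIso (G.map j) := by
  have hf : homotopyEquivalences C (ComplexShape.up ℤ) j :=
    (CochainComplex.IsKInjective.quasiIso_iff j).1 inferInstance
  obtain ⟨e, rfl⟩ := hf
  let e' : HomotopyEquiv (G.obj J) (G.obj J') :=
    { hom := G.map e.hom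
      inv := G.map e.inv
      homotopyHomInvId := (Homotopy.ofEq (G.map_comp _ _).symm).trans
        ((HtpyFunctor.homotopy G e.homotopyHomInvId).some.trans (Homotopy.ofEq (G.map_id _)))
      homotopyInvHomId := (Homotopy.ofEq (G.map_comp _ _).symm).trans
        ((HtpyFunctor.homotopy G e.homotopyInvHomId).some.trans (Homotopy.ofEq (G.map_id _))) }
  exact e'.quasiIso_hom

/-- `Hom•(E, -)` preserves quasi-isomorphisms between K-injective complexes. -/
lemma quasiIso_dualJ {J J' : CochainComplex C ℤ} [J.IsKInjective] [J'.IsKInjective] (j : J ⟶ J')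
    [QuasiIso j] (E : CochainComplex C ℤ) : QuasiIso (dualJ (T := T) j E) := by
  let G := (T.map₂CochainComplex.flip.obj E).rightAdjoint
  have hG : HtpyFunctor G :=
    htpyFunctor_of_adjunction (Adjunction.ofIsLeftAdjoint (T.map₂CochainComplex.flip.obj E))
  exact quasiIso_of_htpyFunctor G j

end JDep

section Cmp

variable {C : Type u₁} [Category.{v₁} C] [Abelian C] {T : C ⥤ C ⥤ C} [T.Additive] [∀ X, (T.obj X).Additive]
  [∀ (K₁ K₂ : CochainComplex C ℤ), CochainComplex.HasMapBifunctor K₁ K₂ T]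
  [∀ E : CochainComplex C ℤ, (T.map₂CochainComplex.flip.obj E).IsLeftAdjoint]
  {C' : Type u₂} [Category.{v₂} C'] [Abelian C'] {T' : C' ⥤ C' ⥤ C'} [T'.Additive] [∀ X, (T'.obj X).Additive]
  [∀ (K₁ K₂ : CochainComplex C' ℤ), CochainComplex.HasMapBifunctor K₁ K₂ T']
  [∀ E : CochainComplex C' ℤ, (T'.map₂CochainComplex.flip.obj E).IsLeftAdjoint]
  {R : C ⥤ C'} [R.Additive]
  (τ : R ⋙ T' ⋙ (Functor.whiskeringLeft _ _ _).obj R ⟶ T ⋙ (Functor.whiskeringRight _ _ _).obj R)

lemma cmp_eq {J : CochainComplex C ℤ} {J' : CochainComplex C' ℤ}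
    (j : (R.mapHomologicalComplex (ComplexShape.up ℤ)).obj J ⟶ J') (E : CochainComplex C ℤ) :
    cmp τ j E = thetaCx τ E J ≫ dualJ (T := T') j _ := by
  rw [BidCmp.cmp, thetaCx, ← dualEquiv_naturality_right, Category.assoc]
  rfl

/-- `R Hom•(E, J) ⟶ Hom•(R E, J')` is a quasi-isomorphism. -/
theorem quasiIso_cmp {S : C' ⥤ C} [S.Additive] (adj : S ⊣ R) [PreservesFiniteLimits S]
    (hπ : ∀ A B, IsIso (projObj adj τ A B)) {J : CochainComplex C ℤ} {J' : CochainComplex C' ℤ}
    [J.IsKInjective] [J'.IsKInjective]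
    (j : (R.mapHomologicalComplex (ComplexShape.up ℤ)).obj J ⟶ J') [QuasiIso j] (E : CochainComplex C ℤ) :
    QuasiIso (BidCmp.cmp τ j E) := by
  have : PreservesFiniteColimits S :=
    have : PreservesColimitsOfSize.{0, 0} S := adj.leftAdjoint_preservesColimits
    PreservesColimitsOfSize.preservesFiniteColimits _
  have : CochainComplex.IsKInjective ((R.mapHomologicalComplex (ComplexShape.up ℤ)).obj J) :=
    Groth.Agent.Dcoh.DerComp.isKInjective_map adj
      (fun K hK => Groth.Agent.Dcoh.DerComp.acyclic_map_exact S K hK) J inferInstance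
  have := isIso_thetaCx adj τ hπ E J
  have := quasiIso_dualJ (T := T') j ((R.mapHomologicalComplex (ComplexShape.up ℤ)).obj E)
  rw [cmp_eq]
  infer_instance

end Cmp

section Refl

variable {C : Type u₁} [Category.{v₁} C] [Abelian C] {T : C ⥤ C ⥤ C} [T.Additive] [∀ X, (T.obj X).Additive]
  [∀ (K₁ K₂ : CochainComplex C ℤ), CochainComplex.HasMapBifunctor K₁ K₂ T]
  {C' : Type u₂} [Category.{v₂} C'] [Abelian C'] {T' : C' ⥤ C' ⥤ C'} [T'.Additive] [∀ X, (T'.obj X).Additive]
  [∀ (K₁ K₂ : CochainComplex C' ℤ), CochainComplex.HasMapBifunctor K₁ K₂ T']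
  {R : C ⥤ C'} [R.Additive]
  (τ : R ⋙ T' ⋙ (Functor.whiskeringLeft _ _ _).obj R ⟶ T ⋙ (Functor.whiskeringRight _ _ _).obj R)
  (S : SymmData T) (S' : SymmData T')
  (hσ : ∀ a b : C, (S'.σ (R.obj a) (R.obj b)).hom ≫ CxNat.comp τ a b =
    CxNat.comp τ b a ≫ R.map (S.σ a b).hom)

include hσ in
/-- Compatibility of `tcx` with the symmetries. -/
theorem tcx_braid (K E : CochainComplex C ℤ) :
    (braid S' ((R.mapHomologicalComplex (ComplexShape.up ℤ)).obj K)
      ((R.mapHomologicalComplex (ComplexShape.up ℤ)).obj E)).hom ≫ tcx τ E K =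
    tcx τ K E ≫ (R.mapHomologicalComplex (ComplexShape.up ℤ)).map (braid S K E).hom := by
  ext n : 1
  refine mapBifunctor.hom_ext (fun p q h => ?_)
  have h1 := ι_braid S' ((R.mapHomologicalComplex (ComplexShape.up ℤ)).obj K)
    ((R.mapHomologicalComplex (ComplexShape.up ℤ)).obj E) p q n h
  have h2 := ι_braid S K E p q n h
  have h3 := ι_tcx τ E K q p n (by simpa [add_comm] using h)
  have h4 := ι_tcx τ K E p q n h
  rw [comp_f, comp_f]
  rw [reassoc_of% h1, Linear.units_smul_comp, assoc, h3, reassoc_of% h4]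
  dsimp
  rw [← R.map_comp, h2, Functor.map_units_smul, Linear.comp_units_smul, R.map_comp,
    reassoc_of% (hσ (E.X q) (K.X p))]

variable [∀ E : CochainComplex C ℤ, (T.map₂CochainComplex.flip.obj E).IsLeftAdjoint]
  [∀ E : CochainComplex C' ℤ, (T'.map₂CochainComplex.flip.obj E).IsLeftAdjoint]

omit S' hσ R [R.Additive] τ in
lemma ev_eq (J E : CochainComplex C ℤ) : ev S J E = dualEquiv T E ((dualFun T J).obj (op E)) J
    ((braid S E ((dualFun T J).obj (op E))).hom ≫ cev T J E) := by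
  rw [ev, selfEquiv_apply, braid_inv]
  rfl

include hσ in
/-- Compatibility of the comparison map with the evaluation maps. -/
theorem ev_cmp {J : CochainComplex C ℤ} {J' : CochainComplex C' ℤ}
    (j : (R.mapHomologicalComplex (ComplexShape.up ℤ)).obj J ⟶ J') (E : CochainComplex C ℤ) :
    (R.mapHomologicalComplex (ComplexShape.up ℤ)).map (ev S J E) ≫ cmp τ j ((dualFun T J).obj (op E)) =
      ev S' J' ((R.mapHomologicalComplex (ComplexShape.up ℤ)).obj E) ≫ (dualFun T' J').map (cmp τ j E).op := by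
  rw [ev_eq, ← dualEquiv_tcx, ev_eq, ← dualEquiv_naturality_mid, braid_naturality_right_assoc, cmp_cev,
    reassoc_of% (tcx_braid τ S S' hσ E ((dualFun T J).obj (op E))), Functor.map_comp_assoc]

end Refl

section Data

variable {C : Type u₁} [Category.{v₁} C] [Abelian C] {T : C ⥤ C ⥤ C} [T.Additive] [∀ X, (T.obj X).Additive]
  [∀ (K₁ K₂ : CochainComplex C ℤ), CochainComplex.HasMapBifunctor K₁ K₂ T]
  [∀ E : CochainComplex C ℤ, (T.map₂CochainComplex.flip.obj E).IsLeftAdjoint]
  {C' : Type u₂} [Category.{v₂} C'] [Abelian C'] {T' : C' ⥤ C' ⥤ C'} [T'.Additive] [∀ X, (T'.obj X).Additive]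
  [∀ (K₁ K₂ : CochainComplex C' ℤ), CochainComplex.HasMapBifunctor K₁ K₂ T']
  [∀ E : CochainComplex C' ℤ, (T'.map₂CochainComplex.flip.obj E).IsLeftAdjoint]
  [∀ (J : Type), HasColimitsOfShape (Discrete J) C']
  [∀ (J : Type), (colim : (Discrete J ⥤ C') ⥤ C').PreservesMonomorphisms]
  {R : C ⥤ C'} [R.Additive]
  (τ : R ⋙ T' ⋙ (Functor.whiskeringLeft _ _ _).obj R ⟶ T ⋙ (Functor.whiskeringRight _ _ _).obj R)
  (A : DualData T) (A' : DualData T')
  (hσ : ∀ a b : C, (A'.S.σ (R.obj a) (R.obj b)).hom ≫ CxNat.comp τ a b =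
    CxNat.comp τ b a ≫ R.map (A.S.σ a b).hom)
  (j : (R.mapHomologicalComplex (ComplexShape.up ℤ)).obj A.J ⟶ A'.J)

include hσ in
/-- If the comparison maps for `E` and `D E` are quasi-isomorphisms, then `R (A.ev E)` is a quasi-isomorphism iff
`R E` is reflexive. -/
theorem quasiIso_map_ev_iff (E : CochainComplex C ℤ) (h₁ : QuasiIso (cmp τ j E))
    (h₂ : QuasiIso (cmp τ j (A.D E))) :
    QuasiIso ((R.mapHomologicalComplex (ComplexShape.up ℤ)).map (A.ev E)) ↔
      A'.Refl ((R.mapHomologicalComplex (ComplexShape.up ℤ)).obj E) := by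
  have h := ev_cmp τ A.S A'.S hσ j E
  have h3 : QuasiIso (A'.Dmap (cmp τ j E)) := A'.quasiIso_Dmap _
  constructor
  · intro h4
    have h5 : QuasiIso (A'.ev ((R.mapHomologicalComplex (ComplexShape.up ℤ)).obj E) ≫
        A'.Dmap (cmp τ j E)) := by
      rw [← h]
      infer_instance
    exact ⟨(quasiIso_iff_comp_right _ (A'.Dmap (cmp τ j E))).1 h5⟩
  · intro h4
    have := h4.qis
    have h5 : QuasiIso ((R.mapHomologicalComplex (ComplexShape.up ℤ)).map (A.ev E) ≫ cmp τ j (A.D E)) := by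
      rw [h]
      infer_instance
    exact (quasiIso_iff_comp_right _ (cmp τ j (A.D E))).1 h5

end Data

section JIndep

variable {C : Type u₁} [Category.{v₁} C] [Abelian C] {T : C ⥤ C ⥤ C} [T.Additive] [∀ X, (T.obj X).Additive]
  [∀ (K₁ K₂ : CochainComplex C ℤ), CochainComplex.HasMapBifunctor K₁ K₂ T]
  [∀ E : CochainComplex C ℤ, (T.map₂CochainComplex.flip.obj E).IsLeftAdjoint]

lemma dualJ_cev {J J' : CochainComplex C ℤ} (j : J ⟶ J') (E : CochainComplex C ℤ) :
    (T.map₂CochainComplex.map (dualJ (T := T) j E)).app E ≫ cev T J' E = cev T J E ≫ j := by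
  apply (dualEquiv T _ E J').injective
  rw [dualEquiv_naturality_left, dualEquiv_naturality_right, dualEquiv_cev, dualEquiv_cev, comp_id, id_comp]

lemma ev_dualJ (S : SymmData T) {J J' : CochainComplex C ℤ} (j : J ⟶ J') (E : CochainComplex C ℤ) :
    ev S J E ≫ dualJ (T := T) j ((dualFun T J).obj (op E)) =
      ev S J' E ≫ (dualFun T J').map (dualJ (T := T) j E).op := by
  rw [ev_eq, ← dualEquiv_naturality_right, ev_eq, ← dualEquiv_naturality_mid, braid_naturality_right_assoc,
    dualJ_cev, Category.assoc]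

variable [∀ (J : Type), HasColimitsOfShape (Discrete J) C]
  [∀ (J : Type), (colim : (Discrete J ⥤ C) ⥤ C).PreservesMonomorphisms]

/-- Reflexivity does not depend on the K-injective complex `J` up to quasi-isomorphism. -/
theorem refl_iff_of_quasiIso_J (A A' : DualData T) (hS : A.S = A'.S) (j : A.J ⟶ A'.J) [QuasiIso j]
    (E : CochainComplex C ℤ) : A.Refl E ↔ A'.Refl E := by
  have := A.kinj
  have := A'.kinj
  have h := ev_dualJ A'.S j E
  have h1 : QuasiIso (A'.Dmap (dualJ (T := T) j E)) :=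
    have := quasiIso_dualJ (T := T) j E
    A'.quasiIso_Dmap _
  have h2 : QuasiIso (dualJ (T := T) j ((dualFun T A.J).obj (op E))) := quasiIso_dualJ (T := T) j _
  have h3 : A.ev E = ev A'.S A.J E := by
    dsimp only [DualData.ev]
    rw [hS]
  constructor
  · intro h4
    have h5 : QuasiIso (ev A'.S A.J E) := h3 ▸ h4.qis
    have h6 : QuasiIso (A'.ev E ≫ A'.Dmap (dualJ (T := T) j E)) := by
      rw [← h]
      infer_instance
    exact ⟨(quasiIso_iff_comp_right _ (A'.Dmap (dualJ (T := T) j E))).1 h6⟩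
  · intro h4
    have := h4.qis
    have h5 : QuasiIso (ev A'.S A.J E ≫ dualJ (T := T) j ((dualFun T A.J).obj (op E))) := by
      rw [h]
      infer_instance
    refine ⟨?_⟩
    rw [h3]
    exact (quasiIso_iff_comp_right _ (dualJ (T := T) j ((dualFun T A.J).obj (op E)))).1 h5

omit [∀ (J : Type), HasColimitsOfShape (Discrete J) C]
  [∀ (J : Type), (colim : (Discrete J ⥤ C) ⥤ C).PreservesMonomorphisms] in
/-- Comparison of K-injective resolutions. -/
theorem exists_quasiIso_of_resolution {L J J' : CochainComplex C ℤ} [J'.IsKInjective] (i : L ⟶ J) [QuasiIso i]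
    (f : L ⟶ J') [QuasiIso f] : ∃ j : J ⟶ J', QuasiIso j := by
  obtain ⟨g, ⟨hg⟩⟩ := Groth.Agent.Cohder.RDInt.exists_ext i f
  have h : QuasiIso (i ≫ g) := Groth.Agent.Cohder.RDInt.quasiIso_of_homotopy hg.symm
  exact ⟨g, quasiIso_of_comp_left i g⟩

/-- Reflexivity does not depend on the K-injective resolution. -/
theorem refl_iff_of_resolution (A A' : DualData T) (hS : A.S = A'.S) {L : CochainComplex C ℤ}
    (i : L ⟶ A.J) [QuasiIso i] (i' : L ⟶ A'.J) [QuasiIso i'] (E : CochainComplex C ℤ) :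
    A.Refl E ↔ A'.Refl E := by
  have := A'.kinj
  obtain ⟨j, hj⟩ := exists_quasiIso_of_resolution i i'
  exact refl_iff_of_quasiIso_J A A' hS j E

end JIndep

end Groth.Agent.Sga4h.BidEtCmp
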