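import Groth.Agent.Sga4h.HomCx
import Mathlib.CategoryTheory.Abelian.GrothendieckAxioms.Basic
import Mathlib.CategoryTheory.Abelian.GrothendieckAxioms.Colim
import Mathlib.Algebra.Homology.Double

/-!
# Tensoring monomorphisms of complexes, discs, single complexes

* `mono_map`: `K₁ ⊗ φ` is a (degreewise) monomorphism when all `F.obj (K₁.X p)` send the components of `φ` to
  monomorphisms and coproducts are exact.
* `tensorSingleIso`: `(F.map₂CochainComplex.obj ((single C₁ _ 0).obj X)).obj K ≅ (F.obj X).mapHomologicalComplex K`.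
* `discHomotopy`: the complex `double (𝟙 X)` is contractible.
-/

set_option autoImplicit false
set_option backward.defeqAttrib.useBackward true
set_option backward.isDefEq.respectTransparency false

universe w v₁ v₂ v₃ u₁ u₂ u₃

namespace Groth.Agent.Sga4h.HomCx

open CategoryTheory Category Limits HomologicalComplex CochainComplex
open Groth.Agent.Dcoh.CxFun

section Mono

variable {C₁ : Type u₁} {C₂ : Type u₂} {D : Type u₃} [Category.{v₁} C₁] [Category.{v₂} C₂] [Category.{v₃} D]
  [Preadditive C₁] [Preadditive C₂] [Preadditive D]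
  (F : C₁ ⥤ C₂ ⥤ D) [F.Additive] [∀ (X₁ : C₁), (F.obj X₁).Additive]
  [∀ (K₁ : CochainComplex C₁ ℤ) (K₂ : CochainComplex C₂ ℤ), CochainComplex.HasMapBifunctor K₁ K₂ F]

lemma mono_discrete_natTrans {J : Type} {D : Type u₃} [Category.{v₃} D] {f g : J → D} (φ : ∀ j, f j ⟶ g j) [∀ j, Mono (φ j)] :
    Mono (Discrete.natTrans (F := Discrete.functor f) (G := Discrete.functor g) (fun j => φ j.as)) := by
  have : ∀ j, Mono ((Discrete.natTrans (F := Discrete.functor f) (G := Discrete.functor g)
    (fun j => φ j.as)).app j) := fun j => by dsimp; infer_instance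
  exact NatTrans.mono_of_mono_app _

/-- Degreewise monomorphism after tensoring on the left. -/
lemma mono_map_f [∀ (J : Type), HasColimitsOfShape (Discrete J) D]
    [∀ (J : Type), (colim : (Discrete J ⥤ D) ⥤ D).PreservesMonomorphisms]
    (K₁ : CochainComplex C₁ ℤ) {K₂ L₂ : CochainComplex C₂ ℤ} (φ : K₂ ⟶ L₂)
    (hφ : ∀ p q, Mono ((F.obj (K₁.X p)).map (φ.f q))) (n : ℤ) :
    Mono (((F.map₂CochainComplex.obj K₁).map φ).f n) := by
  let M₁ := ((F.mapBifunctorHomologicalComplex (ComplexShape.up ℤ) (ComplexShape.up ℤ)).obj K₁).obj K₂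
  let M₂ := ((F.mapBifunctorHomologicalComplex (ComplexShape.up ℤ) (ComplexShape.up ℤ)).obj K₁).obj L₂
  let p := ComplexShape.π (ComplexShape.up ℤ) (ComplexShape.up ℤ) (ComplexShape.up ℤ)
  let ψ : ∀ (i : p ⁻¹' {n}), M₁.toGradedObject.mapObjFun p n i ⟶ M₂.toGradedObject.mapObjFun p n i :=
    fun i => (F.obj (K₁.X i.1.1)).map (φ.f i.1.2)
  have : ∀ i, Mono (ψ i) := fun i => hφ _ _
  have hψ := mono_discrete_natTrans ψ
  refine colim.map_mono' (Discrete.natTrans (F := Discrete.functor _) (G := Discrete.functor _) (fun j => ψ j.as))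
    (M₁.toGradedObject.isColimitCofanMapObj p n) (M₂.toGradedObject.isColimitCofanMapObj p n) _ ?_
  rintro ⟨⟨⟨a, b⟩, h⟩⟩
  have := ι_mapBifunctorMap (𝟙 K₁) φ F (ComplexShape.up ℤ) a b n h
  dsimp at this ⊢
  refine this.trans ?_
  rw [CategoryTheory.Functor.map_id, NatTrans.id_app, Category.id_comp]
  rfl

end Mono

section Single

variable {C₁ : Type u₁} {C₂ : Type u₂} {D : Type u₃} [Category.{v₁} C₁] [Category.{v₂} C₂] [Category.{v₃} D]
  [Preadditive C₁] [Preadditive C₂] [Preadditive D] [HasZeroObject C₁] [HasZeroObject C₂]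
  (F : C₁ ⥤ C₂ ⥤ D) [F.Additive] [∀ (X₁ : C₁), (F.obj X₁).Additive]
  [∀ (K₁ : CochainComplex C₁ ℤ) (K₂ : CochainComplex C₂ ℤ), CochainComplex.HasMapBifunctor K₁ K₂ F]

/-- The comparison map `F(X, K) ⟶ X[0] ⊗ K`. -/
noncomputable def toTensorSingle (X : C₁) (K : CochainComplex C₂ ℤ) :
    ((F.obj X).mapHomologicalComplex (ComplexShape.up ℤ)).obj K ⟶
      (F.map₂CochainComplex.obj ((single C₁ (ComplexShape.up ℤ) 0).obj X)).obj K where
  f n := (F.map (singleObjXSelf (ComplexShape.up ℤ) 0 X).inv).app (K.X n) ≫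
    ιMapBifunctor ((single C₁ (ComplexShape.up ℤ) 0).obj X) K F (ComplexShape.up ℤ) 0 n n (by simp)
  comm' := by
    rintro n m (rfl : n + 1 = m)
    dsimp
    rw [Category.assoc, mapBifunctor.d_eq, Preadditive.comp_add, mapBifunctor.ι_D₁, mapBifunctor.ι_D₂,
      mapBifunctor.d₁_eq _ _ _ _ (show (ComplexShape.up ℤ).Rel 0 1 by simp) _ _
        (show 1 + n = n + 1 by lia),
      mapBifunctor.d₂_eq _ _ _ _ _ (show (ComplexShape.up ℤ).Rel n (n + 1) by simp) _
        (show 0 + (n + 1) = n + 1 by lia)]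
    simp

lemma isIso_toTensorSingle_f (X : C₁) (K : CochainComplex C₂ ℤ) (n : ℤ) :
    IsIso ((toTensorSingle F X K).f n) := by
  let g : ((F.map₂CochainComplex.obj ((single C₁ (ComplexShape.up ℤ) 0).obj X)).obj K).X n ⟶
      (F.obj X).obj (K.X n) :=
    mapBifunctorDesc (K₁ := (single C₁ (ComplexShape.up ℤ) 0).obj X) (K₂ := K) (F := F)
      (c := ComplexShape.up ℤ) (fun p q (h : p + q = n) => if hp : p = 0 then
        (F.map ((singleObjXIsoOfEq (ComplexShape.up ℤ) 0 X p hp).hom)).app (K.X q) ≫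
          (F.obj X).map (K.XIsoOfEq (show q = n by lia)).hom else 0)
  refine ⟨g, ?_, ?_⟩
  · dsimp [toTensorSingle, g]
    rw [Category.assoc, ι_mapBifunctorDesc, dif_pos rfl, ← Category.assoc, ← NatTrans.comp_app,
      ← Functor.map_comp]
    simp [singleObjXSelf]
  · refine mapBifunctor.hom_ext (fun p q h => ?_)
    by_cases hp : p = 0
    · subst hp
      obtain rfl : q = n := by simpa using h
      dsimp [toTensorSingle, g]
      rw [ι_mapBifunctorDesc_assoc, dif_pos rfl]
      simp [singleObjXSelf, ← NatTrans.comp_app_assoc, ← Functor.map_comp]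
    · have hz : IsZero (((single C₁ (ComplexShape.up ℤ) 0).obj X).X p) :=
        isZero_single_obj_X _ _ _ _ hp
      have hz' : IsZero ((F.obj (((single C₁ (ComplexShape.up ℤ) 0).obj X).X p)).obj (K.X q)) :=
        ((F.flip.obj (K.X q))).map_isZero hz
      exact hz'.eq_of_src _ _

/-- `F(X, K) ≅ X[0] ⊗ K`, naturally in `K`. -/
noncomputable def tensorSingleIso (X : C₁) :
    (F.obj X).mapHomologicalComplex (ComplexShape.up ℤ) ≅
      F.map₂CochainComplex.obj ((single C₁ (ComplexShape.up ℤ) 0).obj X) :=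
  NatIso.ofComponents (fun K => by
    have := isIso_toTensorSingle_f F X K
    have : IsIso (toTensorSingle F X K) := Hom.isIso_of_components _
    exact asIso (toTensorSingle F X K)) (fun {K L} φ => by
      ext n
      dsimp [toTensorSingle]
      simp)

/-- The comparison map `F(K, Y) ⟶ K ⊗ Y[0]`. -/
noncomputable def toTensorSingle₂ (K : CochainComplex C₁ ℤ) (Y : C₂) :
    ((F.flip.obj Y).mapHomologicalComplex (ComplexShape.up ℤ)).obj K ⟶
      (F.map₂CochainComplex.obj K).obj ((single C₂ (ComplexShape.up ℤ) 0).obj Y) where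
  f n := (F.obj (K.X n)).map (singleObjXSelf (ComplexShape.up ℤ) 0 Y).inv ≫
    ιMapBifunctor K ((single C₂ (ComplexShape.up ℤ) 0).obj Y) F (ComplexShape.up ℤ) n 0 n (by simp)
  comm' := by
    rintro n m (rfl : n + 1 = m)
    dsimp
    rw [Category.assoc, mapBifunctor.d_eq, Preadditive.comp_add, mapBifunctor.ι_D₁, mapBifunctor.ι_D₂,
      mapBifunctor.d₁_eq _ _ _ _ (show (ComplexShape.up ℤ).Rel n (n + 1) by simp) _ _
        (show (n + 1) + 0 = n + 1 by lia),
      mapBifunctor.d₂_eq _ _ _ _ _ (show (ComplexShape.up ℤ).Rel 0 1 by simp) _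
        (show n + 1 = n + 1 by lia)]
    simp

lemma isIso_toTensorSingle₂_f (K : CochainComplex C₁ ℤ) (Y : C₂) (n : ℤ) :
    IsIso ((toTensorSingle₂ F K Y).f n) := by
  let g : ((F.map₂CochainComplex.obj K).obj ((single C₂ (ComplexShape.up ℤ) 0).obj Y)).X n ⟶
      (F.obj (K.X n)).obj Y :=
    mapBifunctorDesc (K₁ := K) (K₂ := (single C₂ (ComplexShape.up ℤ) 0).obj Y) (F := F)
      (c := ComplexShape.up ℤ) (fun p q (h : p + q = n) => if hq : q = 0 then
        (F.obj (K.X p)).map ((singleObjXIsoOfEq (ComplexShape.up ℤ) 0 Y q hq).hom) ≫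
          (F.map (K.XIsoOfEq (show p = n by lia)).hom).app Y else 0)
  refine ⟨g, ?_, ?_⟩
  · dsimp [toTensorSingle₂, g]
    rw [Category.assoc, ι_mapBifunctorDesc, dif_pos rfl, ← Category.assoc,
      ← CategoryTheory.Functor.map_comp]
    simp [singleObjXSelf]
  · refine mapBifunctor.hom_ext (fun p q h => ?_)
    by_cases hq : q = 0
    · subst hq
      obtain rfl : p = n := by simpa using h
      dsimp [toTensorSingle₂, g]
      rw [ι_mapBifunctorDesc_assoc, dif_pos rfl]
      simp [singleObjXSelf, ← CategoryTheory.Functor.map_comp_assoc]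
    · have hz : IsZero (((single C₂ (ComplexShape.up ℤ) 0).obj Y).X q) :=
        isZero_single_obj_X _ _ _ _ hq
      exact ((F.obj (K.X p)).map_isZero hz).eq_of_src _ _

/-- `F(K, Y) ≅ K ⊗ Y[0]`, naturally in `K`. -/
noncomputable def tensorSingleIso₂ (Y : C₂) :
    (F.flip.obj Y).mapHomologicalComplex (ComplexShape.up ℤ) ≅
      F.map₂CochainComplex.flip.obj ((single C₂ (ComplexShape.up ℤ) 0).obj Y) :=
  NatIso.ofComponents (fun K => by
    have := isIso_toTensorSingle₂_f F K Y
    have : IsIso (toTensorSingle₂ F K Y) := Hom.isIso_of_components _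
    exact asIso (toTensorSingle₂ F K Y)) (fun {K L} φ => by
      ext n
      dsimp [toTensorSingle₂]
      simp)

end Single

section Disc

variable {C : Type u₁} [Category.{v₁} C] [Preadditive C] [HasZeroObject C]

/-- The complex `X = X` in degrees `n` and `n + 1`. -/
noncomputable abbrev disc (n : ℤ) (X : C) : CochainComplex C ℤ :=
  double (𝟙 X) (show (ComplexShape.up ℤ).Rel n (n + 1) by simp)

/-- The disc is contractible. -/
noncomputable def discHomotopy (n : ℤ) (X : C) : Homotopy (𝟙 (disc n X)) 0 := by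
  classical
  let h : (ComplexShape.up ℤ).Rel n (n + 1) := by simp
  let s : ∀ i j : ℤ, (disc n X).X i ⟶ (disc n X).X j := fun i j =>
    if hij : i = n + 1 ∧ j = n then
      ((disc n X).XIsoOfEq hij.1).hom ≫ (doubleXIso₁ (𝟙 X) h (by lia)).hom ≫ (doubleXIso₀ (𝟙 X) h).inv ≫
        ((disc n X).XIsoOfEq hij.2.symm).hom
    else 0
  have hs : 𝟙 (disc n X) = Homotopy.nullHomotopicMap s := by
    apply from_double_hom_ext
    · rw [Homotopy.nullHomotopicMap_f (show (ComplexShape.up ℤ).Rel (n - 1) n by simp) h]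
      simp [s, disc, double_d]
    · rw [Homotopy.nullHomotopicMap_f h (show (ComplexShape.up ℤ).Rel (n + 1) (n + 1 + 1) by simp)]
      simp [s, disc, double_d]
  exact (Homotopy.ofEq hs).trans (Homotopy.nullHomotopy s (fun i j hij => by
    simp only [s]
    rw [dif_neg]
    rintro ⟨rfl, rfl⟩
    exact hij (by simp)))

end Disc

end Groth.Agent.Sga4h.HomCx
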