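import Groth.Agent.Sga4h.BidCmp
import Groth.Agent.Sga4h.HomCxMono
import Groth.Agent.Dcoh.DerAdj

/-!
# The dual of a complex concentrated in degree `0`

* `uMap : R J ⟶ D (B[0])` for `R` right adjoint to `- ⊗ B`: an isomorphism, `uMap_spec`;
* `quasiIso_cmp_single`: the comparison map `a (D (B[0])) ⟶ D' (a (B[0]))` is a quasi-isomorphism when
  `θ : a (R M) ⟶ R' (a M)` is an isomorphism for `M = J^n` and `R' (a J) ⟶ R' J'` is a quasi-isomorphism.
-/

set_option autoImplicit false
set_option backward.defeqAttrib.useBackward true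
set_option backward.isDefEq.respectTransparency false

set_option linter.unusedSectionVars false

universe w v₁ v₂ v₃ u₁ u₂ u₃

namespace Groth.Agent.Sga4h.BidLimSingle

open CategoryTheory Category Limits HomologicalComplex CochainComplex Opposite
open Groth.Agent.Sga4h.DualCx Groth.Agent.PerfC Groth.Agent.Sga4h.BidCmp Groth.Agent.Sga4h.HomCx
open Groth.Agent.Dcoh.DerAdj

theorem additive_flip_obj {C : Type u₁} [Category.{v₁} C] [Abelian C] (T : C ⥤ C ⥤ C) [T.Additive] (B : C) :
    (T.flip.obj B).Additive where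
  map_add {X Y f g} := by
    change (T.map (f + g)).app B = (T.map f).app B + (T.map g).app B
    rw [Functor.map_add]
    rfl

attribute [local instance] additive_flip_obj

section U

variable {C : Type u₁} [Category.{v₁} C] [Abelian C] {T : C ⥤ C ⥤ C} [T.Additive] [∀ X, (T.obj X).Additive]
  [∀ (K₁ K₂ : CochainComplex C ℤ), CochainComplex.HasMapBifunctor K₁ K₂ T]
  [∀ E : CochainComplex C ℤ, (T.map₂CochainComplex.flip.obj E).IsLeftAdjoint]
  {B : C} {R : C ⥤ C} [R.Additive] (adj : T.flip.obj B ⊣ R)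

/-- The complex `B[0]`. -/
noncomputable abbrev sg (B : C) : CochainComplex C ℤ := (single C (ComplexShape.up ℤ) 0).obj B

/-- The pairing `R J ⊗ B[0] ⟶ J`. -/
noncomputable def pairing (J : CochainComplex C ℤ) :
    (T.map₂CochainComplex.obj ((R.mapHomologicalComplex (ComplexShape.up ℤ)).obj J)).obj (sg B) ⟶ J :=
  (tensorSingleIso₂ T B).inv.app ((R.mapHomologicalComplex (ComplexShape.up ℤ)).obj J) ≫
    (adjCx adj (ComplexShape.up ℤ)).counit.app J

/-- The isomorphism `R J ≅ D (B[0])`. -/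
noncomputable def uMap (J : CochainComplex C ℤ) :
    (R.mapHomologicalComplex (ComplexShape.up ℤ)).obj J ⟶ (dualFun T J).obj (op (sg B)) :=
  dualEquiv T _ (sg B) J (pairing adj J)

lemma uMap_spec {K J : CochainComplex C ℤ} (φ : (T.map₂CochainComplex.obj K).obj (sg B) ⟶ J) :
    dualEquiv T K (sg B) J φ = (adjCx adj (ComplexShape.up ℤ)).homEquiv K J
      ((tensorSingleIso₂ T B).hom.app K ≫ φ) ≫ uMap adj J := by
  rw [uMap, ← dualEquiv_naturality_left]
  congr 1
  have h := (tensorSingleIso₂ T B).inv.naturality ((adjCx adj (ComplexShape.up ℤ)).homEquiv K J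
      ((tensorSingleIso₂ T B).hom.app K ≫ φ))
  rw [pairing]
  refine Eq.trans ?_ ((assoc _ _ _).symm.trans ((congrArg (· ≫ _) h).trans (assoc _ _ _))).symm
  have h2 : ((T.flip.obj B).mapHomologicalComplex (ComplexShape.up ℤ)).map
      ((adjCx adj (ComplexShape.up ℤ)).homEquiv K J ((tensorSingleIso₂ T B).hom.app K ≫ φ)) ≫
      (adjCx adj (ComplexShape.up ℤ)).counit.app J = (tensorSingleIso₂ T B).hom.app K ≫ φ := by
    have := (adjCx adj (ComplexShape.up ℤ)).homEquiv_counit (g := (adjCx adj (ComplexShape.up ℤ)).homEquiv K J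
      ((tensorSingleIso₂ T B).hom.app K ≫ φ))
    rw [Equiv.symm_apply_apply] at this
    exact this.symm
  rw [h2]
  exact ((Iso.inv_hom_id_app_assoc (tensorSingleIso₂ T B) K φ)).symm

instance isIso_uMap (J : CochainComplex C ℤ) : IsIso (uMap adj J) := by
  refine ⟨(adjCx adj (ComplexShape.up ℤ)).homEquiv _ J ((tensorSingleIso₂ T B).hom.app _ ≫ cev T J (sg B)),
    ?_, ?_⟩
  · rw [← Adjunction.homEquiv_naturality_left]
    have h := (tensorSingleIso₂ T B).hom.naturality (uMap adj J)
    have h2 : (T.map₂CochainComplex.map (uMap adj J)).app (sg B) ≫ cev T J (sg B) = pairing adj J :=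
      map_dualEquiv_cev _
    have h3 : ((T.flip.obj B).mapHomologicalComplex (ComplexShape.up ℤ)).map (uMap adj J) ≫
        (tensorSingleIso₂ T B).hom.app _ ≫ cev T J (sg B) = (adjCx adj (ComplexShape.up ℤ)).counit.app J := by
      rw [reassoc_of% h]
      refine (congrArg (fun k => (tensorSingleIso₂ T B).hom.app _ ≫ k) h2).trans ?_
      exact Iso.hom_inv_id_app_assoc (tensorSingleIso₂ T B) _ _
    rw [h3]
    rw [Adjunction.homEquiv_unit]
    exact (adjCx adj (ComplexShape.up ℤ)).right_triangle_components J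
  · rw [← uMap_spec, dualEquiv_cev]

end U

section Cmp

variable {C : Type u₁} [Category.{v₁} C] [Abelian C] {T : C ⥤ C ⥤ C} [T.Additive] [∀ X, (T.obj X).Additive]
  [∀ (K₁ K₂ : CochainComplex C ℤ), CochainComplex.HasMapBifunctor K₁ K₂ T]
  [∀ E : CochainComplex C ℤ, (T.map₂CochainComplex.flip.obj E).IsLeftAdjoint]
  {C' : Type u₂} [Category.{v₂} C'] [Abelian C'] {T' : C' ⥤ C' ⥤ C'} [T'.Additive] [∀ X, (T'.obj X).Additive]
  [∀ (K₁ K₂ : CochainComplex C' ℤ), CochainComplex.HasMapBifunctor K₁ K₂ T']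
  [∀ E : CochainComplex C' ℤ, (T'.map₂CochainComplex.flip.obj E).IsLeftAdjoint]
  {a : C ⥤ C'} [a.Additive]
  (τ : a ⋙ T' ⋙ (Functor.whiskeringLeft _ _ _).obj a ⟶ T ⋙ (Functor.whiskeringRight _ _ _).obj a)
  {B : C} {R : C ⥤ C} [R.Additive] (adj : T.flip.obj B ⊣ R)
  {R' : C' ⥤ C'} [R'.Additive] (adj' : T'.flip.obj (a.obj B) ⊣ R')

/-- The comparison map `a (R M) ⟶ R' (a M)`. -/
noncomputable def thetaOf (M : C) : a.obj (R.obj M) ⟶ R'.obj (a.obj M) :=
  adj'.homEquiv _ _ (CxNat.comp τ (R.obj M) B ≫ a.map (adj.counit.app M))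

lemma thetaOf_naturality {M N : C} (f : M ⟶ N) :
    a.map (R.map f) ≫ thetaOf τ adj adj' N = thetaOf τ adj adj' M ≫ R'.map (a.map f) := by
  rw [thetaOf, thetaOf, ← Adjunction.homEquiv_naturality_left, ← Adjunction.homEquiv_naturality_right]
  congr 1
  have h := CxNat.comp_nat₁ τ (R.map f) B
  have h2 := adj.counit.naturality f
  refine Eq.trans ((assoc _ _ _).symm.trans ((congrArg (· ≫ _) h).trans (assoc _ _ _))) ?_
  refine Eq.trans ?_ (assoc _ _ _).symm
  refine congrArg (CxNat.comp τ (R.obj M) B ≫ ·) ?_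
  exact (a.map_comp _ _).symm.trans ((congrArg a.map h2).trans (a.map_comp _ _))

/-- `thetaOf` on complexes. -/
noncomputable def thetaCx (J : CochainComplex C ℤ) :
    (a.mapHomologicalComplex (ComplexShape.up ℤ)).obj ((R.mapHomologicalComplex (ComplexShape.up ℤ)).obj J) ⟶
      (R'.mapHomologicalComplex (ComplexShape.up ℤ)).obj ((a.mapHomologicalComplex (ComplexShape.up ℤ)).obj J) where
  f n := thetaOf τ adj adj' (J.X n)
  comm' n m _ := (thetaOf_naturality τ adj adj' (J.d n m)).symm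

variable {J : CochainComplex C ℤ} {J' : CochainComplex C' ℤ}
  (j : (a.mapHomologicalComplex (ComplexShape.up ℤ)).obj J ⟶ J')

/-- The pairing `a (R J) ⊗ a B ⟶ J'`. -/
noncomputable def zeta :
    ((T'.flip.obj (a.obj B)).mapHomologicalComplex (ComplexShape.up ℤ)).obj
      ((a.mapHomologicalComplex (ComplexShape.up ℤ)).obj ((R.mapHomologicalComplex (ComplexShape.up ℤ)).obj J)) ⟶
      J' :=
  (tensorSingleIso₂ T' (a.obj B)).hom.app _ ≫
    (T'.map₂CochainComplex.obj _).map
      ((HomologicalComplex.singleMapHomologicalComplex a (ComplexShape.up ℤ) 0).inv.app B) ≫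
    tcx τ _ (sg B) ≫ (a.mapHomologicalComplex (ComplexShape.up ℤ)).map (pairing adj J) ≫ j

lemma pairing_f (n : ℤ) :
    (T.obj (R.obj (J.X n))).map (singleObjXSelf (ComplexShape.up ℤ) 0 B).inv ≫
      ιMapBifunctor ((R.mapHomologicalComplex (ComplexShape.up ℤ)).obj J) (sg B) T (ComplexShape.up ℤ) n 0 n
        (by simp) ≫ (pairing adj J).f n = adj.counit.app (J.X n) := by
  have h := congrArg (fun k => k.f n) ((tensorSingleIso₂ T B).hom_inv_id_app_assoc
    ((R.mapHomologicalComplex (ComplexShape.up ℤ)).obj J) ((adjCx adj (ComplexShape.up ℤ)).counit.app J))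
  refine Eq.trans ?_ h
  exact (assoc _ _ _).symm

lemma zeta_f (n : ℤ) : (zeta τ adj j).f n =
    CxNat.comp τ (R.obj (J.X n)) B ≫ a.map (adj.counit.app (J.X n)) ≫ j.f n := by
  have h1 := ι_tcx τ ((R.mapHomologicalComplex (ComplexShape.up ℤ)).obj J) (sg B) n 0 n (by simp)
  have h2 := pairing_f adj (J := J) n
  have h4 := ι_mapBifunctorMap (𝟙 ((a.mapHomologicalComplex (ComplexShape.up ℤ)).obj
      ((R.mapHomologicalComplex (ComplexShape.up ℤ)).obj J)))
      ((HomologicalComplex.singleMapHomologicalComplex a (ComplexShape.up ℤ) 0).inv.app B) T' (ComplexShape.up ℤ)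
      n 0 n (by simp)
  have h5 : ιMapBifunctor ((R.mapHomologicalComplex (ComplexShape.up ℤ)).obj J) (sg B) T (ComplexShape.up ℤ) n 0 n
      (by simp) ≫ (pairing adj J).f n =
      (T.obj (R.obj (J.X n))).map (singleObjXSelf (ComplexShape.up ℤ) 0 B).hom ≫ adj.counit.app (J.X n) := by
    rw [← h2, ← (T.obj (R.obj (J.X n))).map_comp_assoc, Iso.hom_inv_id]
    exact ((congrArg (fun k => k ≫ _) ((T.obj (R.obj (J.X n))).map_id _)).trans (id_comp _)).symm
  have h6 := CxNat.comp_nat₂ τ (R.obj (J.X n)) (singleObjXSelf (ComplexShape.up ℤ) 0 B).hom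
  have h7 := singleMapHomologicalComplex_inv_app_self a (ComplexShape.up ℤ) 0 B
  have h8 : (zeta τ adj j).f n = ((T'.obj (a.obj (R.obj (J.X n)))).map
      (singleObjXSelf (ComplexShape.up ℤ) 0 (a.obj B)).inv ≫
      ιMapBifunctor ((a.mapHomologicalComplex (ComplexShape.up ℤ)).obj
        ((R.mapHomologicalComplex (ComplexShape.up ℤ)).obj J)) (sg (a.obj B)) T' (ComplexShape.up ℤ) n 0 n
        (by simp)) ≫
      (mapBifunctorMap (𝟙 ((a.mapHomologicalComplex (ComplexShape.up ℤ)).obj
        ((R.mapHomologicalComplex (ComplexShape.up ℤ)).obj J)))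
        ((HomologicalComplex.singleMapHomologicalComplex a (ComplexShape.up ℤ) 0).inv.app B)
        T' (ComplexShape.up ℤ)).f n ≫ (tcx τ ((R.mapHomologicalComplex (ComplexShape.up ℤ)).obj J) (sg B)).f n ≫
        a.map ((pairing adj J).f n) ≫ j.f n := rfl
  rw [h8, assoc, reassoc_of% h4]
  rw [id_f, CategoryTheory.Functor.map_id, NatTrans.id_app, id_comp]
  have h9 : ιMapBifunctor ((a.mapHomologicalComplex (ComplexShape.up ℤ)).obj
        ((R.mapHomologicalComplex (ComplexShape.up ℤ)).obj J))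
        ((a.mapHomologicalComplex (ComplexShape.up ℤ)).obj (sg B)) T' (ComplexShape.up ℤ) n 0 n (by simp) ≫
      (tcx τ ((R.mapHomologicalComplex (ComplexShape.up ℤ)).obj J) (sg B)).f n ≫
        a.map ((pairing adj J).f n) ≫ j.f n =
      (T'.obj (a.obj (R.obj (J.X n)))).map (a.map (singleObjXSelf (ComplexShape.up ℤ) 0 B).hom) ≫
        CxNat.comp τ (R.obj (J.X n)) B ≫ a.map (adj.counit.app (J.X n)) ≫ j.f n := by
    rw [reassoc_of% h1, ← a.map_comp_assoc, h5, a.map_comp, assoc]
    exact (assoc _ _ _).symm.trans ((congrArg (fun k => k ≫ _) h6.symm).trans (assoc _ _ _))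
  have h10 : (T'.obj (a.obj (R.obj (J.X n)))).map (singleObjXSelf (ComplexShape.up ℤ) 0 (a.obj B)).inv ≫
      (T'.obj (a.obj (R.obj (J.X n)))).map
        (((HomologicalComplex.singleMapHomologicalComplex a (ComplexShape.up ℤ) 0).inv.app B).f 0) ≫
      (T'.obj (a.obj (R.obj (J.X n)))).map (a.map (singleObjXSelf (ComplexShape.up ℤ) 0 B).hom) = 𝟙 _ := by
    rw [h7, ← Functor.map_comp, ← Functor.map_comp, assoc, ← a.map_comp, Iso.inv_hom_id, a.map_id, comp_id,
      Iso.inv_hom_id, CategoryTheory.Functor.map_id]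
  refine (congrArg (fun k => _ ≫ _ ≫ k) h9).trans ?_
  refine Eq.trans ?_ ((congrArg (fun k => k ≫ CxNat.comp τ (R.obj (J.X n)) B ≫
    a.map (adj.counit.app (J.X n)) ≫ j.f n) h10).trans (id_comp _))
  simp only [assoc]
  rfl

/-- The comparison map and its description for `B[0]`. -/
lemma map_uMap_cmp :
    (a.mapHomologicalComplex (ComplexShape.up ℤ)).map (uMap adj J) ≫ cmp τ j (sg B) ≫
      (dualFun T' J').map ((HomologicalComplex.singleMapHomologicalComplex a (ComplexShape.up ℤ) 0).inv.app B).op =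
    (thetaCx τ adj adj' J ≫ (R'.mapHomologicalComplex (ComplexShape.up ℤ)).map j) ≫ uMap adj' J' := by
  have h1 := dualEquiv_tcx τ j (pairing adj J)
  have h2 := dualEquiv_naturality_mid (T := T') (J := J')
    ((HomologicalComplex.singleMapHomologicalComplex a (ComplexShape.up ℤ) 0).inv.app B)
    (tcx τ _ (sg B) ≫ (a.mapHomologicalComplex (ComplexShape.up ℤ)).map (pairing adj J) ≫ j)
  have h3 : (adjCx adj' (ComplexShape.up ℤ)).homEquiv _ J' (zeta τ adj j) =
      thetaCx τ adj adj' J ≫ (R'.mapHomologicalComplex (ComplexShape.up ℤ)).map j := by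
    rw [Adjunction.homEquiv_unit]
    ext n
    change adj'.unit.app _ ≫ R'.map ((zeta τ adj j).f n) = thetaOf τ adj adj' (J.X n) ≫ R'.map (j.f n)
    rw [zeta_f, thetaOf, Adjunction.homEquiv_unit, ← assoc (CxNat.comp τ _ _), R'.map_comp, assoc]
    rfl
  rw [← assoc]
  refine (congrArg (· ≫ _) h1.symm).trans (h2.symm.trans ?_)
  rw [← h3]
  exact uMap_spec adj' _

/-- The comparison map is a quasi-isomorphism for `B[0]`. -/
theorem quasiIso_cmp_single (hθ : ∀ n, IsIso (thetaOf τ adj adj' (J.X n)))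
    (hj : QuasiIso ((R'.mapHomologicalComplex (ComplexShape.up ℤ)).map j)) : QuasiIso (cmp τ j (sg B)) := by
  have h := map_uMap_cmp τ adj adj' j
  have h1 : IsIso (thetaCx τ adj adj' J) := by
    have : ∀ n, IsIso ((thetaCx τ adj adj' J).f n) := hθ
    exact Hom.isIso_of_components _
  have h2 : QuasiIso ((a.mapHomologicalComplex (ComplexShape.up ℤ)).map (uMap adj J) ≫ cmp τ j (sg B) ≫
      (dualFun T' J').map
        ((HomologicalComplex.singleMapHomologicalComplex a (ComplexShape.up ℤ) 0).inv.app B).op) := by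
    rw [h]
    infer_instance
  have h3 : QuasiIso (cmp τ j (sg B) ≫ (dualFun T' J').map
      ((HomologicalComplex.singleMapHomologicalComplex a (ComplexShape.up ℤ) 0).inv.app B).op) :=
    quasiIso_of_comp_left ((a.mapHomologicalComplex (ComplexShape.up ℤ)).map (uMap adj J)) _
  exact quasiIso_of_comp_right _ ((dualFun T' J').map
      ((HomologicalComplex.singleMapHomologicalComplex a (ComplexShape.up ℤ) 0).inv.app B).op)

end Cmp

end Groth.Agent.Sga4h.BidLimSingle
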