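import Groth.Agent.Sga4h.BidLimAbs
import Groth.Agent.Sga4h.BidLimSingle
import Groth.Agent.Sga4h.BidEtCmp
import Groth.Agent.Sga4h.BidWayOp

/-!
# The comparison of duality functors on bounded complexes, abstractly

`A : DualData T`, `A' : DualData T'`, `a : C ⥤ C'` exact, `τ : a M ⊗ a N ⟶ a (M ⊗ N)`, `α : a A.J ⟶ A'.J`.
* `cmp_change`: change of the dualizing complexes;
* `qis_of_way`: `cmp τ α E` is a quasi-isomorphism on all objects reached by a way-out principle from objects `M`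
  with `a Hom(M, J) ⟶ Hom(a M, J')` a quasi-isomorphism.
-/

set_option autoImplicit false
set_option linter.unusedSectionVars false
set_option backward.defeqAttrib.useBackward true
set_option backward.isDefEq.respectTransparency false

universe v₁ v₂ u₁ u₂

namespace Groth.Agent.Sga4h.BidCmpAbs538

open CategoryTheory Category Limits HomologicalComplex CochainComplex Opposite ZeroObject
open Groth.Agent.Sga4h.DualCx Groth.Agent.PerfC Groth.Agent.Sga4h.BidCmp Groth.Agent.Sga4h.HomCx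
open Groth.Agent.Dcoh.DerAdj Groth.Agent.Sga4h.Refl Groth.Agent.Sga4h.BidEtCmp Groth.Agent.Sga4h.BidLimSingle
open Groth.Agent.Sga4h.BidWayOp

attribute [local instance] BidLimSingle.additive_flip_obj

variable {C : Type u₁} [Category.{v₁} C] [Abelian C] {T : C ⥤ C ⥤ C} [T.Additive] [∀ X, (T.obj X).Additive]
  [∀ (K₁ K₂ : CochainComplex C ℤ), CochainComplex.HasMapBifunctor K₁ K₂ T]
  [∀ E : CochainComplex C ℤ, (T.map₂CochainComplex.flip.obj E).IsLeftAdjoint]
  {C' : Type u₂} [Category.{v₂} C'] [Abelian C'] {T' : C' ⥤ C' ⥤ C'} [T'.Additive] [∀ X, (T'.obj X).Additive]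
  [∀ (K₁ K₂ : CochainComplex C' ℤ), CochainComplex.HasMapBifunctor K₁ K₂ T']
  [∀ E : CochainComplex C' ℤ, (T'.map₂CochainComplex.flip.obj E).IsLeftAdjoint]
  {a : C ⥤ C'} [a.Additive]
  (τ : a ⋙ T' ⋙ (Functor.whiskeringLeft _ _ _).obj a ⟶ T ⋙ (Functor.whiskeringRight _ _ _).obj a)

/-- Change of the dualizing complexes. -/
theorem cmp_change {J J₁ : CochainComplex C ℤ} {J' J₁' : CochainComplex C' ℤ} (p : J ⟶ J₁)
    (α : (a.mapHomologicalComplex (ComplexShape.up ℤ)).obj J₁ ⟶ J₁') (p' : J₁' ⟶ J')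
    (E : CochainComplex C ℤ) :
    BidCmp.cmp τ ((a.mapHomologicalComplex (ComplexShape.up ℤ)).map p ≫ α ≫ p') E =
      (a.mapHomologicalComplex (ComplexShape.up ℤ)).map (dualJ (T := T) p E) ≫ BidCmp.cmp τ α E ≫
        dualJ (T := T') p' _ := by
  have h1 : dualEquiv T _ E J₁ (cev T J E ≫ p) = dualJ (T := T) p E := by
    rw [dualEquiv_naturality_right, dualEquiv_cev, id_comp]
  have h2 := dualEquiv_tcx τ α (cev T J E ≫ p)
  rw [h1] at h2
  refine Eq.trans ?_ (assoc ((a.mapHomologicalComplex (ComplexShape.up ℤ)).map (dualJ (T := T) p E))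
    (BidCmp.cmp τ α E) (dualJ (T := T') p' _))
  rw [← h2, ← dualEquiv_naturality_right, BidCmp.cmp]
  simp only [Functor.map_comp, assoc]

section Way

variable [PreservesFiniteLimits a] [PreservesFiniteColimits a]
  (A : DualData T) (A' : DualData T')
  (α : (a.mapHomologicalComplex (ComplexShape.up ℤ)).obj A.J ⟶ A'.J)

/-- `E ↦ a (D E)`. -/
noncomputable def F₁ (a : C ⥤ C') [a.Additive] (J : CochainComplex C ℤ) (T : C ⥤ C ⥤ C) [T.Additive]
    [∀ X, (T.obj X).Additive]
    [∀ (K₁ K₂ : CochainComplex C ℤ), CochainComplex.HasMapBifunctor K₁ K₂ T]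
    [∀ E : CochainComplex C ℤ, (T.map₂CochainComplex.flip.obj E).IsLeftAdjoint] :
    (CochainComplex C ℤ)ᵒᵖ ⥤ CochainComplex C' ℤ :=
  dualFun T J ⋙ a.mapHomologicalComplex (ComplexShape.up ℤ)

/-- `E ↦ D' (a E)`. -/
noncomputable def F₂ (a : C ⥤ C') [a.Additive] (J' : CochainComplex C' ℤ) (T' : C' ⥤ C' ⥤ C') [T'.Additive]
    [∀ X, (T'.obj X).Additive]
    [∀ (K₁ K₂ : CochainComplex C' ℤ), CochainComplex.HasMapBifunctor K₁ K₂ T']
    [∀ E : CochainComplex C' ℤ, (T'.map₂CochainComplex.flip.obj E).IsLeftAdjoint] :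
    (CochainComplex C ℤ)ᵒᵖ ⥤ CochainComplex C' ℤ :=
  (a.mapHomologicalComplex (ComplexShape.up ℤ)).op ⋙ dualFun T' J'

/-- The comparison map as a natural transformation. -/
noncomputable def η {J : CochainComplex C ℤ} {J' : CochainComplex C' ℤ}
    (α : (a.mapHomologicalComplex (ComplexShape.up ℤ)).obj J ⟶ J') : F₁ a J T ⟶ F₂ a J' T' where
  app E := BidCmp.cmp τ α E.unop
  naturality _ _ f := BidCmp.cmp_naturality τ α f.unop

variable [∀ (J : Type), HasColimitsOfShape (Discrete J) C]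
  [∀ (J : Type), (colim : (Discrete J ⥤ C) ⥤ C).PreservesMonomorphisms]
  [∀ (J : Type), HasColimitsOfShape (Discrete J) C']
  [∀ (J : Type), (colim : (Discrete J ⥤ C') ⥤ C').PreservesMonomorphisms]

instance zero_F₁ (A : DualData T) : (F₁ a A.J T).PreservesZeroMorphisms where
  map_zero X Y := by
    change (a.mapHomologicalComplex (ComplexShape.up ℤ)).map (A.F.map 0) = 0
    rw [A.F.map_zero, Functor.map_zero]

instance zero_F₂ (A' : DualData T') : (F₂ a A'.J T').PreservesZeroMorphisms where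
  map_zero X Y := by
    change A'.F.map ((a.mapHomologicalComplex (ComplexShape.up ℤ)).map 0).op = 0
    rw [Functor.map_zero, op_zero, A'.F.map_zero]

theorem exactOp_F₁ : ExactOp (F₁ a A.J T) := fun S hS => by
  have h : ((A.dualSC S).map (a.mapHomologicalComplex (ComplexShape.up ℤ))).ShortExact :=
    BidLimAbs.CmpData.shortExact_ac (A.shortExact_dualSC hS)
  exact h

theorem exactOp_F₂ : ExactOp (F₂ a A'.J T') := fun S hS => by
  have h : (A'.dualSC (S.map (a.mapHomologicalComplex (ComplexShape.up ℤ)))).ShortExact :=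
    A'.shortExact_dualSC (BidLimAbs.CmpData.shortExact_ac hS)
  exact h

theorem qisOp_F₁ : QisOp (F₁ a A.J T) := fun _ _ f hf => by
  change QuasiIso ((a.mapHomologicalComplex (ComplexShape.up ℤ)).map (A.Dmap f))
  infer_instance

theorem qisOp_F₂ : QisOp (F₂ a A'.J T') := fun _ _ f hf => by
  change QuasiIso (A'.Dmap ((a.mapHomologicalComplex (ComplexShape.up ℤ)).map f))
  infer_instance

omit [∀ (J : Type), HasColimitsOfShape (Discrete J) C]
  [∀ (J : Type), (colim : (Discrete J ⥤ C) ⥤ C).PreservesMonomorphisms]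
  [∀ (J : Type), HasColimitsOfShape (Discrete J) C']
  [∀ (J : Type), (colim : (Discrete J ⥤ C') ⥤ C').PreservesMonomorphisms] in
/-- `D (M[0])` is bounded below. -/
theorem isGE_D_single (J : CochainComplex C ℤ) (n : ℤ) [J.IsStrictlyGE n] (M : C)
    [(T.flip.obj M).IsLeftAdjoint] : ((dualFun T J).obj (op (sg M))).IsGE n := by
  let R := (T.flip.obj M).rightAdjoint
  let adj : T.flip.obj M ⊣ R := Adjunction.ofIsLeftAdjoint _
  have : R.Additive := adj.right_adjoint_additive
  have h1 : CochainComplex.IsStrictlyGE ((R.mapHomologicalComplex (ComplexShape.up ℤ)).obj J) n := inferInstance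
  exact CochainComplex.isGE_of_iso (asIso (uMap adj J)) n

omit [∀ (J : Type), HasColimitsOfShape (Discrete J) C]
  [∀ (J : Type), (colim : (Discrete J ⥤ C) ⥤ C).PreservesMonomorphisms]
  [∀ (J : Type), HasColimitsOfShape (Discrete J) C']
  [∀ (J : Type), (colim : (Discrete J ⥤ C') ⥤ C').PreservesMonomorphisms] in
theorem isGE_F₁ (J : CochainComplex C ℤ) (n : ℤ) [J.IsStrictlyGE n] (M : C)
    [(T.flip.obj M).IsLeftAdjoint] :
    ((F₁ a J T).obj (op ((CochainComplex.singleFunctor C 0).obj M))).IsGE n := by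
  have h := isGE_D_single (T := T) J n M
  rw [isGE_iff] at h ⊢
  intro i hi
  exact (h i hi).map a

omit [PreservesFiniteLimits a] [PreservesFiniteColimits a]
  [∀ (J : Type), HasColimitsOfShape (Discrete J) C]
  [∀ (J : Type), (colim : (Discrete J ⥤ C) ⥤ C).PreservesMonomorphisms]
  [∀ (J : Type), HasColimitsOfShape (Discrete J) C']
  [∀ (J : Type), (colim : (Discrete J ⥤ C') ⥤ C').PreservesMonomorphisms] in
theorem isGE_F₂ (J' : CochainComplex C' ℤ) (n : ℤ) [J'.IsStrictlyGE n] (M : C)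
    [(T'.flip.obj (a.obj M)).IsLeftAdjoint] :
    ((F₂ a J' T').obj (op ((CochainComplex.singleFunctor C 0).obj M))).IsGE n := by
  have h := isGE_D_single (T := T') J' n (a.obj M)
  let e : (dualFun T' J').obj (op (sg (a.obj M))) ≅
      (F₂ a J' T').obj (op ((CochainComplex.singleFunctor C 0).obj M)) :=
    (dualFun T' J').mapIso ((HomologicalComplex.singleMapHomologicalComplex a (ComplexShape.up ℤ) 0).app M).op
  exact CochainComplex.isGE_of_iso e n

/-- The comparison map is a quasi-isomorphism, by a way-out principle. -/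
theorem qis_of_way (K P : ObjectProperty C) (Q : CochainComplex C ℤ → Prop) (n n' : ℤ)
    [A.J.IsStrictlyGE n] [A'.J.IsStrictlyGE n']
    [∀ M : C, (T.flip.obj M).IsLeftAdjoint] [∀ M : C', (T'.flip.obj M).IsLeftAdjoint]
    (way : ∀ (F G : (CochainComplex C ℤ)ᵒᵖ ⥤ CochainComplex C' ℤ) [F.PreservesZeroMorphisms]
      [G.PreservesZeroMorphisms] (η : F ⟶ G), ExactOp F → ExactOp G → QisOp F → QisOp G → ∀ N : ℤ,
      (∀ M, K M → (F.obj (op ((CochainComplex.singleFunctor C 0).obj M))).IsGE N) →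
      (∀ M, K M → (G.obj (op ((CochainComplex.singleFunctor C 0).obj M))).IsGE N) →
      (∀ M, P M → QuasiIso (η.app (op ((CochainComplex.singleFunctor C 0).obj M)))) →
      ∀ E, Q E → QuasiIso (η.app (op E)))
    (hP : ∀ M, P M → ∃ (R : C ⥤ C) (_ : R.Additive) (adj : T.flip.obj M ⊣ R)
      (R' : C' ⥤ C') (_ : R'.Additive) (adj' : T'.flip.obj (a.obj M) ⊣ R'),
      (∀ n, IsIso (thetaOf τ adj adj' (A.J.X n))) ∧
        QuasiIso ((R'.mapHomologicalComplex (ComplexShape.up ℤ)).map α))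
    (E : CochainComplex C ℤ) (hE : Q E) : QuasiIso (BidCmp.cmp τ α E) := by
  refine way (F₁ a A.J T) (F₂ a A'.J T') (η τ α) (exactOp_F₁ A) (exactOp_F₂ A') (qisOp_F₁ A) (qisOp_F₂ A')
    (min n n') (fun M _ => ?_) (fun M _ => ?_) (fun M hM => ?_) E hE
  · have := isGE_F₁ (T := T) (a := a) A.J n M
    exact CochainComplex.isGE_of_ge _ (min n n') n (min_le_left _ _)
  · have := isGE_F₂ (T' := T') (a := a) A'.J n' M
    exact CochainComplex.isGE_of_ge _ (min n n') n' (min_le_right _ _)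
  · obtain ⟨R, _, adj, R', _, adj', h1, h2⟩ := hP M hM
    exact quasiIso_cmp_single τ adj adj' α h1 h2

/-- Existence of the comparison of duality. -/
theorem exists_cmp (B : DualData T) (B' : DualData T')
    (hσ : ∀ M N : C, (B'.S.σ (a.obj M) (a.obj N)).hom ≫ (τ.app M).app N =
      (τ.app N).app M ≫ a.map (B.S.σ M N).hom)
    (p : B.J ⟶ A.J) [QuasiIso p] (p' : A'.J ⟶ B'.J) [QuasiIso p'] (Q : CochainComplex C ℤ → Prop)
    (h : ∀ E, Q E → QuasiIso (BidCmp.cmp τ α E)) :
    ∃ c : ∀ E : CochainComplex C ℤ, (a.mapHomologicalComplex (ComplexShape.up ℤ)).obj (B.D E) ⟶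
        B'.D ((a.mapHomologicalComplex (ComplexShape.up ℤ)).obj E),
      (∀ E : CochainComplex C ℤ, (a.mapHomologicalComplex (ComplexShape.up ℤ)).map (B.ev E) ≫ c (B.D E) =
        B'.ev ((a.mapHomologicalComplex (ComplexShape.up ℤ)).obj E) ≫ B'.Dmap (c E)) ∧
      ∀ E, Q E → QuasiIso (c E) := by
  let W : BidLimAbs.CmpData B B' a :=
    { τ := τ
      symm := hσ
      α := (a.mapHomologicalComplex (ComplexShape.up ℤ)).map p ≫ α ≫ p' }
  refine ⟨fun E => W.cmp E, fun E => W.map_ev_comp_cmp E, fun E hE => ?_⟩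
  change QuasiIso (BidCmp.cmp τ ((a.mapHomologicalComplex (ComplexShape.up ℤ)).map p ≫ α ≫ p') E)
  rw [cmp_change]
  have := B.kinj
  have := B'.kinj
  have := A.kinj
  have := A'.kinj
  have h1 := quasiIso_dualJ (T := T) p E
  have h2 := quasiIso_dualJ (T := T') p' ((a.mapHomologicalComplex (ComplexShape.up ℤ)).obj E)
  have h3 := h E hE
  infer_instance

end Way

end Groth.Agent.Sga4h.BidCmpAbs538
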