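import Groth.Agent.Sga4h.LamPres857

/-!
# Presentation of constructible sheaves in terms of coproducts

`exists_epi_cofan`: a constructible sheaf is a quotient of a finite coproduct of sheaves `Λ[U]` (statement without
zero morphisms).  `isConstructible_kernel_of`: kernels of morphisms of constructible sheaves, for any structure of
category with zero morphisms.
-/

set_option autoImplicit false
universe u v w

open CategoryTheory CategoryTheory.Limits AlgebraicGeometry Opposite

namespace Groth.Agent.Sga4h.BidCmpPres756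

open Groth.Agent.Etcore.LFree

section Gen

variable {C : Type u} [Category.{v} C]

theorem nonempty_kernel_iso (i₁ i₂ : HasZeroMorphisms C) {X Y : C} (f : X ⟶ Y)
    (h₁ : @HasKernel C _ i₁ X Y f) (h₂ : @HasKernel C _ i₂ X Y f) :
    Nonempty (@kernel C _ i₁ X Y f h₁ ≅ @kernel C _ i₂ X Y f h₂) := by
  obtain rfl : i₁ = i₂ := Subsingleton.elim _ _
  exact ⟨Iso.refl _⟩

end Gen

variable {Λ : Type (u + 1)} [CommRing Λ] {X : Scheme.{u}}

/-- A constructible sheaf is a quotient of a finite coproduct of sheaves `Λ[U]`. -/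
theorem exists_epi_cofan [IsNoetherianRing Λ] [CompactSpace X] [QuasiSeparatedSpace X]
    (F : EtModW.Mod Λ X) (hF : EtModW.IsConstructible Λ F) :
    ∃ (n : ℕ) (U : Fin n → X.Etale) (_ : ∀ i, IsAffine (U i).left) (Z : EtModW.Mod Λ X)
      (ι : ∀ i, LM Λ (U i) ⟶ Z) (_ : Nonempty (IsColimit (Cofan.mk Z ι))) (p : Z ⟶ F), Epi p := by
  have : HasFiniteBiproducts (EtModW.Mod Λ X) := Abelian.hasFiniteBiproducts
  obtain ⟨n, U, hU, s, hs⟩ := LamPres857.exists_epi F hF
  exact ⟨n, U, hU, _, biproduct.ι (fun i => LM Λ (U i)), ⟨biproduct.isColimit _⟩, LamPres857.mor U s, hs⟩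

/-- A finite coproduct of sheaves `Λ[U]`, `U` affine, is constructible. -/
theorem isConstructible_cofan [IsNoetherianRing Λ] [IsNoetherian X] {n : ℕ} {U : Fin n → X.Etale}
    (hU : ∀ i, IsAffine (U i).left) {Z : EtModW.Mod Λ X}
    {ι : ∀ i, LM Λ (U i) ⟶ Z} (h : IsColimit (Cofan.mk Z ι)) : EtModW.IsConstructible Λ Z := by
  have : HasFiniteBiproducts (EtModW.Mod Λ X) := Abelian.hasFiniteBiproducts
  have e : (⨁ fun i => LM Λ (U i)) ≅ Z := (biproduct.isColimit _).coconePointUniqueUpToIso h
  refine Etrest.ModCons.isConstructible_of_iso e (LamSerre.isConstructible_biproduct _ fun i => ?_)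
  have := hU i
  exact Etcore.LFreePull.isConstructible_LM_of_affine (U i)

/-- The kernel of a morphism of constructible sheaves is constructible (for any structure of category with zero
morphisms). -/
theorem isConstructible_kernel_of [IsNoetherianRing Λ] [IsNoetherian X] (i : HasZeroMorphisms (EtModW.Mod Λ X))
    {F G : EtModW.Mod Λ X} (φ : F ⟶ G) (h : @HasKernel _ _ i F G φ)
    (hF : EtModW.IsConstructible Λ F) : EtModW.IsConstructible Λ (@kernel _ _ i F G φ h) :=
  Etrest.ModCons.isConstructible_of_iso (nonempty_kernel_iso _ i φ _ h).some (LamSerre.isConstructible_kernel φ hF)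

end Groth.Agent.Sga4h.BidCmpPres756
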