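import Groth.Agent.Sga4h.BidCon48
import Groth.Agent.Etcore.LFinite
import Groth.Agent.Etrest.ModAb
import Groth.Agent.Sga4h.EtPts

/-!
# Constructibility from the pullbacks to finitely many schemes covering the non-closed points (sheaves of modules)

The version of `BidCon48.isConstructible_of_pulls` for sheaves of modules over a finite ring `Λ`.
-/

set_option autoImplicit false
universe u

open CategoryTheory CategoryTheory.Limits AlgebraicGeometry Opposite TopologicalSpace

namespace Groth.Agent.Sga4h.BidConMod48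

variable {Λ : Type (u + 1)} [CommRing Λ] {X : Scheme.{u}}

/-- The underlying abelian sheaf of a sheaf of `Λ`-modules is killed by `n` if `n = 0` in `Λ`. -/
theorem killedBy_ab {n : ℕ} (hn : (n : Λ) = 0) (F : EtModW.Mod Λ X) :
    EtCoh.KilledBy n ((EtModD.forgetToAb Λ X).obj F) := by
  intro U s
  let s' : EtModW.sect Λ F U := s
  have h : n • s' = 0 := by
    rw [← Nat.cast_smul_eq_nsmul Λ, hn, zero_smul]
  exact h

/-- Morphisms from the constant sheaf `Λ` are global sections. -/
noncomputable def homConstEquiv (F : EtModW.Mod Λ X) :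
    (EtModW.constMod Λ X Λ ⟶ F) ≃ EtModW.sect Λ F (EtCoh.top X) :=
  ((constantSheafAdj X.smallEtaleTopology (ModuleCat.{u + 1} Λ) (EtCore.topIsTerminal X)).homEquiv
    (ModuleCat.of Λ Λ) F).trans
    ((ModuleCat.homEquiv (M := ModuleCat.of Λ Λ)
      (N := F.obj.obj (op (EtCoh.top X)))).trans (LinearMap.ringLmapEquivSelf Λ Λ _).toEquiv)

/-- Constructibility of inverse images can be tested on underlying abelian sheaves. -/
theorem isConstructible_pull_ab_iff [Finite Λ] {Y : Scheme.{u}} (f : Y ⟶ X) (F : EtModW.Mod Λ X) :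
    EtModW.IsConstructible Λ ((EtModW.pull Λ f).obj F) ↔
      EtPBC.IsConstructible ((EtCoh.pull f).obj ((EtModD.forgetToAb Λ X).obj F)) := by
  rw [Etcore.LFinite.isConstructible_iff_ab]
  have e : (EtModD.forgetToAb Λ Y).obj ((EtModW.pull Λ f).obj F) ≅
      (EtCoh.pull f).obj ((EtModD.forgetToAb Λ X).obj F) := (Etrest.ModAb.pullIso Λ f).app F
  exact ⟨fun h => EtpbcA.StrataGlob.isConstructible_of_iso e h,
    fun h => EtpbcA.StrataGlob.isConstructible_of_iso e.symm h⟩

/-- **Constructibility criterion (CON)**: let `X` be of finite type over a separably closed field, `g i : X' i ⟶ X` a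
finite family of morphisms from qcqs schemes whose images contain all non-closed points, `Λ` a finite ring with
`n = 0` in `Λ`. A sheaf of `Λ`-modules `F` on `X` is constructible if the inverse images `(g i)⁻¹ F` are constructible, if `F(X)` is
finite and if `H¹(X, G)` is finite for every constructible abelian sheaf killed by `n`. -/
theorem isConstructible_of_pulls [Finite Λ] {k : Type u} [Field k] [IsSepClosed k] (a : X ⟶ Spec (.of k))
    [LocallyOfFiniteType a] [QuasiCompact a] {n : ℕ} (hn : 0 < n) (hΛ : (n : Λ) = 0) (F : EtModW.Mod Λ X)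
    {ι : Type*} [Finite ι] (X' : ι → Scheme.{u}) (g : ∀ i, X' i ⟶ X)
    [∀ i, CompactSpace (X' i)] [∀ i, QuasiSeparatedSpace (X' i)]
    (hcov : ∀ x : X, (∀ i, x ∉ Set.range (g i)) → IsClosed {x})
    (hF : ∀ i, EtModW.IsConstructible Λ ((EtModW.pull Λ (g i)).obj F))
    (h0 : Finite (EtModW.sect Λ F (EtCoh.top X)))
    (h1 : ∀ G : EtCoh.Ab X, EtCoh.KilledBy n G → EtPBC.IsConstructible G → Finite (EtCoh.H X G 1)) :
    EtModW.IsConstructible Λ F := by
  rw [Etcore.LFinite.isConstructible_iff_ab]
  exact BidCon48.isConstructible_of_pulls a hn _ (killedBy_ab hΛ F) X' g hcov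
    (fun i => (isConstructible_pull_ab_iff (g i) F).1 (hF i)) h0 h1

/-- `isConstructible_of_pulls` with the finiteness of `F(X)` expressed by morphisms from the constant sheaf. -/
theorem isConstructible_of_pulls_hom [Finite Λ] {k : Type u} [Field k] [IsSepClosed k] (a : X ⟶ Spec (.of k))
    [LocallyOfFiniteType a] [QuasiCompact a] {n : ℕ} (hn : 0 < n) (hΛ : (n : Λ) = 0) (F : EtModW.Mod Λ X)
    {ι : Type*} [Finite ι] (X' : ι → Scheme.{u}) (g : ∀ i, X' i ⟶ X)
    [∀ i, CompactSpace (X' i)] [∀ i, QuasiSeparatedSpace (X' i)]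
    (hcov : ∀ x : X, (∀ i, x ∉ Set.range (g i)) → IsClosed {x})
    (hF : ∀ i, EtModW.IsConstructible Λ ((EtModW.pull Λ (g i)).obj F))
    (h0 : Finite (EtModW.constMod Λ X Λ ⟶ F))
    (h1 : ∀ G : EtCoh.Ab X, EtCoh.KilledBy n G → EtPBC.IsConstructible G → Finite (EtCoh.H X G 1)) :
    EtModW.IsConstructible Λ F :=
  isConstructible_of_pulls a hn hΛ F X' g hcov hF (Finite.of_equiv _ (homConstEquiv F)) h1

end Groth.Agent.Sga4h.BidConMod48
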