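import Groth.Agent.Sga4h.BidGlobSky
import Groth.Agent.EtpbcA.ConsCrit
import Groth.Agent.EtpbcA.StalkTools
import Groth.Agent.CurvesA.ClosedPtSep

/-!
# Abelian sheaves supported on closed points with separably closed residue field

`X` a scheme, `Q` an abelian sheaf on the small étale site of `X` all of whose germs at the non-closed points
vanish; the residue fields of the closed points are separably closed.

* `exists_section`: every germ of `Q` at a closed point `x` comes from a global section with vanishing germs at the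
  other points.
* `isConstructible_of_finite`: if `X` is Noetherian and `Q(X)` is finite, then `Q` is constructible.
-/

set_option autoImplicit false
universe u

open CategoryTheory CategoryTheory.Limits AlgebraicGeometry Opposite TopologicalSpace

namespace Groth.Agent.Sga4h.BidConSky48

open Groth.Agent.Etbase Groth.Agent.Etcore Groth.Agent.EtpbcA Groth.Agent.EtpbcA.ConsVan
open Groth.Agent.Sga4h.BidGlobSky (openEt openι finite_of_closed_points isClosed_singleton_of_hom)

set_option backward.isDefEq.respectTransparency.types false in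
/-- The residue field map of an étale morphism is bijective at a point whose image has separably closed residue
field. -/
theorem isIso_residueFieldMap {X V : Scheme.{u}} (f : V ⟶ X) [Etale f] (v : V)
    (hsep : IsSepClosed (X.residueField (f v))) : IsIso (f.residueFieldMap v) := by
  let m := (f.residueFieldMap v).hom
  dsimp at m
  algebraize [m]
  have : Function.Bijective (algebraMap (X.residueField (f v)) (V.residueField v)) :=
    IsSepClosed.algebraMap_bijective _ _
  exact (ConcreteCategory.isIso_iff_bijective (f.residueFieldMap v)).2 this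

set_option backward.isDefEq.respectTransparency false in
/-- Two geometric points of an étale `V ⟶ X` with the same centre `v` and the same image in `X` are equal if the
residue field of the image of `v` is separably closed. -/
theorem eq_of_hom_eq {X V : Scheme.{u}} (f : V ⟶ X) [Etale f] (v : V)
    (hsep : IsSepClosed (X.residueField (f v))) {Ω : Type u} [Field Ω] (a b : Spec (.of Ω) ⟶ V) (ha : a default = v) (hb : b default = v)
    (hab : a ≫ f = b ≫ f) : a = b := by
  obtain ⟨⟨w, φ⟩, h1⟩ := (Scheme.SpecToEquivOfField _ V).symm.surjective a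
  obtain ⟨⟨w', φ'⟩, h2⟩ := (Scheme.SpecToEquivOfField _ V).symm.surjective b
  have e1 : a = Spec.map φ ≫ V.fromSpecResidueField w := h1.symm
  have e2 : b = Spec.map φ' ≫ V.fromSpecResidueField w' := h2.symm
  have hw : a default = w := by
    rw [e1, Scheme.Hom.comp_apply]
    exact Scheme.fromSpecResidueField_apply _ _
  have hw' : b default = w' := by
    rw [e2, Scheme.Hom.comp_apply]
    exact Scheme.fromSpecResidueField_apply _ _
  obtain rfl : v = w := by rw [← hw, ha]
  obtain rfl : v = w' := by rw [← hw', hb]
  have := isIso_residueFieldMap f v hsep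
  have e3 : ∀ (ψ : V.residueField v ⟶ .of Ω), (Spec.map ψ ≫ V.fromSpecResidueField v) ≫ f =
      Spec.map (f.residueFieldMap v ≫ ψ) ≫ X.fromSpecResidueField (f v) := fun ψ => by
    rw [Category.assoc, ← Scheme.Hom.SpecMap_residueFieldMap_fromSpecResidueField, Spec.map_comp, Category.assoc]
  rw [e1, e2, e3, e3, cancel_mono, Spec.map_inj, cancel_epi] at hab
  rw [e1, e2, hab]

variable {X : Scheme.{u}}

/-- Gluing of sections of an abelian étale sheaf. -/
theorem exists_glue (F : EtCoh.Ab X) {ι : Type*} {U : ι → X.Etale} {W : X.Etale} (f : ∀ i, U i ⟶ W)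
    (hcov : ∀ w : W.left, ∃ (i : ι) (u : (U i).left), (f i).left u = w) (s : ∀ i, EtCoh.sect F (U i))
    (hs : ∀ (i j : ι) (Z : X.Etale) (a : Z ⟶ U i) (b : Z ⟶ U j), a ≫ f i = b ≫ f j →
      res F a (s i) = res F b (s j)) :
    ∃ t : EtCoh.sect F W, ∀ i, res F (f i) t = s i := by
  have hsh : Presieve.IsSheaf X.smallEtaleTopology (F.obj ⋙ forget AddCommGrpCat.{u + 1}) :=
    (isSheaf_iff_isSheaf_of_type _ _).1
      ((Presheaf.isSheaf_iff_isSheaf_forget _ _ (forget AddCommGrpCat.{u + 1})).1 F.property)
  have hmem : Sieve.ofArrows U f ∈ X.smallEtaleTopology W := by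
    rw [EtSite.mem_iff]
    intro w
    obtain ⟨i, u, hu⟩ := hcov w
    exact ⟨U i, f i, u, Sieve.ofArrows_mk _ _ i, hu⟩
  have h1 := (Presieve.isSheafFor_iff_generate (P := F.obj ⋙ forget _) (Presieve.ofArrows U f)).2 (hsh _ hmem)
  rw [Presieve.isSheafFor_arrows_iff] at h1
  obtain ⟨a, ha, _⟩ := h1 (fun i => s i) (fun i j Z gi gj hij => hs i j Z gi gj hij)
  exact ⟨a, ha⟩

/-- If `a, b : Z ⟶ V` hit the same point `v` at `z` and the residue field of the image of `v` in `X` is separably
closed, then pulling back a section along `a` and `b` gives the same germ at `z`. -/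
theorem van_sub_of_eq (F : EtCoh.Ab X) {V Z : X.Etale} (a b : Z ⟶ V) (z : Z.left) (hz : a.left z = b.left z)
    (hsep : IsSepClosed (X.residueField (V.hom (a.left z)))) (t : EtCoh.sect F V) :
    Van F (res F a t - res F b t) z := by
  obtain ⟨Ω, _, _, ζ, hζ⟩ := StalkTools.exists_geomPt z
  have hV : Etale V.hom := V.prop
  have ha : a.left ≫ V.hom = Z.hom := MorphismProperty.Over.w a
  have hb : b.left ≫ V.hom = Z.hom := MorphismProperty.Over.w b
  have key : ζ ≫ a.left = ζ ≫ b.left := by
    refine eq_of_hom_eq V.hom (a.left z) hsep _ _ ?_ ?_ ?_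
    · rw [Scheme.Hom.comp_apply, hζ]
    · rw [Scheme.Hom.comp_apply, hζ, hz]
    · rw [Category.assoc, Category.assoc, ha, hb]
  let y := StalkTools.fibMk ζ
  have hy : (Scheme.pointSmallEtale (ζ ≫ Z.hom)).fiber.map a y =
      (Scheme.pointSmallEtale (ζ ≫ Z.hom)).fiber.map b y := Over.OverMorphism.ext key
  have h1 := StalkTools.germ_res (F := F) (ζ ≫ Z.hom) a y t
  have h2 := StalkTools.germ_res (F := F) (ζ ≫ Z.hom) b y t
  rw [hy, ← h2, StalkTools.germ_eq_iff] at h1
  obtain ⟨W, g, w, hw, hg⟩ := h1
  refine ⟨W, g, StalkTools.fibPt _ w, ?_, ?_⟩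
  · rw [← StalkTools.fibPt_map, hw]
    exact hζ
  · rw [map_sub, sub_eq_zero]
    exact hg

/-- Shrinking an étale neighbourhood `(V, v)` of a closed point `x` so that `v` is the only point above `x` and the
only point where the germ of `t` is nonzero. -/
theorem exists_shrink [IsLocallyNoetherian X] (Q : EtCoh.Ab X)
    (hQ : ∀ (U : X.Etale) (s : EtCoh.sect Q U) (u : U.left), ¬ IsClosed {U.hom u} → Van Q s u)
    (V : X.Etale) (v : V.left) (hx : IsClosed {V.hom v}) (t : EtCoh.sect Q V) :
    ∃ (W : X.Etale) (f : W ⟶ V) (w : W.left), f.left w = v ∧ (∀ w', W.hom w' = V.hom v → w' = w) ∧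
      ∀ w', w' ≠ w → Van Q (res Q f t) w' := by
  have hVe : Etale V.hom := V.prop
  let Z : Set V.left := {w | Van Q t w}ᶜ ∪ V.hom ⁻¹' {V.hom v}
  have hZc : IsClosed Z := (isOpen_van t).isClosed_compl.union (hx.preimage V.hom.continuous)
  have hZp : ∀ z ∈ Z, IsClosed ({z} : Set V.left) := by
    rintro z (hz | hz)
    · apply isClosed_singleton_of_hom
      by_contra h
      exact hz (hQ V t z h)
    · apply isClosed_singleton_of_hom
      rwa [show V.hom z = V.hom v from hz]
  obtain ⟨W, hWa, hW, _⟩ := exists_isAffineOpen_mem_and_subset (x := v) (U := ⊤) trivial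
  have hNl : IsLocallyNoetherian V.left :=
    @LocallyOfFiniteType.isLocallyNoetherian _ X V.hom inferInstance ‹IsLocallyNoetherian X›
  have hN : IsNoetherianRing Γ(V.left, W) := IsLocallyNoetherian.component_noetherian ⟨W, hWa⟩
  have hNs : NoetherianSpace W := noetherianSpace_of_isAffineOpen W hWa
  have hfin : (W.ι ⁻¹' Z).Finite := by
    refine finite_of_closed_points (hZc.preimage W.ι.continuous) (fun z hz => ?_)
    have h1 := (hZp (W.ι z) hz).preimage W.ι.continuous
    convert h1 using 1
    ext y
    exact (W.ι.isOpenEmbedding.injective.eq_iff (a := y) (b := z)).symm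
  let B : Set V.left := (W.ι '' (W.ι ⁻¹' Z)) \ {v}
  have hBf : B.Finite := (hfin.image _).subset Set.sdiff_subset
  have hBc : IsClosed B := by
    have : B = ⋃ b ∈ B, {b} := by simp
    rw [this]
    refine hBf.isClosed_biUnion (fun b hb => ?_)
    obtain ⟨⟨b', hb', rfl⟩, _⟩ := hb
    exact hZp _ hb'
  let V' : V.left.Opens := W ⊓ ⟨Bᶜ, hBc.isOpen_compl⟩
  have hV : v ∈ V' := ⟨hW, fun h => h.2 rfl⟩
  have hVB : ∀ w ∈ V', w ∈ Z → w = v := by
    intro w hv hvZ
    by_contra h
    exact hv.2 ⟨⟨⟨w, hv.1⟩, hvZ, rfl⟩, h⟩
  have hcoe : ∀ w' : (openEt V V').left, (openι V V').left w' ∈ V' := fun w' => w'.2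
  refine ⟨openEt V V', openι V V', (⟨v, hV⟩ : V'), rfl, fun w' hw' => ?_, fun w' hw' => ?_⟩
  · apply Subtype.ext
    apply hVB _ w'.2
    exact Or.inr hw'
  · rw [van_res_iff]
    by_contra h
    apply hw'
    apply Subtype.ext
    exact hVB _ w'.2 (Or.inl h)

/-- **Skyscraper lemma**: let `Q` be a sheaf whose germs at the non-closed points vanish, and `x` a closed point with
separably closed residue field; every germ of `Q` at `x` comes from a global section which vanishes away from `x`. -/
theorem exists_section [IsLocallyNoetherian X] (Q : EtCoh.Ab X)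
    (hQ : ∀ (U : X.Etale) (s : EtCoh.sect Q U) (u : U.left), ¬ IsClosed {U.hom u} → Van Q s u)
    (V : X.Etale) (v : V.left) (hx : IsClosed {V.hom v}) (hsep : IsSepClosed (X.residueField (V.hom v)))
    (t : EtCoh.sect Q V) :
    ∃ m : EtCoh.sect Q (EtCoh.top X), (∀ y : X, y ≠ V.hom v → Van Q m y) ∧
      ∀ g : V ⟶ EtCoh.top X, Van Q (t - res Q g m) v := by
  obtain ⟨W, f, w, rfl, hW1, hW2⟩ := exists_shrink Q hQ V v hx t
  have hfw : V.hom (f.left w) = W.hom w := Cover.hom_apply f w
  rw [hfw] at hx hsep hW1 ⊢
  let O : X.Opens := ⟨{W.hom w}ᶜ, hx.isOpen_compl⟩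
  let a : W ⟶ EtCoh.top X := (EtCore.topIsTerminal X).from W
  let b : openEt (EtCoh.top X) O ⟶ EtCoh.top X := openι (EtCoh.top X) O
  have hb : ∀ y : (openEt (EtCoh.top X) O).left, (openEt (EtCoh.top X) O).hom y ≠ W.hom w := fun y => y.2
  have htop : ∀ (Z : X.Etale) (z : Z.left) (g : Z ⟶ EtCoh.top X), g.left z = Z.hom z := by
    intro Z z g
    rw [← Cover.hom_apply g]
    rfl
  let Y : Bool → X.Etale := fun i => Bool.rec (openEt (EtCoh.top X) O) W i
  let F : ∀ i, Y i ⟶ EtCoh.top X := fun i => match i with
    | true => a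
    | false => b
  let S : ∀ i, EtCoh.sect Q (Y i) := fun i => match i with
    | true => res Q f t
    | false => 0
  have hWne : ∀ (Z : X.Etale) (p : Z ⟶ W) (z : Z.left), Z.hom z ≠ W.hom w → Van Q (res Q p (res Q f t)) z := by
    intro Z p z hz
    apply Van.res
    apply hW2
    intro h
    apply hz
    rw [← Cover.hom_apply p, h]
  obtain ⟨m, hm⟩ := exists_glue Q F (by
      intro y
      by_cases hy : y = W.hom w
      · subst hy
        exact ⟨true, w, htop W w a⟩
      · exact ⟨false, (⟨y, hy⟩ : O), rfl⟩) S (by
      rintro (_ | _) (_ | _) Z p q hpq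
      · exact (map_zero _).trans (map_zero _).symm
      · refine (map_zero _).trans (Eq.symm ?_)
        refine eq_zero_of_van _ fun z => ?_
        refine hWne Z q z ?_
        rw [← Cover.hom_apply p]
        exact hb _
      · refine Eq.trans ?_ (map_zero _).symm
        refine eq_zero_of_van _ fun z => ?_
        refine hWne Z p z ?_
        rw [← Cover.hom_apply q]
        exact hb _
      · refine sub_eq_zero.1 (eq_zero_of_van _ fun z => ?_)
        by_cases hz : Z.hom z = W.hom w
        · have h1 : p.left z = w := hW1 _ (by rw [Cover.hom_apply, hz])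
          have h2 : q.left z = w := hW1 _ (by rw [Cover.hom_apply, hz])
          refine van_sub_of_eq Q p q z (h1.trans h2.symm) ?_ (res Q f t)
          rw [h1]
          exact hsep
        · exact (hWne Z p z hz).sub (hWne Z q z hz))
  refine ⟨m, fun y hy => ?_, fun g => ?_⟩
  · have h1 : res Q b m = 0 := hm false
    have h2 : Van Q (res Q b m) (⟨y, hy⟩ : O) := van_zero_of_eq h1 _
    exact Van.of_res b _ h2
  · apply Van.of_res f w
    apply van_zero_of_eq
    have h1 : res Q a m = res Q f t := hm true
    rw [map_sub, sub_eq_zero, ← res_comp, ← h1]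
    congr 2
    exact (EtCore.topIsTerminal X).hom_ext _ _

/-- The global sections of `Q` vanishing away from `x`. -/
noncomputable def suppAt (Q : EtCoh.Ab X) (x : X) : AddSubgroup (EtCoh.sect Q (EtCoh.top X)) where
  carrier := {m | ∀ y : X, y ≠ x → Van Q m y}
  add_mem' := fun h h' y hy => (h y hy).add (h' y hy)
  zero_mem' := fun _ _ => Van.zero _
  neg_mem' := fun h y hy => (h y hy).neg

/-- A sheaf on a Noetherian scheme whose germs at the non-closed points vanish is constructible if it has only
finitely many global sections and the residue fields of the closed points are separably closed. -/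
theorem isConstructible_of_finite [IsNoetherian X] (hsep : ∀ x : X, IsClosed {x} → IsSepClosed (X.residueField x))
    (Q : EtCoh.Ab X)
    (hQ : ∀ (U : X.Etale) (s : EtCoh.sect Q U) (u : U.left), ¬ IsClosed {U.hom u} → Van Q s u)
    (hfin : Finite (EtCoh.sect Q (EtCoh.top X))) : EtPBC.IsConstructible Q := by
  classical
  let S : Set X := {x | IsClosed {x} ∧ ∃ m ∈ suppAt Q x, m ≠ 0}
  have hSfin : S.Finite := by
    have h1 : ∀ x : S, ∃ m ∈ suppAt Q x.1, m ≠ 0 := fun x => x.2.2
    choose m hm hm0 using h1
    have : Function.Injective m := by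
      intro x y hxy
      by_contra hne
      apply hm0 x
      refine eq_zero_of_van _ fun z => ?_
      by_cases hz : z = x.1
      · have h2 := hm y z (by rw [hz]; exact fun h => hne (Subtype.ext h))
        rwa [hxy]
      · exact hm x z hz
    have hfS : Finite S := Finite.of_injective m this
    exact Set.toFinite S
  have hSc : IsClosed S := by
    have : S = ⋃ b ∈ S, {b} := by simp
    rw [this]
    exact hSfin.isClosed_biUnion fun b hb => hb.1
  -- germs outside `S` vanish
  have hout : ∀ (V : X.Etale) (t : EtCoh.sect Q V) (v : V.left), V.hom v ∉ S → Van Q t v := by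
    intro V t v hv
    by_cases hc : IsClosed {V.hom v}
    · obtain ⟨m, hm1, hm2⟩ := exists_section Q hQ V v hc (hsep _ hc) t
      have hm0 : m = 0 := by
        by_contra h
        exact hv ⟨hc, m, hm1, h⟩
      have h := hm2 ((EtCore.topIsTerminal X).from V)
      rwa [hm0, map_zero, sub_zero] at h
    · exact hQ V t v hc
  refine ConsCrit.isConstructible_of_good Q fun x => ?_
  by_cases hx : x ∈ S
  · have hfinS : Finite (suppAt Q x) := inferInstance
    have : Small.{0} (suppAt Q x) := Countable.toSmall _
    let e : Shrink.{0} (suppAt Q x) ≃+ suppAt Q x := Shrink.addEquiv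
    have : Finite (Shrink.{0} (suppAt Q x)) := Finite.of_equiv _ e.symm.toEquiv
    refine ⟨EtCoh.top X, x, rfl, Shrink.{0} (suppAt Q x), inferInstance, inferInstance,
      (suppAt Q x).subtype.comp e.toAddMonoidHom, {x}, ?_, rfl, ?_⟩
    · have h1 : Topology.IsConstructible ({x}ᶜ : Set X) :=
        (NoetherianSpace.isCompact _).isConstructible hx.1.isOpen_compl
      have h2 := h1.compl
      rw [compl_compl] at h2
      exact h2.isLocallyConstructible
    · rintro c rfl
      refine ⟨fun m hm => ?_, fun V g v hv t => ?_⟩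
      · have h0 : (e m : EtCoh.sect Q (EtCoh.top X)) = 0 := by
          refine eq_zero_of_van _ fun z => ?_
          by_cases hz : z = c
          · rw [hz]
            exact hm
          · exact (e m).2 z hz
        have h1 : e m = 0 := Subtype.ext h0
        rwa [EmbeddingLike.map_eq_zero_iff] at h1
      · have hvc : V.hom v = c := by
          rw [← Cover.hom_apply g, hv]
          rfl
        have hc : IsClosed {V.hom v} := by
          rw [hvc]
          exact hx.1
        obtain ⟨m, hm1, hm2⟩ := exists_section Q hQ V v hc (hsep _ hc) t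
        rw [hvc] at hm1
        obtain ⟨m', hm'⟩ := e.surjective ⟨m, hm1⟩
        refine ⟨m', ?_⟩
        have h3 : ((suppAt Q c).subtype.comp e.toAddMonoidHom) m' = m := congrArg Subtype.val hm'
        rw [h3]
        exact hm2 g
  · let O : X.Opens := ⟨Sᶜ, hSc.isOpen_compl⟩
    have hO : ∀ y : (openEt (EtCoh.top X) O).left, (openEt (EtCoh.top X) O).hom y ∉ S := fun y => y.2
    refine ⟨openEt (EtCoh.top X) O, (⟨x, hx⟩ : O), rfl, PUnit, inferInstance, inferInstance, 0, Set.univ,
      ?_, trivial, fun c _ => ⟨fun m _ => Subsingleton.elim _ _, fun V g v hv t => ⟨0, ?_⟩⟩⟩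
    · exact Topology.IsLocallyConstructible.univ
    · rw [AddMonoidHom.zero_apply, map_zero, sub_zero]
      refine hout V t v ?_
      rw [← Cover.hom_apply g]
      exact hO _

end Groth.Agent.Sga4h.BidConSky48
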