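import Groth.Agent.Sga4h.HomCxMono
import Mathlib.Algebra.Homology.HomotopyCategory.KInjective
import Mathlib.Algebra.Homology.HomologySequenceLemmas
import Mathlib.CategoryTheory.Abelian.Refinements
import Mathlib.Algebra.Homology.Refinements

/-!
# The duality functor `K ↦ Hom•(K, J)` on cochain complexes attached to a symmetric bifunctor, abstractly

Setting: `T : C ⥤ C ⥤ C` additive in both variables such that all `- ⊗ E` on complexes
(`E ↦ T.map₂CochainComplex.flip.obj E`) have right adjoints.  For a complex `J` we get the contravariant functor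
`dualFun T J : (CochainComplex C ℤ)ᵒᵖ ⥤ CochainComplex C ℤ` with
`(K ⟶ dualFun T J (op E)) ≃ (K ⊗ E ⟶ J)`.
* `epi_dualFun_map`: it sends monomorphisms to epimorphisms if `J` is termwise injective and there are enough flats.
* `acyclic_dualFun`: it sends acyclic complexes to acyclic complexes if moreover `J` is K-injective.
-/

set_option autoImplicit false
set_option backward.defeqAttrib.useBackward true
set_option backward.isDefEq.respectTransparency false

universe w v₁ v₂ v₃ u₁ u₂ u₃

namespace Groth.Agent.Sga4h.DualCx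

open CategoryTheory Category Limits HomologicalComplex CochainComplex Opposite
open Groth.Agent.Dcoh.CxFun Groth.Agent.Sga4h.HomCx

section RightBi

variable {C₁ : Type u₁} {C₂ : Type u₂} {C₃ : Type u₃} [Category.{v₁} C₁] [Category.{v₂} C₂] [Category.{v₃} C₃]
  (F : C₁ ⥤ C₂ ⥤ C₃) [∀ X, (F.obj X).IsLeftAdjoint]

/-- The right adjoints of the functors `F.obj X`, as a bifunctor. -/
noncomputable def rightBi : C₁ᵒᵖ ⥤ C₃ ⥤ C₂ where
  obj X := (F.obj X.unop).rightAdjoint
  map {X Y} f := conjugateEquiv (Adjunction.ofIsLeftAdjoint (F.obj X.unop))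
    (Adjunction.ofIsLeftAdjoint (F.obj Y.unop)) (F.map f.unop)
  map_id X := by
    rw [unop_id, F.map_id, conjugateEquiv_id]
  map_comp {X Y Z} f g := by
    rw [unop_comp, F.map_comp, conjugateEquiv_comp]

/-- The parametrized adjunction between `F` and `rightBi F`. -/
noncomputable def rightBiAdj : F ⊣₂ rightBi F where
  adj X := Adjunction.ofIsLeftAdjoint (F.obj X)
  unit_whiskerRight_map {X Y} f := by
    ext c
    exact (unit_conjugateEquiv (Adjunction.ofIsLeftAdjoint (F.obj Y)) (Adjunction.ofIsLeftAdjoint (F.obj X))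
      (F.map f) c).symm

end RightBi

section Dual

variable {C : Type u₁} [Category.{v₁} C] [Abelian C] (T : C ⥤ C ⥤ C) [T.Additive] [∀ X, (T.obj X).Additive]
  [∀ (K₁ K₂ : CochainComplex C ℤ), CochainComplex.HasMapBifunctor K₁ K₂ T]
  [∀ E : CochainComplex C ℤ, (T.map₂CochainComplex.flip.obj E).IsLeftAdjoint]

/-- The duality functor `E ↦ Hom•(E, J)`. -/
noncomputable def dualFun (J : CochainComplex C ℤ) : (CochainComplex C ℤ)ᵒᵖ ⥤ CochainComplex C ℤ :=
  (rightBi (T.map₂CochainComplex.flip)).flip.obj J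

/-- `(K ⊗ E ⟶ J) ≃ (K ⟶ Hom•(E, J))`. -/
noncomputable def dualEquiv (K E J : CochainComplex C ℤ) :
    ((T.map₂CochainComplex.obj K).obj E ⟶ J) ≃ (K ⟶ (dualFun T J).obj (op E)) :=
  (rightBiAdj (T.map₂CochainComplex.flip)).homEquiv (X₁ := E) (X₂ := K) (X₃ := J)

variable {T}

lemma dualEquiv_naturality_left {K K' E J : CochainComplex C ℤ} (f : K ⟶ K')
    (g : (T.map₂CochainComplex.obj K').obj E ⟶ J) :
    dualEquiv T K E J ((T.map₂CochainComplex.map f).app E ≫ g) = f ≫ dualEquiv T K' E J g :=
  (rightBiAdj (T.map₂CochainComplex.flip)).homEquiv_naturality_two f g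

lemma dualEquiv_naturality_mid {K E E' J : CochainComplex C ℤ} (f : E ⟶ E')
    (g : (T.map₂CochainComplex.obj K).obj E' ⟶ J) :
    dualEquiv T K E J ((T.map₂CochainComplex.obj K).map f ≫ g) =
      dualEquiv T K E' J g ≫ (dualFun T J).map f.op :=
  (rightBiAdj (T.map₂CochainComplex.flip)).homEquiv_naturality_one f g

/-- Enough flat objects: every object is a quotient of some `P` such that `T.obj P` is exact. -/
def EnoughFlat (T : C ⥤ C ⥤ C) : Prop :=
  ∀ X : C, ∃ (P : C) (p : P ⟶ X), Epi p ∧ PreservesFiniteLimits (T.obj P) ∧ PreservesFiniteColimits (T.obj P)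

lemma mono_map_of_disc {P : C} [(T.obj P).PreservesMonomorphisms] (n p : ℤ) {X Y : C} (f : X ⟶ Y) [Mono f] :
    Mono ((T.obj ((disc n P).X p)).map f) := by
  by_cases hp : p = n ∨ p = n + 1
  · have he : Nonempty ((disc n P).X p ≅ P) := by
      rcases hp with hp | hp
      · exact ⟨(disc n P).XIsoOfEq hp ≪≫ doubleXIso₀ _ _⟩
      · exact ⟨(disc n P).XIsoOfEq hp ≪≫ doubleXIso₁ _ _ (by lia)⟩
    obtain ⟨e⟩ := he
    have h1 : Mono ((T.obj P).map f) := inferInstance
    exact ((MorphismProperty.monomorphisms C).arrow_mk_iso_iff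
      (Arrow.isoMk ((T.mapIso e).app X) ((T.mapIso e).app Y) (by simp))).2 h1
  · rw [not_or] at hp
    have hz : IsZero ((disc n P).X p) := isZero_double_X _ _ _ hp.1 hp.2
    have hz' : IsZero ((T.obj ((disc n P).X p)).obj X) := (T.flip.obj X).map_isZero hz
    exact ⟨fun g h _ => hz'.eq_of_tgt _ _⟩

variable [∀ (J : Type), HasColimitsOfShape (Discrete J) C]
  [∀ (J : Type), (colim : (Discrete J ⥤ C) ⥤ C).PreservesMonomorphisms]

/-- The duality functor sends monomorphisms to epimorphisms. -/
lemma epi_dualFun_map {J : CochainComplex C ℤ} (hJ : ∀ n, Injective (J.X n)) (hT : EnoughFlat T)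
    {K L : CochainComplex C ℤ} (i : K ⟶ L) [Mono i] : Epi ((dualFun T J).map i.op) := by
  have (n : ℤ) : Epi (((dualFun T J).map i.op).f n) := by
    obtain ⟨P, p, hp, h₁, h₂⟩ := hT (((dualFun T J).obj (op K)).X n)
    let R := evalCompCoyonedaCorepresentableByDoubleId
      (show (ComplexShape.up ℤ).Rel n (n + 1) by simp) (show n ≠ n + 1 by lia) P
    let g : disc n P ⟶ (dualFun T J).obj (op K) := R.homEquiv.symm p
    have hg : (doubleXIso₀ (𝟙 P) (show (ComplexShape.up ℤ).Rel n (n + 1) by simp)).inv ≫ g.f n = p :=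
      R.homEquiv.apply_symm_apply p
    let g' := (dualEquiv T (disc n P) K J).symm g
    have hg' : Homotopy g' 0 := by
      have h0 := (HtpyFunctor.homotopy (T.map₂CochainComplex.flip.obj K) (discHomotopy n P)).some
      exact (Homotopy.ofEq (by rw [CategoryTheory.Functor.map_id, id_comp])).trans
        ((h0.compRight g').trans (Homotopy.ofEq (by rw [CategoryTheory.Functor.map_zero, zero_comp])))
    obtain ⟨u, hu⟩ := exists_extension_of_injective ((T.map₂CochainComplex.obj (disc n P)).map i)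
      (fun m => mono_map_f T (disc n P) i (fun a b => mono_map_of_disc n a (i.f b)) m) hJ g' hg'
    let v := dualEquiv T (disc n P) L J u
    have hv : v ≫ (dualFun T J).map i.op = g := by
      rw [← dualEquiv_naturality_mid, hu]
      exact Equiv.apply_symm_apply _ _
    rw [← hv] at hg
    have : Epi (((doubleXIso₀ (𝟙 P) (show (ComplexShape.up ℤ).Rel n (n + 1) by simp)).inv ≫ v.f n) ≫
        ((dualFun T J).map i.op).f n) := by
      have e : ((doubleXIso₀ (𝟙 P) (show (ComplexShape.up ℤ).Rel n (n + 1) by simp)).inv ≫ v.f n) ≫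
        ((dualFun T J).map i.op).f n = p := by simpa using hg
      rw [e]
      exact hp
    exact epi_of_epi ((doubleXIso₀ (𝟙 P) (show (ComplexShape.up ℤ).Rel n (n + 1) by simp)).inv ≫ v.f n) _
  exact HomologicalComplex.epi_of_epi_f _ this

lemma acyclic_shift {D : Type u₂} [Category.{v₂} D] [Abelian D] {K : CochainComplex D ℤ} (hK : K.Acyclic)
    (n : ℤ) : (K⟦n⟧).Acyclic := by
  rw [← HomotopyCategory.quotient_obj_mem_subcategoryAcyclic_iff_acyclic] at hK ⊢
  exact ObjectProperty.prop_of_iso _ (((HomotopyCategory.quotient D (.up ℤ)).commShiftIso n).symm.app K)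
    ((HomotopyCategory.subcategoryAcyclic D).le_shift n _ hK)

omit [∀ (E : CochainComplex C ℤ), (T.map₂CochainComplex.flip.obj E).IsLeftAdjoint]
  [∀ (J : Type), HasColimitsOfShape (Discrete J) C]
  [∀ (J : Type), (colim : (Discrete J ⥤ C) ⥤ C).PreservesMonomorphisms] in
/-- `P[n] ⊗ K` is acyclic if `K` is and `T.obj P` is exact. -/
lemma acyclic_single_tensor {P : C} [PreservesFiniteLimits (T.obj P)] [PreservesFiniteColimits (T.obj P)]
    (n : ℤ) {K : CochainComplex C ℤ} (hK : K.Acyclic) :
    ((T.map₂CochainComplex.obj ((single C (ComplexShape.up ℤ) n).obj P)).obj K).Acyclic := by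
  have h0 : ((T.map₂CochainComplex.obj ((single C (ComplexShape.up ℤ) 0).obj P)).obj K).Acyclic := by
    have h1 : (((T.obj P).mapHomologicalComplex (ComplexShape.up ℤ)).obj K).Acyclic := fun i =>
      (hK i).map (T.obj P)
    exact fun i => (h1 i).of_iso ((tensorSingleIso T P).app K)
  have e : (single C (ComplexShape.up ℤ) n).obj P ≅ ((single C (ComplexShape.up ℤ) 0).obj P)⟦-n⟧ :=
    (((CochainComplex.singleFunctors C).shiftIso (-n) n 0 (by lia)).app P).symm
  have e2 : (T.map₂CochainComplex.obj ((single C (ComplexShape.up ℤ) n).obj P)).obj K ≅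
      ((T.map₂CochainComplex.obj ((single C (ComplexShape.up ℤ) 0).obj P)).obj K)⟦-n⟧ :=
    (T.map₂CochainComplex.flip.obj K).mapIso e ≪≫
      ((T.map₂CochainComplex.flip.obj K).commShiftIso (-n)).app _
  exact fun i => (acyclic_shift h0 (-n) i).of_iso e2.symm

/-- The inclusion of the complex `X` in degree `n + 1` in the disc. -/
noncomputable def singleToDisc (n : ℤ) (X : C) : (single C (ComplexShape.up ℤ) (n + 1)).obj X ⟶ disc n X :=
  mkHomFromSingle (doubleXIso₁ (𝟙 X) (show (ComplexShape.up ℤ).Rel n (n + 1) by simp) (by lia)).inv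
    (fun k _ => by
      rw [double_d_eq_zero₀ _ _ _ _ (by lia), comp_zero])

lemma exists_retraction_singleToDisc (n : ℤ) (X : C) (p : ℤ) :
    ∃ r : (disc n X).X p ⟶ ((single C (ComplexShape.up ℤ) (n + 1)).obj X).X p,
      (singleToDisc n X).f p ≫ r = 𝟙 _ := by
  by_cases hp : p = n + 1
  · subst hp
    refine ⟨(doubleXIso₁ (𝟙 X) (show (ComplexShape.up ℤ).Rel n (n + 1) by simp) (by lia)).hom ≫
      (singleObjXSelf (ComplexShape.up ℤ) (n + 1) X).inv, ?_⟩
    simp [singleToDisc]
  · exact ⟨0, (isZero_single_obj_X _ _ _ _ hp).eq_of_src _ _⟩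

/-- The duality functor sends acyclic complexes to acyclic complexes. -/
lemma acyclic_dualFun {J : CochainComplex C ℤ} [J.IsKInjective] (hT : EnoughFlat T)
    {K : CochainComplex C ℤ} (hK : K.Acyclic) : ((dualFun T J).obj (op K)).Acyclic := by
  intro m
  obtain ⟨n, rfl⟩ : ∃ n, m = n + 1 := ⟨m - 1, by lia⟩
  rw [exactAt_iff_exact_up_to_refinements _ n (n + 1) (n + 1 + 1) (by simp) (by simp)]
  intro X x hx
  obtain ⟨P, π, hπ, h₁, h₂⟩ := hT X
  let s : (single C (ComplexShape.up ℤ) (n + 1)).obj P ⟶ (dualFun T J).obj (op K) :=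
    mkHomFromSingle (π ≫ x) (fun k hk => by
      obtain rfl : n + 1 + 1 = k := hk
      rw [Category.assoc, hx, comp_zero])
  let s' := (dualEquiv T _ K J).symm s
  have hs' : Homotopy s' 0 := IsKInjective.homotopyZero s' (acyclic_single_tensor (n + 1) hK)
  choose r hr using exists_retraction_singleToDisc n P
  let r' (m : ℤ) : ((T.map₂CochainComplex.obj (disc n P)).obj K).X m ⟶
      ((T.map₂CochainComplex.obj ((single C (ComplexShape.up ℤ) (n + 1)).obj P)).obj K).X m :=
    mapBifunctorDesc (K₁ := disc n P) (K₂ := K) (F := T) (c := ComplexShape.up ℤ)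
      (fun p q h => (T.map (r p)).app (K.X q) ≫
        ιMapBifunctor ((single C (ComplexShape.up ℤ) (n + 1)).obj P) K T (ComplexShape.up ℤ) p q m h)
  have hr' (m : ℤ) : ((T.map₂CochainComplex.map (singleToDisc n P)).app K).f m ≫ r' m = 𝟙 _ := by
    refine mapBifunctor.hom_ext (fun p q h => ?_)
    have := hr p
    dsimp [r']
    rw [ι_mapBifunctorMap_assoc]
    simp [← NatTrans.comp_app_assoc, ← CategoryTheory.Functor.map_comp, this]
  obtain ⟨u, hu⟩ := exists_extension_of_split ((T.map₂CochainComplex.map (singleToDisc n P)).app K) r' hr' s' hs'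
  let v := dualEquiv T (disc n P) K J u
  have hv : singleToDisc n P ≫ v = s := by
    rw [← dualEquiv_naturality_left, hu]
    exact Equiv.apply_symm_apply _ _
  have hv' : (doubleXIso₁ (𝟙 P) (show (ComplexShape.up ℤ).Rel n (n + 1) by simp) (by lia)).inv ≫ v.f (n + 1) =
      π ≫ x := by
    have := congr_arg (fun φ => (singleObjXSelf (ComplexShape.up ℤ) (n + 1) P).inv ≫ φ)
      (HomologicalComplex.congr_hom hv (n + 1))
    simpa [singleToDisc, s] using this
  refine ⟨P, π, hπ, (doubleXIso₀ (𝟙 P) (show (ComplexShape.up ℤ).Rel n (n + 1) by simp)).inv ≫ v.f n, ?_⟩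
  rw [← hv', Category.assoc, Hom.comm, double_d _ _ (by lia)]
  simp

end Dual

end Groth.Agent.Sga4h.DualCx
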