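import Groth.Agent.Sga4h.BidEtMate
import Groth.Agent.Sga4h.DualCx
import Groth.Agent.PerfC.CxNat
import Groth.Agent.Dcoh.DerComp

/-!
# Projection formula and internal Hom on complexes, abstractly

`R : C ⥤ C'` with left adjoint `S`, bifunctors `T`, `T'` and `τ : T' (R A, R B) ⟶ T (R (A, B))` natural.
If all the objectwise projection maps `S (T' (A, R B)) ⟶ T (S A, B)` are isomorphisms then the same holds for
complexes, and `R Hom•(E, J) ⟶ Hom•(R E, R J)` is an isomorphism.
-/

set_option autoImplicit false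
set_option linter.unusedSectionVars false
set_option backward.defeqAttrib.useBackward true
set_option backward.isDefEq.respectTransparency false

universe v₁ v₂ u₁ u₂

namespace Groth.Agent.Sga4h.BidEtCx

open CategoryTheory Category Limits HomologicalComplex CochainComplex Opposite
open Groth.Agent.Dcoh.DerAdj Groth.Agent.Sga4h.DualCx Groth.Agent.PerfC

variable {C : Type u₁} [Category.{v₁} C] [Abelian C] {C' : Type u₂} [Category.{v₂} C'] [Abelian C']
  {T : C ⥤ C ⥤ C} [T.Additive] [∀ X, (T.obj X).Additive]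
  {T' : C' ⥤ C' ⥤ C'} [T'.Additive] [∀ X, (T'.obj X).Additive]
  {R : C ⥤ C'} [R.Additive] {S : C' ⥤ C} [S.Additive] (adj : S ⊣ R)
  (τ : R ⋙ T' ⋙ (Functor.whiskeringLeft _ _ _).obj R ⟶ T ⋙ (Functor.whiskeringRight _ _ _).obj R)

/-- The objectwise projection map. -/
def projObj (A : C') (B : C) : S.obj ((T'.obj A).obj (R.obj B)) ⟶ (T.obj (S.obj A)).obj B :=
  (adj.homEquiv _ _).symm ((T'.map (adj.unit.app A)).app (R.obj B) ≫ (τ.app (S.obj A)).app B)

/-- `τ` with the second variable fixed. -/
def phiFlip (B : C) : R ⋙ T'.flip.obj (R.obj B) ⟶ T.flip.obj B ⋙ R where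
  app K := (τ.app K).app B
  naturality _ _ f := congr_app (τ.naturality f) B

/-- The objectwise projection maps are isomorphisms if the ones in the other variable are, by symmetry. -/
theorem isIso_projObj_of_symm (s : T.flip ≅ T) (s' : T'.flip ≅ T')
    (hs : ∀ a b : C, (s'.hom.app (R.obj b)).app (R.obj a) ≫ (τ.app b).app a =
      (τ.app a).app b ≫ R.map ((s.hom.app b).app a)) (A : C') (B : C)
    (h : IsIso (BidEtMate.pi (L' := T'.obj (R.obj B)) (L := T.obj B) adj (τ.app B) A)) :
    IsIso (projObj adj τ A B) :=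
  BidEtMate.isIso_pi_of_congr adj (phiFlip τ B) (τ.app B) (s.hom.app B) (s'.hom.app (R.obj B))
    (fun K => (hs K B).symm) A h

section

variable [∀ (K₁ K₂ : CochainComplex C ℤ), CochainComplex.HasMapBifunctor K₁ K₂ T]
  [∀ (K₁ K₂ : CochainComplex C' ℤ), CochainComplex.HasMapBifunctor K₁ K₂ T']

/-- `R K ⊗ R E ⟶ R (K ⊗ E)`, natural in the complex `K`. -/
noncomputable def phiCx (E : CochainComplex C ℤ) :
    R.mapHomologicalComplex (ComplexShape.up ℤ) ⋙
      T'.map₂CochainComplex.flip.obj ((R.mapHomologicalComplex (ComplexShape.up ℤ)).obj E) ⟶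
    T.map₂CochainComplex.flip.obj E ⋙ R.mapHomologicalComplex (ComplexShape.up ℤ) where
  app K := CxNat.natHom τ K E
  naturality K K' f := by
    have := CxNat.natHom_naturality τ f (𝟙 E)
    rw [CategoryTheory.Functor.map_id] at this
    exact this

/-- The projection map on complexes. -/
noncomputable def projCx (K : CochainComplex C' ℤ) (E : CochainComplex C ℤ) :
    (S.mapHomologicalComplex (ComplexShape.up ℤ)).obj ((T'.map₂CochainComplex.flip.obj
      ((R.mapHomologicalComplex (ComplexShape.up ℤ)).obj E)).obj K) ⟶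
      (T.map₂CochainComplex.flip.obj E).obj ((S.mapHomologicalComplex (ComplexShape.up ℤ)).obj K) :=
  BidEtMate.pi (adjCx adj (ComplexShape.up ℤ)) (phiCx τ E) K

lemma ι_projCx (K : CochainComplex C' ℤ) (E : CochainComplex C ℤ) (p q n : ℤ)
    (h : ComplexShape.π (ComplexShape.up ℤ) (ComplexShape.up ℤ) (ComplexShape.up ℤ) (p, q) = n) :
    S.map (ιMapBifunctor K ((R.mapHomologicalComplex (ComplexShape.up ℤ)).obj E) T' (ComplexShape.up ℤ) p q n h) ≫
      (projCx adj τ K E).f n = projObj adj τ (K.X p) (E.X q) ≫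
        ιMapBifunctor ((S.mapHomologicalComplex (ComplexShape.up ℤ)).obj K) E T (ComplexShape.up ℤ) p q n h := by
  have h1 : (projCx adj τ K E).f n = S.map ((mapBifunctorMap ((adjCx adj (ComplexShape.up ℤ)).unit.app K)
      (𝟙 ((R.mapHomologicalComplex (ComplexShape.up ℤ)).obj E)) T' (ComplexShape.up ℤ)).f n ≫
      CxNat.natHomX τ _ E n) ≫ adj.counit.app _ := by
    dsimp only [projCx, BidEtMate.pi]
    rw [Adjunction.homEquiv_counit]
    rfl
  let K' := (S.mapHomologicalComplex (ComplexShape.up ℤ)).obj K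
  have h2 : ιMapBifunctor K ((R.mapHomologicalComplex (ComplexShape.up ℤ)).obj E) T' (ComplexShape.up ℤ) p q n h ≫
      (mapBifunctorMap ((adjCx adj (ComplexShape.up ℤ)).unit.app K)
      (𝟙 ((R.mapHomologicalComplex (ComplexShape.up ℤ)).obj E)) T' (ComplexShape.up ℤ)).f n ≫
      CxNat.natHomX τ K' E n = ((T'.map (adj.unit.app (K.X p))).app (R.obj (E.X q)) ≫
        (τ.app (S.obj (K.X p))).app (E.X q)) ≫ R.map (ιMapBifunctor K' E T (ComplexShape.up ℤ) p q n h) := by
    rw [ι_mapBifunctorMap_assoc]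
    have h3 := CxNat.ι_natHomX τ K' E p q n h
    refine (congrArg (fun k => (T'.map (adj.unit.app (K.X p))).app (R.obj (E.X q)) ≫
      (T'.obj (R.obj (K'.X p))).map (𝟙 (R.obj (E.X q))) ≫ k) h3).trans ?_
    rw [CategoryTheory.Functor.map_id]
    exact (congrArg ((T'.map (adj.unit.app (K.X p))).app (R.obj (E.X q)) ≫ ·)
      (Category.id_comp _)).trans (Category.assoc _ _ _).symm
  rw [h1, ← Category.assoc, ← S.map_comp]
  refine (congrArg (fun k => S.map k ≫ adj.counit.app _) h2).trans ?_
  rw [S.map_comp, Category.assoc]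
  refine (congrArg (_ ≫ ·) (adj.counit.naturality _)).trans ?_
  dsimp [projObj]
  rw [Adjunction.homEquiv_counit]
  simp only [Category.assoc]
  rfl

omit [∀ (K₁ K₂ : CochainComplex C ℤ), CochainComplex.HasMapBifunctor K₁ K₂ T] in
lemma isIso_projCx_f [∀ (K₁ K₂ : CochainComplex C ℤ), CochainComplex.HasMapBifunctor K₁ K₂ T]
    (hπ : ∀ A B, IsIso (projObj adj τ A B)) (K : CochainComplex C' ℤ) (E : CochainComplex C ℤ) (n : ℤ) :
    IsIso ((projCx adj τ K E).f n) := by
  have : S.IsLeftAdjoint := adj.isLeftAdjoint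
  have : ∀ J : Type, PreservesColimitsOfShape (Discrete J) S := fun _ => adj.leftAdjoint_preservesColimits.1
  let K' := (S.mapHomologicalComplex (ComplexShape.up ℤ)).obj K
  let E' := (R.mapHomologicalComplex (ComplexShape.up ℤ)).obj E
  let X := ((GradedObject.mapBifunctor T ℤ ℤ).obj K'.X).obj E.X
  let X' := ((GradedObject.mapBifunctor T' ℤ ℤ).obj K.X).obj E'.X
  let π := ComplexShape.π (ComplexShape.up ℤ) (ComplexShape.up ℤ) (ComplexShape.up ℤ)
  have : X.HasMap π := inferInstanceAs (HasMapBifunctor K' E T (ComplexShape.up ℤ))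
  have : X'.HasMap π := inferInstanceAs (HasMapBifunctor K E' T' (ComplexShape.up ℤ))
  let hc := isColimitOfPreserves S (X'.isColimitCofanMapObj π n)
  let hc' := X.isColimitCofanMapObj π n
  let α : Discrete.functor (X'.mapObjFun π n) ⋙ S ≅ Discrete.functor (X.mapObjFun π n) :=
    Discrete.natIso (fun j => asIso (projObj adj τ (K.X j.as.1.1) (E.X j.as.1.2)))
  have : (projCx adj τ K E).f n = (hc.coconePointsIsoOfNatIso hc' α).hom := by
    refine hc.hom_ext (fun j => ?_)
    rw [IsColimit.comp_coconePointsIsoOfNatIso_hom]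
    obtain ⟨⟨⟨p, q⟩, h⟩⟩ := j
    exact ι_projCx adj τ K E p q n h
  rw [this]
  infer_instance

/-- The projection map on complexes is an isomorphism if the objectwise ones are. -/
theorem isIso_projCx (hπ : ∀ A B, IsIso (projObj adj τ A B)) (K : CochainComplex C' ℤ)
    (E : CochainComplex C ℤ) : IsIso (projCx adj τ K E) := by
  have : ∀ n, IsIso ((projCx adj τ K E).f n) := fun n => isIso_projCx_f adj τ hπ K E n
  exact HomologicalComplex.Hom.isIso_of_components _

variable [∀ E : CochainComplex C ℤ, (T.map₂CochainComplex.flip.obj E).IsLeftAdjoint]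
  [∀ E : CochainComplex C' ℤ, (T'.map₂CochainComplex.flip.obj E).IsLeftAdjoint]

/-- The canonical map `R Hom•(E, J) ⟶ Hom•(R E, R J)`. -/
noncomputable def thetaCx (E J : CochainComplex C ℤ) :
    (R.mapHomologicalComplex (ComplexShape.up ℤ)).obj ((dualFun T J).obj (op E)) ⟶
      (dualFun T' ((R.mapHomologicalComplex (ComplexShape.up ℤ)).obj J)).obj
        (op ((R.mapHomologicalComplex (ComplexShape.up ℤ)).obj E)) :=
  dualEquiv T' _ _ _ (CxNat.natHom τ ((dualFun T J).obj (op E)) E ≫
    (R.mapHomologicalComplex (ComplexShape.up ℤ)).map ((dualEquiv T _ E J).symm (𝟙 _)))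

include adj in
/-- `R Hom•(E, J) ⟶ Hom•(R E, R J)` is an isomorphism if the objectwise projection maps are. -/
theorem isIso_thetaCx (hπ : ∀ A B, IsIso (projObj adj τ A B)) (E J : CochainComplex C ℤ) :
    IsIso (thetaCx τ E J) := by
  have h := BidEtMate.isIso_theta (adjCx adj (ComplexShape.up ℤ))
    (Adjunction.ofIsLeftAdjoint (T.map₂CochainComplex.flip.obj E))
    (Adjunction.ofIsLeftAdjoint (T'.map₂CochainComplex.flip.obj
      ((R.mapHomologicalComplex (ComplexShape.up ℤ)).obj E))) (phiCx τ E) J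
    (fun K => isIso_projCx adj τ hπ K E)
  have e : thetaCx τ E J = BidEtMate.theta (Adjunction.ofIsLeftAdjoint (T.map₂CochainComplex.flip.obj E))
    (Adjunction.ofIsLeftAdjoint (T'.map₂CochainComplex.flip.obj
      ((R.mapHomologicalComplex (ComplexShape.up ℤ)).obj E))) (phiCx τ E) J := by
    unfold thetaCx BidEtMate.theta
    refine congrArg (fun k => dualEquiv T' _ _ _ (CxNat.natHom τ ((dualFun T J).obj (op E)) E ≫
      (R.mapHomologicalComplex (ComplexShape.up ℤ)).map k)) ?_
    exact Adjunction.homEquiv_symm_id _ _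
  rw [e]
  exact h

end

end Groth.Agent.Sga4h.BidEtCx
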