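import Groth.Agent.Sga4h.BidEtMod
import Groth.Agent.Sga4h.EtPts
import Groth.Agent.Etcore.Cover

/-!
# Etale descent of isomorphisms and quasi-isomorphisms of (complexes of) sheaves of modules

For a jointly surjective family of etale morphisms `u i : U i ⟶ X`, a morphism of sheaves of `Λ`-modules
(resp. of complexes of such) is an isomorphism (resp. quasi-isomorphism) if all its restrictions are.
-/

set_option autoImplicit false
universe u
open CategoryTheory CategoryTheory.Limits AlgebraicGeometry Opposite

attribute [local instance 5000] CategoryTheory.Abelian.toPreadditive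
  CategoryTheory.Preadditive.preadditiveHasZeroMorphisms

namespace Groth.Agent.Sga4h.BidEtLoc

open scoped Groth.Agent.Sga4h.ModInst
open Groth.Agent.Sga4h.ModDTensor Groth.Agent.Sga4h.BidEtSh

variable {Λ : Type (u + 1)} [CommRing Λ] {X : Scheme.{u}}

section Iso

variable {ι : Type*} {U : ι → Scheme.{u}} (u : ∀ i, U i ⟶ X) [∀ i, AlgebraicGeometry.Etale (u i)]
  (hu : ∀ x : X, ∃ (i : ι) (y : U i), u i y = x)

include hu in
lemma exists_point (V : X.Etale) (x : V.left) : ∃ (i : ι) (W : (U i).Etale)
    (g : (EtShriek.compEtale (u i)).obj W ⟶ V) (w : W.left), g.left w = x := by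
  obtain ⟨i, y, hy⟩ := hu (V.hom x)
  obtain ⟨z, hz, -⟩ := Scheme.Pullback.exists_preimage_pullback (f := V.hom) (g := u i) x y hy.symm
  exact ⟨i, (EtCoh.bc (u i)).obj V, (EtaleRes.compBcAdj (u i)).counit.app V, z, hz⟩

include hu in
/-- A morphism of sheaves of modules which is an isomorphism etale locally is an isomorphism. -/
theorem isIso_of_res {F G : EtModW.Mod Λ X} (f : F ⟶ G) (h : ∀ i, IsIso ((resM Λ (u i)).map f)) :
    IsIso f := by
  have hb (i : ι) (W : (U i).Etale) :
      Function.Bijective (f.hom.app (op ((EtShriek.compEtale (u i)).obj W))) := by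
    have h0 := h i
    have h1 : IsIso (((inc Λ (U i)).map ((resM Λ (u i)).map f)).app (op W)) := inferInstance
    have h2 : IsIso (f.hom.app (op ((EtShriek.compEtale (u i)).obj W))) := h1
    exact ConcreteCategory.bijective_of_isIso _
  have h2 : Presheaf.IsLocallyInjective (Scheme.smallEtaleTopology X) f.hom :=
    ⟨fun {V} a b hab => by
      rw [Etcore.Cover.mem_iff]
      intro x
      obtain ⟨i, W, g, w, hw⟩ := exists_point u hu V.unop x
      refine ⟨_, g, w, ?_, hw⟩
      apply (hb i W).1
      rw [NatTrans.naturality_apply, NatTrans.naturality_apply, hab]⟩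
  have h3 : Presheaf.IsLocallySurjective (Scheme.smallEtaleTopology X) f.hom :=
    ⟨fun {V} s => by
      rw [Etcore.Cover.mem_iff]
      intro x
      obtain ⟨i, W, g, w, hw⟩ := exists_point u hu V x
      obtain ⟨t, ht⟩ := (hb i W).2 (G.obj.map g.op s)
      exact ⟨_, g, w, ⟨t, ht⟩, hw⟩⟩
  have h4 : (Scheme.smallEtaleTopology X).W f.hom :=
    ((Scheme.smallEtaleTopology X).W_iff_isLocallyBijective f.hom).2 ⟨h2, h3⟩
  rw [GrothendieckTopology.W_iff] at h4
  have h5 : IsIso ((sheafToPresheaf (Scheme.smallEtaleTopology X) (ModuleCat.{u + 1} Λ) ⋙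
    presheafToSheaf (Scheme.smallEtaleTopology X) (ModuleCat.{u + 1} Λ)).map f) := h4
  exact (NatIso.isIso_map_iff
    (asIso (sheafificationAdjunction (Scheme.smallEtaleTopology X) (ModuleCat.{u + 1} Λ)).counit) f).1 h5

include hu in
/-- A morphism of complexes of sheaves of modules which is a quasi-isomorphism etale locally is a
quasi-isomorphism. -/
theorem quasiIso_of_res {K L : CochainComplex (EtModW.Mod Λ X) ℤ} (f : K ⟶ L)
    (h : ∀ i, QuasiIso (((resM Λ (u i)).mapHomologicalComplex (ComplexShape.up ℤ)).map f)) :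
    QuasiIso f := by
  rw [quasiIso_iff]
  intro n
  rw [quasiIsoAt_iff]
  let φ := (HomologicalComplex.shortComplexFunctor (EtModW.Mod Λ X) (ComplexShape.up ℤ) n).map f
  have γ : ShortComplex.LeftHomologyMapData φ (K.sc n).leftHomologyData (L.sc n).leftHomologyData := default
  refine γ.quasiIso_iff.2 (isIso_of_res u hu _ (fun i => ?_))
  have h1 := h i
  rw [quasiIso_iff] at h1
  have h2 := h1 n
  rw [quasiIsoAt_iff] at h2
  exact ((γ.map (resM Λ (u i))).quasiIso_iff).1 h2

end Iso

end Groth.Agent.Sga4h.BidEtLoc
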