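import Groth.Agent.Sga4h.BidEtRefl
import Groth.Prelude.Def_EtModD2

/-!
# Duality and restriction along etale morphisms, derived form; pointwise form of locality

* `exists_quasiIso_res_D`: a quasi-isomorphism `u^* (A.D K) ⟶ A'.D (u^* K)`;
* `nonempty_iso_Q_res_D`: the same in the derived category;
* `refl_of_local`, `refl_of_local_dualData`: reflexivity is etale local, pointwise form.
-/

set_option autoImplicit false
universe u
open CategoryTheory CategoryTheory.Limits AlgebraicGeometry Opposite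

attribute [local instance 5000] CategoryTheory.Abelian.toPreadditive
  CategoryTheory.Preadditive.preadditiveHasZeroMorphisms

namespace Groth.Agent.Sga4h.BidEtLocal

open scoped Groth.Agent.Sga4h.ModInst
open Groth.Agent.Sga4h.ModDTensor Groth.Agent.Sga4h.BidEtSh Groth.Agent.Sga4h.Refl Groth.Agent.Sga4h.DualEt
open Groth.Agent.Sga4h.BidEtMod Groth.Agent.Sga4h.BidEtLoc Groth.Agent.Sga4h.BidEtZ Groth.Agent.Sga4h.BidEtRefl

variable {Λ : Type (u + 1)} [CommRing Λ] {X : Scheme.{u}}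

section Res

variable {U : Scheme.{u}} (u : U ⟶ X) [AlgebraicGeometry.Etale u]

/-- Comparison of resolutions: `u^* A.J ⟶ A'.J`. -/
theorem exists_quasiIso_J (A : DualData (EtModD.tensorBi Λ X))
    (i : (CochainComplex.singleFunctor (EtModW.Mod Λ X) 0).obj (EtModW.constMod Λ X Λ) ⟶ A.J)
    (hi : QuasiIso i) (A' : DualData (EtModD.tensorBi Λ U))
    (i' : (CochainComplex.singleFunctor (EtModW.Mod Λ U) 0).obj (EtModW.constMod Λ U Λ) ⟶ A'.J)
    (hi' : QuasiIso i') :
    ∃ j : ((resM Λ u).mapHomologicalComplex (ComplexShape.up ℤ)).obj A.J ⟶ A'.J, QuasiIso j := by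
  have := A'.kinj
  obtain ⟨e, he⟩ := exists_quasiIso_const (Λ := Λ) u
  exact BidEtCmp.exists_quasiIso_of_resolution
    (((resM Λ u).mapHomologicalComplex (ComplexShape.up ℤ)).map i) (e ≫ i')

/-- `u^* (A.D K) ⟶ A'.D (u^* K)` is a quasi-isomorphism. -/
theorem exists_quasiIso_res_D (A : DualData (EtModD.tensorBi Λ X))
    (i : (CochainComplex.singleFunctor (EtModW.Mod Λ X) 0).obj (EtModW.constMod Λ X Λ) ⟶ A.J)
    (hi : QuasiIso i) (A' : DualData (EtModD.tensorBi Λ U))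
    (i' : (CochainComplex.singleFunctor (EtModW.Mod Λ U) 0).obj (EtModW.constMod Λ U Λ) ⟶ A'.J)
    (hi' : QuasiIso i') (K : CochainComplex (EtModW.Mod Λ X) ℤ) :
    ∃ f : ((resM Λ u).mapHomologicalComplex (ComplexShape.up ℤ)).obj (A.D K) ⟶
      A'.D (((resM Λ u).mapHomologicalComplex (ComplexShape.up ℤ)).obj K), QuasiIso f := by
  have := A.kinj
  have := A'.kinj
  obtain ⟨j, hj⟩ := exists_quasiIso_J u A i hi A' i' hi'
  exact ⟨BidCmp.cmp (tauM Λ u) j K, quasiIso_cmp Λ u j K⟩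

attribute [local instance] HasDerivedCategory.standard in
/-- `u^* (A.D K) ≅ A'.D (u^* K)` in the derived category. -/
theorem nonempty_iso_Q_res_D (A : DualData (EtModD.tensorBi Λ X))
    (i : (CochainComplex.singleFunctor (EtModW.Mod Λ X) 0).obj (EtModW.constMod Λ X Λ) ⟶ A.J)
    (hi : QuasiIso i) (A' : DualData (EtModD.tensorBi Λ U))
    (i' : (CochainComplex.singleFunctor (EtModW.Mod Λ U) 0).obj (EtModW.constMod Λ U Λ) ⟶ A'.J)
    (hi' : QuasiIso i') (K : CochainComplex (EtModW.Mod Λ X) ℤ) :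
    Nonempty (DerivedCategory.Q.obj (((resM Λ u).mapHomologicalComplex (ComplexShape.up ℤ)).obj (A.D K)) ≅
      DerivedCategory.Q.obj (A'.D (((resM Λ u).mapHomologicalComplex (ComplexShape.up ℤ)).obj K))) := by
  obtain ⟨f, hf⟩ := exists_quasiIso_res_D u A i hi A' i' hi' K
  exact ⟨asIso (DerivedCategory.Q.map f)⟩

end Res

/-- Choice of an etale covering. -/
theorem of_local {X : Scheme.{u}} (P : ∀ (W : Scheme.{u}) (g : W ⟶ X), AlgebraicGeometry.Etale g → Prop) (Q : Prop)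
    (key : ∀ (U : X → Scheme.{u}) (u : ∀ x, U x ⟶ X) (hu : ∀ x, AlgebraicGeometry.Etale (u x)),
      (∀ x : X, ∃ (a : X) (y : U a), u a y = x) → (∀ x, P (U x) (u x) (hu x)) → Q)
    (h : ∀ x : X, ∃ (W : Scheme.{u}) (g : W ⟶ X) (hg : AlgebraicGeometry.Etale g) (y : W), g y = x ∧ P W g hg) :
    Q := by
  choose W g hg y hy h' using h
  exact key W g hg (fun x => ⟨x, y x, hy x⟩) h'

/-- Reflexivity is etale local, pointwise form. -/
theorem refl_of_local (A : DualData (EtModD.tensorBi Λ X)) (hA : A.S = symmEt Λ X)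
    (i : (CochainComplex.singleFunctor (EtModW.Mod Λ X) 0).obj (EtModW.constMod Λ X Λ) ⟶ A.J)
    (hi : QuasiIso i) (K : CochainComplex (EtModW.Mod Λ X) ℤ)
    (h : ∀ x : X, ∃ (W : Scheme.{u}) (g : W ⟶ X) (_ : AlgebraicGeometry.Etale g) (y : W), g y = x ∧
      ∃ (A' : DualData (EtModD.tensorBi Λ W)) (_ : A'.S = symmEt Λ W)
      (i' : (CochainComplex.singleFunctor (EtModW.Mod Λ W) 0).obj (EtModW.constMod Λ W Λ) ⟶ A'.J),
      QuasiIso i' ∧ A'.Refl (((resM Λ g).mapHomologicalComplex (ComplexShape.up ℤ)).obj K)) :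
    A.Refl K := by
  exact of_local (fun W g _ => ∃ (A' : DualData (EtModD.tensorBi Λ W)) (_ : A'.S = symmEt Λ W)
      (i' : (CochainComplex.singleFunctor (EtModW.Mod Λ W) 0).obj (EtModW.constMod Λ W Λ) ⟶ A'.J),
      QuasiIso i' ∧ A'.Refl (((resM Λ g).mapHomologicalComplex (ComplexShape.up ℤ)).obj K)) (A.Refl K)
    (fun U u hu hs h' => refl_of_cover u hs A hA i hi K h') h

/-- Reflexivity is etale local, pointwise form with explicit resolutions. -/
theorem refl_of_local_dualData (J : CochainComplex (EtModW.Mod Λ X) ℤ) (hJ : J.IsKInjective)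
    (hJ' : ∀ n, Injective (J.X n))
    (i : (CochainComplex.singleFunctor (EtModW.Mod Λ X) 0).obj (EtModW.constMod Λ X Λ) ⟶ J)
    (hi : QuasiIso i) (K : CochainComplex (EtModW.Mod Λ X) ℤ)
    (h : ∀ x : X, ∃ (W : Scheme.{u}) (g : W ⟶ X) (_ : AlgebraicGeometry.Etale g) (y : W), g y = x ∧
      ∃ (J' : CochainComplex (EtModW.Mod Λ W) ℤ) (hJ₁ : J'.IsKInjective) (hJ₂ : ∀ n, Injective (J'.X n))
      (i' : (CochainComplex.singleFunctor (EtModW.Mod Λ W) 0).obj (EtModW.constMod Λ W Λ) ⟶ J'),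
      QuasiIso i' ∧ (dualData J' hJ₁ hJ₂).Refl (((resM Λ g).mapHomologicalComplex (ComplexShape.up ℤ)).obj K)) :
    (dualData J hJ hJ').Refl K :=
  refl_of_local (dualData J hJ hJ') rfl i hi K (fun x => by
    obtain ⟨W, g, hg, y, hy, J', hJ₁, hJ₂, i', hi', h'⟩ := h x
    exact ⟨W, g, hg, y, hy, dualData J' hJ₁ hJ₂, rfl, i', hi', h'⟩)

end Groth.Agent.Sga4h.BidEtLocal
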