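import Groth.Agent.Sga4h.ModRestr
import Groth.Agent.Etcore.ShriekToPush

/-!
# `F` is a direct summand of `w^* w_! F` for `w` etale and separated

`sigmaM : F ⟶ w^* w_* F` (extension by zero from the graph, which is clopen), a section of the counit; hence
the unit `F ⟶ w^* w_! F` has a retraction (`exists_retraction`).
-/

set_option autoImplicit false
universe u
open CategoryTheory CategoryTheory.Limits AlgebraicGeometry Opposite

namespace Groth.Agent.Sga4h.BidEtRetr

open Groth.Agent.Sga4h.EtaleRes Groth.Agent.Sga4h.ModRestr Groth.Agent.Etcore.ClopenExt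
open Groth.Agent.Etcore.ShriekToPush

attribute [local instance] jCont

variable {Λ : Type (u + 1)} [CommRing Λ] {U X : Scheme.{u}}

/-- Extension by zero from a clopen subobject is linear. -/
theorem extHom_smul (F : EtModW.Mod Λ U) {V P : U.Etale} (γ : V ⟶ P) (hγ : IsClopen γ) (c : Λ)
    (s : F.obj.obj (op V)) :
    extHom ((EtModD.forgetToAb Λ U).obj F) γ hγ (c • s : F.obj.obj (op V)) =
      (c • (show F.obj.obj (op P) from extHom ((EtModD.forgetToAb Λ U).obj F) γ hγ s) : F.obj.obj (op P)) := by
  have hm : ∀ {A B : U.Etale} (g : A ⟶ B) (t : F.obj.obj (op B)),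
      ((EtModD.forgetToAb Λ U).obj F).obj.map g.op (c • t : F.obj.obj (op B)) =
        (c • (show F.obj.obj (op A) from ((EtModD.forgetToAb Λ U).obj F).obj.map g.op t) : F.obj.obj (op A)) :=
    fun g t => (F.obj.map g.op).hom.map_smul c t
  refine ext_unique _ γ hγ _ _ ?_ ?_
  · rw [map_extHom, hm, map_extHom]
  · intro W g hd
    rw [map_extHom_of_disjoint _ _ _ _ _ hd, hm, map_extHom_of_disjoint _ _ _ _ _ hd]
    exact (smul_zero (A := F.obj.obj (op W)) c).symm

variable (w : U ⟶ X) [hw : Etale w] [IsSeparated w]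

/-- Extension by zero from the graph. -/
noncomputable def sigmaM (F : EtModW.Mod Λ U) : F ⟶ (res Λ w).obj ((EtModW.push Λ w).obj F) := ⟨{
  app V := ModuleCat.ofHom
    { toFun := fun s => extHom ((EtModD.forgetToAb Λ U).obj F) (gr w V.unop) (isClopen_gr w V.unop) s
      map_add' := fun s t => map_add _ _ _
      map_smul' := fun c s => extHom_smul F (gr w V.unop) (isClopen_gr w V.unop) c s }
  naturality := by
    intro V W f
    ext s
    exact (map_extHom_gr w ((EtModD.forgetToAb Λ U).obj F) f.unop s).symm }⟩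

theorem sigmaM_counit (F : EtModW.Mod Λ U) :
    sigmaM w F ≫ (resPushAdj Λ w).counit.app F = 𝟙 F := by
  apply Sheaf.hom_ext
  ext V s
  exact map_extHom ((EtModD.forgetToAb Λ U).obj F) (gr w V.unop) (isClopen_gr w V.unop) s

/-- `F` is a direct summand of `w^* w_! F`. -/
theorem exists_retraction (F : EtModW.Mod Λ U) :
    ∃ (i : F ⟶ (res Λ w).obj ((ext Λ w).obj F)) (r : (res Λ w).obj ((ext Λ w).obj F) ⟶ F), i ≫ r = 𝟙 F := by
  refine ⟨(extResAdj Λ w).unit.app F,
    (res Λ w).map (((extResAdj Λ w).homEquiv _ _).symm (sigmaM w F)) ≫ (resPushAdj Λ w).counit.app F, ?_⟩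
  rw [← Category.assoc, ← Adjunction.homEquiv_unit, Equiv.apply_symm_apply]
  exact sigmaM_counit w F

end Groth.Agent.Sga4h.BidEtRetr
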