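import Groth.Agent.Sga4h.BidEtStd
import Groth.Agent.Sga4h.BidEtRetr

/-!
# Local biduality on smooth schemes over a field from biduality on iterated projective lines

`BidRed538Main.bidual` with the inputs on etale morphisms discharged: only
`hP : ∀ d E, IsDbc (Q E) → (stdDual Λ (It (Spec k) d)).Refl E` is left.
-/

set_option autoImplicit false

universe u

open CategoryTheory CategoryTheory.Limits AlgebraicGeometry

attribute [local instance 5000] CategoryTheory.Abelian.toPreadditive
  CategoryTheory.Preadditive.preadditiveHasZeroMorphisms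

namespace Groth.Agent.Sga4h.BidEtMain

attribute [local instance] HasDerivedCategory.standard
open scoped Groth.Agent.Sga4h.ModInst
open Groth.Agent.Sga4h.Refl Groth.Agent.Sga4h.ModRestr Groth.Agent.Sga4h.BidGeoIt Groth.Agent.Sga4h.BidRed538Asm
open Groth.Agent.Sga4h.BidRed538Main

variable {Λ : Type (u + 1)} [CommRing Λ] {X : Scheme.{u}}

/-- The double dual on a smooth scheme over a field. -/
theorem bidual [Finite Λ] (k : Type u) [Field k]
    (hP : ∀ (d : ℕ) (E : CochainComplex (EtModW.Mod Λ (It (Spec (CommRingCat.of k)) d)) ℤ),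
      EtModD.IsDbc (DerivedCategory.Q.obj E) → (stdDual Λ (It (Spec (CommRingCat.of k)) d)).Refl E)
    (a : X ⟶ Spec (CommRingCat.of k)) [Smooth a]
    (L : CochainComplex (EtModW.Mod Λ X) ℤ) (hL : L = unitCx Λ X)
    (K : CochainComplex (EtModW.Mod Λ X) ℤ) [EtModD.HasLTensorCx K] [EtModD.HasRHom K]
    (hK : EtModD.IsDbc (DerivedCategory.Q.obj K))
    (DK : CochainComplex (EtModW.Mod Λ X) ℤ) [EtModD.HasLTensorCx DK] [EtModD.HasRHom DK]
    (hDK : Nonempty (DerivedCategory.Q.obj DK ≅ EtModD.dual (DerivedCategory.Q.obj L) K)) :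
    Nonempty (DerivedCategory.Q.obj K ≅ EtModD.dual (DerivedCategory.Q.obj L) DK) :=
  BidRed538Main.bidual (BidEtStd.etRefl Λ) (fun w _ _ F => BidEtRetr.exists_retraction w F) k hP a L hL K hK DK hDK

end Groth.Agent.Sga4h.BidEtMain
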