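import Mathlib.CategoryTheory.Adjunction.Basic
import Mathlib.CategoryTheory.Yoneda

/-!
# Internal Hom and projection formula, abstractly

`R : V ⥤ V'` with left adjoint `S`, functors `L : V ⥤ V`, `L' : V' ⥤ V'` with right adjoints `G`, `G'`, and
`φ : R ⋙ L' ⟶ L ⋙ R`.  Then the maps `theta : R (G C) ⟶ G' (R C)` and `pi : S (L' P) ⟶ L (S P)` are mates
of `φ`, and all `theta` are isomorphisms iff all `pi` are.
-/

set_option autoImplicit false
universe v v' u u'

namespace Groth.Agent.Sga4h.BidEtMate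

open CategoryTheory

variable {V : Type u} [Category.{v} V] {V' : Type u'} [Category.{v'} V']
  {R : V ⥤ V'} {S : V' ⥤ V} (adj : S ⊣ R) {L G : V ⥤ V} (adjL : L ⊣ G) {L' G' : V' ⥤ V'} (adjL' : L' ⊣ G')
  (φ : R ⋙ L' ⟶ L ⋙ R)

/-- The map `R (G C) ⟶ G' (R C)`. -/
def theta (C : V) : R.obj (G.obj C) ⟶ G'.obj (R.obj C) :=
  adjL'.homEquiv _ _ (φ.app (G.obj C) ≫ R.map (adjL.counit.app C))

/-- The map `S (L' P) ⟶ L (S P)`. -/
def pi (P : V') : S.obj (L'.obj P) ⟶ L.obj (S.obj P) :=
  (adj.homEquiv _ _).symm (L'.map (adj.unit.app P) ≫ φ.app (S.obj P))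

lemma key (P : V') (C : V) (g : L.obj (S.obj P) ⟶ C) :
    adjL'.homEquiv _ _ (adj.homEquiv _ _ (pi adj φ P ≫ g)) =
      adj.homEquiv _ _ (adjL.homEquiv _ _ g) ≫ theta adjL adjL' φ C := by
  rw [adj.homEquiv_naturality_right, pi, Equiv.apply_symm_apply, theta, ← adjL'.homEquiv_naturality_left]
  congr 1
  rw [adj.homEquiv_unit, L'.map_comp, Category.assoc, Category.assoc]
  congr 1
  have h := φ.naturality (adjL.homEquiv _ _ g)
  have h2 : (φ.app (S.obj P) ≫ R.map (L.map (adjL.homEquiv _ _ g))) ≫ R.map (adjL.counit.app C) =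
      φ.app (S.obj P) ≫ R.map g := by
    rw [Category.assoc, ← R.map_comp]
    congr 2
    exact (adjL.homEquiv_counit _ _ _).symm.trans (Equiv.symm_apply_apply _ _)
  rw [← h2]
  exact (congrArg (· ≫ R.map (adjL.counit.app C)) h.symm).trans (Category.assoc _ _ _)

/-- `Hom (L (S P), C) ≃ Hom (P, R (G C))`. -/
def eqA (P : V') (C : V) : (L.obj (S.obj P) ⟶ C) ≃ (P ⟶ R.obj (G.obj C)) :=
  (adjL.homEquiv _ _).trans (adj.homEquiv _ _)

/-- `Hom (S (L' P), C) ≃ Hom (P, G' (R C))`. -/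
def eqB (P : V') (C : V) : (S.obj (L'.obj P) ⟶ C) ≃ (P ⟶ G'.obj (R.obj C)) :=
  (adj.homEquiv _ _).trans (adjL'.homEquiv _ _)

lemma comm (P : V') (C : V) :
    (eqB adj adjL' P C) ∘ (fun g : L.obj (S.obj P) ⟶ C => pi adj φ P ≫ g) =
      (fun f => f ≫ theta adjL adjL' φ C) ∘ (eqA adj adjL P C) := by
  ext g
  exact key adj adjL adjL' φ P C g

include adj in
/-- If the projection maps are isomorphisms then `R` commutes with internal Hom. -/
theorem isIso_theta (C : V) (h : ∀ P, IsIso (pi adj φ P)) : IsIso (theta adjL adjL' φ C) := by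
  refine isIso_of_yoneda_map_bijective _ (fun P => ?_)
  have := (isIso_iff_coyoneda_map_bijective _).1 (h P) C
  rw [← Function.Bijective.of_comp_iff _ (eqA adj adjL P C).bijective, ← comm adj adjL adjL' φ P C]
  exact (eqB adj adjL' P C).bijective.comp this

include adjL adjL' in
/-- If `R` commutes with internal Hom then the projection maps are isomorphisms. -/
theorem isIso_pi (P : V') (h : ∀ C, IsIso (theta adjL adjL' φ C)) : IsIso (pi adj φ P) := by
  refine isIso_of_coyoneda_map_bijective _ (fun C => ?_)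
  have := (isIso_iff_yoneda_map_bijective _).1 (h C) P
  rw [← Function.Bijective.of_comp_iff' (eqB adj adjL' P C).bijective, comm adj adjL adjL' φ P C]
  exact this.comp (eqA adj adjL P C).bijective

lemma unit_pi (P : V') : adj.unit.app _ ≫ R.map (pi adj φ P) = L'.map (adj.unit.app P) ≫ φ.app (S.obj P) := by
  refine (adj.homEquiv_unit _ _ _).symm.trans ?_
  exact Equiv.apply_symm_apply _ _

section Congr

variable {L₂ : V ⥤ V} {L₂' : V' ⥤ V'} (φ₂ : R ⋙ L₂' ⟶ L₂ ⋙ R) (s : L ⟶ L₂) (s' : L' ⟶ L₂')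
  (hs : ∀ K : V, φ.app K ≫ R.map (s.app K) = s'.app (R.obj K) ≫ φ₂.app K)

include hs in
/-- Naturality of the projection map in the functors `L`, `L'`. -/
lemma pi_congr (P : V') : S.map (s'.app P) ≫ pi adj φ₂ P = pi adj φ P ≫ s.app (S.obj P) := by
  apply (adj.homEquiv _ _).injective
  rw [adj.homEquiv_naturality_left, adj.homEquiv_naturality_right, pi, pi, Equiv.apply_symm_apply,
    Equiv.apply_symm_apply, Category.assoc, hs, ← Category.assoc, ← Category.assoc]
  exact congrArg (· ≫ φ₂.app (S.obj P)) (s'.naturality _).symm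

include hs in
theorem isIso_pi_of_congr [IsIso s] [IsIso s'] (P : V') (h : IsIso (pi adj φ₂ P)) : IsIso (pi adj φ P) := by
  have e := pi_congr adj φ φ₂ s s' hs P
  have h2 : IsIso (pi adj φ P ≫ s.app (S.obj P)) := by
    rw [← e]
    infer_instance
  exact IsIso.of_isIso_comp_right _ (s.app (S.obj P))

end Congr

end Groth.Agent.Sga4h.BidEtMate
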