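import Groth.Agent.Sga4h.BidEtSh
import Groth.Agent.Sga4h.BidEtCmp
import Groth.Agent.Sga4h.DualEt

/-!
# Duality and restriction along an etale morphism

For `j : U ⟶ X` etale: the projection maps `j_! (A ⊗ j^* B) ⟶ j_! A ⊗ B` are isomorphisms (`isIso_projObj`),
`j^* (D_J E) ⟶ D_{J'} (j^* E)` is a quasi-isomorphism for `j^* J ⟶ J'` a quasi-isomorphism and
`j^* (ev_E)` is a quasi-isomorphism iff `j^* E` is reflexive.
-/

set_option autoImplicit false
universe u
open CategoryTheory CategoryTheory.Limits AlgebraicGeometry Opposite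

attribute [local instance 5000] CategoryTheory.Abelian.toPreadditive
  CategoryTheory.Preadditive.preadditiveHasZeroMorphisms

namespace Groth.Agent.Sga4h.BidEtMod

open scoped Groth.Agent.Sga4h.ModInst
open Groth.Agent.Sga4h.ModDTensor Groth.Agent.Sga4h.BidEtSh Groth.Agent.Sga4h.Refl Groth.Agent.Sga4h.DualEt

variable (Λ : Type (u + 1)) [CommRing Λ] {U X : Scheme.{u}} (j : U ⟶ X) [hj : AlgebraicGeometry.Etale j]

theorem isIso_projObj (A : EtModW.Mod Λ U) (B : EtModW.Mod Λ X) :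
    IsIso (BidEtCx.projObj (T := EtModD.tensorBi Λ X) (T' := EtModD.tensorBi Λ U) (adjM Λ j) (tauM Λ j) A B) :=
  BidEtCx.isIso_projObj_of_symm (T := EtModD.tensorBi Λ X) (T' := EtModD.tensorBi Λ U) (adjM Λ j) (tauM Λ j)
    (tensorFlipIso Λ X) (tensorFlipIso Λ U) (fun a b => tauM_symm Λ j a b) A B (isIso_projM Λ j B A)

instance additive_resM' : (resM Λ j).Additive := additive_resM Λ j

instance additive_shrM' : (shrM Λ j).Additive := additive_shrM Λ j

theorem quasiIso_cmp {J : CochainComplex (EtModW.Mod Λ X) ℤ} {J' : CochainComplex (EtModW.Mod Λ U) ℤ}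
    [J.IsKInjective] [J'.IsKInjective]
    (f : ((resM Λ j).mapHomologicalComplex (ComplexShape.up ℤ)).obj J ⟶ J') [QuasiIso f]
    (E : CochainComplex (EtModW.Mod Λ X) ℤ) : QuasiIso (BidCmp.cmp (tauM Λ j) f E) :=
  BidEtCmp.quasiIso_cmp (tauM Λ j) (adjM Λ j) (isIso_projObj Λ j) f E

end Groth.Agent.Sga4h.BidEtMod
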