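import Groth.Agent.Etcore.ShriekExact
import Groth.Agent.Sga4h.ModDTensor
import Groth.Agent.Sga4h.BidEtMate
import Mathlib.Algebra.Category.ModuleCat.AB

/-!
# Extension by zero of presheaves of modules along an etale morphism

`j : U ⟶ X` etale, `Λ : Type (u + 1)`.  For presheaves of `Λ`-modules on the small etale sites:
* `resP Λ j`: restriction (precomposition with `EtShriek.compEtale j`), `shrP Λ j` its left adjoint;
* `isColimitCofan`: `(shrP P)(W)` is the coproduct of the `P (W, φ)` over the lifts `φ : W ⟶ U`;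
* `shrP` preserves finite limits;
* `isIso_projP`: the projection map `shrP (resP Q ⊗ P) ⟶ Q ⊗ shrP P` is an isomorphism;
* `isIso_thetaP`: `resP (ihom Q C) ⟶ ihom (resP Q) (resP C)` is an isomorphism.
-/

set_option autoImplicit false
universe u
open CategoryTheory CategoryTheory.Limits AlgebraicGeometry MonoidalCategory Opposite
open Groth.Agent.Sga4h.ModDTensor Groth.Agent.Etcore.ShriekExact

namespace Groth.Agent.Sga4h.BidEtPre

variable (Λ : Type (u + 1)) [CommRing Λ] {U X : Scheme.{u}} (j : U ⟶ X) [hj : AlgebraicGeometry.Etale j]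

/-- Restriction of presheaves of modules along an etale morphism. -/
noncomputable abbrev resP : PMod Λ X ⥤ PMod Λ U :=
  (Functor.whiskeringLeft _ _ _).obj (EtShriek.compEtale j).op

/-- Extension by zero of presheaves of modules along an etale morphism. -/
noncomputable abbrev shrP : PMod Λ U ⥤ PMod Λ X := (EtShriek.compEtale j).op.lan

/-- The adjunction. -/
noncomputable abbrev adjP : shrP Λ j ⊣ resP Λ j := (EtShriek.compEtale j).op.lanAdjunction _

variable {Λ}

/-- The structure maps of the coproduct decomposition of the sections of `shrP P`. -/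
noncomputable def inj (P : PMod Λ U) (W : X.Etale) (φ : LiftIdx j W) :
    P.obj (op (liftObj j W φ)) ⟶ ((shrP Λ j).obj P).obj (op W) :=
  ((adjP Λ j).unit.app P).app (op (liftObj j W φ)) ≫ ((shrP Λ j).obj P).map (liftHom j W φ).op

/-- The sections of `shrP P` over `W` are the coproduct of the `P (W, φ)`. -/
noncomputable def isColimitCofan (P : PMod Λ U) (W : X.Etale) :
    IsColimit (Cofan.mk (((shrP Λ j).obj P).obj (op W)) (inj j P W)) := by
  have h := Functor.isPointwiseLeftKanExtensionLeftKanExtensionUnit (EtShriek.compEtale j).op P (op W)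
  have h2 := (Functor.Final.isColimitWhiskerEquiv (discFunctor j W) _).symm h
  have e : ∀ φ : LiftIdx j W, inj j P W φ =
      (Cocone.whisker (discFunctor j W) (Functor.LeftExtension.coconeAt
        (Functor.LeftExtension.mk ((EtShriek.compEtale j).op.leftKanExtension P)
                ((EtShriek.compEtale j).op.leftKanExtensionUnit P)) (op W))).ι.app ⟨φ⟩ := by
    intro φ
    dsimp [inj]
    rw [Functor.lanAdjunction_unit]
    rfl
  let c : Cofan (fun φ : LiftIdx j W => P.obj (op (liftObj j W φ))) →
      Cocone (discFunctor j W ⋙ CostructuredArrow.proj _ _ ⋙ P) := fun s =>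
    ⟨s.pt, { app := fun φ => s.inj φ.as, naturality := by
              rintro ⟨a⟩ ⟨b⟩ f
              obtain rfl : a = b := Discrete.eq_of_hom f
              obtain rfl : f = 𝟙 _ := Subsingleton.elim _ _
              rw [CategoryTheory.Functor.map_id, CategoryTheory.Functor.map_id]
              exact (Category.id_comp _).trans (Category.comp_id _).symm }⟩
  refine Cofan.IsColimit.mk _ (fun s => h2.desc (c s)) ?_ ?_
  · intro s φ
    exact (congrArg (· ≫ _) (e φ)).trans (h2.fac (c s) ⟨φ⟩)
  · intro s m hm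
    apply h2.hom_ext
    rintro ⟨φ⟩
    refine (congrArg (· ≫ m) (e φ).symm).trans ?_
    exact (hm φ).trans (h2.fac (c s) ⟨φ⟩).symm

instance hasExactColimitsOfShape_costr (W : (X.Etale)ᵒᵖ) :
    HasExactColimitsOfShape (CostructuredArrow (EtShriek.compEtale j).op W)
      (ModuleCat.{u + 1} Λ) :=
  hasExactColimitsOfShape_of_final _ (discFunctor j W.unop)

instance preservesFiniteLimits_shrP : PreservesFiniteLimits (shrP Λ j) where
  preservesFiniteLimits J _ _ := preservesLimitsOfShape_lan J _ (fun _ => inferInstance)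

/-- Restriction commutes with the tensor product. -/
noncomputable def tensP (Q K : PMod Λ X) :
    (resP Λ j).obj (Q ⊗ K) ≅ (resP Λ j).obj Q ⊗ (resP Λ j).obj K :=
  NatIso.ofComponents (fun _ => Iso.refl _) (fun _ => (Category.comp_id _).trans (Category.id_comp _).symm)

lemma tensP_hom_app (Q K : PMod Λ X) (V : U.Etaleᵒᵖ) : (tensP j Q K).hom.app V = 𝟙 _ := rfl

lemma tensP_inv_app (Q K : PMod Λ X) (V : U.Etaleᵒᵖ) : (tensP j Q K).inv.app V = 𝟙 _ := rfl

/-- The projection map. -/
noncomputable def projP (Q : PMod Λ X) (P : PMod Λ U) :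
    (shrP Λ j).obj ((resP Λ j).obj Q ⊗ P) ⟶ Q ⊗ (shrP Λ j).obj P :=
  ((adjP Λ j).homEquiv _ _).symm (((resP Λ j).obj Q ◁ (adjP Λ j).unit.app P) ≫ (tensP j Q _).inv)

lemma unit_projP (Q : PMod Λ X) (P : PMod Λ U) :
    (adjP Λ j).unit.app _ ≫ (resP Λ j).map (projP j Q P) =
      ((resP Λ j).obj Q ◁ (adjP Λ j).unit.app P) ≫ (tensP j Q _).inv := by
  refine ((adjP Λ j).homEquiv_unit _ _ _).symm.trans ?_
  exact Equiv.apply_symm_apply _ _

lemma inj_projP (Q : PMod Λ X) (P : PMod Λ U) (W : X.Etale) (φ : LiftIdx j W) :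
    inj j ((resP Λ j).obj Q ⊗ P) W φ ≫ (projP j Q P).app (op W) =
      (Q.map (liftHom j W φ).op ▷ P.obj (op (liftObj j W φ))) ≫ (Q.obj (op W) ◁ inj j P W φ) := by
  have h := congr_app (unit_projP j Q P) (op (liftObj j W φ))
  have h' : ((adjP Λ j).unit.app ((resP Λ j).obj Q ⊗ P)).app (op (liftObj j W φ)) ≫
      (projP j Q P).app (op ((EtShriek.compEtale j).obj (liftObj j W φ))) =
      Q.obj (op ((EtShriek.compEtale j).obj (liftObj j W φ))) ◁
        ((adjP Λ j).unit.app P).app (op (liftObj j W φ)) := h.trans (Category.comp_id _)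
  have hn := (projP j Q P).naturality (liftHom j W φ).op
  refine (Category.assoc _ _ _).trans ?_
  refine (congrArg (((adjP Λ j).unit.app ((resP Λ j).obj Q ⊗ P)).app (op (liftObj j W φ)) ≫ ·) hn).trans ?_
  refine (Category.assoc _ _ _).symm.trans ?_
  refine (congrArg (· ≫ (Q ⊗ (shrP Λ j).obj P).map (liftHom j W φ).op) h').trans ?_
  rw [Monoidal.tensorObj_map, inj, MonoidalCategory.whiskerLeft_comp, MonoidalCategory.tensorHom_def]
  rw [← MonoidalCategory.whisker_exchange_assoc]
  rfl

lemma isIso_map_liftHom (Q : PMod Λ X) (W : X.Etale) (φ : LiftIdx j W) :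
    IsIso (Q.map (liftHom j W φ).op) := by
  have : IsIso (liftHom j W φ) := by
    refine ⟨MorphismProperty.Over.homMk (𝟙 W.left) ((Category.id_comp _).trans φ.down.2.symm), ?_, ?_⟩
    · exact MorphismProperty.Over.Hom.ext (Category.id_comp _)
    · exact MorphismProperty.Over.Hom.ext (Category.id_comp _)
  infer_instance

instance isIso_projP (Q : PMod Λ X) (P : PMod Λ U) : IsIso (projP j Q P) := by
  have (W : X.Etaleᵒᵖ) : IsIso ((projP j Q P).app W) := by
    obtain ⟨W⟩ := W
    have := isIso_map_liftHom j Q W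
    let hc := isColimitCofan j ((resP Λ j).obj Q ⊗ P) W
    let hc' := isColimitOfPreserves (tensorLeft (Q.obj (op W))) (isColimitCofan j P W)
    let α : Discrete.functor (fun φ : LiftIdx j W => ((resP Λ j).obj Q ⊗ P).obj (op (liftObj j W φ))) ≅
        Discrete.functor (fun φ : LiftIdx j W => P.obj (op (liftObj j W φ))) ⋙
          tensorLeft (Q.obj (op W)) :=
      Discrete.natIso (fun φ => whiskerRightIso (asIso (Q.map (liftHom j W φ.as).op))
        (P.obj (op (liftObj j W φ.as))))
    have h : (projP j Q P).app (op W) = (hc.coconePointsIsoOfNatIso hc' α).hom := by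
      refine hc.hom_ext (fun φ => ?_)
      exact (inj_projP j Q P W φ.as).trans (IsColimit.comp_coconePointsIsoOfNatIso_hom hc hc' α φ).symm
    rw [h]
    infer_instance
  exact NatIso.isIso_of_isIso_app _

section IHom

open MonoidalClosed MonoidalClosed.FunctorCategory Enriched.FunctorCategory

/-- The natural transformation `resP Q ⊗ resP K ⟶ resP (Q ⊗ K)`. -/
noncomputable def phiP (Q : PMod Λ X) :
    resP Λ j ⋙ tensorLeft ((resP Λ j).obj Q) ⟶ tensorLeft Q ⋙ resP Λ j where
  app K := (tensP j Q K).inv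
  naturality K K' f := by
    ext V : 2
    exact (Category.comp_id _).trans (Category.id_comp _).symm

lemma projP_eq (Q : PMod Λ X) (P : PMod Λ U) :
    projP j Q P = BidEtMate.pi (adjP Λ j) (phiP j Q) P := rfl

/-- Restriction commutes with the internal Hom of presheaves. -/
noncomputable def thetaP (Q C : PMod Λ X) :
    (resP Λ j).obj ((ihom Q).obj C) ⟶ (ihom ((resP Λ j).obj Q)).obj ((resP Λ j).obj C) :=
  BidEtMate.theta (ihom.adjunction Q) (ihom.adjunction ((resP Λ j).obj Q)) (phiP j Q) C

instance isIso_thetaP (Q C : PMod Λ X) : IsIso (thetaP j Q C) :=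
  BidEtMate.isIso_theta (adjP Λ j) _ _ (phiP j Q) C (fun P => isIso_projP j Q P)

end IHom

end Groth.Agent.Sga4h.BidEtPre
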