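import Groth.Agent.Sga4h.BidEtPre
import Groth.Agent.Sga4h.EtaleRes
import Mathlib.CategoryTheory.Sites.CoverLifting

/-!
# Restriction and extension by zero of sheaves of modules along an etale morphism

`j : U ⟶ X` etale, `Λ : Type (u + 1)`:
* `resM Λ j : EtModW.Mod Λ X ⥤ EtModW.Mod Λ U` restriction, `shrM Λ j` its left adjoint, both exact;
* `tauM`: `resM A ⊗ resM B ≅ resM (A ⊗ B)`, compatible with the symmetry;
* `isIso_thetaM`: `resM (ihomSh B C) ⟶ ihomSh (resM B) (resM C)` is an isomorphism;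
* `isIso_projM`: `shrM (resM B ⊗ A) ⟶ B ⊗ shrM A` is an isomorphism.
-/

set_option autoImplicit false
universe u
open CategoryTheory CategoryTheory.Limits AlgebraicGeometry MonoidalCategory Opposite
open Groth.Agent.Sga4h.ModDTensor Groth.Agent.Sga4h.BidEtPre

namespace Groth.Agent.Sga4h.BidEtSh

variable (Λ : Type (u + 1)) [CommRing Λ] {U X : Scheme.{u}} (j : U ⟶ X) [hj : AlgebraicGeometry.Etale j]

instance isContinuous_compEtale : (EtShriek.compEtale j).IsContinuous U.smallEtaleTopology X.smallEtaleTopology :=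
  EtaleRes.jCont j

/-- Restriction of sheaves of modules along an etale morphism. -/
noncomputable abbrev resM : EtModW.Mod Λ X ⥤ EtModW.Mod Λ U :=
  (EtShriek.compEtale j).sheafPushforwardContinuous (ModuleCat.{u + 1} Λ)
    U.smallEtaleTopology X.smallEtaleTopology

/-- Extension by zero of sheaves of modules along an etale morphism. -/
noncomputable abbrev shrM : EtModW.Mod Λ U ⥤ EtModW.Mod Λ X :=
  (EtShriek.compEtale j).sheafPullback (ModuleCat.{u + 1} Λ)
    U.smallEtaleTopology X.smallEtaleTopology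

/-- Extension by zero is left adjoint to restriction. -/
noncomputable abbrev adjM : shrM Λ j ⊣ resM Λ j :=
  (EtShriek.compEtale j).sheafAdjunctionContinuous (ModuleCat.{u + 1} Λ)
    U.smallEtaleTopology X.smallEtaleTopology

instance preservesFiniteLimits_shrM : PreservesFiniteLimits (shrM Λ j) := by
  have : PreservesFiniteLimits ((EtShriek.compEtale j).op.lan ⋙
      presheafToSheaf X.smallEtaleTopology (ModuleCat.{u + 1} Λ)) :=
    comp_preservesFiniteLimits (shrP Λ j) _
  have : PreservesFiniteLimits (Functor.sheafPullbackConstruction.sheafPullback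
      (EtShriek.compEtale j) (ModuleCat.{u + 1} Λ) U.smallEtaleTopology X.smallEtaleTopology) :=
    comp_preservesFiniteLimits _ _
  exact preservesFiniteLimits_of_natIso
    (Functor.sheafPullbackConstruction.sheafPullbackIso
      (EtShriek.compEtale j) (ModuleCat.{u + 1} Λ) U.smallEtaleTopology X.smallEtaleTopology).symm

/-- Restriction along an etale morphism is left adjoint to direct image. -/
noncomputable def restrPushAdjM [EtCoh.BCCont j] : resM Λ j ⊣ EtModW.push Λ j :=
  (EtaleRes.compBcAdj j).sheafPushforwardContinuous U.smallEtaleTopology X.smallEtaleTopology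

/-- The inverse image along an etale morphism is restriction. -/
noncomputable def pullIsoResM : EtModW.pull Λ j ≅ resM Λ j :=
  Adjunction.leftAdjointUniq ((EtCoh.bc j).sheafAdjunctionContinuous (ModuleCat.{u + 1} Λ)
    X.smallEtaleTopology U.smallEtaleTopology) (restrPushAdjM Λ j)

instance isLeftAdjoint_resM : (resM Λ j).IsLeftAdjoint := (restrPushAdjM Λ j).isLeftAdjoint

instance isRightAdjoint_resM : (resM Λ j).IsRightAdjoint := (adjM Λ j).isRightAdjoint

instance isLeftAdjoint_shrM : (shrM Λ j).IsLeftAdjoint := (adjM Λ j).isLeftAdjoint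

instance preservesFiniteLimits_resM : PreservesFiniteLimits (resM Λ j) :=
  have : PreservesLimitsOfSize.{0, 0} (resM Λ j) := (adjM Λ j).rightAdjoint_preservesLimits
  PreservesLimitsOfSize.preservesFiniteLimits _

instance preservesFiniteColimits_resM : PreservesFiniteColimits (resM Λ j) :=
  have : PreservesColimitsOfSize.{0, 0} (resM Λ j) := (restrPushAdjM Λ j).leftAdjoint_preservesColimits
  PreservesColimitsOfSize.preservesFiniteColimits _

instance preservesFiniteColimits_shrM : PreservesFiniteColimits (shrM Λ j) :=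
  have : PreservesColimitsOfSize.{0, 0} (shrM Λ j) := (adjM Λ j).leftAdjoint_preservesColimits
  PreservesColimitsOfSize.preservesFiniteColimits _

instance additive_resM : (resM Λ j).Additive where

instance additive_shrM : (shrM Λ j).Additive := (adjM Λ j).left_adjoint_additive

/-- Restriction commutes with sheafification. -/
noncomputable def shRes : resP Λ j ⋙ sh Λ U ≅ sh Λ X ⋙ resM Λ j :=
  (EtShriek.compEtale j).pushforwardContinuousSheafificationCompatibility (ModuleCat.{u + 1} Λ)
    U.smallEtaleTopology X.smallEtaleTopology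

lemma toSheafify_shRes (P : PMod Λ X) :
    toSheafify U.smallEtaleTopology ((resP Λ j).obj P) ≫ ((shRes Λ j).hom.app P).hom =
      (resP Λ j).map (toSheafify X.smallEtaleTopology P) :=
  Functor.toSheafify_pullbackSheafificationCompatibility _ _ _ _ _

/-- The restriction of a constant sheaf of modules is constant. -/
noncomputable def constResM (M : Type (u + 1)) [AddCommGroup M] [Module Λ M] :
    (resM Λ j).obj (EtModW.constMod Λ X M) ≅ EtModW.constMod Λ U M :=
  ((shRes Λ j).app ((Functor.const X.Etaleᵒᵖ).obj (ModuleCat.of Λ M))).symm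

/-- The map `resM A ⊗ resM B ≅ resM (A ⊗ B)`. -/
noncomputable def tauIso (A B : EtModW.Mod Λ X) :
    ((EtModD.tensorBi Λ U).obj ((resM Λ j).obj A)).obj ((resM Λ j).obj B) ≅
      (resM Λ j).obj (((EtModD.tensorBi Λ X).obj A).obj B) :=
  (sh Λ U).mapIso (BidEtPre.tensP j ((inc Λ X).obj A) ((inc Λ X).obj B)).symm ≪≫
    (shRes Λ j).app (((inc Λ X).obj A : PMod Λ X) ⊗ ((inc Λ X).obj B : PMod Λ X))

lemma tauIso_hom (A B : EtModW.Mod Λ X) : (tauIso Λ j A B).hom =
    (sh Λ U).map (BidEtPre.tensP j ((inc Λ X).obj A) ((inc Λ X).obj B)).inv ≫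
    (shRes Λ j).hom.app (((inc Λ X).obj A : PMod Λ X) ⊗ ((inc Λ X).obj B : PMod Λ X)) := rfl

lemma tauIso_naturality {A A' B B' : EtModW.Mod Λ X}
    (f : ((inc Λ X).obj A ⊗ (inc Λ X).obj B : PMod Λ X) ⟶ ((inc Λ X).obj A' ⊗ (inc Λ X).obj B' : PMod Λ X))
    (g : (((resP Λ j).obj ((inc Λ X).obj A)) ⊗ ((resP Λ j).obj ((inc Λ X).obj B)) : PMod Λ U) ⟶
      (((resP Λ j).obj ((inc Λ X).obj A')) ⊗ ((resP Λ j).obj ((inc Λ X).obj B')) : PMod Λ U))
    (h : g ≫ (BidEtPre.tensP j ((inc Λ X).obj A') ((inc Λ X).obj B')).inv =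
      (BidEtPre.tensP j ((inc Λ X).obj A) ((inc Λ X).obj B)).inv ≫ (resP Λ j).map f) :
    (sh Λ U).map g ≫ (tauIso Λ j A' B').hom = (tauIso Λ j A B).hom ≫ (resM Λ j).map ((sh Λ X).map f) := by
  rw [tauIso_hom, tauIso_hom]
  refine (Category.assoc _ _ _).symm.trans ?_
  refine (congrArg (· ≫ _) ((sh Λ U).map_comp _ _).symm).trans ?_
  refine (congrArg (fun k => (sh Λ U).map k ≫ _) h).trans ?_
  refine (congrArg (· ≫ _) ((sh Λ U).map_comp _ _)).trans ?_
  refine (Category.assoc _ _ _).trans (Eq.trans ?_ (Category.assoc _ _ _).symm)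
  exact congrArg (_ ≫ ·) ((shRes Λ j).hom.naturality f)

/-- `resM A ⊗ resM B ≅ resM (A ⊗ B)` as a natural transformation of bifunctors. -/
noncomputable def tauM :
    resM Λ j ⋙ EtModD.tensorBi Λ U ⋙ (Functor.whiskeringLeft _ _ _).obj (resM Λ j) ⟶
      EtModD.tensorBi Λ X ⋙ (Functor.whiskeringRight _ _ _).obj (resM Λ j) where
  app A :=
    { app := fun B => (tauIso Λ j A B).hom
      naturality := fun B B' g => tauIso_naturality Λ j _ _ (by
        ext V : 2
        exact (Category.comp_id _).trans (Category.id_comp _).symm) }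
  naturality A A' f := by
    ext B : 2
    exact tauIso_naturality Λ j _ _ (by
        ext V : 2
        exact (Category.comp_id _).trans (Category.id_comp _).symm)

lemma tauM_app_app (A B : EtModW.Mod Λ X) : ((tauM Λ j).app A).app B = (tauIso Λ j A B).hom := rfl

instance isIso_tauM : IsIso (tauM Λ j) := by
  have : ∀ A, IsIso ((tauM Λ j).app A) := fun A => by
    have : ∀ B, IsIso (((tauM Λ j).app A).app B) := fun B =>
      inferInstanceAs (IsIso (tauIso Λ j A B).hom)
    exact NatIso.isIso_of_isIso_app _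
  exact NatIso.isIso_of_isIso_app _

/-- The comparison map is compatible with the symmetries. -/
lemma tauM_symm (A B : EtModW.Mod Λ X) :
    ((tensorFlipIso Λ U).hom.app ((resM Λ j).obj B)).app ((resM Λ j).obj A) ≫ (tauIso Λ j B A).hom =
      (tauIso Λ j A B).hom ≫ (resM Λ j).map (((tensorFlipIso Λ X).hom.app B).app A) :=
  tauIso_naturality Λ j _ _ (by
        ext V : 2
        exact (Category.comp_id _).trans (Category.id_comp _).symm)

section IHom

open MonoidalClosed MonoidalClosed.FunctorCategory Enriched.FunctorCategory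

lemma inc_map_homEquiv {Y : Scheme.{u}} (F G H : EtModW.Mod Λ Y)
    (f : ((EtModD.tensorBi Λ Y).obj F).obj G ⟶ H) :
    (inc Λ Y).map ((tensorHomAdj F).homEquiv G H f) =
      (ihom.adjunction ((inc Λ Y).obj F : PMod Λ Y)).homEquiv _ _
        ((sheafificationAdjunction Y.smallEtaleTopology (ModuleCat.{u + 1} Λ)).homEquiv _ H f) := by
  have e : (tensorHomAdj F).homEquiv G H f =
      ((fullyFaithfulSheafToPresheaf Y.smallEtaleTopology (ModuleCat.{u + 1} Λ)).homEquiv
              (X := G) (Y := (ihomSh F).obj H)).symm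
        ((ihom.adjunction ((inc Λ Y).obj F : PMod Λ Y)).homEquiv _ _
        ((sheafificationAdjunction Y.smallEtaleTopology (ModuleCat.{u + 1} Λ)).homEquiv _ H f)) := by
    unfold tensorHomAdj
    rw [Adjunction.mkOfHomEquiv_homEquiv]
    rfl
  rw [e]
  exact Equiv.apply_symm_apply ((fullyFaithfulSheafToPresheaf Y.smallEtaleTopology
    (ModuleCat.{u + 1} Λ)).homEquiv (X := G) (Y := (ihomSh F).obj H)) _

lemma toSheafify_counit {Y : Scheme.{u}} (F H : EtModW.Mod Λ Y) :
    (sheafificationAdjunction Y.smallEtaleTopology (ModuleCat.{u + 1} Λ)).homEquiv _ H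
      ((tensorHomAdj F).counit.app H) =
      (ihom.adjunction ((inc Λ Y).obj F : PMod Λ Y)).counit.app ((inc Λ Y).obj H) := by
  apply ((ihom.adjunction ((inc Λ Y).obj F : PMod Λ Y)).homEquiv _ _).injective
  refine (inc_map_homEquiv Λ F ((ihomSh F).obj H) H _).symm.trans ?_
  have h1 : (tensorHomAdj F).homEquiv ((ihomSh F).obj H) H ((tensorHomAdj F).counit.app H) = 𝟙 _ := by
    rw [← Adjunction.homEquiv_symm_id, Equiv.apply_symm_apply]
  have h2 : (ihom.adjunction ((inc Λ Y).obj F : PMod Λ Y)).homEquiv _ ((inc Λ Y).obj H)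
      ((ihom.adjunction ((inc Λ Y).obj F : PMod Λ Y)).counit.app ((inc Λ Y).obj H)) = 𝟙 _ := by
    rw [← Adjunction.homEquiv_symm_id, Equiv.apply_symm_apply]
  refine (congrArg (inc Λ Y).map h1).trans ?_
  exact ((inc Λ Y).map_id _).trans h2.symm

lemma toSheafify_tauIso (A B : EtModW.Mod Λ X) :
    toSheafify U.smallEtaleTopology (((resP Λ j).obj ((inc Λ X).obj A) : PMod Λ U) ⊗
        ((resP Λ j).obj ((inc Λ X).obj B) : PMod Λ U)) ≫ (inc Λ U).map (tauIso Λ j A B).hom =
      (BidEtPre.tensP j ((inc Λ X).obj A) ((inc Λ X).obj B)).inv ≫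
        (resP Λ j).map (toSheafify X.smallEtaleTopology
          (((inc Λ X).obj A : PMod Λ X) ⊗ ((inc Λ X).obj B : PMod Λ X))) := by
  let t := (BidEtPre.tensP j ((inc Λ X).obj A) ((inc Λ X).obj B)).inv
  let P : PMod Λ X := ((inc Λ X).obj A : PMod Λ X) ⊗ ((inc Λ X).obj B : PMod Λ X)
  calc
    _ = (toSheafify U.smallEtaleTopology (((resP Λ j).obj ((inc Λ X).obj A) : PMod Λ U) ⊗
        ((resP Λ j).obj ((inc Λ X).obj B) : PMod Λ U)) ≫ sheafifyMap U.smallEtaleTopology t) ≫
          ((shRes Λ j).hom.app P).hom := (Category.assoc _ _ _).symm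
    _ = (t ≫ toSheafify U.smallEtaleTopology _) ≫ ((shRes Λ j).hom.app P).hom := by
      rw [toSheafify_naturality]
    _ = t ≫ (toSheafify U.smallEtaleTopology _ ≫ ((shRes Λ j).hom.app P).hom) := Category.assoc _ _ _
    _ = _ := congrArg (t ≫ ·) (toSheafify_shRes Λ j P)

/-- Restriction commutes with the internal Hom of sheaves of modules. -/
noncomputable def thetaM (B C : EtModW.Mod Λ X) :
    (resM Λ j).obj ((ihomSh B).obj C) ⟶ (ihomSh ((resM Λ j).obj B)).obj ((resM Λ j).obj C) :=
  BidEtMate.theta (tensorHomAdj B) (tensorHomAdj ((resM Λ j).obj B)) ((tauM Λ j).app B) C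

lemma inc_map_thetaM (B C : EtModW.Mod Λ X) :
    (inc Λ U).map (thetaM Λ j B C) = thetaP j ((inc Λ X).obj B) ((inc Λ X).obj C) := by
  refine (inc_map_homEquiv Λ _ _ _ _).trans ?_
  refine congrArg ((ihom.adjunction ((inc Λ U).obj ((resM Λ j).obj B) : PMod Λ U)).homEquiv _ _) ?_
  rw [Adjunction.homEquiv_unit]
  refine (Category.assoc _ _ _).symm.trans ?_
  refine (congrArg (· ≫ (inc Λ U).map ((resM Λ j).map ((tensorHomAdj B).counit.app C)))
    (toSheafify_tauIso Λ j B ((ihomSh B).obj C))).trans ?_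
  refine (Category.assoc _ _ _).trans ?_
  refine congrArg ((BidEtPre.tensP j ((inc Λ X).obj B) ((inc Λ X).obj ((ihomSh B).obj C))).inv ≫ ·) ?_
  refine ((resP Λ j).map_comp _ _).symm.trans (congrArg (resP Λ j).map ?_)
  exact ((sheafificationAdjunction X.smallEtaleTopology (ModuleCat.{u + 1} Λ)).homEquiv_unit _ _ _).symm.trans
    (toSheafify_counit Λ B C)

instance isIso_thetaM (B C : EtModW.Mod Λ X) : IsIso (thetaM Λ j B C) := by
  have h : IsIso ((inc Λ U).map (thetaM Λ j B C)) := by
    rw [inc_map_thetaM]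
    exact isIso_thetaP j ((inc Λ X).obj B) ((inc Λ X).obj C)
  exact isIso_of_reflects_iso _ (inc Λ U)

end IHom

/-- The projection map `j_! (j^* B ⊗ A) ⟶ B ⊗ j_! A`. -/
noncomputable def projM (B : EtModW.Mod Λ X) (A : EtModW.Mod Λ U) :
    (shrM Λ j).obj (((EtModD.tensorBi Λ U).obj ((resM Λ j).obj B)).obj A) ⟶
      ((EtModD.tensorBi Λ X).obj B).obj ((shrM Λ j).obj A) :=
  BidEtMate.pi (L' := (EtModD.tensorBi Λ U).obj ((resM Λ j).obj B)) (L := (EtModD.tensorBi Λ X).obj B)
    (adjM Λ j) ((tauM Λ j).app B) A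

instance isIso_projM (B : EtModW.Mod Λ X) (A : EtModW.Mod Λ U) : IsIso (projM Λ j B A) :=
  BidEtMate.isIso_pi (adjM Λ j) (tensorHomAdj B) (tensorHomAdj ((resM Λ j).obj B)) ((tauM Λ j).app B) A
    (fun C => isIso_thetaM Λ j B C)

end Groth.Agent.Sga4h.BidEtSh
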