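import Groth.Agent.Sga4h.BidEtRefl
import Groth.Agent.Sga4h.BidRed538Main

/-!
# Reflexivity with respect to the standard duality data and etale morphisms

`etRefl : BidRed538Asm.EtRefl (BidRed538Main.stdDual Λ)`.
-/

set_option autoImplicit false
universe u
open CategoryTheory CategoryTheory.Limits AlgebraicGeometry Opposite

attribute [local instance 5000] CategoryTheory.Abelian.toPreadditive
  CategoryTheory.Preadditive.preadditiveHasZeroMorphisms

namespace Groth.Agent.Sga4h.BidEtStd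

open scoped Groth.Agent.Sga4h.ModInst
open Groth.Agent.Sga4h.Refl Groth.Agent.Sga4h.DualEt Groth.Agent.Sga4h.BidRed538Main

variable (Λ : Type (u + 1)) [CommRing Λ]

theorem etRefl_res {V X : Scheme.{u}} (j : V ⟶ X) [Etale j] (E : CochainComplex (EtModW.Mod Λ X) ℤ)
    (hE : (stdDual Λ X).Refl E) : (stdDual Λ V).Refl ((BidRed538Asm.resC j).obj E) :=
  BidEtRefl.refl_res j (stdDual Λ X) rfl (stdι Λ X) (quasiIso_stdι Λ X) (stdDual Λ V) rfl (stdι Λ V)
    (quasiIso_stdι Λ V) E hE

theorem etRefl_loc {X : Scheme.{u}} {ι : Type u} (V : ι → Scheme.{u}) (j : ∀ i, V i ⟶ X) [∀ i, Etale (j i)]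
    (h : ∀ x : X, ∃ i, x ∈ Set.range (j i)) (E : CochainComplex (EtModW.Mod Λ X) ℤ)
    (hE : ∀ i, (stdDual Λ (V i)).Refl ((BidRed538Asm.resC (j i)).obj E)) : (stdDual Λ X).Refl E :=
  BidEtRefl.refl_of_cover j (fun x => by
    obtain ⟨i, y, hy⟩ := h x
    exact ⟨i, y, hy⟩) (stdDual Λ X) rfl (stdι Λ X) (quasiIso_stdι Λ X) E
    (fun i => ⟨stdDual Λ (V i), rfl, stdι Λ (V i), quasiIso_stdι Λ (V i), hE i⟩)

/-- Reflexivity is stable under restriction along etale morphisms and etale local. -/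
theorem etRefl : BidRed538Asm.EtRefl (stdDual Λ) where
  res j _ E hE := etRefl_res Λ j E hE
  loc V j _ h E hE := etRefl_loc Λ V j h E hE

end Groth.Agent.Sga4h.BidEtStd
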