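import Groth.Agent.Sga4B.ModExtU
import Groth.Agent.Sga4B.JFComp
import Groth.Agent.Sga4B.HTools
import Groth.Agent.Etcore.LFinite
import Groth.Agent.LoccohB.Devissage
import Mathlib.Algebra.Homology.DerivedCategory.Ext.ExactSequences

/-!
# Finiteness of étale cohomology of constructible sheaves of modules over a finite ring

* `extConstEquiv` : `Ext^q_Λ(Λ_X, F) = H^q(X, F)` for a sheaf of `Λ`-modules `F`;
* `finHom_of_homology` : devissage in the derived category;
* `finite_hom` : if étale cohomology of constructible torsion abelian sheaves on `X` is finite then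
  `Hom(Λ_X, K[i])` is finite for `K` in `D^b_c(X, Λ)`, `Λ` finite.
-/

set_option autoImplicit false
universe u w w' v

open CategoryTheory CategoryTheory.Limits CategoryTheory.Abelian AlgebraicGeometry Opposite
open Groth.Agent.Etrest.ModAb Groth.Agent.Sga4B.DualShape
open scoped Groth.Agent.Etcore.EtInst

namespace Groth.Agent.Sga4h.BidFin

section abstract

open DerivedCategory Pretriangulated

variable {C : Type u} [Category.{v} C] [Abelian C] [HasDerivedCategory.{w} C]

/-- The objects `X` such that all `Hom(Z, X[i])` are finite. -/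
def FinHom (Z : DerivedCategory C) : ObjectProperty (DerivedCategory C) :=
  fun X => ∀ i : ℤ, Finite (Z ⟶ X⟦i⟧)

instance (Z : DerivedCategory C) : (FinHom Z).IsClosedUnderIsomorphisms where
  of_iso e h i := by
    have := h i
    exact Finite.of_equiv _ (((shiftFunctor (DerivedCategory C) i).mapIso e).homToEquiv (Z := Z))

lemma finite_of_exact {G₁ G₂ G₃ : Type*} [AddCommGroup G₁] [AddCommGroup G₂] [AddCommGroup G₃]
    (a : G₁ → G₂) (b : G₂ →+ G₃) (hab : ∀ x, b x = 0 → ∃ y, a y = x) [Finite G₁] [Finite G₃] :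
    Finite G₂ := by
  have h1 : Finite b.ker := by
    let t : Set G₁ := {y | b (a y) = 0}
    have ht : Function.Surjective (fun y : t => (⟨a y.1, y.2⟩ : b.ker)) := by
      rintro ⟨x, hx⟩
      obtain ⟨y, rfl⟩ := hab x hx
      exact ⟨⟨y, hx⟩, rfl⟩
    exact Finite.of_surjective _ ht
  have h2 : Finite (G₂ ⧸ b.ker) :=
    Finite.of_injective _ (QuotientAddGroup.kerLift_injective b)
  exact Finite.of_equiv _ (AddSubgroup.addGroupEquivQuotientProdAddSubgroup (s := b.ker)).symm

lemma finHom_ext (Z : DerivedCategory C) (T : Triangle (DerivedCategory C)) (hT : T ∈ distTriang _)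
    (h1 : FinHom Z T.obj₁) (h3 : FinHom Z T.obj₃) : FinHom Z T.obj₂ := by
  intro i
  have hT' := Triangle.shift_distinguished T hT i
  have := h1 i
  have := h3 i
  refine finite_of_exact (fun f : Z ⟶ T.obj₁⟦i⟧ => f ≫ (i.negOnePow • T.mor₁⟦i⟧'))
    (AddMonoidHom.mk' (fun f : Z ⟶ T.obj₂⟦i⟧ => f ≫ (i.negOnePow • T.mor₂⟦i⟧'))
      (fun _ _ => Preadditive.add_comp _ _ _ _ _ _)) (fun x hx => ?_)
  obtain ⟨y, hy⟩ := Triangle.coyoneda_exact₂ _ hT' (X := Z) x hx
  exact ⟨y, hy.symm⟩

lemma finHom_of_isZero (Z X : DerivedCategory C) (hX : IsZero X) : FinHom Z X := by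
  intro i
  have : Subsingleton (Z ⟶ X⟦i⟧) :=
    ⟨fun f g => ((shiftFunctor (DerivedCategory C) i).map_isZero hX).eq_of_tgt _ _⟩
  infer_instance

lemma finHom_shift {Z X : DerivedCategory C} (h : FinHom Z X) (n : ℤ) : FinHom Z (X⟦n⟧) := by
  intro i
  have := h (n + i)
  exact Finite.of_equiv _ (((shiftFunctorAdd (DerivedCategory C) n i).app X).homToEquiv (Z := Z))

lemma finHom_single [HasExt.{w'} C] {Z F : C} (h : ∀ q : ℕ, Finite (Ext.{w'} Z F q)) (n : ℤ) :
    FinHom ((singleFunctor C 0).obj Z) ((singleFunctor C n).obj F) := by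
  have h0 : FinHom ((singleFunctor C 0).obj Z) ((singleFunctor C 0).obj F) := by
    intro q
    obtain ⟨m, rfl⟩ | hq : (∃ m : ℕ, q = m) ∨ q < 0 := by
      by_cases hq : q < 0
      · exact Or.inr hq
      · exact Or.inl ⟨q.toNat, by lia⟩
    · have := h m
      exact Finite.of_equiv _ (Ext.homEquiv (X := Z) (Y := F) (n := m))
    · have h0 : ∀ f : (singleFunctor C 0).obj Z ⟶ ((singleFunctor C 0).obj F)⟦q⟧, f = 0 := fun f => by
        have : (((singleFunctor C 0).obj F)⟦q⟧).IsGE (-q) :=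
          (TStructure.t : Triangulated.TStructure (DerivedCategory C)).isGE_shift _ 0 q (-q) (by lia)
        exact (TStructure.t : Triangulated.TStructure (DerivedCategory C)).zero_of_isLE_of_isGE f 0 (-q)
          (by lia) inferInstance this
      have : Subsingleton ((singleFunctor C 0).obj Z ⟶ ((singleFunctor C 0).obj F)⟦q⟧) :=
        ⟨fun f g => (h0 f).trans (h0 g).symm⟩
      infer_instance
  exact (FinHom _).prop_of_iso
    (((singleFunctors C).shiftIso (-n) n 0 (by lia)).app F) (finHom_shift h0 (-n))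

/-- Devissage. -/
theorem finHom_of_homology [HasExt.{w'} C] (Z : C) (X : DerivedCategory C) (a b : ℤ) [X.IsGE a] [X.IsLE b]
    (h : ∀ (i : ℤ) (q : ℕ), Finite (Ext.{w'} Z ((homologyFunctor C i).obj X) q)) (i : ℤ) :
    Finite ((singleFunctor C 0).obj Z ⟶ X⟦i⟧) :=
  LoccohB.Devissage.devissage (FinHom _) (finHom_of_isZero _) (finHom_ext _) X a b
    (fun i => finHom_single (h i) i) i

end abstract

section const

variable {X : Scheme.{u}} (Λ : Type (u + 1)) [CommRing Λ]

/-- The adjunction defining the constant sheaves. -/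
noncomputable abbrev cAdj (X : Scheme.{u}) :=
  constantSheafAdj X.smallEtaleTopology (ModuleCat.{u + 1} Λ) (EtCore.topIsTerminal X)

/-- The section `1` of the constant sheaf `Λ`. -/
noncomputable def one (X : Scheme.{u}) : EtCoh.sect ((ab Λ X).obj (EtModW.constMod Λ X Λ)) (EtCoh.top X) :=
  ((cAdj Λ X).unit.app (ModuleCat.of Λ Λ)).hom (1 : Λ)

lemma app_one {F : EtModW.Mod Λ X} (f : EtModW.constMod Λ X Λ ⟶ F) :
    ((ab Λ X).map f).hom.app (op (EtCoh.top X)) (one Λ X) =
      ((cAdj Λ X).homEquiv (ModuleCat.of Λ Λ) F f).hom (1 : Λ) := by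
  rw [Adjunction.homEquiv_unit]
  rfl

lemma bijective_one (F : EtModW.Mod Λ X) : Function.Bijective
    (fun f : EtModW.constMod Λ X Λ ⟶ F => ((ab Λ X).map f).hom.app (op (EtCoh.top X)) (one Λ X)) := by
  constructor
  · intro f g hfg
    dsimp only at hfg
    rw [app_one, app_one] at hfg
    apply ((cAdj Λ X).homEquiv (ModuleCat.of Λ Λ) F).injective
    ext
    exact hfg
  · intro s
    let t : (F.obj.obj (op (EtCoh.top X)) : ModuleCat Λ) := s
    refine ⟨((cAdj Λ X).homEquiv (ModuleCat.of Λ Λ) F).symm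
      (ModuleCat.ofHom (LinearMap.toSpanSingleton Λ _ t)), ?_⟩
    dsimp only
    rw [app_one, Equiv.apply_symm_apply]
    exact one_smul Λ t

/-- **Comparison**: `Ext^q_Λ(Λ_X, F) = H^q(X, F)`. -/
noncomputable def extConstEquiv (F : EtModW.Mod Λ X) (q : ℕ) :
    Ext.{u + 1} (EtModW.constMod Λ X Λ) F q ≃ EtCoh.H X ((ab Λ X).obj F) q :=
  (Equiv.ofBijective _ (Sga4B.ModExtU.bijective_comp (EtCoh.top X) Λ (EtModW.constMod Λ X Λ) (one Λ X)
    (bijective_one Λ) F q)).trans
    (Sga4B.HTools.extPrecomp (Sga4B.JFComp.topIso ℤ X).symm ((ab Λ X).obj F) q).toEquiv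

variable {Λ}

/-- Constructibility of the underlying abelian sheaf. -/
lemma isConstructible_ab [Finite Λ] {F : EtModW.Mod Λ X} (hF : EtModW.IsConstructible Λ F) :
    EtPBC.IsConstructible ((ab Λ X).obj F) :=
  (Etcore.LFinite.isConstructible_iff_ab F).1 hF

lemma killedBy_ab {n : ℕ} (hn : (n : Λ) = 0) (F : EtModW.Mod Λ X) :
    EtCoh.KilledBy n ((ab Λ X).obj F) := by
  intro U s
  let t : (F.obj.obj (op U) : ModuleCat Λ) := s
  have : n • t = 0 := by
    rw [← Nat.cast_smul_eq_nsmul Λ, hn, zero_smul]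
  exact this

/-- The finiteness statement of S0185, as a property of `X`. -/
def FinCoh (n : ℕ) (X : Scheme.{u}) : Prop :=
  ∀ (F : EtCoh.Ab X), EtPBC.IsConstructible F → EtCoh.KilledBy n F → ∀ q : ℕ, Finite (EtCoh.H X F q)

/-- Finiteness of `Ext^q(Λ_X, F)` for a constructible sheaf of modules. -/
theorem finite_ext [Finite Λ] {n : ℕ} (hn : (n : Λ) = 0) (hX : FinCoh n X) {F : EtModW.Mod Λ X}
    (hF : EtModW.IsConstructible Λ F) (q : ℕ) : Finite (Ext.{u + 1} (EtModW.constMod Λ X Λ) F q) := by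
  have := hX _ (isConstructible_ab hF) (killedBy_ab hn F) q
  exact Finite.of_equiv _ (extConstEquiv Λ F q).symm

attribute [local instance] HasDerivedCategory.standard

/-- Finiteness of `H^i(X, K) = Hom(Λ_X, K[i])` for `K` in `D^b_c`. -/
theorem finite_hom [Finite Λ] {n : ℕ} (hn : (n : Λ) = 0) (hX : FinCoh n X)
    (K : DerivedCategory (EtModW.Mod Λ X)) (hK : EtModD.IsDbc K) (i : ℤ) :
    Finite ((DerivedCategory.singleFunctor (EtModW.Mod Λ X) 0).obj (EtModW.constMod Λ X Λ) ⟶ K⟦i⟧) := by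
  obtain ⟨⟨a, b, ha, hb⟩, hc⟩ := hK
  exact finHom_of_homology (EtModW.constMod Λ X Λ) K a b (fun j q => finite_ext hn hX (hc j) q) i

/-- The case `Λ = ℤ/m`. -/
theorem finite_hom_zmod {m : ℕ} (hm : m ≠ 0) (hX : FinCoh m X)
    (K : DerivedCategory (EtModW.Mod (ULift.{u + 1} (ZMod m)) X)) (hK : EtModD.IsDbc K) (i : ℤ) :
    Finite ((DerivedCategory.singleFunctor (EtModW.Mod (ULift.{u + 1} (ZMod m)) X) 0).obj
      (EtModW.constMod (ULift.{u + 1} (ZMod m)) X (ULift.{u + 1} (ZMod m))) ⟶ K⟦i⟧) := by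
  have : NeZero m := ⟨hm⟩
  have : Finite (ULift.{u + 1} (ZMod m)) := inferInstance
  refine finite_hom (n := m) ?_ hX K hK i
  have h : ((m : ZMod m)) = 0 := ZMod.natCast_self m
  exact ULift.ext _ _ h

end const

end Groth.Agent.Sga4h.BidFin
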