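import Groth.Agent.Sga4h.BidInd48
import Groth.Agent.Sga4h.DualEt

/-!
# The induction step for local biduality: the version for `DualData`

`isDbc_and_refl`: if duality holds after pulling back along the `g i` (which cover the non-closed points) and
globally on `X`, then the dual of a complex in `D^b_c` is in `D^b_c` and the complex is reflexive.
-/

set_option autoImplicit false
universe u

open CategoryTheory CategoryTheory.Limits AlgebraicGeometry Opposite TopologicalSpace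

attribute [local instance 5000] CategoryTheory.Abelian.toPreadditive
  CategoryTheory.Preadditive.preadditiveHasZeroMorphisms

namespace Groth.Agent.Sga4h.BidIndD48

attribute [local instance] HasDerivedCategory.standard
open scoped Groth.Agent.Sga4h.ModInst
open Groth.Agent.Sga4h.Refl DerivedCategory

variable {Λ : Type (u + 1)} [CommRing Λ] {X : Scheme.{u}}

/-- The data of the induction step. -/
structure StepData (A : DualData (EtModD.tensorBi Λ X)) {ι : Type*} (X' : ι → Scheme.{u})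
    (g : ∀ i, X' i ⟶ X) : Prop where
  /-- the dual is bounded -/
  bdd : ∀ K : CochainComplex (EtModW.Mod Λ X) ℤ, EtModD.IsDbc (Q.obj K) →
    ∃ a b : ℤ, (Q.obj (A.D K)).IsGE a ∧ (Q.obj (A.D K)).IsLE b
  /-- finiteness of the global cohomology -/
  fin : ∀ K : CochainComplex (EtModW.Mod Λ X) ℤ, EtModD.IsDbc (Q.obj K) → ∀ n : ℤ,
    Finite ((singleFunctor _ 0).obj (EtModW.constMod Λ X Λ) ⟶ (Q.obj K)⟦n⟧)
  /-- finiteness of the global cohomology of the dual -/
  fin' : ∀ K : CochainComplex (EtModW.Mod Λ X) ℤ, EtModD.IsDbc (Q.obj K) → ∀ n : ℤ,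
    Finite ((singleFunctor _ 0).obj (EtModW.constMod Λ X Λ) ⟶ (Q.obj (A.D K))⟦n⟧)
  /-- global biduality -/
  ev : ∀ K : CochainComplex (EtModW.Mod Λ X) ℤ, EtModD.IsDbc (Q.obj K) → EtModD.IsDbc (Q.obj (A.D K)) →
    ∀ n : ℤ, Function.Bijective (fun f : (singleFunctor _ 0).obj (EtModW.constMod Λ X Λ) ⟶ (Q.obj K)⟦n⟧ =>
      f ≫ (Q.map (A.ev K))⟦n⟧')
  /-- constructibility of the pullback of the dual -/
  loc₁ : ∀ K : CochainComplex (EtModW.Mod Λ X) ℤ, EtModD.IsDbc (Q.obj K) → ∀ i q,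
    EtModW.IsConstructible Λ ((EtModW.pull Λ (g i)).obj (EtModD.HD (Q.obj (A.D K)) q))
  /-- biduality after pulling back -/
  loc₂ : ∀ K : CochainComplex (EtModW.Mod Λ X) ℤ, EtModD.IsDbc (Q.obj K) → EtModD.IsDbc (Q.obj (A.D K)) →
    ∀ i q, IsIso ((EtModW.pull Λ (g i)).map (HomologicalComplex.homologyMap (A.ev K) q))

/-- `D^b_c` is closed under isomorphisms. -/
theorem isDbc_of_iso {Y Z : EtModD.D Λ X} (e : Y ≅ Z) (hY : EtModD.IsDbc Y) : EtModD.IsDbc Z := by
  obtain ⟨⟨a, b, ha, hb⟩, hc⟩ := hY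
  exact ⟨⟨a, b, TStructure.t.isGE_of_iso e a, TStructure.t.isLE_of_iso e b⟩, fun i =>
    Etcore.LCrit.isConstructible_of_iso ((homologyFunctor _ i).mapIso e) (hc i)⟩

variable {A : DualData (EtModD.tensorBi Λ X)} {ι : Type*} {X' : ι → Scheme.{u}} {g : ∀ i, X' i ⟶ X}

/-- **The induction step of biduality.** -/
theorem isDbc_and_refl [Finite Λ] {k : Type u} [Field k] [IsSepClosed k] (a : X ⟶ Spec (.of k))
    [LocallyOfFiniteType a] [QuasiCompact a] {n : ℕ} (hn : 0 < n) (hΛ : (n : Λ) = 0) [Finite ι]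
    [∀ i, CompactSpace (X' i)] [∀ i, QuasiSeparatedSpace (X' i)]
    (hcov : ∀ x : X, (∀ i, x ∉ Set.range (g i)) → IsClosed {x})
    (h1 : ∀ G : EtCoh.Ab X, EtCoh.KilledBy n G → EtPBC.IsConstructible G → Finite (EtCoh.H X G 1))
    (S : StepData A X' g) (K : CochainComplex (EtModW.Mod Λ X) ℤ) (hK : EtModD.IsDbc (Q.obj K)) :
    EtModD.IsDbc (Q.obj (A.D K)) ∧ A.Refl K := by
  have key : ∀ K : CochainComplex (EtModW.Mod Λ X) ℤ, EtModD.IsDbc (Q.obj K) →
      EtModD.IsDbc (Q.obj (A.D K)) := by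
    intro K hK
    obtain ⟨b, c, hb, hc⟩ := S.bdd K hK
    refine ⟨⟨b, c, hb, hc⟩, ?_⟩
    refine BidInd48.isConstructible_HD a hn hΛ X' g hcov h1 (fun Z hZ m => ?_) (Q.obj (A.D K)) b hb
      (S.fin' K hK) (S.loc₁ K hK)
    let e := Q.objObjPreimageIso Z
    have hf := S.fin (Q.objPreimage Z) (isDbc_of_iso e.symm hZ) m
    exact Finite.of_equiv _ (Iso.homCongr (Iso.refl _) ((shiftFunctor _ m).mapIso e))
  refine ⟨key K hK, ⟨?_⟩⟩
  obtain ⟨b₁, c₁, hb₁, hc₁⟩ := hK.1
  obtain ⟨b₂, c₂, hb₂, hc₂⟩ := S.bdd (A.D K) (key K hK)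
  rw [← isIso_Q_map_iff_quasiIso]
  refine BidInd48.isIso_of_pulls a X' g hcov (Q.map (A.ev K)) (min b₁ b₂) ?_ ?_ (fun i q => ?_)
    (S.ev K hK (key K hK))
  · exact TStructure.t.isGE_of_ge _ _ b₁ (min_le_left _ _)
  · exact TStructure.t.isGE_of_ge _ _ b₂ (min_le_right _ _)
  · have hn := (homologyFunctorFactors (EtModW.Mod Λ X) q).hom.naturality (A.ev K)
    have h2 := S.loc₂ K hK (key K hK) i q
    have h3 := congrArg (EtModW.pull Λ (g i)).map hn
    rw [Functor.map_comp, Functor.map_comp] at h3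
    have h4 : IsIso ((EtModW.pull Λ (g i)).map ((HomologicalComplex.homologyFunctor _ _ q).map (A.ev K))) := h2
    have h5 : IsIso ((EtModW.pull Λ (g i)).map ((Q ⋙ homologyFunctor (EtModW.Mod Λ X) q).map (A.ev K))) := by
      have h6 : IsIso ((EtModW.pull Λ (g i)).map ((Q ⋙ homologyFunctor (EtModW.Mod Λ X) q).map (A.ev K)) ≫
          (EtModW.pull Λ (g i)).map ((homologyFunctorFactors (EtModW.Mod Λ X) q).hom.app (A.D (A.D K)))) := by
        rw [h3]
        infer_instance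
      exact IsIso.of_isIso_comp_right _
        ((EtModW.pull Λ (g i)).map ((homologyFunctorFactors (EtModW.Mod Λ X) q).hom.app (A.D (A.D K))))
    exact h5

end Groth.Agent.Sga4h.BidIndD48
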