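import Groth.Agent.Cohder.HomSeqTau1
import Mathlib.Algebra.Homology.HomologicalComplexAbelian
import Mathlib.Algebra.Homology.Embedding.CochainComplex
import Mathlib.Algebra.Homology.HomotopyCategory.DegreewiseSplit
import Mathlib.Algebra.Homology.ShortComplex.ShortExact
import Mathlib.Algebra.Homology.SingleHomology

/-!
# Way-out devissage for natural transformations of exact functors on cochain complexes

`F`, `G` functors on cochain complexes sending short exact sequences to short exact sequences and
quasi-isomorphisms to quasi-isomorphisms, `η : F ⟶ G`.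
* two out of three, shifts, invariance under quasi-isomorphisms;
* `isIso_of_resolution` : way-out lemma (resolution to the left, homology bounded above);
* `quasiIso_of_homology` : from objects in degree `0` to bounded complexes.
-/

set_option autoImplicit false
set_option backward.defeqAttrib.useBackward true
set_option backward.isDefEq.respectTransparency false

universe v₁ v₂ u₁ u₂

namespace Groth.Agent.Sga4h.BidWay

open CategoryTheory Category Limits HomologicalComplex CochainComplex ZeroObject

variable {C : Type u₁} [Category.{v₁} C] [Abelian C] {D : Type u₂} [Category.{v₂} D] [Abelian D]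

/-- `F` sends short exact sequences of complexes to short exact sequences. -/
def ExactCx (F : CochainComplex C ℤ ⥤ CochainComplex D ℤ) [F.PreservesZeroMorphisms] : Prop :=
  ∀ S : ShortComplex (CochainComplex C ℤ), S.ShortExact → (S.map F).ShortExact

/-- `F` preserves quasi-isomorphisms. -/
def QisCx (F : CochainComplex C ℤ ⥤ CochainComplex D ℤ) : Prop :=
  ∀ ⦃K L : CochainComplex C ℤ⦄ (f : K ⟶ L), QuasiIso f → QuasiIso (F.map f)

variable {F G : CochainComplex C ℤ ⥤ CochainComplex D ℤ} [F.PreservesZeroMorphisms]
  [G.PreservesZeroMorphisms] (η : F ⟶ G)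

omit [F.PreservesZeroMorphisms] [G.PreservesZeroMorphisms] in
lemma quasiIso_congr (hF : QisCx F) (hG : QisCx G) {K L : CochainComplex C ℤ} (f : K ⟶ L)
    (hf : QuasiIso f) : QuasiIso (η.app K) ↔ QuasiIso (η.app L) := by
  have h1 := hF f hf
  have h2 := hG f hf
  have h3 := η.naturality f
  constructor
  · intro h
    have : QuasiIso (F.map f ≫ η.app L) := by
      rw [h3]
      infer_instance
    exact quasiIso_of_comp_left (F.map f) (η.app L)
  · intro h
    have : QuasiIso (η.app K ≫ G.map f) := by
      rw [← h3]
      infer_instance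
    exact quasiIso_of_comp_right (η.app K) (G.map f)

lemma acyclic_of_qisCx (hF : QisCx F) {K : CochainComplex C ℤ} (hK : K.Acyclic) :
    (F.obj K).Acyclic := by
  have h1 : QuasiIso (0 : K ⟶ (0 : CochainComplex C ℤ)) := by
    rw [quasiIso_iff]
    intro i
    rw [quasiIsoAt_iff_exactAt' _ _ (ShortComplex.exact_of_isZero_X₂ _ ((eval C _ i).map_isZero (isZero_zero _)))]
    exact hK i
  have h2 := hF _ h1
  intro i
  rw [← quasiIsoAt_iff_exactAt' (F.map (0 : K ⟶ (0 : CochainComplex C ℤ))) i
    (ShortComplex.exact_of_isZero_X₂ _ ((eval D _ i).map_isZero (F.map_isZero (isZero_zero _))))]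
  infer_instance

lemma quasiIso_of_acyclic {K L : CochainComplex D ℤ} (f : K ⟶ L) (hK : K.Acyclic) (hL : L.Acyclic) :
    QuasiIso f := by
  rw [quasiIso_iff]
  intro i
  rw [quasiIsoAt_iff_exactAt' _ _ (hL i)]
  exact hK i

section TwoOutOfThree

variable (hF : ExactCx F) (hG : ExactCx G) {S : ShortComplex (CochainComplex C ℤ)}
  (hS : S.ShortExact)

include hF hG hS

lemma quasiIso_X₃ (h₁ : QuasiIso (η.app S.X₁)) (h₂ : QuasiIso (η.app S.X₂)) :
    QuasiIso (η.app S.X₃) :=
  HomologySequence.quasiIso_τ₃ (S.mapNatTrans η) (hF S hS) (hG S hS) h₁ h₂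

lemma quasiIso_X₂ (h₁ : QuasiIso (η.app S.X₁)) (h₃ : QuasiIso (η.app S.X₃)) :
    QuasiIso (η.app S.X₂) :=
  Cohder.HomSeqTau1.quasiIso_τ₂ (S.mapNatTrans η) (hF S hS) (hG S hS) h₁ h₃

lemma quasiIso_X₁ (h₂ : QuasiIso (η.app S.X₂)) (h₃ : QuasiIso (η.app S.X₃)) :
    QuasiIso (η.app S.X₁) :=
  Cohder.HomSeqTau1.quasiIso_τ₁ (S.mapNatTrans η) (hF S hS) (hG S hS) h₂ h₃

end TwoOutOfThree

/-- The short exact sequence `K → cone(𝟙 K) → K⟦1⟧`. -/
lemma coneSC_shortExact (K : CochainComplex C ℤ) :
    (mappingCone.triangleRotateShortComplex (𝟙 K)).ShortExact := by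
  rw [HomologicalComplex.shortExact_iff_degreewise_shortExact]
  exact fun n => (mappingCone.triangleRotateShortComplexSplitting (𝟙 K) n).shortExact

lemma acyclic_cone_id (K : CochainComplex C ℤ) : (mappingCone (𝟙 K)).Acyclic := by
  have h := mappingCone.homotopyToZeroOfId K
  intro i
  rw [exactAt_iff_isZero_homology, IsZero.iff_id_eq_zero, ← homologyMap_id, h.homologyMap_eq,
    homologyMap_zero]

lemma quasiIso_shift_one_iff (hF : ExactCx F) (hG : ExactCx G) (hF' : QisCx F) (hG' : QisCx G)
    (K : CochainComplex C ℤ) : QuasiIso (η.app (K⟦(1 : ℤ)⟧)) ↔ QuasiIso (η.app K) := by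
  have h2 : QuasiIso (η.app (mappingCone (𝟙 K))) :=
    quasiIso_of_acyclic _ (acyclic_of_qisCx hF' (acyclic_cone_id K))
      (acyclic_of_qisCx hG' (acyclic_cone_id K))
  exact ⟨fun h => quasiIso_X₁ η hF hG (coneSC_shortExact K) h2 h,
    fun h => quasiIso_X₃ η hF hG (coneSC_shortExact K) h h2⟩

lemma quasiIso_shift_iff (hF : ExactCx F) (hG : ExactCx G) (hF' : QisCx F) (hG' : QisCx G)
    (K : CochainComplex C ℤ) (n : ℤ) : QuasiIso (η.app (K⟦n⟧)) ↔ QuasiIso (η.app K) := by
  have key : ∀ m : ℤ, QuasiIso (η.app (K⟦m + 1⟧)) ↔ QuasiIso (η.app (K⟦m⟧)) := fun m => by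
    rw [← quasiIso_shift_one_iff η hF hG hF' hG' (K⟦m⟧)]
    exact quasiIso_congr η hF' hG' ((shiftFunctorAdd (CochainComplex C ℤ) m 1).app K).hom inferInstance
  have h0 : QuasiIso (η.app (K⟦(0 : ℤ)⟧)) ↔ QuasiIso (η.app K) :=
    quasiIso_congr η hF' hG' ((shiftFunctorZero (CochainComplex C ℤ) ℤ).app K).hom inferInstance
  rw [← h0]
  induction n using Int.induction_on with
  | zero => exact Iff.rfl
  | succ i hi => exact (key i).trans hi
  | pred i hi =>
    have := key (-(i : ℤ) - 1)
    rw [sub_add_cancel] at this
    exact this.symm.trans hi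

lemma single_shortExact {S : ShortComplex C} (hS : S.ShortExact) (n : ℤ) :
    (S.map (CochainComplex.singleFunctor C n)).ShortExact :=
  hS.map_of_exact (HomologicalComplex.single C (ComplexShape.up ℤ) n)

/-- Way-out lemma: if every object of `K` is a quotient of an object of `P` with kernel in `K`, if `η` is a
quasi-isomorphism on the objects of `P` and the homology of `F` and `G` on objects of `K` vanishes in
degrees `> N`, then `η` is a quasi-isomorphism on objects of `K`. -/
theorem quasiIso_of_resolution (hF : ExactCx F) (hG : ExactCx G) (P K : ObjectProperty C)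
    (hP : ∀ X, P X → QuasiIso (η.app ((CochainComplex.singleFunctor C 0).obj X)))
    (hK : ∀ X, K X → ∃ (Y Z : C) (f : Y ⟶ Z) (g : Z ⟶ X) (w : f ≫ g = 0),
      (ShortComplex.mk f g w).ShortExact ∧ K Y ∧ P Z) (N : ℤ)
    (hFN : ∀ X, K X → (F.obj ((CochainComplex.singleFunctor C 0).obj X)).IsLE N)
    (hGN : ∀ X, K X → (G.obj ((CochainComplex.singleFunctor C 0).obj X)).IsLE N) (X : C) (hX : K X) :
    QuasiIso (η.app ((CochainComplex.singleFunctor C 0).obj X)) := by
  have key : ∀ (n : ℕ) (X : C), K X → ∀ i : ℤ, N + 1 - n ≤ i →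
      IsIso (homologyMap (η.app ((CochainComplex.singleFunctor C 0).obj X)) i) := by
    intro n
    induction n with
    | zero =>
      intro X hX i hi
      have h1 := hFN X hX
      have h2 := hGN X hX
      exact ⟨0, ((F.obj ((CochainComplex.singleFunctor C 0).obj X)).isZero_of_isLE N i (by
        push_cast at hi; lia)).eq_of_src _ _,
        ((G.obj ((CochainComplex.singleFunctor C 0).obj X)).isZero_of_isLE N i (by
        push_cast at hi; lia)).eq_of_src _ _⟩
    | succ n ih =>
      have hepi : ∀ (X : C), K X → ∀ i : ℤ, N + 1 - (n + 1 : ℕ) ≤ i →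
          Epi (homologyMap (η.app ((CochainComplex.singleFunctor C 0).obj X)) i) := by
        intro X hX i hi
        obtain ⟨Y, Z, f, g, w, hS, hY, hZ⟩ := hK X hX
        have hS' := single_shortExact hS 0
        have hZ' := hP Z hZ
        refine HomologySequence.epi_homologyMap_τ₃
          (((ShortComplex.mk f g w).map (CochainComplex.singleFunctor C 0)).mapNatTrans η)
          (hF _ hS') (hG _ hS') i ?_ ?_ ?_
        · change Epi (homologyMap (η.app ((CochainComplex.singleFunctor C 0).obj Z)) i)
          infer_instance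
        · intro j hij
          have := ih Y hY j (by simp at hij; push_cast at hi; lia)
          change Epi (homologyMap (η.app ((CochainComplex.singleFunctor C 0).obj Y)) j)
          infer_instance
        · intro j hij
          change Mono (homologyMap (η.app ((CochainComplex.singleFunctor C 0).obj Z)) j)
          infer_instance
      intro X hX i hi
      have he := hepi X hX i hi
      have hm : Mono (homologyMap (η.app ((CochainComplex.singleFunctor C 0).obj X)) i) := by
        obtain ⟨Y, Z, f, g, w, hS, hY, hZ⟩ := hK X hX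
        have hS' := single_shortExact hS 0
        have hZ' := hP Z hZ
        refine HomologySequence.mono_homologyMap_τ₃
          (((ShortComplex.mk f g w).map (CochainComplex.singleFunctor C 0)).mapNatTrans η)
          (hF _ hS') (hG _ hS') i ?_ ?_ ?_
        · exact hepi Y hY i hi
        · change Mono (homologyMap (η.app ((CochainComplex.singleFunctor C 0).obj Z)) i)
          infer_instance
        · intro j hij
          have := ih Y hY j (by simp at hij; push_cast at hi; lia)
          change Mono (homologyMap (η.app ((CochainComplex.singleFunctor C 0).obj Y)) j)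
          infer_instance
      exact isIso_of_mono_of_epi _
  rw [quasiIso_iff]
  intro i
  rw [quasiIsoAt_iff_isIso_homologyMap]
  exact key (N + 1 - i).toNat X hX i (by lia)

omit [F.PreservesZeroMorphisms] [G.PreservesZeroMorphisms] in
/-- A complex `E` with homology concentrated in degree `a` is, up to quasi-isomorphism, the shift
of `H^a(E)[0]`. -/
lemma exists_iso_single_shift (E : CochainComplex C ℤ) (a : ℤ) [E.IsGE a] [E.IsStrictlyLE a] :
    ∃ f : E ⟶ ((CochainComplex.singleFunctor C 0).obj (E.homology a))⟦-a⟧, QuasiIso f := by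
  obtain ⟨M, ⟨e⟩⟩ := exists_iso_single (E.truncGE a) a
  have e1 : E.homology a ≅ M :=
    isoOfQuasiIsoAt (E.πTruncGE a) a ≪≫ (homologyFunctor C _ a).mapIso e ≪≫
      HomologicalComplex.singleObjHomologySelfIso _ _ _
  let e2 : (single C (ComplexShape.up ℤ) a).obj M ≅
      ((CochainComplex.singleFunctor C 0).obj (E.homology a))⟦-a⟧ :=
    (((CochainComplex.singleFunctors C).shiftIso (-a) a 0 (by lia)).app M).symm ≪≫
      (CategoryTheory.shiftFunctor (CochainComplex C ℤ) (-a)).mapIso
        ((CochainComplex.singleFunctor C 0).mapIso e1.symm)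
  exact ⟨E.πTruncGE a ≫ e.hom ≫ e2.hom, inferInstance⟩

/-- Devissage: a bounded complex whose homology objects `H` are such that `η` is a quasi-isomorphism on
`H[0]`. -/
theorem quasiIso_of_homology (hF : ExactCx F) (hG : ExactCx G) (hF' : QisCx F) (hG' : QisCx G)
    (E : CochainComplex C ℤ) (a b : ℤ) [E.IsGE a] [E.IsLE b]
    (hE : ∀ i, QuasiIso (η.app ((CochainComplex.singleFunctor C 0).obj (E.homology i)))) :
    QuasiIso (η.app E) := by
  have key : ∀ (n : ℕ) (a : ℤ) (E : CochainComplex C ℤ), E.IsGE a → E.IsLE (a + n - 1) →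
      (∀ i, QuasiIso (η.app ((CochainComplex.singleFunctor C 0).obj (E.homology i)))) →
      QuasiIso (η.app E) := by
    intro n
    induction n with
    | zero =>
      intro a E h1 h2 _
      have : E.Acyclic := fun i => by
        by_cases hi : i < a
        · exact E.exactAt_of_isGE a i hi
        · exact E.exactAt_of_isLE (a + (0 : ℕ) - 1) i (by simp; lia)
      exact quasiIso_of_acyclic _ (acyclic_of_qisCx hF' this) (acyclic_of_qisCx hG' this)
    | succ n ih =>
      intro a E h1 h2 hE
      have hT : (E.truncLE a).IsGE a := by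
        rw [isGE_iff]
        intro i hi
        have := E.quasiIsoAt_ιTruncLE a i (by lia)
        exact (exactAt_iff_of_quasiIsoAt (E.ιTruncLE a) i).2 (E.exactAt_of_isGE a i hi)
      refine quasiIso_X₂ η hF hG (E.shortComplexTruncLE_shortExact a) ?_ ?_
      · change QuasiIso (η.app (E.truncLE a))
        obtain ⟨f, hf⟩ := exists_iso_single_shift (E.truncLE a) a
        rw [quasiIso_congr η hF' hG' f hf, quasiIso_shift_iff η hF hG hF' hG']
        refine (quasiIso_congr η hF' hG' ((CochainComplex.singleFunctor C 0).mapIso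
          (isoOfQuasiIsoAt (E.ιTruncLE a) a)).hom inferInstance).2 (hE a)
      · rw [quasiIso_congr η hF' hG' (E.shortComplexTruncLEX₃ToTruncGE a (a + 1)) inferInstance]
        refine ih (a + 1) _ inferInstance ?_ fun i => ?_
        · rw [isLE_iff]
          intro i hi
          have := E.quasiIsoAt_πTruncGE (a + 1) i (by lia)
          exact (exactAt_iff_of_quasiIsoAt (E.πTruncGE (a + 1)) i).1
            (E.exactAt_of_isLE (a + (n + 1 : ℕ) - 1) i (by push_cast; lia))
        · by_cases hi : a + 1 ≤ i
          · have := E.quasiIsoAt_πTruncGE (a + 1) i hi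
            exact (quasiIso_congr η hF' hG' ((CochainComplex.singleFunctor C 0).mapIso
              (isoOfQuasiIsoAt (E.πTruncGE (a + 1)) i)).hom inferInstance).1 (hE i)
          · have hz : IsZero ((CochainComplex.singleFunctor C 0).obj
                ((E.truncGE (a + 1)).homology i)) := (CochainComplex.singleFunctor C 0).map_isZero
                  ((E.truncGE (a + 1)).isZero_of_isGE (a + 1) i (by lia))
            have h1 := F.map_isZero hz
            have h2 := G.map_isZero hz
            have : IsIso (η.app ((CochainComplex.singleFunctor C 0).obj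
                ((E.truncGE (a + 1)).homology i))) := ⟨0, h1.eq_of_src _ _, h2.eq_of_src _ _⟩
            infer_instance
  refine key (b + 1 - a).toNat a E inferInstance ?_ hE
  exact E.isLE_of_le b _ (by lia)

end Groth.Agent.Sga4h.BidWay
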