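import Groth.Agent.Sga4h.Refl
import Groth.Agent.Sga4h.BidWay
import Groth.Agent.Sga4h.BidWayOp

/-!
# Complements on the duality functor `D_J = Hom•(-, J)` on complexes

* `mapJ` : functoriality in `J`, compatibility with the evaluation (`ev_comp_mapJ`), independence of `J`
  (`quasiIso_ev_iff`, `refl_iff_of_homotopyEquiv`, `refl_iff_of_quasiIso_J`);
* `isGE_D`, `isLE_D` : amplitude of `D_J E`;
* `exactOp`, `qisOp` : `D_J` in the form used in `BidWayOp`; `biFun`, `evNat` : the biduality functor and the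
  evaluation as a natural transformation; `exactCx_biFun`, `qisCx_biFun`;
* `refl_single_of_resolution` : way-out devissage for reflexivity.
-/

set_option autoImplicit false
set_option backward.defeqAttrib.useBackward true
set_option backward.isDefEq.respectTransparency false

universe w v₁ v₂ v₃ u₁ u₂ u₃

namespace Groth.Agent.Sga4h.BidRefl

open CategoryTheory Category Limits HomologicalComplex CochainComplex Opposite ZeroObject
open Groth.Agent.Dcoh.CxFun Groth.Agent.Sga4h.HomCx Groth.Agent.Sga4h.DualCx Groth.Agent.Sga4h.DualSelf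
open Groth.Agent.Sga4h.Refl

variable {C : Type u₁} [Category.{v₁} C] [Abelian C] {T : C ⥤ C ⥤ C} [T.Additive]
  [∀ X, (T.obj X).Additive]
  [∀ (K₁ K₂ : CochainComplex C ℤ), CochainComplex.HasMapBifunctor K₁ K₂ T]
  [∀ E : CochainComplex C ℤ, (T.map₂CochainComplex.flip.obj E).IsLeftAdjoint]

section MapJ

variable (T)

/-- Functoriality of `Hom•(E, J)` in `J`. -/
noncomputable def mapJ {J J' : CochainComplex C ℤ} (j : J ⟶ J') : dualFun T J ⟶ dualFun T J' :=
  (rightBi (T.map₂CochainComplex.flip)).flip.map j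

variable {T}

@[simp]
lemma mapJ_id (J : CochainComplex C ℤ) : mapJ T (𝟙 J) = 𝟙 _ :=
  (rightBi (T.map₂CochainComplex.flip)).flip.map_id J

@[reassoc]
lemma mapJ_comp {J J' J'' : CochainComplex C ℤ} (j : J ⟶ J') (j' : J' ⟶ J'') :
    mapJ T (j ≫ j') = mapJ T j ≫ mapJ T j' :=
  (rightBi (T.map₂CochainComplex.flip)).flip.map_comp j j'

lemma dualEquiv_naturality_J {K E J J' : CochainComplex C ℤ}
    (g : (T.map₂CochainComplex.obj K).obj E ⟶ J) (j : J ⟶ J') :
    dualEquiv T K E J' (g ≫ j) = dualEquiv T K E J g ≫ (mapJ T j).app (op E) :=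
  (rightBiAdj (T.map₂CochainComplex.flip)).homEquiv_naturality_three j g

lemma dualEquiv_symm_comp_mapJ {K E J J' : CochainComplex C ℤ}
    (g : K ⟶ (dualFun T J).obj (op E)) (j : J ⟶ J') :
    (dualEquiv T K E J').symm (g ≫ (mapJ T j).app (op E)) = (dualEquiv T K E J).symm g ≫ j := by
  rw [Equiv.symm_apply_eq, dualEquiv_naturality_J, Equiv.apply_symm_apply]

variable (S : SymmData T)

lemma selfEquiv_mapJ {K E J J' : CochainComplex C ℤ} (f : K ⟶ (dualFun T J).obj (op E)) (j : J ⟶ J') :
    selfEquiv S J' K E (f ≫ (mapJ T j).app (op E)) =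
      selfEquiv S J K E f ≫ (mapJ T j).app (op K) := by
  rw [selfEquiv_apply, selfEquiv_apply, dualEquiv_symm_comp_mapJ, ← dualEquiv_naturality_J, Category.assoc]

/-- Compatibility of the evaluation with a change of the dualizing complex. -/
@[reassoc]
lemma ev_comp_mapJ {J J' : CochainComplex C ℤ} (j : J ⟶ J') (E : CochainComplex C ℤ) :
    ev S J E ≫ (mapJ T j).app (op ((dualFun T J).obj (op E))) =
      ev S J' E ≫ (dualFun T J').map ((mapJ T j).app (op E)).op := by
  have h1 := selfEquiv_mapJ S (K := (dualFun T J).obj (op E)) (E := E) (𝟙 _) j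
  rw [Category.id_comp] at h1
  rw [ev, ← h1, selfEquiv_eq]

/-- `Hom•(E, -)` preserves homotopies. -/
lemma htpyFunctor_right (E : CochainComplex C ℤ) :
    HtpyFunctor ((rightBi (T.map₂CochainComplex.flip)).obj (op E)) :=
  htpyFunctor_of_adjunction (Adjunction.ofIsLeftAdjoint (T.map₂CochainComplex.flip.obj E))

lemma quasiIso_mapJ_of_homotopyEquiv {J J' : CochainComplex C ℤ} (j : J ⟶ J')
    (hj : homotopyEquivalences C (.up ℤ) j) (E : CochainComplex C ℤ) :
    QuasiIso ((mapJ T j).app (op E)) := by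
  obtain ⟨e, rfl⟩ := hj
  have := htpyFunctor_right (T := T) E
  let R : CochainComplex C ℤ ⥤ CochainComplex C ℤ := (rightBi (T.map₂CochainComplex.flip)).obj (op E)
  have h1 : Homotopy (R.map e.hom ≫ R.map e.inv) (𝟙 _) :=
    (Homotopy.ofEq (R.map_comp _ _).symm).trans
      ((HtpyFunctor.homotopy R e.homotopyHomInvId).some.trans (Homotopy.ofEq (R.map_id _)))
  have h2 : Homotopy (R.map e.inv ≫ R.map e.hom) (𝟙 _) :=
    (Homotopy.ofEq (R.map_comp _ _).symm).trans
      ((HtpyFunctor.homotopy R e.homotopyInvHomId).some.trans (Homotopy.ofEq (R.map_id _)))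
  let e' : HomotopyEquiv (R.obj J) (R.obj J') :=
    { hom := R.map e.hom
      inv := R.map e.inv
      homotopyHomInvId := h1
      homotopyInvHomId := h2 }
  exact e'.quasiIso_hom

lemma quasiIso_mapJ {J J' : CochainComplex C ℤ} [J.IsKInjective] [J'.IsKInjective] (j : J ⟶ J')
    [QuasiIso j] (E : CochainComplex C ℤ) : QuasiIso ((mapJ T j).app (op E)) :=
  quasiIso_mapJ_of_homotopyEquiv j ((IsKInjective.quasiIso_iff j).1 inferInstance) E

end MapJ

section IndepJ

variable [∀ (J : Type), HasColimitsOfShape (Discrete J) C]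
  [∀ (J : Type), (colim : (Discrete J ⥤ C) ⥤ C).PreservesMonomorphisms]

/-- Reflexivity is independent of the choice of the dualizing complex in its quasi-isomorphism class. -/
theorem refl_iff_of_quasiIso_J (A B : DualData T) (hS : A.S = B.S) (j : A.J ⟶ B.J) [QuasiIso j]
    (E : CochainComplex C ℤ) : A.Refl E ↔ B.Refl E := by
  obtain ⟨S, J, hJ, hJ', hf⟩ := A
  obtain ⟨S', J', hi, hi', hf'⟩ := B
  obtain rfl : S = S' := hS
  let B' : DualData T := ⟨S, J', hi, hi', hf'⟩
  have h1 : QuasiIso ((mapJ T j).app (op E)) := quasiIso_mapJ j E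
  have h2 := quasiIso_mapJ (T := T) j ((dualFun T J).obj (op E))
  have h3 : QuasiIso (B'.Dmap ((mapJ T j).app (op E))) := B'.quasiIso_Dmap _
  have h4 := ev_comp_mapJ S j E
  constructor
  · intro h
    have := h.qis
    have h5 : QuasiIso (DualSelf.ev S J' E ≫ B'.Dmap ((mapJ T j).app (op E))) := by
      change QuasiIso (DualSelf.ev S J' E ≫ (dualFun T J').map ((mapJ T j).app (op E)).op)
      rw [← h4]
      exact quasiIso_comp (DualData.ev ⟨S, J, hJ, hJ', hf⟩ E) _
    exact ⟨(quasiIso_iff_comp_right (DualSelf.ev S J' E) (B'.Dmap ((mapJ T j).app (op E)))).1 h5⟩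
  · intro h
    have := h.qis
    have h5 : QuasiIso (DualSelf.ev S J E ≫ (mapJ T j).app (op ((dualFun T J).obj (op E)))) := by
      rw [h4]
      exact quasiIso_comp (B'.ev E) (B'.Dmap ((mapJ T j).app (op E)))
    exact ⟨(quasiIso_iff_comp_right (DualSelf.ev S J E)
      ((mapJ T j).app (op ((dualFun T J).obj (op E))))).1 h5⟩

/-- Reflexivity only depends on the class of the dualizing complex in the derived category. -/
theorem refl_iff_of_iso_Q [HasDerivedCategory.{w} C] (A B : DualData T) (hS : A.S = B.S)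
    (e : DerivedCategory.Q.obj A.J ≅ DerivedCategory.Q.obj B.J)
    (E : CochainComplex C ℤ) : A.Refl E ↔ B.Refl E := by
  have := B.kinj
  obtain ⟨g, hg⟩ := (IsKInjective.Qh_map_bijective ((HomotopyCategory.quotient _ _).obj A.J) B.J).surjective
    ((DerivedCategory.quotientCompQhIso C).hom.app A.J ≫ e.hom ≫
      (DerivedCategory.quotientCompQhIso C).inv.app B.J)
  obtain ⟨j, rfl⟩ := (HomotopyCategory.quotient _ _).map_surjective g
  have hj : DerivedCategory.Q.map j = e.hom := by
    rw [← cancel_mono ((DerivedCategory.quotientCompQhIso C).inv.app B.J),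
      ← cancel_epi ((DerivedCategory.quotientCompQhIso C).hom.app A.J), ← hg]
    have := (DerivedCategory.quotientCompQhIso C).inv.naturality j
    simp only [Functor.comp_map] at this
    rw [this, Iso.hom_inv_id_app_assoc]
  have : IsIso (DerivedCategory.Q.map j) := by
    rw [hj]
    infer_instance
  have : QuasiIso j := by
    rwa [← DerivedCategory.isIso_Q_map_iff_quasiIso]
  exact refl_iff_of_quasiIso_J A B hS j E

end IndepJ

section Amplitude

/-- If `E` and `J` have disjoint supports up to a shift by `n` then all morphisms `X[-n] ⟶ Hom•(E, J)` vanish. -/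
lemma hom_single_D_eq_zero {E J : CochainComplex C ℤ} (n : ℤ) (h : ∀ q, IsZero (E.X q) ∨ IsZero (J.X (n + q)))
    (X : C) (f : (single C (ComplexShape.up ℤ) n).obj X ⟶ (dualFun T J).obj (op E)) : f = 0 := by
  have h0 : ∀ g : (T.map₂CochainComplex.obj ((single C (ComplexShape.up ℤ) n).obj X)).obj E ⟶ J, g = 0 := by
    intro g
    ext m : 1
    refine mapBifunctor.hom_ext (fun p q hpq => ?_)
    dsimp at hpq
    by_cases hp : p = n
    · subst hp
      rcases h q with h' | h'
      · exact ((T.obj _).map_isZero h').eq_of_src _ _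
      · rw [hpq] at h'
        exact h'.eq_of_tgt _ _
    · exact ((T.flip.obj _).map_isZero (isZero_single_obj_X (ComplexShape.up ℤ) n X p hp)).eq_of_src _ _
  rw [← Equiv.apply_symm_apply (dualEquiv T _ E J) f, h0 ((dualEquiv T _ E J).symm f),
    ← h0 ((dualEquiv T _ E J).symm 0), Equiv.apply_symm_apply]

lemma exactAt_D {E J : CochainComplex C ℤ} (n : ℤ) (h : ∀ q, IsZero (E.X q) ∨ IsZero (J.X (n + q))) :
    ((dualFun T J).obj (op E)).ExactAt n := by
  let K : CochainComplex C ℤ := (dualFun T J).obj (op E)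
  change K.ExactAt n
  rw [exactAt_iff_isZero_homology]
  let s : (single C (ComplexShape.up ℤ) n).obj (K.cycles n) ⟶ K :=
    mkHomFromSingle (K.iCycles n) (fun k _ => K.iCycles_d n k)
  have hs : s = 0 := hom_single_D_eq_zero n h _ s
  have h1 : K.iCycles n = 0 := by
    have h2 := congr_arg (fun φ => (singleObjXSelf (ComplexShape.up ℤ) n (K.cycles n)).inv ≫ φ)
      (HomologicalComplex.congr_hom hs n)
    simpa [s] using h2
  have h2 : IsZero (K.cycles n) := by
    rw [IsZero.iff_id_eq_zero, ← cancel_mono (K.iCycles n), h1, comp_zero, comp_zero]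
  rw [IsZero.iff_id_eq_zero, ← cancel_epi (K.homologyπ n)]
  exact h2.eq_of_src _ _

lemma isGE_D_of_strictly {E J : CochainComplex C ℤ} (a d c : ℤ) (hc : c + d = a) [J.IsStrictlyGE a]
    [E.IsStrictlyLE d] : ((dualFun T J).obj (op E)).IsGE c := by
  rw [isGE_iff]
  intro i hi
  refine exactAt_D i (fun q => ?_)
  by_cases hq : q ≤ d
  · exact Or.inr (J.isZero_of_isStrictlyGE a _ (by lia))
  · exact Or.inl (E.isZero_of_isStrictlyLE d _ (by lia))

lemma isLE_D_of_strictly {E J : CochainComplex C ℤ} (b c d : ℤ) (hd : d + c = b) [J.IsStrictlyLE b]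
    [E.IsStrictlyGE c] : ((dualFun T J).obj (op E)).IsLE d := by
  rw [isLE_iff]
  intro i hi
  refine exactAt_D i (fun q => ?_)
  by_cases hq : c ≤ q
  · exact Or.inr (J.isZero_of_isStrictlyLE b _ (by lia))
  · exact Or.inl (E.isZero_of_isStrictlyGE c _ (by lia))

variable [∀ (J : Type), HasColimitsOfShape (Discrete J) C]
  [∀ (J : Type), (colim : (Discrete J ⥤ C) ⥤ C).PreservesMonomorphisms] (A : DualData T)

lemma exactAt_iff_D {K L : CochainComplex C ℤ} (f : K ⟶ L) [QuasiIso f] (i : ℤ) :
    (A.D L).ExactAt i ↔ (A.D K).ExactAt i :=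
  exactAt_iff_of_quasiIsoAt (A.Dmap f) i

/-- If `J` is in degrees `≥ a` and the homology of `E` is in degrees `≤ d` then the homology of `D E` is in
degrees `≥ a - d`. -/
lemma isGE_D {E : CochainComplex C ℤ} (a d c : ℤ) (hc : c + d = a) [A.J.IsStrictlyGE a]
    [E.IsLE d] : (A.D E).IsGE c := by
  have h := isGE_D_of_strictly (T := T) (E := E.truncLE d) (J := A.J) a d c hc
  rw [isGE_iff] at h ⊢
  intro i hi
  have : QuasiIso (E.ιTruncLE d) := inferInstance
  exact (exactAt_iff_D A (E.ιTruncLE d) i).2 (h i hi)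

/-- If `J` is in degrees `≤ b` and the homology of `E` is in degrees `≥ c` then the homology of `D E` is in
degrees `≤ b - c`. -/
lemma isLE_D {E : CochainComplex C ℤ} (b c d : ℤ) (hd : d + c = b) [A.J.IsStrictlyLE b]
    [E.IsGE c] : (A.D E).IsLE d := by
  have h := isLE_D_of_strictly (T := T) (E := E.truncGE c) (J := A.J) b c d hd
  rw [isLE_iff] at h ⊢
  intro i hi
  have : QuasiIso (E.πTruncGE c) := inferInstance
  exact (exactAt_iff_D A (E.πTruncGE c) i).1 (h i hi)

end Amplitude

section Fun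

variable [∀ (J : Type), HasColimitsOfShape (Discrete J) C]
  [∀ (J : Type), (colim : (Discrete J ⥤ C) ⥤ C).PreservesMonomorphisms] (A : DualData T)

lemma exactOp : BidWayOp.ExactOp A.F := fun _ hS => A.shortExact_dualSC hS

lemma qisOp : BidWayOp.QisOp A.F := fun _ _ f _ => A.quasiIso_Dmap f

omit [∀ (J : Type), HasColimitsOfShape (Discrete J) C]
  [∀ (J : Type), (colim : (Discrete J ⥤ C) ⥤ C).PreservesMonomorphisms] in
/-- The biduality functor `D D`. -/
@[simps]
noncomputable def biFun : CochainComplex C ℤ ⥤ CochainComplex C ℤ where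
  obj K := A.D (A.D K)
  map f := A.Dmap (A.Dmap f)
  map_id K := by rw [DualData.Dmap_id, DualData.Dmap_id]
  map_comp f g := by rw [DualData.Dmap_comp, DualData.Dmap_comp]

instance : (biFun A).PreservesZeroMorphisms where
  map_zero K L := by rw [biFun_map, DualData.Dmap_zero, DualData.Dmap_zero]

/-- The evaluation as a natural transformation. -/
@[simps]
noncomputable def evNat : 𝟭 (CochainComplex C ℤ) ⟶ biFun A where
  app K := A.ev K
  naturality _ _ f := A.ev_naturality f

lemma exactCx_biFun : BidWay.ExactCx (biFun A) := fun S hS => by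
  have h : (A.dualSC (A.dualSC S)).ShortExact := A.shortExact_dualSC (A.shortExact_dualSC hS)
  exact h

lemma qisCx_biFun : BidWay.QisCx (biFun A) := fun _ _ f _ => by
  have : QuasiIso (A.Dmap f) := A.quasiIso_Dmap f
  exact A.quasiIso_Dmap (A.Dmap f)

omit [∀ (J : Type), HasColimitsOfShape (Discrete J) C]
  [∀ (J : Type), (colim : (Discrete J ⥤ C) ⥤ C).PreservesMonomorphisms] in
lemma exactCx_id : BidWay.ExactCx (𝟭 (CochainComplex C ℤ)) := fun _ hS => hS

/-- Way-out devissage for reflexivity (bounded dualizing complex). -/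
theorem refl_single_of_resolution (P K : ObjectProperty C) (N : ℤ) (hN : 0 ≤ N)
    [A.J.IsStrictlyGE 0] [A.J.IsStrictlyLE N]
    (hP : ∀ X, P X → A.Refl ((CochainComplex.singleFunctor C 0).obj X))
    (hK : ∀ X, K X → ∃ (Y Z : C) (f : Y ⟶ Z) (g : Z ⟶ X) (w : f ≫ g = 0),
      (ShortComplex.mk f g w).ShortExact ∧ K Y ∧ P Z) (X : C) (hX : K X) :
    A.Refl ((CochainComplex.singleFunctor C 0).obj X) := by
  refine ⟨BidWay.quasiIso_of_resolution (evNat A) exactCx_id (exactCx_biFun A) P K
    (fun X hX => (hP X hX).qis) hK N (fun X _ => ?_) (fun X _ => ?_) X hX⟩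
  · change ((CochainComplex.singleFunctor C 0).obj X).IsLE N
    have : ((CochainComplex.singleFunctor C 0).obj X).IsStrictlyLE 0 := inferInstance
    exact isLE_of_le _ 0 N hN
  · change (A.D (A.D ((CochainComplex.singleFunctor C 0).obj X))).IsLE N
    have : (A.D ((CochainComplex.singleFunctor C 0).obj X)).IsGE 0 := isGE_D A 0 0 0 (by simp)
    exact isLE_D A N 0 N (by simp)

/-- A bounded complex is reflexive if its homology objects, placed in degree `0`, are. -/
theorem refl_of_homology (E : CochainComplex C ℤ) (a b : ℤ) [E.IsGE a] [E.IsLE b]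
    (hE : ∀ i, A.Refl ((CochainComplex.singleFunctor C 0).obj (E.homology i))) : A.Refl E :=
  ⟨BidWay.quasiIso_of_homology (evNat A) exactCx_id (exactCx_biFun A) (fun _ _ _ h => h)
    (qisCx_biFun A) E a b (fun i => (hE i).qis)⟩

end Fun

end Groth.Agent.Sga4h.BidRefl
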