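import Groth.Agent.Sga4h.ModDTensor

/-!
# The constant sheaf `Λ` is a unit for the tensor product of étale sheaves of `Λ`-modules
-/

set_option autoImplicit false
universe u

open CategoryTheory CategoryTheory.Limits AlgebraicGeometry Opposite MonoidalCategory

namespace Groth.Agent.Sga4h.TensorUnit

open ModDTensor

variable (Λ : Type (u + 1)) [CommRing Λ] (X : Scheme.{u})

lemma constMod_eq : EtModW.constMod Λ X Λ = (sh Λ X).obj (𝟙_ (PMod Λ X)) := rfl

variable {X} in
instance isIso_map_whiskerLeft (P Q : PMod Λ X) :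
    IsIso ((sh Λ X).map (P ◁ toSheafify X.smallEtaleTopology Q)) := by
  have h : (X.smallEtaleTopology.W (A := ModuleCat.{u + 1} Λ))
      (P ◁ toSheafify X.smallEtaleTopology Q) :=
    MorphismProperty.IsMonoidal.whiskerLeft _ _ (GrothendieckTopology.W_toSheafify _ _)
  exact (GrothendieckTopology.W_iff _ _).1 h

/-- `F ⊗ Λ ≅ F`. -/
noncomputable def tensorUnitRight :
    (EtModD.tensorBi Λ X).flip.obj (EtModW.constMod Λ X Λ) ≅ 𝟭 (EtModW.Mod Λ X) :=
  NatIso.ofComponents
    (fun F => (asIso ((sh Λ X).map ((inc Λ X).obj F ◁ toSheafify X.smallEtaleTopology (𝟙_ (PMod Λ X))))).symm ≪≫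
      (sh Λ X).mapIso (ρ_ _) ≪≫ asIso ((sheafificationAdjunction X.smallEtaleTopology
        (ModuleCat.{u + 1} Λ)).counit.app F))
    (fun {F G} f => by
      have h1 : (sh Λ X).map ((inc Λ X).obj F ◁ toSheafify X.smallEtaleTopology (𝟙_ (PMod Λ X))) ≫
          (sh Λ X).map ((inc Λ X).map f ▷ ((inc Λ X).obj ((sh Λ X).obj (𝟙_ (PMod Λ X))))) =
          (sh Λ X).map ((inc Λ X).map f ▷ (𝟙_ (PMod Λ X))) ≫
            (sh Λ X).map ((inc Λ X).obj G ◁ toSheafify X.smallEtaleTopology (𝟙_ (PMod Λ X))) := by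
        rw [← Functor.map_comp, ← Functor.map_comp]
        exact congrArg (sh Λ X).map (whisker_exchange _ _)
      have h2 : (sh Λ X).map ((inc Λ X).map f ▷ (𝟙_ (PMod Λ X))) ≫ (sh Λ X).map (ρ_ _).hom =
          (sh Λ X).map (ρ_ _).hom ≫ (sh Λ X).map ((inc Λ X).map f) := by
        rw [← Functor.map_comp, ← Functor.map_comp]
        exact congrArg (sh Λ X).map (rightUnitor_naturality _)
      have h3 := (sheafificationAdjunction X.smallEtaleTopology
        (ModuleCat.{u + 1} Λ)).counit.naturality f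
      change (sh Λ X).map ((inc Λ X).map f ▷ ((inc Λ X).obj ((sh Λ X).obj (𝟙_ (PMod Λ X))))) ≫
        (inv ((sh Λ X).map ((inc Λ X).obj G ◁ toSheafify X.smallEtaleTopology (𝟙_ (PMod Λ X)))) ≫
        (sh Λ X).map (ρ_ _).hom ≫ (sheafificationAdjunction X.smallEtaleTopology
        (ModuleCat.{u + 1} Λ)).counit.app G) =
        (inv ((sh Λ X).map ((inc Λ X).obj F ◁ toSheafify X.smallEtaleTopology (𝟙_ (PMod Λ X)))) ≫
        (sh Λ X).map (ρ_ _).hom ≫ (sheafificationAdjunction X.smallEtaleTopology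
        (ModuleCat.{u + 1} Λ)).counit.app F) ≫ f
      rw [← cancel_epi ((sh Λ X).map ((inc Λ X).obj F ◁
        toSheafify X.smallEtaleTopology (𝟙_ (PMod Λ X)))), reassoc_of% h1, IsIso.hom_inv_id_assoc,
        reassoc_of% h2, Category.assoc, IsIso.hom_inv_id_assoc, Category.assoc]
      exact congrArg ((sh Λ X).map (ρ_ _).hom ≫ ·) h3)

end Groth.Agent.Sga4h.TensorUnit
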