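import Groth.Agent.Sga4h.BidPt
import Groth.Agent.Sga4h.BidRefl
import Groth.Agent.Sga4h.DualEt
import Groth.Agent.Sga4h.TensorUnit
import Groth.Agent.Sga4h.ModPointCons

/-!
# Biduality on the spectrum of a separably closed field

* `refl_constMod` (any scheme): the constant sheaf `Λ` is reflexive for a dualizing complex quasi-isomorphic to `Λ[0]`.
* `refl_of_finite`: `k` separably closed, `Λ = ℤ/m`: sheaves with finite global sections are reflexive.
* `refl_of_isDbc`: the objects of `D^b_c(Spec k, ℤ/m)` are reflexive.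
-/

set_option autoImplicit false

universe u

open CategoryTheory CategoryTheory.Limits AlgebraicGeometry ZeroObject

attribute [local instance 5000] CategoryTheory.Abelian.toPreadditive
  CategoryTheory.Preadditive.preadditiveHasZeroMorphisms

namespace Groth.Agent.Sga4h.BidPtRefl

open scoped Groth.Agent.Sga4h.ModInst
open Groth.Agent.Sga4h.ModDTensor Groth.Agent.Sga4h.DualSelf Groth.Agent.Sga4h.DualCx Groth.Agent.Sga4h.Refl
open ModPoint

variable {Λ : Type (u + 1)} [CommRing Λ]

/-- The constant sheaf `Λ` is reflexive. -/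
theorem refl_constMod {X : Scheme.{u}} (A : DualData (EtModD.tensorBi Λ X))
    (j : (CochainComplex.singleFunctor (EtModW.Mod Λ X) 0).obj (EtModW.constMod Λ X Λ) ⟶ A.J) (hj : QuasiIso j) :
    A.Refl ((CochainComplex.singleFunctor (EtModW.Mod Λ X) 0).obj (EtModW.constMod Λ X Λ)) :=
  BidPt.refl_unit' (TensorUnit.tensorUnitRight Λ X) A j hj

/-- Sheaves with finite global sections on the spectrum of a separably closed field are reflexive
(for a finite self-injective ring of coefficients). -/
theorem refl_of_finite [Finite Λ] [Injective (ModuleCat.of Λ Λ)] {k : Type u} [Field k] [IsSepClosed k]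
    (A : DualData (EtModD.tensorBi Λ (Spec (CommRingCat.of k))))
    (j : (CochainComplex.singleFunctor (EtModW.Mod Λ (Spec (CommRingCat.of k))) 0).obj
      (EtModW.constMod Λ (Spec (CommRingCat.of k)) Λ) ⟶ A.J) (hj : QuasiIso j)
    (F : EtModW.Mod Λ (Spec (CommRingCat.of k))) (hF : Finite ((Γ Λ _).obj F)) :
    A.Refl ((CochainComplex.singleFunctor (EtModW.Mod Λ (Spec (CommRingCat.of k))) 0).obj F) :=
  BidPt.refl_of_class' A (injective_constMod Λ k) j hj (fun F => Finite ((Γ Λ _).obj F))
    (fun F hF => exists_shortExact k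
      (fun Z => A.Refl ((CochainComplex.singleFunctor (EtModW.Mod Λ (Spec (CommRingCat.of k))) 0).obj Z))
      (BidPt.refl_zero A) (refl_constMod A j hj) (fun _ _ h1 h2 => BidPt.refl_biprod A h1 h2) F hF) F hF

attribute [local instance] HasDerivedCategory.standard

/-- The objects of `D^b_c` of the spectrum of a separably closed field are reflexive
(for a finite self-injective ring of coefficients). -/
theorem refl_of_isDbc [Finite Λ] [Injective (ModuleCat.of Λ Λ)] {k : Type u} [Field k] [IsSepClosed k]
    (A : DualData (EtModD.tensorBi Λ (Spec (CommRingCat.of k))))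
    (j : (CochainComplex.singleFunctor (EtModW.Mod Λ (Spec (CommRingCat.of k))) 0).obj
      (EtModW.constMod Λ (Spec (CommRingCat.of k)) Λ) ⟶ A.J) (hj : QuasiIso j)
    (E : CochainComplex (EtModW.Mod Λ (Spec (CommRingCat.of k))) ℤ)
    (hE : EtModD.IsDbc (DerivedCategory.Q.obj E)) : A.Refl E := by
  obtain ⟨⟨a, b, h1, h2⟩, h3⟩ := hE
  rw [DerivedCategory.isGE_Q_obj_iff] at h1
  rw [DerivedCategory.isLE_Q_obj_iff] at h2
  refine BidRefl.refl_of_homology A E a b (fun i => refl_of_finite A j hj _ ?_)
  have h4 : EtModW.IsConstructible Λ (E.homology i) :=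
    Etrest.ModCons.isConstructible_of_iso ((DerivedCategory.homologyFunctorFactors _ i).app E) (h3 i)
  have h5 := finite_Γ_of_isConstructible Λ _ h4
  exact Module.finite_of_finite Λ

/-- The objects of `D^b_c(Spec k, ℤ/m)`, `k` separably closed, are reflexive. -/
theorem refl_zmod {k : Type u} [Field k] [IsSepClosed k] (m : ℕ) (hm : 0 < m)
    (A : DualData (EtModD.tensorBi (ULift.{u + 1} (ZMod m)) (Spec (CommRingCat.of k))))
    (j : (CochainComplex.singleFunctor (EtModW.Mod (ULift.{u + 1} (ZMod m)) (Spec (CommRingCat.of k))) 0).obj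
      (EtModW.constMod (ULift.{u + 1} (ZMod m)) (Spec (CommRingCat.of k)) (ULift.{u + 1} (ZMod m))) ⟶ A.J)
    (hj : QuasiIso j)
    (E : CochainComplex (EtModW.Mod (ULift.{u + 1} (ZMod m)) (Spec (CommRingCat.of k))) ℤ)
    (hE : EtModD.IsDbc (DerivedCategory.Q.obj E)) : A.Refl E := by
  have : NeZero m := ⟨hm.ne'⟩
  have := injective_zmod.{u} m hm
  exact refl_of_isDbc A j hj E hE

end Groth.Agent.Sga4h.BidPtRefl
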