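import Groth.Agent.Sga4h.BidGlobU
import Groth.Agent.Sga4h.BidPtRefl
import Groth.Agent.Sga4h.BidFin
import Groth.Agent.Sga4h.BidIndD48

/-!
# The global part of the induction step for local biduality

`X` a scheme with a duality `Ext^q(F, Λ) = Hom(H^i(X, F), ℤ/m)`, `i + q = N`, (`SheafDual m tr`), `Λ` a finite ring killed
by `m`, such that the étale cohomology groups of constructible sheaves killed by `m` are finite (`FinCoh m X`).

* `glob`: the parts (bdd), (fin), (fin'), (ev) of `BidIndD48.StepData`;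
* `stepData`: `StepData` from its local parts.
-/

set_option autoImplicit false
universe u

open CategoryTheory CategoryTheory.Limits CategoryTheory.Abelian AlgebraicGeometry

attribute [local instance 5000] CategoryTheory.Abelian.toPreadditive
  CategoryTheory.Preadditive.preadditiveHasZeroMorphisms

namespace Groth.Agent.Sga4h.BidGlobEt

attribute [local instance] HasDerivedCategory.standard
open scoped Groth.Agent.Sga4h.ModInst
open Groth.Agent.Sga4h.Refl DerivedCategory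
open Groth.Agent.Sga4h.BidGlobDual

variable {Λ : Type (u + 1)} [CommRing Λ] {X : Scheme.{u}}

/-- The global part of the induction step. -/
theorem glob [Finite Λ] {m : ℕ} (hm : m ≠ 0) (hΛ : (m : Λ) = 0) {N : ℕ}
    {tr : Ext.{u + 1} (EtModW.constMod Λ X Λ) (EtModW.constMod Λ X Λ) N →+ ZMod m}
    (B : SheafDual m tr) (hX : BidFin.FinCoh m X) (A : DualData (EtModD.tensorBi Λ X))
    (j : (CochainComplex.singleFunctor (EtModW.Mod Λ X) 0).obj (EtModW.constMod Λ X Λ) ⟶ A.J)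
    (hj : QuasiIso j) (K : CochainComplex (EtModW.Mod Λ X) ℤ) (hK : EtModD.IsDbc (Q.obj K)) :
    (∃ a b : ℤ, (Q.obj (A.D K)).IsGE a ∧ (Q.obj (A.D K)).IsLE b) ∧
    (∀ i : ℤ, Finite ((singleFunctor _ 0).obj (EtModW.constMod Λ X Λ) ⟶ (Q.obj K)⟦i⟧)) ∧
    (∀ i : ℤ, Finite ((singleFunctor _ 0).obj (EtModW.constMod Λ X Λ) ⟶ (Q.obj (A.D K))⟦i⟧)) ∧
    ∀ i : ℤ, Function.Bijective (fun f : (singleFunctor _ 0).obj (EtModW.constMod Λ X Λ) ⟶
      (Q.obj K)⟦i⟧ => f ≫ (Q.map (A.ev K))⟦i⟧') := by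
  have hfin := BidFin.finite_hom hΛ hX (Q.obj K) hK
  obtain ⟨⟨a, b, ha, hb⟩, -⟩ := hK
  obtain ⟨h1, h2, h3⟩ := BidGlobU.package hm B A (TensorUnit.tensorUnitRight Λ X) j hj K ha hb hfin
  exact ⟨h1, hfin, h2, h3⟩

/-- `StepData` from its local parts. -/
theorem stepData [Finite Λ] {m : ℕ} (hm : m ≠ 0) (hΛ : (m : Λ) = 0) {N : ℕ}
    {tr : Ext.{u + 1} (EtModW.constMod Λ X Λ) (EtModW.constMod Λ X Λ) N →+ ZMod m}
    (B : SheafDual m tr) (hX : BidFin.FinCoh m X) (A : DualData (EtModD.tensorBi Λ X))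
    (j : (CochainComplex.singleFunctor (EtModW.Mod Λ X) 0).obj (EtModW.constMod Λ X Λ) ⟶ A.J)
    (hj : QuasiIso j) {ι : Type*} (X' : ι → Scheme.{u}) (g : ∀ i, X' i ⟶ X)
    (loc₁ : ∀ K : CochainComplex (EtModW.Mod Λ X) ℤ, EtModD.IsDbc (Q.obj K) → ∀ i q,
      EtModW.IsConstructible Λ ((EtModW.pull Λ (g i)).obj (EtModD.HD (Q.obj (A.D K)) q)))
    (loc₂ : ∀ K : CochainComplex (EtModW.Mod Λ X) ℤ, EtModD.IsDbc (Q.obj K) →
      EtModD.IsDbc (Q.obj (A.D K)) → ∀ i q,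
        IsIso ((EtModW.pull Λ (g i)).map (HomologicalComplex.homologyMap (A.ev K) q))) :
    BidIndD48.StepData A X' g where
  bdd K hK := (glob hm hΛ B hX A j hj K hK).1
  fin K hK := (glob hm hΛ B hX A j hj K hK).2.1
  fin' K hK := (glob hm hΛ B hX A j hj K hK).2.2.1
  ev K hK _ := (glob hm hΛ B hX A j hj K hK).2.2.2
  loc₁ := loc₁
  loc₂ := loc₂

end Groth.Agent.Sga4h.BidGlobEt
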