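import Groth.Agent.Sga4h.Dbc323
import Groth.Agent.Sga4h.DualEt
import Groth.Agent.Etcore.LCrit

/-!
# `D^b_c` and the duality functor on complexes

* `refl_of_isDbc`: if `F[0]` is reflexive for all constructible `F` then every complex in `D^b_c` is;
* `isDbc_D`: if `D(F[0]) ∈ D^b_c` for all constructible `F` then `D(K) ∈ D^b_c` for all `K ∈ D^b_c`;
* `isDbc_Q_map_pull`: inverse images preserve `D^b_c`.
-/

set_option autoImplicit false

universe u

open CategoryTheory CategoryTheory.Category CategoryTheory.Limits AlgebraicGeometry Pretriangulated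

attribute [local instance] HasDerivedCategory.standard
attribute [local instance 5000] CategoryTheory.Abelian.toPreadditive
  CategoryTheory.Preadditive.preadditiveHasZeroMorphisms

namespace Groth.Agent.Sga4h.DbcDual323

open scoped Groth.Agent.Sga4h.ModInst
open Groth.Agent.Sga4h.Dbc323 Groth.Agent.Sga4h.Refl

variable {Λ : Type (u + 1)} [CommRing Λ] {X : Scheme.{u}}

section pull

variable {Y : Scheme.{u}} (f : Y ⟶ X)

attribute [local instance] Etrest.ModCons.preservesFiniteLimits_pull
  Etrest.ModCons.preservesFiniteColimits_pull Etrest.ModCons.additive_pull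

/-- Inverse images preserve `D^b_c`. -/
theorem isDbc_Q_map_pull (K : CochainComplex (EtModW.Mod Λ X) ℤ)
    (hK : EtModD.IsDbc (DerivedCategory.Q.obj K)) :
    EtModD.IsDbc (DerivedCategory.Q.obj (((EtModW.pull Λ f).mapHomologicalComplex _).obj K)) := by
  rw [isDbc_Q_iff] at hK ⊢
  obtain ⟨⟨a, b, ha, hb⟩, h⟩ := hK
  have e : ∀ i, (((EtModW.pull Λ f).mapHomologicalComplex (ComplexShape.up ℤ)).obj K).homology i ≅
      (EtModW.pull Λ f).obj (K.homology i) := fun i => (K.sc i).mapHomologyIso (EtModW.pull Λ f)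
  refine ⟨⟨a, b, ?_, ?_⟩, fun i => ?_⟩
  · rw [CochainComplex.isGE_iff]
    intro i hi
    rw [HomologicalComplex.exactAt_iff_isZero_homology]
    exact (Functor.map_isZero _ (K.isZero_of_isGE a i hi)).of_iso (e i)
  · rw [CochainComplex.isLE_iff]
    intro i hi
    rw [HomologicalComplex.exactAt_iff_isZero_homology]
    exact (Functor.map_isZero _ (K.isZero_of_isLE b i hi)).of_iso (e i)
  · exact Etrest.ModCons.isConstructible_of_iso (e i).symm (Etcore.LCrit.isConstructible_pull f _ (h i))

end pull

section dual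

variable (A : DualData (EtModD.tensorBi Λ X))

/-- Reflexivity on `D^b_c` can be checked on constructible sheaves. -/
theorem refl_of_isDbc
    (h : ∀ F : EtModW.Mod Λ X, EtModW.IsConstructible Λ F →
      A.Refl ((CochainComplex.singleFunctor (EtModW.Mod Λ X) 0).obj F))
    (K : CochainComplex (EtModW.Mod Λ X) ℤ) (hK : EtModD.IsDbc (DerivedCategory.Q.obj K)) : A.Refl K :=
  tri_devissage A.tri_refl h K hK

/-- `D K` satisfies a triangulated property for `K ∈ D^b_c` if `D (F[0])` does for `F` constructible. -/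
theorem prop_D_of_isDbc {P : CochainComplex (EtModW.Mod Λ X) ℤ → Prop} (hP : CxProp.Tri P)
    (h : ∀ F : EtModW.Mod Λ X, EtModW.IsConstructible Λ F →
      P (A.D ((CochainComplex.singleFunctor (EtModW.Mod Λ X) 0).obj F)))
    (K : CochainComplex (EtModW.Mod Λ X) ℤ) (hK : EtModD.IsDbc (DerivedCategory.Q.obj K)) : P (A.D K) :=
  tri_devissage (A.tri_D hP) h K hK

/-- `D^b_c` is stable under duality if `D (F[0]) ∈ D^b_c` for `F` constructible. -/
theorem isDbc_D [IsNoetherianRing Λ]
    (h : ∀ F : EtModW.Mod Λ X, EtModW.IsConstructible Λ F →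
      EtModD.IsDbc (DerivedCategory.Q.obj (A.D ((CochainComplex.singleFunctor (EtModW.Mod Λ X) 0).obj F))))
    (K : CochainComplex (EtModW.Mod Λ X) ℤ) (hK : EtModD.IsDbc (DerivedCategory.Q.obj K)) :
    EtModD.IsDbc (DerivedCategory.Q.obj (A.D K)) :=
  prop_D_of_isDbc A (CxProp.tri_ofD (EtModD.IsDbc : ObjectProperty (EtModD.D Λ X))) h K hK

end dual

end Groth.Agent.Sga4h.DbcDual323
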