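import Groth.Agent.Sga4h.BidPtRefl
import Groth.Agent.Sga4h.DbcDual323
import Groth.Agent.Sga4h.BidIndLoc48
import Groth.Agent.Sga4h.ModConstFT

/-!
# The base case of biduality in the form `Bid`

`bid_point`: for `k` separably closed and a finite self-injective coefficient ring `Λ`, the duality data on `Spec k`
with dualizing complex quasi-isomorphic to `Λ[0]` satisfy `Bid`.
-/

set_option autoImplicit false

universe u v₁ u₁

open CategoryTheory CategoryTheory.Limits AlgebraicGeometry

namespace Groth.Agent.Sga4h.BidPtDbc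

section Abs

set_option backward.defeqAttrib.useBackward true
set_option backward.isDefEq.respectTransparency false

open HomologicalComplex CochainComplex Opposite
open Groth.Agent.Dcoh.CxFun Groth.Agent.Sga4h.HomCx Groth.Agent.Sga4h.DualCx Groth.Agent.Sga4h.DualSelf
open Groth.Agent.Sga4h.Refl Groth.Agent.Sga4h.BidPt

variable {C : Type u₁} [Category.{v₁} C] [Abelian C] {T : C ⥤ C ⥤ C} [T.Additive] [∀ X, (T.obj X).Additive]
  [∀ (K₁ K₂ : CochainComplex C ℤ), CochainComplex.HasMapBifunctor K₁ K₂ T]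
  [∀ E : CochainComplex C ℤ, (T.map₂CochainComplex.flip.obj E).IsLeftAdjoint]
  [∀ M : C, (T.flip.obj M).IsLeftAdjoint]

/-- The dual of `M[0]` is quasi-isomorphic to `Hom(M, I)[0]`. -/
theorem exists_qi {I : C} (A : DualData T) (hI : Injective I)
    (j : (CochainComplex.singleFunctor C 0).obj I ⟶ A.J) (hj : QuasiIso j) (M : C) :
    ∃ f : (CochainComplex.singleFunctor C 0).obj ((T.flip.obj M).rightAdjoint.obj I) ⟶
      A.D ((CochainComplex.singleFunctor C 0).obj M), QuasiIso f := by
  have h0 := isKInjective_single hI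
  have := A.kinj
  have h1 := quasiIso_homFun_map (T := T) ((single C (ComplexShape.up ℤ) 0).obj M) (K :=
    (single C (ComplexShape.up ℤ) 0).obj I) j
  let e : (single C (ComplexShape.up ℤ) 0).obj ((T.flip.obj M).rightAdjoint.obj I) ≅
      (homFun T ((single C (ComplexShape.up ℤ) 0).obj M)).obj ((single C (ComplexShape.up ℤ) 0).obj I) :=
    (singleMapHomologicalComplex (T.flip.obj M).rightAdjoint (ComplexShape.up ℤ) 0).symm.app I ≪≫
      ((homSingle M).app _).symm
  exact ⟨e.hom ≫ (homFun T ((single C (ComplexShape.up ℤ) 0).obj M)).map j, inferInstance⟩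

end Abs

attribute [local instance 5000] CategoryTheory.Abelian.toPreadditive
  CategoryTheory.Preadditive.preadditiveHasZeroMorphisms

attribute [local instance] HasDerivedCategory.standard

open scoped Groth.Agent.Sga4h.ModInst
open Groth.Agent.Sga4h.Refl Groth.Agent.Sga4h.ModPoint Groth.Agent.Sga4h.BidIndLoc48 Opposite

variable {Λ : Type (u + 1)} [CommRing Λ] {k : Type u} [Field k] [IsSepClosed k]

/-- Sheaves with finitely generated global sections are constructible. -/
theorem isConstructible_of_finite_Γ (F : EtModW.Mod Λ (Spec (CommRingCat.of k)))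
    (hF : Module.Finite Λ ((Γ Λ _).obj F)) : EtModW.IsConstructible Λ F := by
  have h := ModConstFT.isConstructible_const (X := Spec (CommRingCat.of k)) (Λ := Λ) ((Γ Λ _).obj F)
  exact Etrest.ModCons.isConstructible_of_iso (asIso ((constAdj Λ (Spec (CommRingCat.of k))).counit.app F)) h

/-- There are finitely many morphisms between sheaves with finite global sections. -/
theorem finite_hom (F G : EtModW.Mod Λ (Spec (CommRingCat.of k))) [Finite ((Γ Λ _).obj F)]
    [Finite ((Γ Λ _).obj G)] : Finite (F ⟶ G) := by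
  refine Finite.of_injective (fun φ : F ⟶ G => ((Γ Λ _).map φ : (Γ Λ _).obj F → (Γ Λ _).obj G))
    (fun φ ψ h => (Γ Λ _).map_injective ?_)
  ext x
  exact congrFun h x

theorem finite_Γ_ihom (F I : EtModW.Mod Λ (Spec (CommRingCat.of k))) [Finite ((Γ Λ _).obj F)]
    [Finite ((Γ Λ _).obj I)] :
    Finite ((Γ Λ _).obj (((EtModD.tensorBi Λ (Spec (CommRingCat.of k))).flip.obj F).rightAdjoint.obj I)) := by
  let T := EtModD.tensorBi Λ (Spec (CommRingCat.of k))
  let N := (T.flip.obj F).rightAdjoint.obj I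
  let O := EtModW.constMod Λ (Spec (CommRingCat.of k)) Λ
  have e1 : (O ⟶ N) ≃ ((T.flip.obj F).obj O ⟶ I) :=
    ((Adjunction.ofIsLeftAdjoint (T.flip.obj F)).homEquiv O I).symm
  have e2 : (T.flip.obj F).obj O ≅ F :=
    ((ModDTensor.tensorFlipIso Λ _).app F).app O ≪≫ (TensorUnit.tensorUnitRight Λ _).app F
  have h1 : Finite ((T.flip.obj F).obj O ⟶ I) := by
    have := finite_hom F I
    exact Finite.of_equiv _ (e2.homFromEquiv (Z := I)).symm
  have h2 : Finite (O ⟶ N) := Finite.of_equiv _ e1.symm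
  have e3 : (ModuleCat.of Λ Λ ⟶ (Γ Λ _).obj N) ≃ (O ⟶ N) :=
    ((constAdj Λ (Spec (CommRingCat.of k))).homEquiv _ _).symm
  have h3 : Finite (ModuleCat.of Λ Λ ⟶ (Γ Λ _).obj N) := Finite.of_equiv _ e3.symm
  refine Finite.of_surjective (fun φ : ModuleCat.of Λ Λ ⟶ (Γ Λ _).obj N => φ.hom (1 : Λ)) (fun x => ?_)
  exact ⟨ModuleCat.ofHom (LinearMap.toSpanSingleton _ _ x), by simp⟩

variable [Finite Λ] [Injective (ModuleCat.of Λ Λ)]
  (A : DualData (EtModD.tensorBi Λ (Spec (CommRingCat.of k))))
  (j : (CochainComplex.singleFunctor (EtModW.Mod Λ (Spec (CommRingCat.of k))) 0).obj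
    (EtModW.constMod Λ (Spec (CommRingCat.of k)) Λ) ⟶ A.J) (hj : QuasiIso j)

include hj in
theorem isDbc_D_single (F : EtModW.Mod Λ (Spec (CommRingCat.of k))) (hF : EtModW.IsConstructible Λ F) :
    EtModD.IsDbc (DerivedCategory.Q.obj
      (A.D ((CochainComplex.singleFunctor (EtModW.Mod Λ (Spec (CommRingCat.of k))) 0).obj F))) := by
  obtain ⟨f, hf⟩ := exists_qi A (injective_constMod Λ k) j hj F
  have h1 := finite_Γ_of_isConstructible Λ F hF
  have h2 : Finite ((Γ Λ _).obj F) := Module.finite_of_finite Λ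
  have h3 := finite_Γ_const (Λ := Λ) k
  have h4 := finite_Γ_ihom F (EtModW.constMod Λ (Spec (CommRingCat.of k)) Λ)
  have h5 := isConstructible_of_finite_Γ
    (((EtModD.tensorBi Λ (Spec (CommRingCat.of k))).flip.obj F).rightAdjoint.obj
      (EtModW.constMod Λ (Spec (CommRingCat.of k)) Λ)) inferInstance
  have h6 := (Dbc323.isDbc_Q_single_iff _ 0).2 h5
  exact ObjectProperty.prop_of_iso _ (asIso (DerivedCategory.Q.map f)) h6

include hj in
/-- **Base case of biduality.** -/
theorem bid_point : Bid A where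
  dbc K hK := DbcDual323.isDbc_D A (fun F hF => isDbc_D_single A j hj F hF) K hK
  refl K hK := BidPtRefl.refl_of_isDbc A j hj K hK

omit [Finite Λ] [Injective (ModuleCat.of Λ Λ)] in
/-- Base case of biduality for `ℤ/m`. -/
theorem bid_point_zmod (m : ℕ) (hm : 0 < m)
    (A : DualData (EtModD.tensorBi (ULift.{u + 1} (ZMod m)) (Spec (CommRingCat.of k))))
    (j : (CochainComplex.singleFunctor (EtModW.Mod (ULift.{u + 1} (ZMod m)) (Spec (CommRingCat.of k))) 0).obj
      (EtModW.constMod (ULift.{u + 1} (ZMod m)) (Spec (CommRingCat.of k)) (ULift.{u + 1} (ZMod m))) ⟶ A.J)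
    (hj : QuasiIso j) : Bid A := by
  have : NeZero m := ⟨hm.ne'⟩
  have := injective_zmod.{u} m hm
  exact bid_point A j hj

end Groth.Agent.Sga4h.BidPtDbc
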