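import Groth.Agent.Sga4h.BidIndFin48
import Groth.Agent.Sga4h.BidRed538Main
import Groth.Agent.Sga4h.BidPtDbc
import Groth.Agent.Sga4h.BidGlobEt

/-!
# Biduality on the iterated projective lines: the family `stdDual`

`hP_of`: the input `hP` of `BidRed538Main.bidual` from the duality theorem on the iterated projective lines
(`SheafDual`) and the comparison of duality along limits of étale morphisms (`Cmp`).
-/

set_option autoImplicit false
universe u

open CategoryTheory CategoryTheory.Limits CategoryTheory.Abelian AlgebraicGeometry Opposite TopologicalSpace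

attribute [local instance 5000] CategoryTheory.Abelian.toPreadditive
  CategoryTheory.Preadditive.preadditiveHasZeroMorphisms

namespace Groth.Agent.Sga4h.BidFinal48

attribute [local instance] HasDerivedCategory.standard
open scoped Groth.Agent.Sga4h.ModInst
open Groth.Agent.Sga4h.Refl DerivedCategory Groth.Agent.Sga4h.BidIndD48 Groth.Agent.Sga4h.BidIndLoc48
open Groth.Agent.Sga4h.BidGeoIt Groth.Agent.Sga4h.BidGeoLim Groth.Agent.Sga4h.BidIndFin48
open Groth.Agent.Sga4h.BidRed538Main Groth.Agent.Sga4h.BidGlobDual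

section Gen

variable {Λ : Type (u + 1)} [CommRing Λ] {X : Scheme.{u}}

/-- The global data from the duality theorem. -/
theorem globData_of [Finite Λ] {m : ℕ} (hm : 0 < m) (hΛ : (m : Λ) = 0) {N : ℕ}
    {tr : Ext.{u + 1} (EtModW.constMod Λ X Λ) (EtModW.constMod Λ X Λ) N →+ ZMod m}
    (B : SheafDual m tr) (hX : BidFin.FinCoh m X) (A : DualData (EtModD.tensorBi Λ X))
    (j : (CochainComplex.singleFunctor (EtModW.Mod Λ X) 0).obj (EtModW.constMod Λ X Λ) ⟶ A.J)
    (hj : QuasiIso j) : GlobData A m where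
  h1 := fun G hG hG' => hX G hG' hG 1
  bdd := fun K hK => (BidGlobEt.glob hm.ne' hΛ B hX A j hj K hK).1
  fin := fun K hK => (BidGlobEt.glob hm.ne' hΛ B hX A j hj K hK).2.1
  fin' := fun K hK => (BidGlobEt.glob hm.ne' hΛ B hX A j hj K hK).2.2.1
  ev := fun K hK _ => (BidGlobEt.glob hm.ne' hΛ B hX A j hj K hK).2.2.2

end Gen

/-- **Biduality on the iterated projective lines** for the family `stdDual`. -/
theorem hP_of {m : ℕ} (hm : 0 < m)
    (hfin : ∀ (k : Type u) [Field k] [IsSepClosed k], (m : k) ≠ 0 → ∀ d : ℕ,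
      BidFin.FinCoh m (It (Spec (CommRingCat.of k)) (d + 1)))
    (hSD : ∀ (k : Type u) [Field k] [IsSepClosed k], (m : k) ≠ 0 → ∀ d : ℕ, ∃ (N : ℕ)
      (tr : Ext.{u + 1} (EtModW.constMod (ULift.{u + 1} (ZMod m)) (It (Spec (CommRingCat.of k)) (d + 1)) (ULift.{u + 1} (ZMod m)))
        (EtModW.constMod (ULift.{u + 1} (ZMod m)) (It (Spec (CommRingCat.of k)) (d + 1)) (ULift.{u + 1} (ZMod m))) N →+ ZMod m),
      SheafDual m tr)
    (hcmp : ∀ (X X' : Scheme.{u}) (g : X' ⟶ X), IsNoetherian X → IsEtLim g →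
      Nonempty (Cmp (stdDual (ULift.{u + 1} (ZMod m)) X) (stdDual (ULift.{u + 1} (ZMod m)) X') g))
    (k : Type u) [Field k] [IsSepClosed k] (hk : (m : k) ≠ 0) (d : ℕ)
    (E : CochainComplex (EtModW.Mod (ULift.{u + 1} (ZMod m)) (It (Spec (CommRingCat.of k)) d)) ℤ)
    (hE : EtModD.IsDbc (Q.obj E)) : (stdDual (ULift.{u + 1} (ZMod m)) (It (Spec (CommRingCat.of k)) d)).Refl E := by
  have : NeZero m := ⟨hm.ne'⟩
  refine (bid_It (Λ := ULift.{u + 1} (ZMod m)) hm (by
    apply ULift.down_injective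
    exact ZMod.natCast_self m) (stdDual (ULift.{u + 1} (ZMod m)))
    (fun k _ _ hk d => ?_) hcmp (fun k _ _ hk => ?_) d k hk).refl E hE
  · obtain ⟨N, tr, B⟩ := hSD k hk d
    exact globData_of hm (by
      apply ULift.down_injective
      exact ZMod.natCast_self m) B (hfin k hk d) _ (stdι _ _) (quasiIso_stdι _ _)
  · exact BidPtDbc.bid_point_zmod m hm _ (stdι _ _) (quasiIso_stdι _ _)

end Groth.Agent.Sga4h.BidFinal48
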