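import Mathlib.RingTheory.Etale.Locus
import Mathlib.RingTheory.Etale.Field
import Mathlib.RingTheory.Localization.FractionRing
import Mathlib.FieldTheory.Separable
import Groth.Agent.Etcore.FGLim
import Groth.Agent.Pi1A.FGLimit

/-!
# A separable algebraic extension of a fraction field as a union of etale subalgebras

`A` a Noetherian domain with fraction field `K`, `Ω / K` separable algebraic: every finitely generated
`A`-subalgebra of `Ω` is contained in an etale `A`-subalgebra of `Ω`; `Ω` is the filtered colimit of its
etale `A`-subalgebras.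
-/

set_option autoImplicit false

universe u

open CategoryTheory CategoryTheory.Limits AlgebraicGeometry

namespace Groth.Agent.Sga4h.BidGeoAlg

section Alg

theorem isLocalization_congr {R S : Type*} [CommSemiring R] [CommSemiring S] [Algebra R S]
    {M N : Submonoid R} (e : M = N) (h : IsLocalization M S) : IsLocalization N S := e ▸ h

variable {A K Ω : Type*} [CommRing A] [Field K] [Algebra A K]
  [IsFractionRing A K] [Field Ω] [Algebra A Ω] [Algebra K Ω] [IsScalarTower A K Ω]

include K in
theorem injective_algebraMap : Function.Injective (algebraMap A Ω) := by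
  rw [IsScalarTower.algebraMap_eq A K Ω]
  exact (algebraMap K Ω).injective.comp (IsFractionRing.injective A K)

variable [Algebra.IsSeparable K Ω]

include K in
/-- the generic point of a subalgebra of a separable extension is an etale point -/
theorem isEtaleAt_bot (B : Subalgebra A Ω) : Algebra.IsEtaleAt A (⊥ : Ideal B) := by
  have hA : IsDomain A := (injective_algebraMap (A := A) (K := K) (Ω := Ω)).isDomain _
  change Algebra.FormallyEtale A (Localization.AtPrime (⊥ : Ideal B))
  have hloc : IsFractionRing B (Localization.AtPrime (⊥ : Ideal B)) := by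
    have e : (⊥ : Ideal B).primeCompl = nonZeroDivisors B := by
      ext x
      simp [Ideal.primeCompl]
    exact isLocalization_congr e
      (inferInstanceAs (IsLocalization.AtPrime (Localization.AtPrime (⊥ : Ideal B)) (⊥ : Ideal B)))
  let L := Localization.AtPrime (⊥ : Ideal B)
  let _ : Field L := IsFractionRing.toField B
  have hAL : Function.Injective (algebraMap A L) := by
    rw [IsScalarTower.algebraMap_eq A B L]
    refine (IsFractionRing.injective B L).comp ?_
    intro x y hxy
    exact injective_algebraMap (A := A) (K := K) (Ω := Ω) (congrArg (Subtype.val) hxy)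
  let _ : Algebra K L := (IsFractionRing.lift hAL : K →+* L).toAlgebra
  have _ : IsScalarTower A K L := IsScalarTower.of_algebraMap_eq fun x => by
    exact (IsFractionRing.lift_algebraMap hAL x).symm
  -- the embedding into `Ω`
  have hBΩ : Function.Injective (algebraMap B Ω) := Subtype.val_injective
  let φ : L →+* Ω := IsFractionRing.lift hBΩ
  have hφ : ∀ b : B, φ (algebraMap B L b) = b.1 := fun b => IsFractionRing.lift_algebraMap hBΩ b
  have hφK : ∀ x : K, φ (algebraMap K L x) = algebraMap K Ω x := by
    intro x
    obtain ⟨a, s, hs, rfl⟩ := IsFractionRing.div_surjective (A := A) x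
    simp only [map_div₀]
    have h1 : ∀ a : A, φ (algebraMap K L (algebraMap A K a)) = algebraMap K Ω (algebraMap A K a) := by
      intro a
      rw [← IsScalarTower.algebraMap_apply A K L, ← IsScalarTower.algebraMap_apply A K Ω,
        IsScalarTower.algebraMap_apply A B L, hφ]
      rfl
    rw [h1, h1]
  let ψ : L →ₐ[K] Ω := { φ with commutes' := hφK }
  have hsep : Algebra.IsSeparable K L := Algebra.IsSeparable.of_algHom K Ω ψ
  have h1 : Algebra.FormallyEtale K L := Algebra.FormallyEtale.of_isSeparable K L
  have h2 : Algebra.FormallyEtale A K := Algebra.FormallyEtale.of_isLocalization (nonZeroDivisors A)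
  exact Algebra.FormallyEtale.comp A K L

include K in
/-- every finitely generated subalgebra is contained in an etale subalgebra -/
theorem exists_etale_le [IsNoetherianRing A] (B : Subalgebra A Ω) (hB : B.FG) :
    ∃ B' : Subalgebra A Ω, B ≤ B' ∧ Algebra.Etale A B' := by
  have hft : Algebra.FiniteType A B := (Subalgebra.fg_iff_finiteType B).1 hB
  have hfp : Algebra.FinitePresentation A B := Algebra.FinitePresentation.of_finiteType.1 hft
  have _ := isEtaleAt_bot (K := K) B
  obtain ⟨g, hg, het⟩ := Algebra.exists_etale_of_isEtaleAt (R := A) (⊥ : Ideal B)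
  have hg0 : (g : Ω) ≠ 0 := fun h => hg (by
    rw [Ideal.mem_bot]; exact Subtype.ext h)
  have hu : IsUnit (algebraMap B Ω g) := isUnit_iff_ne_zero.2 hg0
  let χ₀ : Localization.Away g →+* Ω := IsLocalization.Away.lift g hu
  have hχ : ∀ b : B, χ₀ (algebraMap B _ b) = b.1 := fun b => IsLocalization.Away.lift_eq g hu b
  let χ : Localization.Away g →ₐ[A] Ω :=
    { χ₀ with
      commutes' := fun a => by
        change χ₀ _ = _
        rw [IsScalarTower.algebraMap_apply A B (Localization.Away g), hχ]
        rfl }
  have hinj : Function.Injective χ := by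
    rw [injective_iff_map_eq_zero]
    intro z hz
    obtain ⟨⟨b, s⟩, hbs⟩ := IsLocalization.surj (Submonoid.powers g) z
    have h1 : χ₀ (algebraMap B _ b) = 0 := by
      rw [← hbs, map_mul]
      have : χ₀ z = 0 := hz
      rw [this, zero_mul]
    rw [hχ] at h1
    have h2 : b = 0 := Subtype.ext h1
    rw [h2, map_zero] at hbs
    exact (IsLocalization.map_units (Localization.Away g) s).mul_left_eq_zero.1 hbs
  refine ⟨χ.range, ?_, ?_⟩
  · intro b hb
    exact ⟨algebraMap B _ ⟨b, hb⟩, hχ ⟨b, hb⟩⟩
  · exact Algebra.Etale.of_equiv (AlgEquiv.ofInjective χ hinj)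

end Alg

section Lim

variable (A K Ω : Type u) [CommRing A] [IsNoetherianRing A] [Field K] [Algebra A K]
  [IsFractionRing A K] [Field Ω] [Algebra A Ω] [Algebra K Ω] [IsScalarTower A K Ω]
  [Algebra.IsSeparable K Ω]

/-- the etale subalgebras -/
abbrev EtSub (A Ω : Type u) [CommRing A] [CommRing Ω] [Algebra A Ω] : Type u :=
  {B : Subalgebra A Ω // Algebra.Etale A B}

include K in
theorem isDirected_etSub : IsDirected (EtSub A Ω) (· ≤ ·) where
  directed B C := by
    have hB : B.1.FG := (Subalgebra.fg_iff_finiteType B.1).2 (by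
      have := B.2; infer_instance)
    have hC : C.1.FG := (Subalgebra.fg_iff_finiteType C.1).2 (by
      have := C.2; infer_instance)
    obtain ⟨E, hE, hE'⟩ := exists_etale_le (K := K) _ (hB.sup hC)
    exact ⟨⟨E, hE'⟩, le_sup_left.trans hE, le_sup_right.trans hE⟩

include K in
theorem exists_mem_etSub (x : Ω) : ∃ B : EtSub A Ω, x ∈ B.1 := by
  obtain ⟨E, hE, hE'⟩ := exists_etale_le (K := K) (Algebra.adjoin A ({x} : Set Ω))
    (by simpa using Subalgebra.fg_adjoin_finset ({x} : Finset Ω))
  exact ⟨⟨E, hE'⟩, hE (Algebra.subset_adjoin rfl)⟩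

/-- The directed system of etale subalgebras. -/
def etSys (A Ω : Type u) [CommRing A] [CommRing Ω] [Algebra A Ω] : EtSub A Ω ⥤ CommRingCat.{u} where
  obj B := CommRingCat.of B.1
  map h := CommRingCat.ofHom (Subalgebra.inclusion h.le).toRingHom
  map_id _ := rfl
  map_comp _ _ := rfl

/-- The cocone with point the whole algebra. -/
def etCocone (A Ω : Type u) [CommRing A] [CommRing Ω] [Algebra A Ω] : Cocone (etSys A Ω) where
  pt := CommRingCat.of Ω
  ι :=
    { app := fun B => CommRingCat.ofHom B.1.val.toRingHom
      naturality := fun _ _ _ => rfl }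

include K in
theorem nonempty_isColimit_etCocone : Nonempty (IsColimit (etCocone A Ω)) := by
  have := isDirected_etSub A K Ω
  have : Nonempty (EtSub A Ω) := ⟨(exists_mem_etSub A K Ω 0).choose⟩
  apply Groth.Agent.Etcore.FGLim.nonempty_isColimit
  · intro (x : Ω)
    obtain ⟨B, hB⟩ := exists_mem_etSub A K Ω x
    exact ⟨B, ⟨x, hB⟩, rfl⟩
  · intro B y z h
    exact ⟨B, 𝟙 B, congrArg _ (Subtype.ext h)⟩

end Lim

end Groth.Agent.Sga4h.BidGeoAlg
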