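import Groth.Agent.Sga4h.BidGeoData
import Groth.Agent.Sga4B.EtCoords
import Groth.Agent.Sga4B.IterP1

/-!
# Comparison of the two constructions of the iterated projective line

`IterP1.P S d = BidGeoIt.It S d`, compatibly with the structure maps; the results on `It` restated for `P` and
conversely.
-/

set_option autoImplicit false

universe u

open CategoryTheory CategoryTheory.Limits AlgebraicGeometry

namespace Groth.Agent.Sga4h.BidGeoCmp

open Groth.Agent.Sga4h.BidGeoIt Groth.Agent.Sga4h.BidGeoLim Groth.Agent.Sga4B.IterP1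

theorem it_eq_P (S : Scheme.{u}) (d : ℕ) : It S d = P S d := by
  induction d with
  | zero => rfl
  | succ d ih =>
    change CohB1.ProjSpaceOver 1 (It S d) = CohB1.ProjSpaceOver 1 (P S d)
    rw [ih]

theorem proj_cast {S T : Scheme.{u}} (h : S = T) :
    eqToHom (congrArg (CohB1.ProjSpaceOver 1) h) ≫ CohB1.ProjSpaceOver.toBase 1 T =
      CohB1.ProjSpaceOver.toBase 1 S ≫ eqToHom h := by
  subst h
  simp

theorem eqToHom_toBase (S : Scheme.{u}) (d : ℕ) : eqToHom (it_eq_P S d) ≫ toBase S d = str S d := by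
  induction d with
  | zero =>
    change 𝟙 S ≫ 𝟙 S = 𝟙 S
    simp
  | succ d ih =>
    change eqToHom (congrArg (CohB1.ProjSpaceOver 1) (it_eq_P S d)) ≫
      CohB1.ProjSpaceOver.toBase 1 (P S d) ≫ toBase S d = CohB1.ProjSpaceOver.toBase 1 (It S d) ≫ str S d
    rw [← Category.assoc, proj_cast (it_eq_P S d), Category.assoc, ih]

/-- The isomorphism `It S d ≅ P S d`. -/
noncomputable def isoP (S : Scheme.{u}) (d : ℕ) : It S d ≅ P S d := eqToIso (it_eq_P S d)

@[reassoc (attr := simp)]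
theorem isoP_hom_toBase (S : Scheme.{u}) (d : ℕ) : (isoP S d).hom ≫ toBase S d = str S d :=
  eqToHom_toBase S d

@[reassoc (attr := simp)]
theorem isoP_inv_str (S : Scheme.{u}) (d : ℕ) : (isoP S d).inv ≫ str S d = toBase S d := by
  rw [← isoP_hom_toBase, Iso.inv_hom_id_assoc]

/-- Smooth schemes are Zariski-locally étale over iterated projective lines. -/
theorem exists_etale_It {X S : Scheme.{u}} (f : X ⟶ S) (d : ℕ)
    [SmoothOfRelativeDimension d f] (x : X) (W : X.Opens) (hxW : x ∈ W) :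
    ∃ (V : X.Opens) (w : V.toScheme ⟶ It S d), IsAffineOpen V ∧ x ∈ V ∧ V ≤ W ∧ Etale w ∧
      w ≫ str S d = V.ι ≫ f := by
  obtain ⟨V, w, h1, h2, h3, h4, h5⟩ := Sga4B.EtCoords.exists_etale f d x W hxW
  refine ⟨V, w ≫ (isoP S d).inv, h1, h2, h3, inferInstance, ?_⟩
  rw [Category.assoc, isoP_inv_str, h5]

instance smooth_str (S : Scheme.{u}) (d : ℕ) : SmoothOfRelativeDimension d (str S d) := by
  rw [← isoP_hom_toBase]
  have h : SmoothOfRelativeDimension (0 + d) ((isoP S d).hom ≫ toBase S d) := inferInstance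
  rwa [Nat.zero_add] at h

theorem isEtLim_conj {X' X Y' Y : Scheme.{u}} {g : X' ⟶ X} (h : IsEtLim g) (a : Y' ≅ X') (b : X ≅ Y) :
    IsEtLim (a.hom ≫ g ≫ b.hom) := by
  obtain ⟨I, i1, i2, D, t, c, e, h1, h2, h3, h4, h5⟩ := h
  refine ⟨I, i1, i2, D, t ≫ (Functor.const I).map b.hom, c, a ≪≫ e, h1, fun i => ?_, fun i => ?_, h4,
    fun i => ?_⟩
  · have := h2 i
    exact (inferInstance : Etale (t.app i ≫ b.hom))
  · have := h3 i
    exact (inferInstance : IsAffineHom (t.app i ≫ b.hom))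
  · have := h5 i
    simp only [Iso.trans_hom, NatTrans.comp_app, Functor.const_map_app, Category.assoc]
    rw [← this]
    simp

/-- The family of generic geometric fibres of the coordinates of `P (Spec k) (d + 1)`. -/
theorem exists_family_P (k : Type u) [Field k] : ∃ (κ : Type u) (_ : Field κ) (_ : IsSepClosed κ)
    (φ : k →+* κ), ∀ d : ℕ, ∃ (n : ℕ)
      (g : Fin n → (P (Spec (CommRingCat.of κ)) d ⟶ P (Spec (CommRingCat.of k)) (d + 1))),
      (∀ i, IsEtLim (g i)) ∧
      (∀ i, g i ≫ toBase (Spec (CommRingCat.of k)) (d + 1) =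
        toBase (Spec (CommRingCat.of κ)) d ≫ Spec.map (CommRingCat.ofHom φ)) ∧
      ∀ x : P (Spec (CommRingCat.of k)) (d + 1), (∀ i, x ∉ Set.range (g i)) →
        IsClosed ({x} : Set (P (Spec (CommRingCat.of k)) (d + 1))) := by
  obtain ⟨κ, h1, h2, φ, h3⟩ := exists_family k
  refine ⟨κ, h1, h2, φ, fun d => ?_⟩
  obtain ⟨n, g, h4, h5, h6⟩ := h3 d
  refine ⟨n, fun i => (isoP _ d).symm.hom ≫ g i ≫ (isoP _ (d + 1)).hom, fun i => isEtLim_conj (h4 i) _ _,
    fun i => ?_, fun x hx => ?_⟩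
  · rw [Category.assoc, Category.assoc, isoP_hom_toBase, h5, Iso.symm_hom, isoP_inv_str_assoc]
  · have h7 := h6 ((isoP _ (d + 1)).inv x) (fun i ⟨y, hy⟩ => hx i ⟨(isoP _ d).hom y, ?_⟩)
    · have h8 : IsClosed ((isoP (Spec (CommRingCat.of k)) (d + 1)).hom ''
          {(isoP (Spec (CommRingCat.of k)) (d + 1)).inv x}) :=
        (isoP (Spec (CommRingCat.of k)) (d + 1)).hom.homeomorph.isClosedMap _ h7
      rw [Set.image_singleton] at h8
      have h9 : (isoP (Spec (CommRingCat.of k)) (d + 1)).hom ((isoP (Spec (CommRingCat.of k)) (d + 1)).inv x) = x := by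
        rw [← Scheme.Hom.comp_apply, Iso.inv_hom_id]
        rfl
      rwa [h9] at h8
    · rw [← Scheme.Hom.comp_apply, Iso.symm_hom, Iso.hom_inv_id_assoc, Scheme.Hom.comp_apply, hy,
        ← Scheme.Hom.comp_apply, Iso.inv_hom_id]
      rfl

end Groth.Agent.Sga4h.BidGeoCmp
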