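import Groth.Agent.Sga4h.BidGeoP1
import Mathlib.AlgebraicGeometry.Morphisms.QuasiFinite

/-!
# Iterated projective lines: coordinates, generic geometric fibres, closed points
-/

set_option autoImplicit false

universe u

open CategoryTheory CategoryTheory.Limits AlgebraicGeometry

namespace Groth.Agent.Sga4h.BidGeoIt

open Groth.Agent.Dix.ProjProper Groth.Agent.Sga4h.BidGeoLim

/-- a point of a fibre product whose projections are closed points is closed -/
theorem isClosed_singleton_of_isPullback {X T P B : Scheme.{u}} {a : X ⟶ T} {b : X ⟶ P}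
    {t : T ⟶ B} {p : P ⟶ B} (h : IsPullback a b t p) [LocallyOfFiniteType p] [JacobsonSpace B]
    (x : X) (hy : IsClosed ({a x} : Set T)) (hz : IsClosed ({b x} : Set P)) :
    IsClosed ({x} : Set X) := by
  let i := P.fromSpecResidueField (b x)
  have hi : IsClosedImmersion i := isClosed_singleton_iff_isClosedImmersion.1 hz
  have hfin : IsFinite (i ≫ p) :=
    isFinite_iff_locallyOfFiniteType_of_jacobsonSpace.2 inferInstance
  -- the closed subscheme `b⁻¹(z)`
  let C := pullback b i
  let c : C ⟶ X := pullback.fst b i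
  have hc : IsClosedImmersion c := inferInstance
  have hC : IsPullback (c ≫ a) (pullback.snd b i) t (i ≫ p) :=
    (IsPullback.of_hasPullback b i).paste_horiz h
  have hCfin : IsFinite (c ≫ a) :=
    MorphismProperty.of_isPullback (P := @IsFinite) hC.flip hfin
  obtain ⟨x', hx'⟩ : x ∈ Set.range c := by
    have h1 : Set.range c = b ⁻¹' Set.range i := Scheme.Pullback.range_fst b i
    rw [h1]
    exact ⟨IsLocalRing.closedPoint _, by simp [i]⟩
  have hd : _root_.IsDiscrete ((c ≫ a) ⁻¹' {a x}) := (c ≫ a).isDiscrete_preimage_singleton (a x)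
  have hcl : IsClosed ((c ≫ a) ⁻¹' {a x}) := hy.preimage (c ≫ a).continuous
  have hx'' : x' ∈ (c ≫ a) ⁻¹' {a x} := by
    change (c ≫ a) x' = a x
    rw [← hx']
    rfl
  have h3 : IsClosed ({x'} : Set C) := by
    have := hd.to_subtype
    have h5 : IsClosed ({⟨x', hx''⟩} : Set ↑((c ≫ a) ⁻¹' {a x})) := isClosed_discrete _
    have h6 := hcl.isClosedEmbedding_subtypeVal.isClosedMap _ h5
    rwa [Set.image_singleton] at h6
  have h4 := c.isClosedEmbedding.isClosedMap _ h3
  rw [Set.image_singleton, hx'] at h4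
  exact h4

open CohB1 (ProjSpaceOver ProjSpaceOver.toBase)

/-- iterated projective line over `S` -/
noncomputable def It (S : Scheme.{u}) : ℕ → Scheme.{u}
  | 0 => S
  | d + 1 => CohB1.ProjSpaceOver 1 (It S d)

/-- the structure map -/
noncomputable def str (S : Scheme.{u}) : (d : ℕ) → (It S d ⟶ S)
  | 0 => 𝟙 S
  | d + 1 => CohB1.ProjSpaceOver.toBase 1 (It S d) ≫ str S d

/-- functoriality in the base -/
noncomputable def itMap {S' S : Scheme.{u}} (f : S' ⟶ S) : (d : ℕ) → (It S' d ⟶ It S d)
  | 0 => f
  | d + 1 => mapBase 1 (itMap f d)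

theorem isPullback_itMap {S' S : Scheme.{u}} (f : S' ⟶ S) (d : ℕ) :
    IsPullback (itMap f d) (str S' d) (str S d) f := by
  induction d with
  | zero =>
    change IsPullback f (𝟙 S') (𝟙 S) f
    exact IsPullback.of_vert_isIso ⟨by simp⟩
  | succ d ih => exact (isPullback_mapBase 1 (itMap f d)).paste_vert ih

/-- the fibre of the last coordinate -/
theorem exists_isPullback_top {S' S : Scheme.{u}} (f : S' ⟶ S) (η : S' ⟶ CohB1.ProjSpaceOver 1 S)
    (hη : η ≫ CohB1.ProjSpaceOver.toBase 1 S = f) (d : ℕ) :
    ∃ g : It S' d ⟶ CohB1.ProjSpaceOver 1 (It S d),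
      IsPullback g (str S' d) (mapBase 1 (str S d)) η := by
  have hr := (isPullback_mapBase 1 (str S d)).flip
  have ho := isPullback_itMap f d
  have hcomm : itMap f d ≫ str S d = (str S' d ≫ η) ≫ CohB1.ProjSpaceOver.toBase 1 S := by
    rw [Category.assoc, hη, ho.w]
  let g := hr.lift (itMap f d) (str S' d ≫ η) hcomm
  have h1 : g ≫ CohB1.ProjSpaceOver.toBase 1 (It S d) = itMap f d := hr.lift_fst _ _ _
  have h2 : g ≫ mapBase 1 (str S d) = str S' d ≫ η := hr.lift_snd _ _ _
  refine ⟨g, IsPullback.of_right ?_ h2 hr⟩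
  rw [h1, hη]
  exact ho

theorem isProper_str (S : Scheme.{u}) (d : ℕ) : IsProper (str S d) := by
  induction d with
  | zero => exact inferInstanceAs (IsProper (𝟙 S))
  | succ d ih =>
    have := ih
    exact inferInstanceAs (IsProper (CohB1.ProjSpaceOver.toBase 1 (It S d) ≫ str S d))

/-- the coordinates of the iterated projective line -/
inductive IsCoord (S : Scheme.{u}) : (d : ℕ) → (It S d ⟶ CohB1.ProjSpaceOver 1 S) → Prop
  | top (d : ℕ) : IsCoord S (d + 1) (mapBase 1 (str S d))
  | pull (d : ℕ) (c : It S d ⟶ CohB1.ProjSpaceOver 1 S) :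
      IsCoord S d c → IsCoord S (d + 1) (CohB1.ProjSpaceOver.toBase 1 (It S d) ≫ c)

/-- the fibre of a coordinate over a point of `P^1_S` with values in `S'` is the iterated projective
line over `S'` of dimension one less -/
theorem exists_isPullback {S' S : Scheme.{u}} (f : S' ⟶ S) (η : S' ⟶ CohB1.ProjSpaceOver 1 S)
    (hη : η ≫ CohB1.ProjSpaceOver.toBase 1 S = f) (d : ℕ) :
    ∀ c : It S (d + 1) ⟶ CohB1.ProjSpaceOver 1 S, IsCoord S (d + 1) c →
      ∃ g : It S' d ⟶ It S (d + 1), IsPullback g (str S' d) c η := by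
  induction d with
  | zero =>
    intro c hc
    cases hc with
    | top => exact exists_isPullback_top f η hη 0
    | pull _ c hc => cases hc
  | succ d ih =>
    intro c hc
    cases hc with
    | top => exact exists_isPullback_top f η hη (d + 1)
    | pull _ c hc =>
      obtain ⟨g, hg⟩ := ih c hc
      exact ⟨mapBase 1 g, (isPullback_mapBase 1 g).paste_vert hg⟩

theorem IsCoord.comp_toBase {S : Scheme.{u}} {d : ℕ} {c : It S d ⟶ CohB1.ProjSpaceOver 1 S}
    (hc : IsCoord S d c) : c ≫ CohB1.ProjSpaceOver.toBase 1 S = str S d := by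
  induction hc with
  | top d => exact mapBase_toBase 1 (str S d)
  | pull d c hc ih =>
    rw [Category.assoc, ih]
    rfl

theorem finite_isCoord (S : Scheme.{u}) (d : ℕ) :
    {c : It S d ⟶ CohB1.ProjSpaceOver 1 S | IsCoord S d c}.Finite := by
  induction d with
  | zero =>
    convert Set.finite_empty
    ext c
    constructor
    · intro h
      have h' : IsCoord S 0 c := h
      cases h'
    · intro h
      exact absurd h (Set.notMem_empty c)
  | succ d ih =>
    refine ((ih.image (fun c => CohB1.ProjSpaceOver.toBase 1 (It S d) ≫ c)).union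
      (Set.finite_singleton (mapBase 1 (str S d)))).subset ?_
    intro c hc
    cases hc with
    | top => exact Or.inr rfl
    | pull _ c hc => exact Or.inl ⟨c, hc, rfl⟩

/-- points with closed coordinates are closed -/
theorem isClosed_of_forall_coord (k : Type u) [Field k] (d : ℕ) :
    ∀ x : It (Spec (CommRingCat.of k)) d,
      (∀ c, IsCoord (Spec (CommRingCat.of k)) d c →
        IsClosed ({c x} : Set (CohB1.ProjSpaceOver 1 (Spec (CommRingCat.of k))))) →
      IsClosed ({x} : Set (It (Spec (CommRingCat.of k)) d)) := by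
  induction d with
  | zero =>
    intro x _
    change IsClosed ({x} : Set (PrimeSpectrum k))
    exact isClosed_singleton
  | succ d ih =>
    intro x hx
    have := isProper_str (Spec (CommRingCat.of k)) d
    refine isClosed_singleton_of_isPullback
      (isPullback_mapBase 1 (str (Spec (CommRingCat.of k)) d)).flip x ?_ ?_
    · exact ih _ (fun c hc => hx _ (IsCoord.pull d c hc))
    · exact hx _ (IsCoord.top d)

/-- **The generic geometric fibres of the coordinates.** For a field `k` there is a separably closed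
extension `κ` such that for all `d` there are finitely many maps `(P^1)^d_κ ⟶ (P^1)^{d+1}_k`, cofiltered
limits of affine etale morphisms, whose ranges cover all non-closed points. -/
theorem exists_family (k : Type u) [Field k] : ∃ (κ : Type u) (_ : Field κ) (_ : IsSepClosed κ)
    (φ : k →+* κ), ∀ d : ℕ, ∃ (n : ℕ)
      (g : Fin n → (It (Spec (CommRingCat.of κ)) d ⟶ It (Spec (CommRingCat.of k)) (d + 1))),
      (∀ i, IsEtLim (g i)) ∧
      (∀ i, g i ≫ str (Spec (CommRingCat.of k)) (d + 1) =
        str (Spec (CommRingCat.of κ)) d ≫ Spec.map (CommRingCat.ofHom φ)) ∧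
      ∀ x : It (Spec (CommRingCat.of k)) (d + 1), (∀ i, x ∉ Set.range (g i)) →
        IsClosed ({x} : Set (It (Spec (CommRingCat.of k)) (d + 1))) := by
  obtain ⟨κ, hκ, hs, φ, η, hη, hl, hcl⟩ := Groth.Agent.Sga4h.BidGeoP1.exists_geomGen k
  refine ⟨κ, hκ, hs, φ, fun d => ?_⟩
  have hfin := finite_isCoord (Spec (CommRingCat.of k)) (d + 1)
  have := hfin.to_subtype
  obtain ⟨n, ⟨e⟩⟩ := Finite.exists_equiv_fin
    {c : It (Spec (CommRingCat.of k)) (d + 1) ⟶ _ | IsCoord (Spec (CommRingCat.of k)) (d + 1) c}
  choose g hg using exists_isPullback (Spec.map (CommRingCat.ofHom φ)) η hη d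
  refine ⟨n, fun i => g (e.symm i).1 (e.symm i).2, ?_, ?_, ?_⟩
  · intro i
    have h1 := hg (e.symm i).1 (e.symm i).2
    have h2 := (hl.pullback (e.symm i).1).iso_comp h1.isoPullback
    rwa [h1.isoPullback_hom_fst] at h2
  · intro i
    have h1 := (hg (e.symm i).1 (e.symm i).2)
    rw [← IsCoord.comp_toBase (e.symm i).2, ← Category.assoc, h1.w, Category.assoc, hη]
  · intro x hx
    apply isClosed_of_forall_coord
    intro c hc
    apply hcl
    rintro ⟨z, hz⟩
    apply hx (e ⟨c, hc⟩)
    have h1 := hg c hc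
    have h2 : Set.range (g c hc) = c ⁻¹' Set.range η := by
      rw [← h1.isoPullback_hom_fst, ← Scheme.Pullback.range_fst]
      ext y
      constructor
      · rintro ⟨w, rfl⟩
        exact ⟨h1.isoPullback.hom w, rfl⟩
      · rintro ⟨w, rfl⟩
        refine ⟨h1.isoPullback.inv w, ?_⟩
        have := congrArg (fun f : pullback c η ⟶ pullback c η => f w) h1.isoPullback.inv_hom_id
        exact congrArg (pullback.fst c η) this
    simp only [Equiv.symm_apply_apply]
    rw [h2]
    exact ⟨z, hz⟩

end Groth.Agent.Sga4h.BidGeoIt
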