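import Groth.Agent.Sga4h.BidGeoAlg
import Mathlib.AlgebraicGeometry.Morphisms.Etale

/-!
# The generic geometric fibre as a cofiltered limit of etale schemes
-/

set_option autoImplicit false

universe u

open CategoryTheory CategoryTheory.Limits AlgebraicGeometry Opposite

namespace Groth.Agent.Sga4h.BidGeoLim

open Groth.Agent.Pi1A.FGLimit Groth.Agent.Sga4h.BidGeoAlg

/-- `g : X' ⟶ X` is a cofiltered limit of affine etale `X`-schemes (with affine transition maps). -/
def IsEtLim {X' X : Scheme.{u}} (g : X' ⟶ X) : Prop :=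
  ∃ (I : Type u) (_ : SmallCategory I) (_ : IsCofiltered I) (D : I ⥤ Scheme.{u})
    (t : D ⟶ (Functor.const I).obj X) (c : Cone D) (e : X' ≅ c.pt),
    Nonempty (IsLimit c) ∧ (∀ i, Etale (t.app i)) ∧ (∀ i, IsAffineHom (t.app i)) ∧
    (∀ (i j : I) (f : i ⟶ j), IsAffineHom (D.map f)) ∧ ∀ i, e.hom ≫ c.π.app i ≫ t.app i = g

section Spec

variable (A K Ω : Type u) [CommRing A] [IsNoetherianRing A] [Field K] [Algebra A K]
  [IsFractionRing A K] [Field Ω] [Algebra A Ω] [Algebra K Ω] [IsScalarTower A K Ω]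
  [Algebra.IsSeparable K Ω]

/-- The diagram of the spectra of the etale subalgebras. -/
noncomputable def etDiag (A Ω : Type u) [CommRing A] [CommRing Ω] [Algebra A Ω] :
    (EtSub A Ω)ᵒᵖ ⥤ Scheme.{u} := (etSys A Ω).op ⋙ Scheme.Spec

/-- The cone over `etDiag` with point `Spec Ω`. -/
noncomputable def etCone (A Ω : Type u) [CommRing A] [CommRing Ω] [Algebra A Ω] :
    Cone (etDiag A Ω) where
  pt := Spec (CommRingCat.of Ω)
  π := { app := fun F => Spec.map ((etCocone A Ω).ι.app F.unop)
         naturality := fun F G h => by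
          refine (Category.id_comp _).trans ?_
          refine Eq.trans ?_ (Spec.map_comp _ _)
          exact congrArg (fun z => Spec.map z) ((etCocone A Ω).w h.unop).symm }

include K in
theorem nonempty_isLimit_etCone : Nonempty (IsLimit (etCone A Ω)) := by
  obtain ⟨h⟩ := nonempty_isColimit_etCocone A K Ω
  exact ⟨isLimitOfPreserves Scheme.Spec h.op⟩

/-- The structure map of `etDiag`. -/
noncomputable def etBase (A Ω : Type u) [CommRing A] [CommRing Ω] [Algebra A Ω] :
    etDiag A Ω ⟶ (Functor.const _).obj (Spec (CommRingCat.of A)) where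
  app F := toBase A F.unop.1
  naturality F G h := by
    refine Eq.trans ?_ (Category.comp_id _).symm
    exact (Spec.map_comp _ _).symm

theorem etCone_base (A Ω : Type u) [CommRing A] [CommRing Ω] [Algebra A Ω] (F : (EtSub A Ω)ᵒᵖ) :
    (etCone A Ω).π.app F ≫ (etBase A Ω).app F = toBase A Ω :=
  (Spec.map_comp (CommRingCat.ofHom (algebraMap A F.unop.1))
    (CommRingCat.ofHom F.unop.1.val.toRingHom)).symm

include K in
/-- `Spec Ω ⟶ Spec A` is a cofiltered limit of etale `A`-schemes -/
theorem isEtLim_toBase : IsEtLim (toBase A Ω) := by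
  have := isDirected_etSub A K Ω
  have : Nonempty (EtSub A Ω) := ⟨(exists_mem_etSub A K Ω 0).choose⟩
  refine ⟨(EtSub A Ω)ᵒᵖ, inferInstance, inferInstance, etDiag A Ω, etBase A Ω, etCone A Ω,
    Iso.refl _, nonempty_isLimit_etCone A K Ω, ?_, ?_, ?_, ?_⟩
  · intro i
    have := i.unop.2
    change Etale (Spec.map (CommRingCat.ofHom (algebraMap A i.unop.1)))
    rw [HasRingHomProperty.Spec_iff (P := @Etale)]
    exact RingHom.etale_algebraMap.2 this
  · intro i
    exact inferInstanceAs (IsAffineHom (Spec.map _))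
  · intro i j f
    exact inferInstanceAs (IsAffineHom (Spec.map _))
  · intro i
    exact (Category.id_comp _).trans (etCone_base A Ω i)

end Spec

/-- stability under base change -/
theorem IsEtLim.pullback {Q' Q X : Scheme.{u}} {q : Q' ⟶ Q} (h : IsEtLim q) (f : X ⟶ Q) :
    IsEtLim (pullback.fst f q) := by
  obtain ⟨I, _, _, D, t, c, e, ⟨hc⟩, het, haff, htr, hq⟩ := h
  have : IsConnected I := IsCofiltered.isConnected _
  have hp : ∀ i, c.π.app i ≫ t.app i = e.inv ≫ q := by
    intro i
    rw [← hq i, e.inv_hom_id_assoc]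
  have e1 : f ≫ 𝟙 Q = 𝟙 X ≫ f := by simp
  have e2 : q ≫ 𝟙 Q = e.hom ≫ e.inv ≫ q := by simp
  have hiso : IsIso (pullback.map f q f (e.inv ≫ q) (𝟙 X) e.hom (𝟙 Q) e1 e2) :=
    pullback.map_isIso _ _ _ _ _ _ _ _ _
  let e3 : Limits.pullback f q ≅ Limits.pullback f (e.inv ≫ q) :=
    asIso (pullback.map f q f (e.inv ≫ q) (𝟙 X) e.hom (𝟙 Q) e1 e2)
  have he3 : e3.hom ≫ pullback.fst f (e.inv ≫ q) = pullback.fst f q := by
    exact (pullback.lift_fst _ _ _).trans (Category.comp_id _)
  refine ⟨I, inferInstance, inferInstance, pbDiag D t f,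
    { app := pbFst D t f, naturality := fun i j φ => by
        refine Eq.trans ?_ (Category.comp_id _).symm
        exact pbDiag_map_fst D t f φ },
    pbCone D t f c (e.inv ≫ q) hp, ?_, ⟨pbIsLimit D t f c (e.inv ≫ q) hp hc⟩, ?_, ?_, ?_, ?_⟩
  · exact e3
  · intro i
    have := het i
    exact MorphismProperty.of_isPullback (P := @Etale) (pb_isPullback D t f i).flip this
  · intro i
    have := haff i
    exact MorphismProperty.of_isPullback (P := @IsAffineHom) (pb_isPullback D t f i).flip this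
  · intro i j φ
    have := htr i j φ
    exact MorphismProperty.of_isPullback (P := @IsAffineHom) (pb_map_isPullback D t f φ).flip this
  · intro i
    exact (congrArg (fun z => e3.hom ≫ z) (pbCone_fst D t f c (e.inv ≫ q) hp i)).trans he3

/-- composition with an affine etale morphism -/
theorem IsEtLim.comp {X'' X' X : Scheme.{u}} {g : X'' ⟶ X'} (h : IsEtLim g) (f : X' ⟶ X)
    [Etale f] [IsAffineHom f] : IsEtLim (g ≫ f) := by
  obtain ⟨I, _, _, D, t, c, e, hc, het, haff, htr, hq⟩ := h
  refine ⟨I, inferInstance, inferInstance, D, t ≫ (Functor.const I).map f, c, e, hc, ?_, ?_, htr, ?_⟩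
  · intro i
    have := het i
    exact inferInstanceAs (Etale (t.app i ≫ f))
  · intro i
    have := haff i
    exact inferInstanceAs (IsAffineHom (t.app i ≫ f))
  · intro i
    rw [← hq i]
    simp

theorem IsEtLim.iso_comp {X'' X' X : Scheme.{u}} {g : X' ⟶ X} (h : IsEtLim g) (e' : X'' ≅ X') :
    IsEtLim (e'.hom ≫ g) := by
  obtain ⟨I, _, _, D, t, c, e, hc, het, haff, htr, hq⟩ := h
  refine ⟨I, inferInstance, inferInstance, D, t, c, e' ≪≫ e, hc, het, haff, htr, ?_⟩
  intro i
  rw [← hq i]
  simp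

end Groth.Agent.Sga4h.BidGeoLim
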