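import Groth.Agent.Sga4h.BidGeoLim
import Groth.Agent.Sga5.ProjConn
import Groth.Agent.CohqB.ProjBC
import Groth.Agent.Dix.ProjProper
import Mathlib.FieldTheory.IsSepClosed
import Mathlib.RingTheory.DedekindDomain.Basic
import Mathlib.AlgebraicGeometry.Morphisms.FiniteType

/-!
# The projective line over a field: the generic geometric point, closed points
-/

set_option autoImplicit false

universe u

open CategoryTheory CategoryTheory.Limits AlgebraicGeometry

namespace Groth.Agent.Sga4h.BidGeoP1

open Groth.Agent.Sga5.ProjSmooth Groth.Agent.Sga5.ProjConn Groth.Agent.Sga4h.BidGeoLim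
open Groth.Agent.Pi1A.FGLimit

variable (k : Type u) [Field k]

/-- the generic point of projective space specializes to every point -/
theorem genPt_specializes (n : ℕ) (y : CohB1.ProjSpace n k) : genPt n k ⤳ y := by
  let a : ProjectiveSpectrum (CohB1.polyGrading n k) := genPt n k
  let b : ProjectiveSpectrum (CohB1.polyGrading n k) := y
  have h : a.asHomogeneousIdeal.toIdeal ≤ b.asHomogeneousIdeal.toIdeal := by
    change (⊥ : Ideal (MvPolynomial (Fin (n + 1)) k)) ≤ _
    exact bot_le
  have h' : a ≤ b := h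
  exact specializes_iff_mem_closure.2 ((ProjectiveSpectrum.le_iff_mem_closure _ a b).1 h')

instance jacobsonSpace_projSpace (n : ℕ) : JacobsonSpace (CohB1.ProjSpace n k) :=
  LocallyOfFiniteType.jacobsonSpace (CohB1.ProjSpace.toSpec n k)

/-- ideals of `k[x]` -/
theorem isMaximal_or (p : Ideal (MvPolynomial (Fin 1) k)) [hp : p.IsPrime] : p = ⊥ ∨ p.IsMaximal := by
  have e : MvPolynomial (Fin 1) k ≃+* Polynomial k :=
    (MvPolynomial.uniqueAlgEquiv k (Fin 1)).toRingEquiv
  have : IsPrincipalIdealRing (MvPolynomial (Fin 1) k) :=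
    IsPrincipalIdealRing.of_surjective e.symm.toRingHom e.symm.surjective
  by_cases h : p = ⊥
  · exact Or.inl h
  · exact Or.inr (IsPrime.to_maximal_ideal h)

theorem specializes_of_bot (n : ℕ) (z z' : Spec (CommRingCat.of (MvPolynomial (Fin n) k)))
    (hz : PrimeSpectrum.asIdeal z = ⊥) : z ⤳ z' := by
  let a : PrimeSpectrum (MvPolynomial (Fin n) k) := z
  let b : PrimeSpectrum (MvPolynomial (Fin n) k) := z'
  have h : a.asIdeal ≤ b.asIdeal := by
    have h0 : a.asIdeal = ⊥ := hz
    rw [h0]; exact bot_le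
  have h' : a ≤ b := h
  exact (PrimeSpectrum.le_iff_specializes a b).1 h'

theorem eq_genPt_or_isClosed (y : CohB1.ProjSpace 1 k) :
    y = genPt 1 k ∨ IsClosed ({y} : Set (CohB1.ProjSpace 1 k)) := by
  obtain ⟨i, z, hz⟩ := exists_mem_chart 1 k y
  have hemb := (chart 1 k i).isOpenEmbedding
  rcases isMaximal_or k (PrimeSpectrum.asIdeal z) with h | h
  · left
    obtain ⟨z', hz'⟩ := genPt_mem 1 k i
    have h1 : z ⤳ z' := specializes_of_bot k 1 z z' h
    have h2 : y ⤳ genPt 1 k := by
      rw [← hz, ← hz']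
      exact h1.map (chart 1 k i).continuous
    exact (h2.antisymm (genPt_specializes k 1 y)).eq
  · right
    have h1 : IsClosed ({z} : Set (Spec (CommRingCat.of (MvPolynomial (Fin 1) k)))) :=
      (PrimeSpectrum.isClosed_singleton_iff_isMaximal _).2 h
    have h2 : IsLocallyClosed ({y} : Set (CohB1.ProjSpace 1 k)) := by
      have := (h1.isLocallyClosed).image hemb.isInducing hemb.isOpen_range.isLocallyClosed
      rw [Set.image_singleton] at this
      rw [← hz]
      exact this
    exact isClosed_singleton_of_isLocallyClosed_singleton h2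

/-- the image of the zero ideal of the chart is the generic point -/
theorem chart_bot (n : ℕ) (i : Fin (n + 1))
    (z : Spec (CommRingCat.of (MvPolynomial (Fin n) k))) (hz : PrimeSpectrum.asIdeal z = ⊥) :
    chart n k i z = genPt n k := by
  obtain ⟨z', hz'⟩ := genPt_mem n k i
  have h1 : z ⤳ z' := specializes_of_bot k n z z' hz
  have h2 : chart n k i z ⤳ genPt n k := by
    rw [← hz']
    exact h1.map (chart n k i).continuous
  exact (h2.antisymm (genPt_specializes k n _)).eq

instance isAffineHom_chart (n : ℕ) (i : Fin (n + 1)) : IsAffineHom (chart n k i) := by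
  have h1 : IsSeparated (CohB1.ProjSpace.toSpec n k) := inferInstance
  have h2 : IsAffineHom (chart n k i ≫ CohB1.ProjSpace.toSpec n k) := by
    rw [chart_toSpec]
    infer_instance
  exact MorphismProperty.of_postcomp @IsAffineHom (chart n k i) (CohB1.ProjSpace.toSpec n k) h1 h2

/-- **The generic geometric point of the projective line** as a limit of etale schemes; all points
outside its image are closed. -/
theorem exists_geomGen_projSpace : ∃ (κ : Type u) (_ : Field κ) (_ : IsSepClosed κ) (φ : k →+* κ)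
    (g : Spec (CommRingCat.of κ) ⟶ CohB1.ProjSpace 1 k),
    g ≫ CohB1.ProjSpace.toSpec 1 k = Spec.map (CommRingCat.ofHom φ) ∧ IsEtLim g ∧
    ∀ y : CohB1.ProjSpace 1 k, y ∉ Set.range g → IsClosed ({y} : Set (CohB1.ProjSpace 1 k)) := by
  let A := MvPolynomial (Fin 1) k
  let K := FractionRing A
  let κ := SeparableClosure K
  let _ : Algebra A κ := ((algebraMap K κ).comp (algebraMap A K)).toAlgebra
  have _ : IsScalarTower A K κ := IsScalarTower.of_algebraMap_eq' rfl
  let g₀ : Spec (CommRingCat.of κ) ⟶ Spec (CommRingCat.of A) := toBase A κ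
  have hg₀ : IsEtLim g₀ := isEtLim_toBase A K κ
  let φ : k →+* κ := (algebraMap A κ).comp (MvPolynomial.C : k →+* A)
  refine ⟨κ, inferInstance, inferInstance, φ, g₀ ≫ chart 1 k 0, ?_, ?_, ?_⟩
  · rw [Category.assoc, chart_toSpec, ← Spec.map_comp]
    rfl
  · exact hg₀.comp _
  · intro y hy
    rcases eq_genPt_or_isClosed k y with h | h
    · exfalso
      apply hy
      let z₀ : Spec (CommRingCat.of κ) := (⊥ : PrimeSpectrum κ)
      refine ⟨z₀, ?_⟩
      rw [h]
      change chart 1 k 0 (g₀ z₀) = _
      apply chart_bot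
      change Ideal.comap (algebraMap A κ) ⊥ = ⊥
      rw [← RingHom.ker_eq_comap_bot, RingHom.ker_eq_bot_iff_eq_zero]
      intro x hx
      exact (injective_iff_map_eq_zero (algebraMap A κ)).1
        (Groth.Agent.Sga4h.BidGeoAlg.injective_algebraMap (A := A) (K := K) (Ω := κ)) x hx
    · exact h

/-- `P^1_k` in the form used for iterated projective lines -/
theorem exists_geomGen : ∃ (κ : Type u) (_ : Field κ) (_ : IsSepClosed κ) (φ : k →+* κ)
    (g : Spec (CommRingCat.of κ) ⟶ CohB1.ProjSpaceOver 1 (Spec (CommRingCat.of k))),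
    g ≫ CohB1.ProjSpaceOver.toBase 1 (Spec (CommRingCat.of k)) = Spec.map (CommRingCat.ofHom φ) ∧
    IsEtLim g ∧ ∀ y : CohB1.ProjSpaceOver 1 (Spec (CommRingCat.of k)), y ∉ Set.range g →
      IsClosed ({y} : Set (CohB1.ProjSpaceOver 1 (Spec (CommRingCat.of k)))) := by
  obtain ⟨κ, hκ, hs, φ, g, hg, hl, hcl⟩ := exists_geomGen_projSpace k
  let e := Groth.Agent.CohqB.ProjBC.projSpaceOverIso 1 k
  refine ⟨κ, hκ, hs, φ, g ≫ e.inv, ?_, hl.comp _, ?_⟩
  · rw [Category.assoc, Groth.Agent.CohqB.ProjBC.projSpaceOverIso_inv_toBase, hg]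
  · intro y hy
    have h1 : e.hom y ∉ Set.range g := by
      rintro ⟨z, hz⟩
      apply hy
      refine ⟨z, ?_⟩
      change e.inv (g z) = y
      rw [hz]
      exact congrArg (fun f : CohB1.ProjSpaceOver 1 (Spec (CommRingCat.of k)) ⟶ _ => f y) e.hom_inv_id
    have h2 := (hcl _ h1).preimage e.hom.continuous
    convert h2 using 1
    ext z
    simp only [Set.mem_singleton_iff, Set.mem_preimage]
    constructor
    · rintro rfl; rfl
    · intro h
      have := congrArg e.inv h
      have h3 : ∀ w, e.inv (e.hom w) = w := fun w =>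
        congrArg (fun f : CohB1.ProjSpaceOver 1 (Spec (CommRingCat.of k)) ⟶ _ => f w) e.hom_inv_id
      rwa [h3, h3] at this

end Groth.Agent.Sga4h.BidGeoP1
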