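import Groth.Agent.Sga4B.DualFT
import Groth.Agent.LoccohB.Devissage
import Mathlib.CategoryTheory.Triangulated.Functor
import Mathlib.CategoryTheory.Triangulated.TriangleShift

/-!
# Objects in perfect duality with a fixed object of a triangulated category

`D` a pretriangulated category, `Z I : D`, `TR : Hom(Z, I[N]) →+ E`. An object `X` is dualizable (`Perf TR X`) if the
pairings `Hom(X, I[q]) × Hom(Z, X[i]) → Hom(Z, I[N]) → E` induce bijections `Hom(X, I[q]) → Hom(Hom(Z, X[i]), E)`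
for all `q + i = N`. This property is stable under isomorphisms, shifts and extensions when `E` is injective relative
to groups killed by `n` and all groups `Hom(Z, Y)` are killed by `n`.

For the derived category of an abelian category `C`, if the objects of `C` satisfy duality in terms of `Ext`
(`SheafDual`), then all bounded objects of the derived category are dualizable (`SheafDual.perf`).
-/

set_option autoImplicit false
universe w w' v u t

open CategoryTheory CategoryTheory.Limits Pretriangulated ZeroObject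
open Groth.Agent.Sga4B.DualFT

namespace Groth.Agent.Sga4h.BidGlobDual

section

variable {D : Type u} [Category.{v} D] [Preadditive D] [HasShift D ℤ]
  [∀ n : ℤ, (shiftFunctor D n).Additive] {Z I : D} {N : ℤ} {E : Type t} [AddCommGroup E]
  (TR : ShiftedHom Z I N →+ E)

/-- The duality map `Hom(X, I[q]) → Hom(Hom(Z, X[i]), E)`, `g ↦ (x ↦ TR (x · g))`, `q + i = N`. -/
noncomputable def psi (X : D) {q i : ℤ} (h : q + i = N) :
    ShiftedHom X I q →+ (ShiftedHom Z X i →+ E) :=
  AddMonoidHom.mk' (fun g => AddMonoidHom.mk' (fun x => TR (ShiftedHom.comp x g h))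
    (fun x y => by rw [ShiftedHom.add_comp, map_add]))
    (fun g g' => by
      ext x
      change TR _ = TR _ + TR _
      rw [ShiftedHom.comp_add, map_add])

lemma psi_apply (X : D) {q i : ℤ} (h : q + i = N) (g : ShiftedHom X I q) (x : ShiftedHom Z X i) :
    psi TR X h g x = TR (x.comp g h) := rfl

/-- Naturality. -/
lemma psi_comp {X Y : D} (f : X ⟶ Y) {q i : ℤ} (h : q + i = N) (g : ShiftedHom Y I q) (x : ShiftedHom Z X i) :
    psi TR X h (f ≫ g) x = psi TR Y h g (x ≫ f⟦i⟧') := by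
  rw [psi_apply, psi_apply, ShiftedHom.comp, ShiftedHom.comp, Functor.map_comp, Category.assoc, Category.assoc]

/-- `X` is in perfect duality with `I`. -/
def Perf (X : D) : Prop :=
  ∀ (q i : ℤ) (h : q + i = N), Function.Bijective (psi TR X h)

variable {TR}

lemma perf_of_bij {X Y : D} {a : ℤ} (σ : ShiftedHom X Y a)
    (h₁ : ∀ (q q' : ℤ) (h : q + a = q'), Function.Bijective (fun g : ShiftedHom Y I q => σ.comp g h))
    (h₂ : ∀ (i i' : ℤ) (h : a + i = i'), Function.Bijective (fun x : ShiftedHom Z X i => x.comp σ h))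
    (hY : Perf TR Y) : Perf TR X := by
  intro q' i hqi
  obtain ⟨q, hq⟩ : ∃ q, q + a = q' := ⟨q' - a, by lia⟩
  have key : ∀ (g : ShiftedHom Y I q) (x : ShiftedHom Z X i),
      psi TR X hqi (σ.comp g hq) x = psi TR Y (show q + (a + i) = N by lia) g (x.comp σ rfl) := by
    intro g x
    rw [psi_apply, psi_apply]
    congr 1
    exact (ShiftedHom.comp_assoc x σ g rfl hq (by lia)).symm
  have hinj : Function.Bijective (fun β : ShiftedHom Z Y (a + i) →+ E =>
      (β.comp (AddMonoidHom.mk' (fun x : ShiftedHom Z X i => x.comp σ (rfl : a + i = a + i))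
        (fun x y => ShiftedHom.add_comp x y σ rfl)) : ShiftedHom Z X i →+ E)) := by
    constructor
    · intro β β' hβ
      ext y
      obtain ⟨x, rfl⟩ := (h₂ i (a + i) rfl).2 y
      exact DFunLike.congr_fun hβ x
    · intro α
      let e := AddEquiv.ofBijective (AddMonoidHom.mk' (fun x : ShiftedHom Z X i => x.comp σ (rfl : a + i = a + i))
        (fun x y => ShiftedHom.add_comp x y σ rfl)) (h₂ i (a + i) rfl)
      refine ⟨α.comp e.symm.toAddMonoidHom, ?_⟩
      ext x
      change α (e.symm (e x)) = α x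
      rw [e.symm_apply_apply]
  have h3 := hinj.comp (hY q (a + i) (by lia))
  have h4 : Function.Bijective (psi TR X hqi ∘ (fun g : ShiftedHom Y I q => σ.comp g hq)) := by
    convert h3 using 1
    ext g x
    exact key g x
  exact (Function.Bijective.of_comp_iff _ (h₁ q q' hq)).1 h4

lemma Perf.of_iso {X Y : D} (e : X ≅ Y) (hY : Perf TR Y) : Perf TR X := by
  intro q i h
  have h1 : Function.Bijective (psi TR X h ∘ (fun g : ShiftedHom Y I q => e.hom ≫ g)) := by
    have h2 : Function.Bijective (fun β : ShiftedHom Z Y i →+ E =>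
        (β.comp (AddMonoidHom.mk' (fun x : ShiftedHom Z X i => x ≫ e.hom⟦i⟧')
          (fun x y => Preadditive.add_comp _ _ _ _ _ _)) : ShiftedHom Z X i →+ E)) := by
      constructor
      · intro β β' hβ
        ext y
        have := DFunLike.congr_fun hβ (y ≫ e.inv⟦i⟧')
        change β ((y ≫ e.inv⟦i⟧') ≫ e.hom⟦i⟧') = β' ((y ≫ e.inv⟦i⟧') ≫ e.hom⟦i⟧') at this
        rwa [Category.assoc, ← Functor.map_comp, e.inv_hom_id, CategoryTheory.Functor.map_id, Category.comp_id] at this
      · intro α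
        refine ⟨α.comp (AddMonoidHom.mk' (fun y : ShiftedHom Z Y i => y ≫ e.inv⟦i⟧')
          (fun x y => Preadditive.add_comp _ _ _ _ _ _)), ?_⟩
        ext x
        change α ((x ≫ e.hom⟦i⟧') ≫ e.inv⟦i⟧') = α x
        rw [Category.assoc, ← Functor.map_comp, e.hom_inv_id, CategoryTheory.Functor.map_id, Category.comp_id]
    convert h2.comp (hY q i h) using 1
    ext g x
    exact psi_comp TR e.hom h g x
  refine (Function.Bijective.of_comp_iff _ ?_).1 h1
  exact (e.homFromEquiv (Z := (shiftFunctor D q).obj I)).symm.bijective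

lemma Perf.shift {X : D} (hX : Perf TR X) (a : ℤ) : Perf TR (X⟦a⟧) := by
  refine perf_of_bij (Y := X) (a := a) (𝟙 (X⟦a⟧)) ?_ ?_ hX
  · intro q q' h
    have h1 : Function.Bijective (fun g : X ⟶ I⟦q⟧ => (shiftFunctor D a).map g) :=
      (Functor.FullyFaithful.ofFullyFaithful (shiftFunctor D a)).map_bijective _ _
    have h2 : Function.Bijective (fun g : X⟦a⟧ ⟶ I⟦q⟧⟦a⟧ => g ≫ (shiftFunctorAdd' D q a q' h).inv.app I) :=
      ((Iso.homToEquiv ((shiftFunctorAdd' D q a q' h).symm.app I) (Z := X⟦a⟧))).bijective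
    convert h2.comp h1 using 1
    ext g
    simp [ShiftedHom.comp]
  · intro i i' h
    have h2 : Function.Bijective (fun g : Z ⟶ X⟦a⟧⟦i⟧ => g ≫ (shiftFunctorAdd' D a i i' h).inv.app X) :=
      ((Iso.homToEquiv ((shiftFunctorAdd' D a i i' h).symm.app X) (Z := Z))).bijective
    convert h2 using 1
    ext g
    simp [ShiftedHom.comp]

end

section Triangles

variable {D : Type u} [Category.{v} D] [Preadditive D] [HasZeroObject D] [HasShift D ℤ]
  [∀ n : ℤ, (shiftFunctor D n).Additive] [Pretriangulated D]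

/-- Exactness of `Hom(A, -[i])` at the middle term of a distinguished triangle. -/
lemma coyoneda_shift_exact {T : Triangle D} (hT : T ∈ distTriang D) {A : D} (i : ℤ) (x : A ⟶ T.obj₂⟦i⟧)
    (hx : x ≫ T.mor₂⟦i⟧' = 0) : ∃ y : A ⟶ T.obj₁⟦i⟧, y ≫ T.mor₁⟦i⟧' = x := by
  have hT' := Triangle.shift_distinguished T hT i
  obtain ⟨y, hy⟩ : ∃ y : A ⟶ T.obj₁⟦i⟧, x = y ≫ (i.negOnePow • T.mor₁⟦i⟧') :=
    Triangle.coyoneda_exact₂ _ hT' (X := A) x (by
      change x ≫ (i.negOnePow • T.mor₂⟦i⟧') = 0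
      rw [Linear.comp_units_smul, hx, smul_zero])
  refine ⟨i.negOnePow • y, ?_⟩
  rw [hy, Linear.comp_units_smul, Linear.units_smul_comp]

variable {Z I : D} {N : ℤ} {E : Type t} [AddCommGroup E] {TR : ShiftedHom Z I N →+ E} {n : ℕ}

/-- Stability under extensions. -/
theorem Perf.ext₂ (hE : InjOn.{v} n E) (hn : ∀ (Y : D) (x : Z ⟶ Y), n • x = 0)
    {T : Triangle D} (hT : T ∈ distTriang D) (h₁ : Perf TR T.obj₁) (h₃ : Perf TR T.obj₃) :
    Perf TR T.obj₂ := by
  intro q i h
  -- extension of functionals along maps induced by morphisms of triangles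
  have extend : ∀ {T' : Triangle D} (_ : T' ∈ distTriang D) (β : ShiftedHom Z T'.obj₂ i →+ E)
      (_ : ∀ x : ShiftedHom Z T'.obj₁ i, β (x ≫ T'.mor₁⟦i⟧') = 0),
      ∃ γ : ShiftedHom Z T'.obj₃ i →+ E, ∀ x, γ (x ≫ T'.mor₂⟦i⟧') = β x := by
    intro T' hT' β hβ
    obtain ⟨γ, hγ⟩ := hE.exists_extension
      (AddMonoidHom.mk' (fun x : ShiftedHom Z T'.obj₁ i => x ≫ T'.mor₁⟦i⟧') (fun x y => Preadditive.add_comp _ _ _ _ _ _))
      (AddMonoidHom.mk' (fun x : ShiftedHom Z T'.obj₂ i => x ≫ T'.mor₂⟦i⟧') (fun x y => Preadditive.add_comp _ _ _ _ _ _))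
      (fun b hb => coyoneda_shift_exact hT' i b hb) (fun c => hn _ c) β hβ
    exact ⟨γ, hγ⟩
  constructor
  · rw [injective_iff_map_eq_zero]
    intro u hu
    have h4 : T.mor₁ ≫ u = 0 := by
      apply (h₁ q i h).1
      rw [map_zero]
      ext x
      rw [psi_comp, hu]
      rfl
    obtain ⟨v, rfl⟩ := Triangle.yoneda_exact₂ T hT u h4
    have h5 : ∀ x : ShiftedHom Z T.obj₂ i, psi TR T.obj₃ h v (x ≫ T.mor₂⟦i⟧') = 0 := by
      intro x
      rw [← psi_comp, hu]
      rfl
    obtain ⟨γ, hγ⟩ := extend (rot_of_distTriang T hT) (psi TR T.obj₃ h v) h5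
    obtain ⟨w, hw⟩ := ((h₁.shift 1) q i h).2 γ
    have h6 : v = T.mor₃ ≫ w := by
      apply (h₃ q i h).1
      ext x
      rw [psi_comp, hw]
      exact (hγ x).symm
    rw [h6, ← Category.assoc, comp_distTriang_mor_zero₂₃ T hT, zero_comp]
  · intro β
    obtain ⟨w, hw⟩ := (h₁ q i h).2 (β.comp (AddMonoidHom.mk'
      (fun x : ShiftedHom Z T.obj₁ i => x ≫ T.mor₁⟦i⟧') (fun x y => Preadditive.add_comp _ _ _ _ _ _)))
    have hT' := inv_rot_of_distTriang T hT
    obtain ⟨δ, hδ, hδ'⟩ : ∃ δ : T.obj₃⟦(-1 : ℤ)⟧ ⟶ T.obj₁, δ ≫ T.mor₁ = 0 ∧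
        ∀ w : T.obj₁ ⟶ I⟦q⟧, δ ≫ w = 0 → ∃ u : T.obj₂ ⟶ I⟦q⟧, w = T.mor₁ ≫ u :=
      ⟨T.invRotate.mor₁, comp_distTriang_mor_zero₁₂ _ hT', fun w hw => Triangle.yoneda_exact₂ _ hT' w hw⟩
    have h4 : δ ≫ w = 0 := by
      apply ((h₃.shift (-1)) q i h).1
      rw [map_zero]
      ext x
      rw [psi_comp, hw]
      change β ((x ≫ δ⟦i⟧') ≫ T.mor₁⟦i⟧') = 0
      rw [Category.assoc, ← Functor.map_comp, hδ, Functor.map_zero, comp_zero, map_zero]
    obtain ⟨u₀, hu₀⟩ := hδ' w h4
    obtain ⟨γ, hγ⟩ := extend hT (β - psi TR T.obj₂ h u₀) (by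
      intro x
      rw [AddMonoidHom.sub_apply, ← psi_comp, ← hu₀, hw]
      exact sub_self _)
    obtain ⟨v, hv⟩ := (h₃ q i h).2 γ
    refine ⟨u₀ + T.mor₂ ≫ v, ?_⟩
    ext x
    rw [map_add, AddMonoidHom.add_apply, psi_comp, hv, hγ, AddMonoidHom.sub_apply, add_sub_cancel]

end Triangles

section Derived

open Abelian DerivedCategory

variable {C : Type u} [Category.{v} C] [Abelian C] [HasExt.{w} C] {Z I : C} {N : ℕ} {E : Type t} [AddCommGroup E]

/-- The duality map `Ext^q(F, I) → Hom(Ext^i(Z, F), E)`, `i + q = N`. -/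
noncomputable def phiC (tr : Ext.{w} Z I N →+ E) (F : C) {q i : ℕ} (h : i + q = N) :
    Ext.{w} F I q →+ (Ext.{w} Z F i →+ E) :=
  AddMonoidHom.mk' (fun e => AddMonoidHom.mk' (fun x => tr (x.comp e h))
    (fun x y => by simp [Ext.add_comp]))
    (fun e e' => by ext x; simp [Ext.comp_add])

lemma phiC_apply (tr : Ext.{w} Z I N →+ E) (F : C) {q i : ℕ} (h : i + q = N) (e : Ext.{w} F I q)
    (x : Ext.{w} Z F i) : phiC tr F h e x = tr (x.comp e h) := rfl

/-- Duality for the objects of `C`. -/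
structure SheafDual (n : ℕ) (tr : Ext.{w} Z I N →+ E) : Prop where
  tors : n • 𝟙 Z = 0
  bij : ∀ (F : C) {q i : ℕ} (h : i + q = N), Function.Bijective (phiC tr F h)
  van : ∀ (F : C) {i : ℕ} (_ : N < i) (x : Ext.{w} Z F i), x = 0

variable {n : ℕ} {tr : Ext.{w} Z I N →+ E}

lemma SheafDual.torsion (A : SheafDual n tr) (F : C) {i : ℕ} (x : Ext.{w} Z F i) : n • x = 0 := by
  rw [← Ext.mk₀_id_comp x]
  have h : n • (Ext.mk₀ (𝟙 Z)).comp x (zero_add i) = (n • Ext.mk₀ (𝟙 Z)).comp x (zero_add i) := by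
    change n • (Ext.bilinearComp Z Z F 0 i i (zero_add i) (Ext.mk₀ (𝟙 Z))) x = _
    rw [← AddMonoidHom.smul_apply, ← map_nsmul]
    rfl
  rw [h]
  have h2 : n • Ext.mk₀ (𝟙 Z) = Ext.mk₀ (n • 𝟙 Z) := (map_nsmul Ext.addEquiv₀.symm n (𝟙 Z)).symm
  rw [h2, A.tors, Ext.mk₀_zero, Ext.zero_comp]

lemma phiC_comp {F F' : C} (p : F' ⟶ F) {q i : ℕ} (h : i + q = N) (e : Ext.{w} F I q) (x : Ext.{w} Z F' i) :
    phiC tr F' h ((Ext.mk₀ p).comp e (zero_add q)) x = phiC tr F h e (x.comp (Ext.mk₀ p) (add_zero i)) := by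
  rw [phiC_apply, phiC_apply, Ext.comp_assoc_of_second_deg_zero]

/-- `Ext^q(F, I) = 0` for `q > N`. -/
theorem SheafDual.ext_eq_zero (A : SheafDual n tr) (hE : InjOn.{w} n E) {q : ℕ} (hq : N < q) (F : C)
    (e : Ext.{w} F I q) : e = 0 := by
  obtain ⟨m, rfl⟩ : ∃ m, q = N + (m + 1) := ⟨q - N - 1, by lia⟩
  clear hq
  -- the base case uses the duality, the induction step is a dimension shift
  induction m generalizing F with
  | zero =>
    obtain ⟨P, p, hp, hpe⟩ := S1033.exists_epi_ext_comp_eq_zero (n := N) e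
    let S := ShortComplex.mk _ _ (Limits.kernel.condition p)
    have hS : S.ShortExact :=
      { exact := ShortComplex.exact_of_f_is_kernel _ (Limits.kernelIsKernel S.g)
        mono_f := by dsimp [S]; infer_instance
        epi_g := hp }
    obtain ⟨r, hr⟩ := Ext.contravariant_sequence_exact₃ hS I e hpe (n₀ := N) (by lia)
    obtain ⟨γ, hγ⟩ := hE.exists_extension (0 : PUnit.{w + 1} →+ Ext.{w} Z S.X₁ 0)
      (Ext.postcomp (Ext.mk₀ S.f) Z (add_zero 0)) (fun b hb => by
        obtain ⟨b', rfl⟩ := (Ext.mk₀_bijective Z S.X₁).2 b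
        refine ⟨0, ?_⟩
        change 0 = _
        have h1 : (Ext.mk₀ b').comp (Ext.mk₀ S.f) (add_zero 0) = 0 := hb
        rw [Ext.mk₀_comp_mk₀, Ext.mk₀_eq_zero_iff] at h1
        have := hS.mono_f
        have h2 : b' = 0 := by rw [← cancel_mono S.f, h1, zero_comp]
        rw [h2, Ext.mk₀_zero]) (fun c => A.torsion _ c) (phiC tr S.X₁ (q := N) (i := 0) (zero_add N) r)
      (fun a => map_zero _)
    obtain ⟨r', hr'⟩ := (A.bij S.X₂ (q := N) (i := 0) (zero_add N)).2 γ
    have h3 : (Ext.mk₀ S.f).comp r' (zero_add N) = r := by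
      apply (A.bij S.X₁ (q := N) (i := 0) (zero_add N)).1
      ext x
      rw [phiC_comp, hr']
      exact hγ x
    rw [← hr, ← h3, ← Ext.comp_assoc_of_second_deg_zero, hS.extClass_comp, Ext.zero_comp]
  | succ m ih =>
    obtain ⟨P, p, hp, hpe⟩ := S1033.exists_epi_ext_comp_eq_zero (n := N + (m + 1)) e
    let S := ShortComplex.mk _ _ (Limits.kernel.condition p)
    have hS : S.ShortExact :=
      { exact := ShortComplex.exact_of_f_is_kernel _ (Limits.kernelIsKernel S.g)
        mono_f := by dsimp [S]; infer_instance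
        epi_g := hp }
    obtain ⟨r, hr⟩ := Ext.contravariant_sequence_exact₃ hS I e hpe (n₀ := N + (m + 1)) (by lia)
    rw [← hr, ih S.X₁ r, Ext.comp_zero]

variable [HasDerivedCategory.{w'} C]

/-- The functional on `Hom_D(Z, I[N])` corresponding to `tr`. -/
noncomputable def trD (tr : Ext.{w} Z I N →+ E) :
    ShiftedHom ((singleFunctor C 0).obj Z) ((singleFunctor C 0).obj I) (N : ℤ) →+ E :=
  tr.comp (Ext.homAddEquiv (X := Z) (Y := I) (n := N)).symm.toAddMonoidHom

lemma trD_hom (x : Ext.{w} Z I N) : trD tr x.hom = tr x := by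
  change tr (Ext.homAddEquiv.symm (Ext.homAddEquiv x)) = tr x
  rw [AddEquiv.symm_apply_apply]

omit [HasExt.{w} C] in
lemma eq_zero_of_neg {F G : C} (q : ℤ) (hq : q < 0)
    (f : ShiftedHom ((singleFunctor C 0).obj F) ((singleFunctor C 0).obj G) q) : f = 0 := by
  have : (((singleFunctor C 0).obj G)⟦q⟧).IsGE (-q) :=
    (TStructure.t : Triangulated.TStructure (DerivedCategory C)).isGE_shift _ 0 q (-q) (by lia)
  exact (TStructure.t : Triangulated.TStructure (DerivedCategory C)).zero_of_isLE_of_isGE f 0 (-q) (by lia)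
    inferInstance this

theorem SheafDual.perf_single₀ (A : SheafDual n tr) (hE : InjOn.{w} n E) (F : C) :
    Perf (N := (N : ℤ)) (trD tr) ((singleFunctor C 0).obj F) := by
  intro q i h
  have aux : (∀ f : ShiftedHom ((singleFunctor C 0).obj F) ((singleFunctor C 0).obj I) q, f = 0) →
      (∀ x : ShiftedHom ((singleFunctor C 0).obj Z) ((singleFunctor C 0).obj F) i, x = 0) →
      Function.Bijective (psi (N := (N : ℤ)) (trD tr) ((singleFunctor C 0).obj F) h) := by
    intro h1 h2
    constructor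
    · intro a b _
      rw [h1 a, h1 b]
    · intro β
      refine ⟨0, ?_⟩
      ext x
      rw [h2 x, map_zero, map_zero]
  by_cases hq : q < 0
  · refine aux (fun f => eq_zero_of_neg q hq f) (fun x => ?_)
    obtain ⟨i', rfl⟩ : ∃ i' : ℕ, (i' : ℤ) = i := ⟨i.toNat, Int.toNat_of_nonneg (by lia)⟩
    obtain ⟨y, rfl⟩ := (Ext.homAddEquiv (X := Z) (Y := F) (n := i')).surjective x
    rw [A.van F (by lia) y, map_zero]
  · by_cases hi : i < 0
    · refine aux (fun f => ?_) (fun x => eq_zero_of_neg i hi x)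
      obtain ⟨q', rfl⟩ : ∃ q' : ℕ, (q' : ℤ) = q := ⟨q.toNat, Int.toNat_of_nonneg (by lia)⟩
      obtain ⟨y, rfl⟩ := (Ext.homAddEquiv (X := F) (Y := I) (n := q')).surjective f
      rw [A.ext_eq_zero hE (by lia) F y, map_zero]
    · obtain ⟨i', rfl⟩ : ∃ i' : ℕ, (i' : ℤ) = i := ⟨i.toNat, Int.toNat_of_nonneg (by lia)⟩
      obtain ⟨q', rfl⟩ : ∃ q' : ℕ, (q' : ℤ) = q := ⟨q.toNat, Int.toNat_of_nonneg (by lia)⟩
      have hiq : i' + q' = N := by lia
      let a := Ext.homAddEquiv (X := F) (Y := I) (n := q')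
      let b := Ext.homAddEquiv (X := Z) (Y := F) (n := i')
      have key : ∀ (e : Ext.{w} F I q') (x : Ext.{w} Z F i'),
          psi (N := (N : ℤ)) (trD tr) ((singleFunctor C 0).obj F) h (a e) (b x) = phiC tr F hiq e x := by
        intro e x
        rw [psi_apply, phiC_apply, ← trD_hom, Ext.comp_hom]
        rfl
      constructor
      · rw [injective_iff_map_eq_zero]
        intro f hf
        obtain ⟨e, rfl⟩ := a.surjective f
        have : e = 0 := by
          apply (A.bij F hiq).1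
          rw [map_zero]
          ext x
          rw [← key, hf]
          rfl
        rw [this, map_zero]
      · intro β
        obtain ⟨e, he⟩ := (A.bij F hiq).2 (β.comp b.toAddMonoidHom)
        refine ⟨a e, ?_⟩
        ext y
        obtain ⟨x, rfl⟩ := b.surjective y
        rw [key, he]
        rfl

omit [HasExt.{w} C] in
lemma nsmul_eq_zero {n : ℕ} (hZ : n • 𝟙 Z = 0) (Y : DerivedCategory C) (x : (singleFunctor C 0).obj Z ⟶ Y) :
    n • x = 0 := by
  have h : n • x = (singleFunctor C 0).map (n • 𝟙 Z) ≫ x := by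
    rw [Functor.map_nsmul, CategoryTheory.Functor.map_id, Preadditive.nsmul_comp, Category.id_comp]
  rw [h, hZ, Functor.map_zero, zero_comp]

/-- The property of being dualizable, as a property of objects of the derived category. -/
def perfProp (tr : Ext.{w} Z I N →+ E) : ObjectProperty (DerivedCategory C) :=
  fun X => Perf (N := (N : ℤ)) (trD tr) X

instance : (perfProp (C := C) tr).IsClosedUnderIsomorphisms where
  of_iso e h := Perf.of_iso e.symm h

/-- All bounded objects are dualizable. -/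
theorem SheafDual.perf (A : SheafDual n tr) (hE : InjOn.{w} n E) (hE' : InjOn.{w'} n E) (X : DerivedCategory C)
    (a b : ℤ) [X.IsGE a] [X.IsLE b] : Perf (N := (N : ℤ)) (trD tr) X := by
  refine LoccohB.Devissage.devissage (perfProp tr) (fun Y hY => ?_) (fun T hT h₁ h₃ => ?_) X a b (fun i => ?_)
  · have h0 := A.perf_single₀ hE 0
    exact h0.of_iso (hY.iso ((singleFunctor C 0).map_isZero (isZero_zero C)))
  · exact Perf.ext₂ hE' (nsmul_eq_zero A.tors) hT h₁ h₃
  · have h0 := (A.perf_single₀ hE ((homologyFunctor C i).obj X)).shift (-i)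
    exact h0.of_iso (((DerivedCategory.singleFunctors C).shiftIso (-i) i 0 (by lia)).app _).symm

end Derived

end Groth.Agent.Sga4h.BidGlobDual
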