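import Groth.Agent.Sga4h.BidGlobTri

/-!
# Biduality from global duality, for complexes which are reflexive at the non-closed points

`refl_of_stalks_abstract`: the last step of the proof of biduality on `X = (ℙ¹)^d` in abstract form. In the
application `C = EtModW.Mod Λ X`, `Z = Λ_X`, `st x = EtPts.stk Λ x` for the non-closed points `x`, and the detection
hypothesis `hdet` is `BidGlobFin.isZero_of_hom`.
-/

set_option autoImplicit false
universe u w w' v u' v' s

open CategoryTheory CategoryTheory.Limits Pretriangulated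
open Groth.Agent.Sga4h.Refl Groth.Agent.Sga4h.BidGlobDual Groth.Agent.Sga4h.BidGlobTri

namespace Groth.Agent.Sga4h.BidGlobMain

section

variable {C : Type u} [Category.{v} C] [Abelian C] {C' : Type u'} [Category.{v'} C'] [Abelian C']
  (F : C ⥤ C') [F.Additive] [PreservesFiniteLimits F] [PreservesFiniteColimits F] [HasDerivedCategory.{w'} C]

/-- If an exact functor inverts the maps induced by the first map of a distinguished triangle on homology, it kills
the homology of the third object. -/
lemma isZero_of_triangle {T : Triangle (DerivedCategory C)} (hT : T ∈ distTriang _)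
    (h : ∀ i, IsIso (F.map ((DerivedCategory.homologyFunctor C i).map T.mor₁))) (i : ℤ) :
    IsZero (F.obj ((DerivedCategory.homologyFunctor C i).obj T.obj₃)) := by
  have hS := (DerivedCategory.HomologySequence.exact₃ T hT i (i + 1) rfl).map F
  refine hS.isZero_of_both_zeros ?_ ?_
  · have := h i
    change F.map ((DerivedCategory.homologyFunctor C i).map T.mor₂) = 0
    rw [← cancel_epi (F.map ((DerivedCategory.homologyFunctor C i).map T.mor₁)), comp_zero, ← Functor.map_comp,
      ← Functor.map_comp, comp_distTriang_mor_zero₁₂ _ hT, Functor.map_zero, Functor.map_zero]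
  · have := h (i + 1)
    change F.map (DerivedCategory.HomologySequence.δ T i (i + 1) rfl) = 0
    rw [← cancel_mono (F.map ((DerivedCategory.homologyFunctor C (i + 1)).map T.mor₁)), zero_comp,
      ← Functor.map_comp, DerivedCategory.HomologySequence.δ_comp T hT i (i + 1) rfl, Functor.map_zero]

omit [F.Additive] [PreservesFiniteLimits F] [PreservesFiniteColimits F] [Abelian C'] in
lemma isIso_map_homologyFunctor {K L : CochainComplex C ℤ} (φ : K ⟶ L) (j : ℤ)
    (h : IsIso (F.map (HomologicalComplex.homologyMap φ j))) :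
    IsIso (F.map ((DerivedCategory.homologyFunctor C j).map (DerivedCategory.Q.map φ))) := by
  have h' : IsIso (F.map ((HomologicalComplex.homologyFunctor C (ComplexShape.up ℤ) j).map φ)) := h
  have h6 := (DerivedCategory.homologyFunctorFactors C j).hom.naturality φ
  have h7 := congrArg (fun f => F.map f) h6
  rw [Functor.map_comp, Functor.map_comp] at h7
  have h8 : IsIso (F.map ((DerivedCategory.Q ⋙ DerivedCategory.homologyFunctor C j).map φ) ≫
      F.map ((DerivedCategory.homologyFunctorFactors C j).hom.app L)) := by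
    rw [h7]
    infer_instance
  exact @IsIso.of_isIso_comp_right _ _ _ _ _ (F.map ((DerivedCategory.Q ⋙ DerivedCategory.homologyFunctor C j).map φ))
    (F.map ((DerivedCategory.homologyFunctorFactors C j).hom.app L)) inferInstance h8

omit F [F.Additive] [PreservesFiniteLimits F] [PreservesFiniteColimits F] [Abelian C'] in
lemma isGE_obj₃ {T : Triangle (DerivedCategory C)} (hT : T ∈ distTriang _) (a b : ℤ)
    [T.obj₁.IsGE a] [T.obj₂.IsGE b] : T.obj₃.IsGE (min (a - 1) b) := by
  rw [DerivedCategory.isGE_iff]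
  intro i hi
  exact (DerivedCategory.HomologySequence.exact₃ T hT i (i + 1) rfl).isZero_of_both_zeros
    ((T.obj₂.isZero_of_isGE b i (by lia)).eq_of_src _ _) ((T.obj₁.isZero_of_isGE a (i + 1) (by lia)).eq_of_tgt _ _)

end

section

open DerivedCategory

variable {C : Type u} [Category.{v} C] [Abelian C] [HasDerivedCategory.{w'} C] [HasExt.{w} C]
  {T : C ⥤ C ⥤ C} [T.Additive] [∀ F, (T.obj F).Additive]
  [∀ (K₁ K₂ : CochainComplex C ℤ), CochainComplex.HasMapBifunctor K₁ K₂ T]
  [∀ E : CochainComplex C ℤ, (T.map₂CochainComplex.flip.obj E).IsLeftAdjoint]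
  [∀ (J : Type), HasColimitsOfShape (Discrete J) C]
  [∀ (J : Type), (colim : (Discrete J ⥤ C) ⥤ C).PreservesMonomorphisms]
  {Z : C} {n N : ℕ} {tr : Abelian.Ext.{w} Z Z N →+ ZMod n}

/-- Abstract form of the last step: `st x` (`x : ι`) is a family of exact functors such that bounded below objects `Y`
with `Hom(Z[-i], Y) = 0` for all `i`, and whose cohomology objects are killed by all `st x`, are zero. -/
theorem refl_of_stalks_abstract (hn : n ≠ 0) (B : SheafDual n tr) (A : DualData T)
    {ι : Type s} {C' : ι → Type u'} [∀ x, Category.{v'} (C' x)] [∀ x, Abelian (C' x)] (st : ∀ x, C ⥤ C' x)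
    [∀ x, (st x).Additive] [∀ x, PreservesFiniteLimits (st x)] [∀ x, PreservesFiniteColimits (st x)]
    (hdet : ∀ (Y : DerivedCategory C) (a : ℤ) (_ : Y.IsGE a)
      (_ : ∀ (i : ℤ) (x : ι), IsZero ((st x).obj ((homologyFunctor C i).obj Y)))
      (_ : ∀ (i : ℤ) (f : (singleFunctor C i).obj Z ⟶ Y), f = 0), IsZero Y)
    (hZ : A.Refl ((CochainComplex.singleFunctor C 0).obj Z))
    (hU : ∀ (M : CochainComplex C ℤ) (j : ℤ),
      Nonempty (((singleFunctor C 0).obj Z ⟶ (Q.obj (A.D M))⟦j⟧) ≃ (Q.obj M ⟶ ((singleFunctor C 0).obj Z)⟦j⟧)))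
    (K : CochainComplex C ℤ) {a b a' b' c : ℤ} (hKa : (Q.obj K).IsGE a) (hKb : (Q.obj K).IsLE b)
    (hDa : (Q.obj (A.D K)).IsGE a') (hDb : (Q.obj (A.D K)).IsLE b') (hDDc : (Q.obj (A.D (A.D K))).IsGE c)
    (hfin : ∀ i : ℤ, Finite ((singleFunctor C 0).obj Z ⟶ (Q.obj K)⟦i⟧))
    (hst : ∀ (x : ι) (i : ℤ), IsIso ((st x).map (HomologicalComplex.homologyMap (A.ev K) i))) :
    A.Refl K := by
  have hT := DerivedCategory.mappingCone_triangle_distinguished (A.ev K)
  set T' := Q.mapTriangle.obj (CochainComplex.mappingCone.triangle (A.ev K)) with hT'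
  have h1 : T'.obj₁.IsGE a := hKa
  have h2 : T'.obj₂.IsGE c := hDDc
  have h3 := isGE_obj₃ hT a c
  have h4 : IsZero T'.obj₃ := by
    refine hdet T'.obj₃ (min (a - 1) c) h3 (fun i x => ?_) (fun i f => ?_)
    · exact isZero_of_triangle (st x) hT (fun j => isIso_map_homologyFunctor (st x) (A.ev K) j (hst x j)) i
    · refine eq_zero_of_single (fun x => ?_) f
      exact eq_zero_of_bijective hT _ (fun j => bijective_ev A hn B hZ hU K hKa hKb hDa hDb hfin j) i x
  have h8 : IsIso (Q.map (A.ev K)) := (Triangle.isZero₃_iff_isIso₁ _ hT).1 h4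
  exact ⟨(isIso_Q_map_iff_quasiIso _ _).1 h8⟩

end

end Groth.Agent.Sga4h.BidGlobMain
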