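import Groth.Agent.Sga4h.BidGlobDual
import Groth.Agent.Sga4B.DualFormal
import Mathlib.Algebra.Homology.DerivedCategory.Ext.MapBijective

/-!
# Duality in terms of `Ext` in `C` from the formal duality theorem

* `SheafDual.of_phi`: from `DualFormal.phi Ψ Z_B tr` bijective for an exact functor `Ψ : C ⥤ B` and a map `c : Z_B ⟶ Ψ Z`
  inducing bijections `Ext_C(Z, F) → Ext_B(Z_B, Ψ F)`;
* `SheafDual.of_equivalence`: transfer along an equivalence of categories.
-/

set_option autoImplicit false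
universe w w' v v' u u' t

open CategoryTheory CategoryTheory.Limits CategoryTheory.Abelian
open Groth.Agent.Sga4h.BidGlobDual Groth.Agent.Sga4B

namespace Groth.Agent.Sga4h.BidGlobPhi

variable {C : Type u} [Category.{v} C] [Abelian C] [HasExt.{w} C] {B : Type u'} [Category.{v'} B] [Abelian B]
  [HasExt.{w'} B] (Ψ : C ⥤ B) [Ψ.Additive] [PreservesFiniteLimits Ψ] [PreservesFiniteColimits Ψ]
  {Z I : C} {ZB : B} {N n : ℕ} {E : Type t} [AddCommGroup E] (tr : Ext.{w'} ZB (Ψ.obj I) N →+ E) (c : ZB ⟶ Ψ.obj Z)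

/-- The comparison map `Ext_C(Z, F) → Ext_B(Z_B, Ψ F)`. -/
noncomputable def cmp (F : C) (i : ℕ) : Ext.{w} Z F i →+ Ext.{w'} ZB (Ψ.obj F) i :=
  AddMonoidHom.mk' (fun y => (Ext.mk₀ c).comp (y.mapExactFunctor Ψ) (zero_add i)) (fun x y => by
    change (Ext.mk₀ c).comp (Ψ.mapExtAddHom _ _ _ (x + y)) (zero_add i) = _
    rw [map_add, Ext.comp_add]
    rfl)

lemma cmp_apply (F : C) (i : ℕ) (y : Ext.{w} Z F i) :
    cmp Ψ c F i y = (Ext.mk₀ c).comp (y.mapExactFunctor Ψ) (zero_add i) := rfl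

lemma cmp_comp {F G : C} {i j k : ℕ} (h : i + j = k) (x : Ext.{w} Z F i) (e : Ext.{w} F G j) :
    cmp Ψ c G k (x.comp e h) = (cmp Ψ c F i x).comp (e.mapExactFunctor Ψ) h := by
  rw [cmp_apply, cmp_apply, Ext.mapExactFunctor_comp, Ext.comp_assoc _ _ _ (zero_add i) h (by lia)]

variable {Ψ c}

theorem _root_.Groth.Agent.Sga4h.BidGlobDual.SheafDual.of_phi (hn : n • 𝟙 Z = 0)
    (hc : ∀ (F : C) (i : ℕ), Function.Bijective (cmp Ψ c F i))
    (hphi : ∀ (F : C) {q i : ℕ} (h : i + q = N), Function.Bijective (DualFormal.phi Ψ ZB tr F h))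
    (hvan : ∀ (F : C) {i : ℕ} (_ : N < i) (x : Ext.{w'} ZB (Ψ.obj F) i), x = 0) :
    SheafDual n (tr.comp (cmp (Z := Z) Ψ c I N)) where
  tors := hn
  bij F q i h := by
    have key : ∀ (e : Ext.{w} F I q) (x : Ext.{w} Z F i),
        phiC (tr.comp (cmp (Z := Z) Ψ c I N)) F h e x = DualFormal.phi Ψ ZB tr F h e (cmp Ψ c F i x) := by
      intro e x
      rw [phiC_apply, DualFormal.phi_apply, AddMonoidHom.comp_apply, cmp_comp]
    let a := AddEquiv.ofBijective _ (hc F i)
    constructor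
    · intro e e' hee
      apply (hphi F h).1
      ext y
      obtain ⟨x, rfl⟩ := (hc F i).2 y
      rw [← key, ← key, hee]
    · intro β
      obtain ⟨e, he⟩ := (hphi F h).2 (β.comp a.symm.toAddMonoidHom)
      refine ⟨e, ?_⟩
      ext x
      rw [key, he]
      change β (a.symm (a x)) = β x
      rw [a.symm_apply_apply]
  van F i hi x := by
    apply (hc F i).1
    rw [map_zero]
    exact hvan F hi _

lemma mapExt_bijective_of_isEquivalence [EnoughInjectives C] [Ψ.IsEquivalence] (F G : C) (i : ℕ) :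
    Function.Bijective (fun e : Ext.{w} F G i => (e.mapExactFunctor Ψ : Ext.{w'} _ _ i)) :=
  Ψ.mapExt_bijective_of_preservesInjectiveObjects F G i

/-- Transfer of the duality along an equivalence. -/
theorem _root_.Groth.Agent.Sga4h.BidGlobDual.SheafDual.of_equivalence [EnoughInjectives C] [Ψ.IsEquivalence]
    {Z' I' : B} {tr' : Ext.{w'} Z' I' N →+ E} (A : SheafDual n tr') (eZ : Ψ.obj Z ≅ Z') (eI : Ψ.obj I ≅ I') :
    ∃ tr : Ext.{w} Z I N →+ E, SheafDual n tr := by
  have hn : n • 𝟙 Z = 0 := by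
    apply Ψ.map_injective
    rw [Functor.map_nsmul, CategoryTheory.Functor.map_id, Functor.map_zero, ← cancel_mono eZ.hom,
      Preadditive.nsmul_comp, Category.id_comp, zero_comp, ← Category.comp_id eZ.hom, ← Preadditive.comp_nsmul,
      A.tors, comp_zero]
  let tr'' : Ext.{w'} Z' (Ψ.obj I) N →+ E := tr'.comp ((Ext.mk₀ eI.hom).postcomp Z' (add_zero N))
  have hc : ∀ (F : C) (i : ℕ), Function.Bijective (cmp Ψ eZ.inv F i) := by
    intro F i
    have h1 := mapExt_bijective_of_isEquivalence (Ψ := Ψ) Z F i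
    have h2 : Function.Bijective (fun y : Ext.{w'} (Ψ.obj Z) (Ψ.obj F) i =>
        (Ext.mk₀ eZ.inv).comp y (zero_add i)) := by
      refine Function.bijective_iff_has_inverse.2 ⟨fun y => (Ext.mk₀ eZ.hom).comp y (zero_add i), ?_, ?_⟩
      · intro y
        dsimp only
        rw [Ext.mk₀_comp_mk₀_assoc, Iso.hom_inv_id, Ext.mk₀_id_comp]
      · intro y
        dsimp only
        rw [Ext.mk₀_comp_mk₀_assoc, Iso.inv_hom_id, Ext.mk₀_id_comp]
    exact h2.comp h1
  refine ⟨_, SheafDual.of_phi tr'' hn hc (fun F q i h => ?_) (fun F i hi x => A.van _ hi x)⟩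
  have h1 := mapExt_bijective_of_isEquivalence (Ψ := Ψ) F I q
  have h2 : Function.Bijective (fun y : Ext.{w'} (Ψ.obj F) (Ψ.obj I) q =>
      y.comp (Ext.mk₀ eI.hom) (add_zero q)) := by
    refine Function.bijective_iff_has_inverse.2 ⟨fun y => y.comp (Ext.mk₀ eI.inv) (add_zero q), ?_, ?_⟩
    · intro y
      dsimp only
      rw [Ext.comp_assoc_of_third_deg_zero, Ext.mk₀_comp_mk₀, Iso.hom_inv_id, Ext.comp_mk₀_id]
    · intro y
      dsimp only
      rw [Ext.comp_assoc_of_third_deg_zero, Ext.mk₀_comp_mk₀, Iso.inv_hom_id, Ext.comp_mk₀_id]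
  have h3 := (A.bij (Ψ.obj F) h).comp (h2.comp h1)
  convert h3 using 1
  ext e x
  rw [DualFormal.phi_apply]
  change tr' ((x.comp (e.mapExactFunctor Ψ) h).comp (Ext.mk₀ eI.hom) (add_zero N)) =
    tr' (x.comp ((e.mapExactFunctor Ψ).comp (Ext.mk₀ eI.hom) (add_zero q)) h)
  rw [Ext.comp_assoc_of_third_deg_zero]

end Groth.Agent.Sga4h.BidGlobPhi
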