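import Groth.Agent.Sga4h.BidGlobPhi
import Groth.Agent.Sga4B.DualAsm
import Groth.Agent.Sga4B.PDConst
import Groth.Agent.Sga4B.PDKummer
import Groth.Agent.Etcore.ShriekBasic

/-!
# `SheafDual` for `Λ_P` from the duality for abelian sheaves

`P` a scheme; from the conclusion of `DualAsm.exists_dual` for `j = 𝟙 P` and the constancy of the dualizing sheaf.
-/

set_option autoImplicit false
universe w w' v v' u u' t

open CategoryTheory CategoryTheory.Limits CategoryTheory.Abelian AlgebraicGeometry Opposite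
open Groth.Agent.Sga4h.BidGlobDual Groth.Agent.Sga4B

namespace Groth.Agent.Sga4h.BidGlobPkg

section Abstract

variable {C : Type u} [Category.{v} C] [Abelian C] [HasExt.{w} C] {Z I : C} {N n : ℕ}
  {E : Type t} [AddCommGroup E] {E' : Type t} [AddCommGroup E'] {tr : Ext.{w} Z I N →+ E}

/-- Change of the value group. -/
theorem _root_.Groth.Agent.Sga4h.BidGlobDual.SheafDual.congrE {E' : Type*} [AddCommGroup E']
    (B : SheafDual n tr) (e : E ≃+ E') : SheafDual n (e.toAddMonoidHom.comp tr) where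
  tors := B.tors
  van := B.van
  bij F q i h := by
    have h1 : Function.Bijective (fun β : Ext.{w} Z F i →+ E => (e.toAddMonoidHom.comp β : Ext.{w} Z F i →+ E')) := by
      refine Function.bijective_iff_has_inverse.2 ⟨fun γ => e.symm.toAddMonoidHom.comp γ, ?_, ?_⟩
      · intro β
        ext x
        exact e.symm_apply_apply _
      · intro γ
        ext x
        exact e.apply_symm_apply _
    exact h1.comp (B.bij F h)

/-- Invariance under isomorphisms of `Z` and `I`. -/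
theorem _root_.Groth.Agent.Sga4h.BidGlobDual.SheafDual.of_iso [EnoughInjectives C] {Z' I' : C}
    {tr' : Ext.{w} Z' I' N →+ E} (A : SheafDual n tr') (eZ : Z ≅ Z') (eI : I ≅ I') :
    ∃ tr : Ext.{w} Z I N →+ E, SheafDual n tr :=
  SheafDual.of_equivalence (Ψ := 𝟭 C) A eZ eI

variable {B : Type u'} [Category.{v'} B] [Abelian B] [HasExt.{w'} B]

open Groth.Agent.Etcore.ExtMap

/-- Bijectivity of the comparison map is invariant under isomorphisms of functors. -/
lemma bijective_extMap_of_iso [EnoughInjectives C] (Φ Ψ : C ⥤ B) [Φ.Additive] [PreservesFiniteLimits Φ] [PreservesFiniteColimits Φ]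
    [Ψ.Additive] [PreservesFiniteLimits Ψ] [PreservesFiniteColimits Ψ] (τ : Φ ≅ Ψ) {ZB : B} (a : ZB ⟶ Φ.obj Z)
    (F : C) (i : ℕ) (h : Function.Bijective (extMap.{w, w'} Φ a F i)) :
    Function.Bijective (extMap.{w, w'} Ψ (a ≫ τ.hom.app Z) F i) := by
  have h2 : Function.Bijective (fun y : Ext.{w'} ZB (Φ.obj F) i => y.comp (Ext.mk₀ (τ.hom.app F)) (add_zero i)) := by
    refine Function.bijective_iff_has_inverse.2 ⟨fun y => y.comp (Ext.mk₀ (τ.inv.app F)) (add_zero i), ?_, ?_⟩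
    · intro y
      dsimp only
      rw [Ext.comp_assoc_of_third_deg_zero, Ext.mk₀_comp_mk₀, Iso.hom_inv_id_app, Ext.comp_mk₀_id]
    · intro y
      dsimp only
      rw [Ext.comp_assoc_of_third_deg_zero, Ext.mk₀_comp_mk₀, Iso.inv_hom_id_app, Ext.comp_mk₀_id]
  have h3 := h2.comp h
  convert h3 using 1
  ext x
  exact (extMap_natTrans τ.hom a F i x).symm

/-- Bijectivity of the comparison map is invariant under isomorphisms of the first variable. -/
lemma bijective_extMap_precomp (Φ : C ⥤ B) [Φ.Additive] [PreservesFiniteLimits Φ] [PreservesFiniteColimits Φ]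
    {ZB ZB' : B} (e : ZB' ≅ ZB) (a : ZB ⟶ Φ.obj Z)
    (F : C) (i : ℕ) (h : Function.Bijective (extMap.{w, w'} Φ a F i)) :
    Function.Bijective (extMap.{w, w'} Φ (e.hom ≫ a) F i) := by
  have h2 : Function.Bijective (fun y : Ext.{w'} ZB (Φ.obj F) i => (Ext.mk₀ e.hom).comp y (zero_add i)) := by
    refine Function.bijective_iff_has_inverse.2 ⟨fun y => (Ext.mk₀ e.inv).comp y (zero_add i), ?_, ?_⟩
    · intro y
      dsimp only
      rw [Ext.mk₀_comp_mk₀_assoc, Iso.inv_hom_id, Ext.mk₀_id_comp]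
    · intro y
      dsimp only
      rw [Ext.mk₀_comp_mk₀_assoc, Iso.hom_inv_id, Ext.mk₀_id_comp]
  have h3 := h2.comp h
  convert h3 using 1
  ext x
  change (Ext.mk₀ (e.hom ≫ a)).comp (x.mapExactFunctor Φ) (zero_add i) =
    (Ext.mk₀ e.hom).comp ((Ext.mk₀ a).comp (x.mapExactFunctor Φ) (zero_add i)) (zero_add i)
  rw [Ext.mk₀_comp_mk₀_assoc]

end Abstract

/-- The functor `compEtale (𝟙 X)` is the identity. -/
noncomputable def compEtaleId (X : Scheme.{u}) :
    EtShriek.compEtale (𝟙 X) ≅ 𝟭 X.Etale :=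
  MorphismProperty.Over.mapId (P := EtCoh.etaleMP.{u}) (Q := ⊤) X (𝟙 X)

/-- Restriction along the identity. -/
noncomputable def restrAlongId (X : Scheme.{u}) :
    EtShriek.restrAlong (𝟙 X) ≅ 𝟭 (EtCoh.Ab X) :=
  NatIso.ofComponents
    (fun F => (fullyFaithfulSheafToPresheaf _ _).preimageIso
      (Functor.isoWhiskerRight (NatIso.op (compEtaleId X).symm) F.obj ≪≫ Functor.leftUnitor _))
    (fun {F G} f => by
      apply (fullyFaithfulSheafToPresheaf _ _).map_injective
      simp only [Functor.map_comp, Functor.FullyFaithful.preimageIso_hom, Functor.id_map]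
      ext V x
      exact congrArg (fun φ => φ x) (congrArg AddCommGrpCat.Hom.hom
        (f.hom.naturality ((compEtaleId X).symm.hom.app V.unop).op)).symm)

/-- `(𝟙 X)_! = id`. -/
noncomputable def extZeroId (X : Scheme.{u}) :
    EtShriek.extZero (𝟙 X) ≅ 𝟭 (EtCoh.Ab X) :=
  Adjunction.leftAdjointUniq (EtShriek.extZeroAdj (𝟙 X))
    (Adjunction.id.ofNatIsoRight (restrAlongId X).symm)

/-- The constant sheaf `Λ` (with the module structure over itself). -/
noncomputable abbrev cM (Λ : Type (u + 1)) [CommRing Λ] (X : Scheme.{u}) : EtModW.Mod Λ X :=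
  EtModW.constMod Λ X Λ


section Concrete

open Groth.Agent.Etrest.ModAb Groth.Agent.Sga4B.LMLS Groth.Agent.Sga4B.DualShape
open Groth.Agent.Sga4B.ModExtU Groth.Agent.Sga4B.DualAsm Groth.Agent.Etcore.ExtMap

variable {P : Scheme.{u}} {n : ℕ}

/-- `ab ≅ ab ⋙ (𝟙)_!`. -/
noncomputable def tauIso (n : ℕ) (P : Scheme.{u}) : ab (Lam.{u} n) P ≅ Psi (𝟙 P) n :=
  (Functor.rightUnitor _).symm ≪≫ Functor.isoWhiskerLeft (ab (Lam.{u} n) P) (extZeroId P).symm

/-- The comparison morphism. -/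
noncomputable def cc (n : ℕ) (P : Scheme.{u}) : Z P ⟶ (Psi (𝟙 P) n).obj (cM (Lam.{u} n) P) :=
  ((JFComp.topIso ℤ P).symm.hom ≫ secMap (EtCoh.top P) (PDConst.oneAb (Lam.{u} n) P)) ≫
    (tauIso n P).hom.app (cM (Lam.{u} n) P)

theorem bijective_cmp (F : EtModW.Mod (Lam.{u} n) P) (i : ℕ) :
    Function.Bijective (BidGlobPhi.cmp.{u + 1, u + 1} (Psi (𝟙 P) n) (cc n P) F i) :=
  bijective_extMap_of_iso (ab (Lam.{u} n) P) (Psi (𝟙 P) n) (tauIso n P) _ F i
    (bijective_extMap_precomp (ab (Lam.{u} n) P) (JFComp.topIso ℤ P).symm _ F i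
      (PDConst.bijective_extMap_one (Lam.{u} n) P F i))

/-- The dualizing sheaf is constant. -/
theorem nonempty_iso_cM {K : EtModW.Mod (Lam.{u} n) P}
    (hK : Nonempty ((ab (Lam.{u} n) P).obj K ≅ EtCoh.const P (ZMod n))) :
    Nonempty (cM (Lam.{u} n) P ≅ K) := by
  obtain ⟨e⟩ := hK
  have e1 : (ab (Lam.{u} n) P).obj (cM (Lam.{u} n) P) ≅ EtCoh.const P (ZMod n) :=
    (constIso (Lam.{u} n) P).app (ModuleCat.of (Lam.{u} n) (Lam.{u} n))
  exact PDKummer.nonempty_iso_of_ab (e1 ≪≫ e.symm)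

/-- **`SheafDual` for `Λ_P`**. -/
theorem exists_sheafDual {N : ℕ} {K : EtModW.Mod (Lam.{u} n) P}
    {tr : Ext.{u + 1} (Z P) ((Psi (𝟙 P) n).obj K) N →+ E.{u} n}
    (hphi : ∀ (q m : ℕ) (h : m + q = N) (F : EtModW.Mod (Lam.{u} n) P),
      Function.Bijective (DualFormal.phi (Psi (𝟙 P) n) (Z P) tr F h))
    (hvan : ∀ (F : EtModW.Mod (Lam.{u} n) P) (i : ℕ), N < i →
      Subsingleton (Ext.{u + 1} (Z P) ((Psi (𝟙 P) n).obj F) i))
    (hK : Nonempty ((ab (Lam.{u} n) P).obj K ≅ EtCoh.const P (ZMod n))) :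
    ∃ tr' : Ext.{u + 1} (cM (Lam.{u} n) P) (cM (Lam.{u} n) P) N →+ ZMod n, SheafDual n tr' := by
  have h1 := SheafDual.of_phi (Z := cM (Lam.{u} n) P) (c := cc n P) tr (DualAsm.nsmul_id (cM (Lam.{u} n) P))
    bijective_cmp (fun F q m h => hphi q m h F) (fun F i hi x => (hvan F i hi).elim _ _)
  obtain ⟨e⟩ := nonempty_iso_cM hK
  obtain ⟨tr1, h2⟩ := h1.of_iso (Iso.refl _) e
  exact ⟨_, h2.congrE AddEquiv.ulift⟩

end Concrete

end Groth.Agent.Sga4h.BidGlobPkg
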