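import Groth.Agent.Sga4h.EtPts
import Groth.Prelude.Def_EtCore
import Groth.Agent.Desc.LQF
import Mathlib.AlgebraicGeometry.Morphisms.QuasiFinite
import Mathlib.AlgebraicGeometry.Morphisms.Etale
import Mathlib.AlgebraicGeometry.Noetherian
import Mathlib.AlgebraicGeometry.AlgClosed.Basic
import Mathlib.Topology.NoetherianSpace

/-!
# Sheaves supported on the closed points of a scheme over an algebraically closed field

`X` locally of finite type over an algebraically closed field `k`, `G` a sheaf of `Λ`-modules on the small etale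
site of `X` whose stalks `stk Λ x` at the non-closed points vanish.
* `exists_section`: every element of the stalk at a closed point `x` is the germ of a global section all of whose
  other germs vanish;
* `isZero_of_closed_points`: if `G(X) = 0` then `G = 0`.

Auxiliary: `germ`, `germ_map`, `section_ext` (sections with equal germs are equal), `isClosed_supp`, `exists_glue`
(gluing with compatibility tested on germs), `exists_lift` (lifting geometric points).
-/

set_option autoImplicit false
universe u w' v' u'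

open CategoryTheory CategoryTheory.Limits AlgebraicGeometry Opposite TopologicalSpace
open Groth.Agent.Sga4h.EtPts

namespace Groth.Agent.Sga4h.BidGlobSky

set_option backward.isDefEq.respectTransparency false in
/-- Two field valued points with the same image, closed, of a scheme locally of finite type over an algebraically
closed field `k`, are equal if they agree over `k`. -/
lemma spec_ext {k Ω : Type u} [Field k] [IsAlgClosed k] [Field Ω] {U : Scheme.{u}} (g : U ⟶ Spec (.of k))
    [LocallyOfFiniteType g] (a b : Spec (.of Ω) ⟶ U) (h : a default = b default)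
    (hc : IsClosed {a default}) (hab : a ≫ g = b ≫ g) : a = b := by
  obtain ⟨⟨v, φ⟩, hb⟩ := (Scheme.SpecToEquivOfField _ U).symm.surjective a
  obtain ⟨⟨v', φ'⟩, hb'⟩ := (Scheme.SpecToEquivOfField _ U).symm.surjective b
  have e1 : a = Spec.map φ ≫ U.fromSpecResidueField v := hb.symm
  have e2 : b = Spec.map φ' ≫ U.fromSpecResidueField v' := hb'.symm
  have hv : a default = v := by
    rw [e1, Scheme.Hom.comp_apply]
    exact Scheme.fromSpecResidueField_apply _ _
  have hv' : b default = v' := by
    rw [e2, Scheme.Hom.comp_apply]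
    exact Scheme.fromSpecResidueField_apply _ _
  obtain rfl : v = v' := by rw [← hv, h, hv']
  have hc' : IsClosed {v} := by rwa [← hv]
  rw [e1, e2, Category.assoc, Category.assoc, ← SpecMap_residueFieldIsoBase_inv g v hc',
    cancel_mono] at hab
  rw [e1, e2, hab]

variable {X : Scheme.{u}}

/-- The geometric point `Spec κ(x)ˢᵉᵖ ⟶ X`. -/
noncomputable abbrev gp (x : X) : Spec (.of (SeparableClosure (X.residueField x))) ⟶ X :=
  (Scheme.SpecToEquivOfField (SeparableClosure (X.residueField x)) _).2
        ⟨x, CommRingCat.ofHom (algebraMap (X.residueField x) _)⟩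

lemma gp_default (x : X) : gp x default = x := by
  simp [gp, Scheme.SpecToEquivOfField]

/-- The point of `U` below a geometric point of `U`. -/
noncomputable def pt {x : X} {U : X.Etale} (t : (gpt x).fiber.obj U) : U.left :=
  t.left (default : Spec (.of (SeparableClosure (X.residueField x))))

lemma hom_pt {x : X} {U : X.Etale} (t : (gpt x).fiber.obj U) : U.hom (pt t) = x :=
  (Scheme.pointSmallEtaleFiberObjToPreimage (gp x) (gp_default x) (X := U) t).2

lemma exists_pt {x : X} {U : X.Etale} (v : U.left) (hv : U.hom v = x) :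
    ∃ t : (gpt x).fiber.obj U, pt t = v := by
  obtain ⟨t, ht⟩ := Scheme.pointSmallEtaleFiberObjToPreimage_surjective (gp x) (gp_default x) U ⟨v, hv⟩
  exact ⟨t, congrArg Subtype.val ht⟩

lemma pt_map {x : X} {U V : X.Etale} (f : U ⟶ V) (t : (gpt x).fiber.obj U) :
    pt ((gpt x).fiber.map f t) = f.left (pt t) := rfl

lemma etale_left {U V : X.Etale} (f : U ⟶ V) : Etale f.left := by
  have h : Etale (f.left ≫ V.hom) := by
    have := MorphismProperty.Over.w f
    rw [this]
    exact U.prop
  have := V.prop
  infer_instance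

/-- Lifting a geometric point along an etale morphism. -/
lemma exists_lift {x : X} {U V : X.Etale} (f : U ⟶ V) (t : (gpt x).fiber.obj V) (v : U.left)
    (hv : f.left v = pt t) : ∃ t' : (gpt x).fiber.obj U, (gpt x).fiber.map f t' = t ∧ pt t' = v := by
  have := etale_left f
  obtain ⟨l, hl, hl'⟩ := Scheme.exists_fac_of_etale_of_isSepClosed f.left t.left v hv
  have hU : f.left ≫ V.hom = U.hom := MorphismProperty.Over.w f
  have ht : t.left ≫ V.hom = gp x := Over.w t
  have h3 : l ≫ U.hom = gp x :=
    (congrArg (fun z => l ≫ z) hU).symm.trans ((Category.assoc _ _ _).symm.trans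
      ((congrArg (fun z => z ≫ V.hom) hl).trans ht))
  exact ⟨Over.homMk l h3, Over.OverMorphism.ext hl, hl'⟩

/-- Geometric points above a closed point are determined by their image, over an algebraically closed field. -/
lemma eq_of_pt_eq {k : Type u} [Field k] [IsAlgClosed k] (g : X ⟶ Spec (.of k)) [LocallyOfFiniteType g]
    {x : X} {U : X.Etale} {t t' : (gpt x).fiber.obj U} (h : pt t = pt t') (hc : IsClosed {pt t}) : t = t' := by
  apply Over.OverMorphism.ext
  have hU : Etale U.hom := U.prop
  have ht : t.left ≫ U.hom = gp x := Over.w t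
  have ht' : t'.left ≫ U.hom = gp x := Over.w t'
  have hlt : LocallyOfFiniteType (U.hom ≫ g) := inferInstance
  have h1 : t.left ≫ U.hom ≫ g = t'.left ≫ U.hom ≫ g :=
    (Category.assoc _ _ _).symm.trans ((congrArg (fun z => z ≫ g) (ht.trans ht'.symm)).trans (Category.assoc _ _ _))
  exact spec_ext (U.hom ≫ g) t.left t'.left h hc h1


section sections

variable {Λ : Type (u + 1)} [CommRing Λ] (G : EtModW.Mod Λ X)

/-- The germ of a section at a geometric point. -/
noncomputable def germ {x : X} {U : X.Etale} (t : (gpt x).fiber.obj U) (s : ToType (G.obj.obj (op U))) :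
    ToType ((stk Λ x).obj G) :=
  (gpt x).toPresheafFiber U t G.obj s

variable {G}

lemma germ_zero {x : X} {U : X.Etale} (t : (gpt x).fiber.obj U) : germ G t 0 = 0 :=
  map_zero (ConcreteCategory.hom ((gpt x).toPresheafFiber U t G.obj))

lemma germ_map {x : X} {U V : X.Etale} (f : U ⟶ V) (t : (gpt x).fiber.obj U)
    (s : ToType (G.obj.obj (op V))) :
    germ G t (G.obj.map f.op s) = germ G ((gpt x).fiber.map f t) s :=
  (gpt x).toPresheafFiber_w_apply f t G.obj s

lemma germ_eq_iff {x : X} {U : X.Etale} (t : (gpt x).fiber.obj U) (a b : ToType (G.obj.obj (op U))) :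
    germ G t a = germ G t b ↔ ∃ (V : X.Etale) (g : V ⟶ U) (t' : (gpt x).fiber.obj V),
      (gpt x).fiber.map g t' = t ∧ G.obj.map g.op a = G.obj.map g.op b :=
  (gpt x).toPresheafFiber_eq_iff' U t a b

lemma exists_germ_eq {x : X} (p : ToType ((stk Λ x).obj G)) :
    ∃ (U : X.Etale) (t : (gpt x).fiber.obj U) (s : ToType (G.obj.obj (op U))), germ G t s = p :=
  (gpt x).toPresheafFiber_jointly_surjective (P := G.obj) p

/-- Sections with the same germs are equal. -/
lemma section_ext {U : X.Etale} {a b : ToType (G.obj.obj (op U))}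
    (h : ∀ (x : X) (t : (gpt x).fiber.obj U), germ G t a = germ G t b) : a = b := by
  have hsep : Presheaf.IsSeparated (Scheme.smallEtaleTopology X) G.obj := G.isSeparated
  refine hsep U (Presheaf.equalizerSieve a b) (mem_of_gpt _ (fun x t => ?_)) a b (fun Y f hf => hf)
  obtain ⟨V, g, y, hy, e⟩ := (germ_eq_iff t a b).1 (h x t)
  exact ⟨V, g, e, y, hy⟩

/-- A zero germ is zero on an etale neighbourhood. -/
lemma exists_of_germ_eq_zero {x : X} {U : X.Etale} (t : (gpt x).fiber.obj U)
    (s : ToType (G.obj.obj (op U))) (h : germ G t s = 0) :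
    ∃ (V : X.Etale) (g : V ⟶ U) (t' : (gpt x).fiber.obj V), (gpt x).fiber.map g t' = t ∧
      G.obj.map g.op s = 0 := by
  obtain ⟨V, g, y, hy, e⟩ := (germ_eq_iff t s 0).1 (h.trans (germ_zero t).symm)
  exact ⟨V, g, y, hy, e.trans (map_zero _)⟩

variable (G) in
/-- The support of a section. -/
def supp {U : X.Etale} (s : ToType (G.obj.obj (op U))) : Set U.left :=
  {v | ∃ (x : X) (t : (gpt x).fiber.obj U), pt t = v ∧ germ G t s ≠ 0}

lemma isClosed_supp {U : X.Etale} (s : ToType (G.obj.obj (op U))) : IsClosed (supp G s) := by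
  rw [← isOpen_compl_iff, isOpen_iff_forall_mem_open]
  intro v hv
  obtain ⟨t, ht⟩ := exists_pt (x := U.hom v) v rfl
  have h1 : germ G t s = 0 := by
    by_contra h
    exact hv ⟨_, t, ht, h⟩
  obtain ⟨V, g, t', ht', hg⟩ := exists_of_germ_eq_zero t s h1
  have := etale_left g
  refine ⟨Set.range g.left, ?_, g.left.isOpenMap.isOpen_range, ⟨pt t', ?_⟩⟩
  · rintro _ ⟨w, rfl⟩ ⟨x, t₂, ht₂, hne⟩
    obtain ⟨t₃, ht₃, _⟩ := exists_lift g t₂ w ht₂.symm
    apply hne
    have h4 := germ_map g t₃ s
    rw [hg] at h4
    have h5 : germ G ((gpt x).fiber.map g t₃) s = 0 := h4.symm.trans (germ_zero t₃)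
    exact (congrArg (fun z => germ G z s) ht₃).symm.trans h5
  · exact (pt_map g t').symm.trans ((congrArg pt ht').trans ht)

end sections

section opens

/-- An open subscheme of an object of the small etale site. -/
noncomputable def openEt (U : X.Etale) (V : U.left.Opens) : X.Etale :=
  have : Etale U.hom := U.prop
  Scheme.Etale.mk (V.ι ≫ U.hom)

/-- The inclusion of an open subscheme. -/
noncomputable def openι (U : X.Etale) (V : U.left.Opens) : openEt U V ⟶ U :=
  MorphismProperty.Over.homMk V.ι rfl

lemma exists_lift_open {x : X} {U : X.Etale} (V : U.left.Opens) (t : (gpt x).fiber.obj U) (ht : pt t ∈ V) :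
    ∃ t' : (gpt x).fiber.obj (openEt U V), (gpt x).fiber.map (openι U V) t' = t := by
  obtain ⟨t', ht', _⟩ := exists_lift (openι U V) t ⟨pt t, ht⟩ rfl
  exact ⟨t', ht'⟩

lemma pt_openι_mem {x : X} {U : X.Etale} (V : U.left.Opens) (t : (gpt x).fiber.obj (openEt U V)) :
    pt ((gpt x).fiber.map (openι U V) t) ∈ V :=
  (pt t).2

end opens

section topology

/-- A closed subset of a Noetherian quasi-sober space all of whose points are closed is finite. -/
theorem finite_of_closed_points {α : Type*} [TopologicalSpace α] [NoetherianSpace α] [QuasiSober α]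
    {Z : Set α} (hZ : IsClosed Z) (h : ∀ z ∈ Z, IsClosed ({z} : Set α)) : Z.Finite := by
  obtain ⟨S, hSf, hSc, hSi, rfl⟩ := NoetherianSpace.exists_finite_set_isClosed_irreducible hZ
  refine hSf.sUnion fun t ht => ?_
  have hg := (hSi t ht).isGenericPoint_genericPoint (hSc t ht)
  have hmem : (hSi t ht).genericPoint ∈ t := by
    have := hg.mem
    exact this
  have hcl : IsClosed ({(hSi t ht).genericPoint} : Set α) := h _ ⟨t, ht, hmem⟩
  have : t = {(hSi t ht).genericPoint} := by
    conv_lhs => rw [← hg.def]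
    exact hcl.closure_eq
  rw [this]
  exact Set.finite_singleton _

/-- The points of a locally quasi-finite `X`-scheme above a closed point are closed. -/
lemma isClosed_singleton_of_hom {U : X.Etale} {v : U.left} (h : IsClosed {U.hom v}) : IsClosed {v} := by
  have : Etale U.hom := U.prop
  have : LocallyQuasiFinite U.hom := Desc.LQF.of_etale U.hom
  have hd := U.hom.isDiscrete_preimage_singleton (U.hom v)
  have hc : IsClosed (U.hom ⁻¹' {U.hom v}) := h.preimage U.hom.continuous
  have : DiscreteTopology ↥(U.hom ⁻¹' {U.hom v}) := hd.1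
  have h2 : IsClosed ({⟨v, rfl⟩} : Set ↥(U.hom ⁻¹' {U.hom v})) := isClosed_discrete _
  have h3 := hc.isClosedEmbedding_subtypeVal.isClosedMap _ h2
  simpa using h3

end topology

section shrink

variable {Λ : Type (u + 1)} [CommRing Λ] {G : EtModW.Mod Λ X}

lemma exists_shrink {k : Type u} [Field k] [IsAlgClosed k] (g : X ⟶ Spec (.of k)) [LocallyOfFiniteType g]
    (hG : ∀ x : X, ¬ IsClosed {x} → IsZero ((stk Λ x).obj G)) {x : X} (hx : IsClosed {x}) {U : X.Etale}
    (t : (gpt x).fiber.obj U) (s : ToType (G.obj.obj (op U))) :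
    ∃ (V : X.Etale) (f : V ⟶ U) (t' : (gpt x).fiber.obj V), (gpt x).fiber.map f t' = t ∧
      (∀ t₂ : (gpt x).fiber.obj V, t₂ = t') ∧
      (∀ x' ≠ x, ∀ t₂ : (gpt x').fiber.obj V, germ G t₂ (G.obj.map f.op s) = 0) := by
  have hUe : Etale U.hom := U.prop
  -- the bad set
  let Z : Set U.left := supp G s ∪ U.hom ⁻¹' {x}
  have hZc : IsClosed Z := (isClosed_supp s).union (hx.preimage U.hom.continuous)
  have hZp : ∀ z ∈ Z, IsClosed ({z} : Set U.left) := by
    rintro z (⟨x', t', rfl, hne⟩ | hz)
    · apply isClosed_singleton_of_hom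
      rw [hom_pt]
      by_contra h
      apply hne
      have := ModuleCat.subsingleton_of_isZero (hG x' h)
      exact Subsingleton.elim _ _
    · apply isClosed_singleton_of_hom
      rwa [show U.hom z = x from hz]
  obtain ⟨W, hWa, hW, _⟩ := exists_isAffineOpen_mem_and_subset (x := pt t) (U := ⊤) trivial
  have hlt : LocallyOfFiniteType (U.hom ≫ g) := inferInstance
  have hNl : IsLocallyNoetherian U.left := LocallyOfFiniteType.isLocallyNoetherian (U.hom ≫ g)
  have hN : IsNoetherianRing Γ(U.left, W) := IsLocallyNoetherian.component_noetherian ⟨W, hWa⟩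
  have hNs : NoetherianSpace W := noetherianSpace_of_isAffineOpen W hWa
  have hfin : (W.ι ⁻¹' Z).Finite := by
    refine finite_of_closed_points (hZc.preimage W.ι.continuous) (fun z hz => ?_)
    have h1 := (hZp (W.ι z) hz).preimage W.ι.continuous
    convert h1 using 1
    ext y
    exact (W.ι.isOpenEmbedding.injective.eq_iff (a := y) (b := z)).symm
  -- the bad points in `W`
  let B : Set U.left := (W.ι '' (W.ι ⁻¹' Z)) \ {pt t}
  have hBf : B.Finite := (hfin.image _).subset Set.sdiff_subset
  have hBc : IsClosed B := by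
    have : B = ⋃ b ∈ B, {b} := by simp
    rw [this]
    refine hBf.isClosed_biUnion (fun b hb => ?_)
    obtain ⟨⟨b', hb', rfl⟩, _⟩ := hb
    exact hZp _ hb'
  let V : U.left.Opens := W ⊓ ⟨Bᶜ, hBc.isOpen_compl⟩
  have hV : pt t ∈ V := ⟨hW, fun h => h.2 rfl⟩
  have hVB : ∀ v ∈ V, v ∈ Z → v = pt t := by
    intro v hv hvZ
    by_contra h
    exact hv.2 ⟨⟨⟨v, hv.1⟩, hvZ, rfl⟩, h⟩
  obtain ⟨t', ht'⟩ := exists_lift_open V t hV
  refine ⟨openEt U V, openι U V, t', ht', ?_, ?_⟩
  · intro t₂
    have h1 : pt ((gpt x).fiber.map (openι U V) t₂) = pt t := by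
      apply hVB _ (pt_openι_mem V t₂)
      exact Or.inr (hom_pt _)
    have h2 : pt t₂ = pt t' := by
      apply Subtype.ext
      have h3 : pt ((gpt x).fiber.map (openι U V) t') = pt t := congrArg pt ht'
      exact h1.trans h3.symm
    refine eq_of_pt_eq g h2 (isClosed_singleton_of_hom ?_)
    rw [hom_pt]
    exact hx
  · intro x' hx' t₂
    by_contra hne
    have h0 : germ G t₂ (G.obj.map (openι U V).op s) = germ G ((gpt x').fiber.map (openι U V) t₂) s :=
      germ_map _ _ _
    have h1 : pt ((gpt x').fiber.map (openι U V) t₂) = pt t := by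
      apply hVB _ (pt_openι_mem V t₂)
      exact Or.inl ⟨x', _, rfl, fun h => hne (h0.trans h)⟩
    apply hx'
    rw [← hom_pt t, ← h1]
    exact (hom_pt _).symm

end shrink

section glue

variable {Λ : Type (u + 1)} [CommRing Λ] {G : EtModW.Mod Λ X}

/-- Gluing sections whose germs agree. -/
lemma exists_glue {ι : Type*} {U : ι → X.Etale} {W : X.Etale} (f : ∀ i, U i ⟶ W)
    (hcov : ∀ (x : X) (t : (gpt x).fiber.obj W), ∃ (i : ι) (t' : (gpt x).fiber.obj (U i)),
      (gpt x).fiber.map (f i) t' = t)
    (s : ∀ i, ToType (G.obj.obj (op (U i))))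
    (hs : ∀ (i j : ι) (x : X) (t : (gpt x).fiber.obj (U i)) (t' : (gpt x).fiber.obj (U j)),
      (gpt x).fiber.map (f i) t = (gpt x).fiber.map (f j) t' → germ G t (s i) = germ G t' (s j)) :
    ∃ a : ToType (G.obj.obj (op W)), ∀ i, G.obj.map (f i).op a = s i := by
  have hsh : Presieve.IsSheaf (Scheme.smallEtaleTopology X) (G.obj ⋙ forget _) :=
    (isSheaf_iff_isSheaf_of_type _ _).1
      ((sheafCompose (Scheme.smallEtaleTopology X) (forget (ModuleCat.{u + 1} Λ))).obj G).property
  have hmem : Sieve.ofArrows U f ∈ Scheme.smallEtaleTopology X W := by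
    refine mem_of_gpt _ (fun x t => ?_)
    obtain ⟨i, t', ht'⟩ := hcov x t
    exact ⟨U i, f i, Sieve.ofArrows_mk _ _ i, t', ht'⟩
  have h1 := (Presieve.isSheafFor_iff_generate (P := G.obj ⋙ forget _) (Presieve.ofArrows U f)).2 (hsh _ hmem)
  rw [Presieve.isSheafFor_arrows_iff] at h1
  obtain ⟨a, ha, _⟩ := h1 (fun i => s i) (by
    intro i j Z gi gj hij
    refine section_ext (fun x t => ?_)
    have e1 := germ_map gi t (s i)
    have e2 := germ_map gj t (s j)
    refine e1.trans (Eq.trans (hs i j x _ _ ?_) e2.symm)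
    have e3 := (gpt x).fiber.map_comp gi (f i)
    have e4 := (gpt x).fiber.map_comp gj (f j)
    rw [hij, e4] at e3
    exact (congrArg (fun z => z t) e3).symm)
  exact ⟨a, ha⟩

end glue

section main

variable {Λ : Type (u + 1)} [CommRing Λ] {G : EtModW.Mod Λ X}

lemma fiber_top_eq {x : X} (t t' : (gpt x).fiber.obj (EtCoh.top X)) : t = t' :=
  Over.mkIdTerminal.hom_ext _ _

/-- The open complement of a closed point, as an object of the small etale site. -/
noncomputable def compl (x : X) (hx : IsClosed {x}) : X.Etale :=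
  openEt (EtCoh.top X) (⟨{x}ᶜ, hx.isOpen_compl⟩ : X.Opens)

/-- **Skyscraper lemma**: for a sheaf `G` whose stalks at the non-closed points vanish, every element of the stalk
at a closed point `x` is the germ of a global section whose other germs vanish. -/
theorem exists_section {k : Type u} [Field k] [IsAlgClosed k] (g : X ⟶ Spec (.of k)) [LocallyOfFiniteType g]
    (hG : ∀ x : X, ¬ IsClosed {x} → IsZero ((stk Λ x).obj G)) {x : X} (hx : IsClosed {x})
    (p : ToType ((stk Λ x).obj G)) :
    ∃ s : ToType (G.obj.obj (op (EtCoh.top X))),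
      (∀ t : (gpt x).fiber.obj (EtCoh.top X), germ G t s = p) ∧
      (∀ x' ≠ x, ∀ t : (gpt x').fiber.obj (EtCoh.top X), germ G t s = 0) := by
  obtain ⟨U, t₀, s₀, rfl⟩ := exists_germ_eq p
  obtain ⟨V, f, t', ht', hV, hV'⟩ := exists_shrink g hG hx t₀ s₀
  let O : X.Opens := ⟨{x}ᶜ, hx.isOpen_compl⟩
  let a : V ⟶ EtCoh.top X := (EtCore.topIsTerminal X).from V
  let b : openEt (EtCoh.top X) O ⟶ EtCoh.top X := openι (EtCoh.top X) O
  have hb : ∀ (x' : X) (t : (gpt x').fiber.obj (openEt (EtCoh.top X) O)), x' ≠ x := by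
    rintro x' t rfl
    exact pt_openι_mem (U := EtCoh.top X) O t (hom_pt (U := EtCoh.top X) ((gpt x').fiber.map b t))
  let Y : Bool → X.Etale := fun i => Bool.rec (openEt (EtCoh.top X) O) V i
  let F : ∀ i, Y i ⟶ EtCoh.top X := fun i => match i with
    | true => a
    | false => b
  let S : ∀ i, ToType (G.obj.obj (op (Y i))) := fun i => match i with
    | true => G.obj.map f.op s₀
    | false => 0
  obtain ⟨s, hs⟩ := exists_glue (G := G) F (by
      intro x' t
      by_cases hx' : x' = x
      · subst hx'
        exact ⟨true, t', fiber_top_eq _ _⟩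
      · obtain ⟨t₂, ht₂⟩ := exists_lift_open (U := EtCoh.top X) O t (by
          change ¬ (pt t = x)
          rwa [show pt t = x' from hom_pt t])
        exact ⟨false, t₂, ht₂⟩) S (by
      rintro (_ | _) (_ | _) x' t t₂ h
      · exact (germ_zero _).trans (germ_zero _).symm
      · exact (germ_zero _).trans (hV' x' (hb x' t) t₂).symm
      · exact (hV' x' (hb x' t₂) t).trans (germ_zero _).symm
      · by_cases hx' : x' = x
        · subst hx'
          rw [hV t, hV t₂]
        · exact (hV' x' hx' t).trans (hV' x' hx' t₂).symm)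
  refine ⟨s, ?_, ?_⟩
  · intro t
    have e1 : germ G t' (G.obj.map a.op s) = germ G ((gpt x).fiber.map a t') s := germ_map _ _ _
    have e2 : G.obj.map a.op s = G.obj.map f.op s₀ := hs true
    have e3 : germ G t' (G.obj.map f.op s₀) = germ G ((gpt x).fiber.map f t') s₀ := germ_map _ _ _
    rw [fiber_top_eq t ((gpt x).fiber.map a t'), ← e1, e2, e3, ht']
  · intro x' hx' t
    obtain ⟨t₂, ht₂⟩ := exists_lift_open (U := EtCoh.top X) O t (by
          change ¬ (pt t = x)
          rwa [show pt t = x' from hom_pt t])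
    have e1 : germ G t₂ (G.obj.map b.op s) = germ G ((gpt x').fiber.map b t₂) s := germ_map _ _ _
    have e2 : G.obj.map b.op s = 0 := hs false
    rw [← ht₂]
    refine e1.symm.trans ?_
    rw [e2]
    exact germ_zero _

/-- A sheaf with vanishing stalks at the non-closed points and no nonzero global section is zero. -/
theorem isZero_of_closed_points {k : Type u} [Field k] [IsAlgClosed k] (g : X ⟶ Spec (.of k))
    [LocallyOfFiniteType g] (hG : ∀ x : X, ¬ IsClosed {x} → IsZero ((stk Λ x).obj G))
    (h0 : IsZero (G.obj.obj (op (EtCoh.top X)))) : IsZero G := by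
  have hst : ∀ x : X, IsZero ((stk Λ x).obj G) := fun x => by
    by_cases hx : IsClosed {x}
    · have : Subsingleton ((stk Λ x).obj G) := ⟨fun p q => by
        obtain ⟨s, hs, _⟩ := exists_section g hG hx p
        obtain ⟨s', hs', _⟩ := exists_section g hG hx q
        obtain ⟨t, _⟩ := exists_pt (U := EtCoh.top X) (x := x) x rfl
        have := ModuleCat.subsingleton_of_isZero h0
        rw [← hs t, ← hs' t, Subsingleton.elim s s']⟩
      exact ModuleCat.isZero_of_subsingleton _
    · exact hG x hx
  have h1 : IsIso (0 : G ⟶ G) := by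
    rw [(stk_jointly Λ (X := X)).isIso_iff]
    intro x
    rw [Functor.map_zero]
    exact ⟨0, (hst x).eq_of_src _ _, (hst x).eq_of_src _ _⟩
  rw [IsZero.iff_id_eq_zero, ← cancel_epi (0 : G ⟶ G)]
  simp

end main

end Groth.Agent.Sga4h.BidGlobSky
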