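import Groth.Agent.Sga4h.BidGlobDual
import Groth.Agent.Sga4h.Refl
import Mathlib.Analysis.Fourier.FiniteAbelian.PontryaginDuality
import Mathlib.Analysis.SpecialFunctions.Complex.CircleAddChar

/-!
# Global duality and biduality

Abstract part of the last step of the proof of biduality on `(ℙ¹)^d`.

* `exists_hom_ne_zero`, `card_hom_le`: duality of abelian groups killed by `n` with values in `ZMod n`.
* `bijective_ev`: for an object `Z` with `SheafDual n tr` (duality `Ext^q(F, Z) = Hom(Ext^i(Z, F), ZMod n)`), reflexive for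
  the duality `A : DualData T`, a bounded complex `K` with bounded dual and finite groups `Hom(Z, K[i])`: the
  evaluation `A.ev K : K ⟶ A.D (A.D K)` induces bijections on `Hom(Z, -[i])`.
* `eq_zero_of_bijective`: then `Hom(Z, cone[i]) = 0`.
-/

set_option autoImplicit false
universe w w' v u t

open CategoryTheory CategoryTheory.Limits Pretriangulated
open Groth.Agent.Sga4B.DualFT Groth.Agent.Sga4h.BidGlobDual

namespace Groth.Agent.Sga4h.BidGlobTri

section Groups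

lemma exists_hom_ne_zero {n : ℕ} (hn : n ≠ 0) {G : Type u} [AddCommGroup G] (hG : ∀ g : G, n • g = 0) {x : G}
    (hx : x ≠ 0) : ∃ β : G →+ ZMod n, β x ≠ 0 := by
  obtain ⟨k, hk⟩ : addOrderOf x ∣ n := addOrderOf_dvd_of_nsmul_eq_zero (hG x)
  have hm : 1 < addOrderOf x := by
    have h1 : addOrderOf x ≠ 1 := fun h => hx (AddMonoid.addOrderOf_eq_one_iff.1 h)
    have h0 : addOrderOf x ≠ 0 := fun h => hn (by rw [hk, h, zero_mul])
    omega
  have hk0 : 0 < k := Nat.pos_of_ne_zero (fun h => hn (by rw [hk, h, mul_zero]))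
  obtain ⟨γ, hγ⟩ := (injOn_zmod.{u} n hn).exists_extension (AddMonoidHom.mulLeft (addOrderOf x : ℤ))
    (zmultiplesHom G x) (fun z hz => by
      have h1 : (addOrderOf x : ℤ) ∣ z := addOrderOf_dvd_iff_zsmul_eq_zero.2 hz
      obtain ⟨y, rfl⟩ := h1
      exact ⟨y, rfl⟩) hG (zmultiplesHom (ZMod n) (k : ZMod n)) (fun z => by
      change ((addOrderOf x : ℤ) * z) • (k : ZMod n) = 0
      rw [mul_comm, mul_smul]
      have : ((addOrderOf x : ℤ) • (k : ZMod n)) = 0 := by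
        rw [zsmul_eq_mul]
        push_cast
        rw [← Nat.cast_mul, ← hk]
        exact ZMod.natCast_self n
      rw [this, smul_zero])
  refine ⟨γ, ?_⟩
  have h1 := hγ 1
  have h2 : (zmultiplesHom G x) 1 = x := by simp
  rw [h2] at h1
  rw [h1]
  have h3 : (zmultiplesHom (ZMod n) (k : ZMod n)) 1 = (k : ZMod n) := by simp
  rw [h3, Ne, ZMod.natCast_eq_zero_iff]
  intro h4
  have := Nat.le_of_dvd hk0 h4
  rw [hk] at this
  nlinarith

lemma card_hom_le {n : ℕ} (hn : n ≠ 0) (G : Type u) [AddCommGroup G] [Finite G] :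
    Finite (G →+ ZMod n) ∧ Nat.card (G →+ ZMod n) ≤ Nat.card G := by
  have : NeZero n := ⟨hn⟩
  have := Fintype.ofFinite G
  have h1 : Function.Injective (fun β : G →+ ZMod n =>
      (ZMod.stdAddChar (N := n)).compAddMonoidHom β) := by
    intro β β' h
    ext g
    have := DFunLike.congr_fun h g
    exact ZMod.injective_stdAddChar this
  have hf : Finite (G →+ ZMod n) := Finite.of_injective _ h1
  refine ⟨hf, ?_⟩
  have h2 := Nat.card_le_card_of_injective _ h1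
  rw [Nat.card_eq_fintype_card (α := G), ← AddChar.card_eq]
  rwa [Nat.card_eq_fintype_card (α := AddChar G ℂ)] at h2

end Groups

section Main

open Abelian DerivedCategory
open Groth.Agent.Sga4h.Refl

variable {C : Type u} [Category.{v} C] [Abelian C] [HasDerivedCategory.{w'} C]
  {T : C ⥤ C ⥤ C} [T.Additive] [∀ X, (T.obj X).Additive]
  [∀ (K₁ K₂ : CochainComplex C ℤ), CochainComplex.HasMapBifunctor K₁ K₂ T]
  [∀ E : CochainComplex C ℤ, (T.map₂CochainComplex.flip.obj E).IsLeftAdjoint]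
  [∀ (J : Type), HasColimitsOfShape (Discrete J) C]
  [∀ (J : Type), (colim : (Discrete J ⥤ C) ⥤ C).PreservesMonomorphisms]
  (A : DualData T)

/-- A class killed by the evaluation map is killed by all maps to reflexive objects. -/
lemma comp_eq_zero_of_refl {M : CochainComplex C ℤ} (hM : A.Refl M) {Y : DerivedCategory C} (e : Y ≅ Q.obj M)
    (K : CochainComplex C ℤ) {W : DerivedCategory C} {i : ℤ} (x : W ⟶ (Q.obj K)⟦i⟧)
    (hx : x ≫ (Q.map (A.ev K))⟦i⟧' = 0) (f : Q.obj K ⟶ Y) : x ≫ f⟦i⟧' = 0 := by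
  obtain ⟨K', s, hs, g, hg⟩ := right_fac (f ≫ e.hom)
  have hsq : QuasiIso s := (isIso_Q_map_iff_quasiIso _ s).1 hs
  have hMq := hM.qis
  have h1 : (x ≫ (inv (Q.map s))⟦i⟧') ≫ (Q.map (A.ev K'))⟦i⟧' = 0 := by
    have h2 : Q.map s ≫ Q.map (A.ev K) = Q.map (A.ev K') ≫ Q.map (A.Dmap (A.Dmap s)) := by
      rw [← Q.map_comp, ← Q.map_comp, A.ev_naturality s]
    have h3 : inv (Q.map s) ≫ Q.map (A.ev K') = Q.map (A.ev K) ≫ inv (Q.map (A.Dmap (A.Dmap s))) := by
      rw [IsIso.inv_comp_eq, ← Category.assoc, h2, Category.assoc, IsIso.hom_inv_id, Category.comp_id]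
    rw [Category.assoc, ← Functor.map_comp, h3, Functor.map_comp, ← Category.assoc, hx, zero_comp]
  have h4 : (x ≫ (inv (Q.map s))⟦i⟧') ≫ (Q.map g)⟦i⟧' = 0 := by
    have h5 : Q.map g ≫ Q.map (A.ev M) = Q.map (A.ev K') ≫ Q.map (A.Dmap (A.Dmap g)) := by
      rw [← Q.map_comp, ← Q.map_comp, A.ev_naturality g]
    rw [← cancel_mono ((Q.map (A.ev M))⟦i⟧'), zero_comp, Category.assoc, ← Functor.map_comp, h5,
      Functor.map_comp, ← Category.assoc, h1, zero_comp]
  rw [← cancel_mono (e.hom⟦i⟧'), zero_comp, Category.assoc, ← Functor.map_comp, hg, Functor.map_comp,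
    ← Category.assoc, h4]

/-- The shifts of `Z[0]` are reflexive if `Z[0]` is. -/
lemma comp_eq_zero {Z : C} (hZ : A.Refl ((CochainComplex.singleFunctor C 0).obj Z))
    (K : CochainComplex C ℤ) {W : DerivedCategory C} {i : ℤ} (x : W ⟶ (Q.obj K)⟦i⟧)
    (hx : x ≫ (Q.map (A.ev K))⟦i⟧' = 0) {q : ℤ} (f : Q.obj K ⟶ ((singleFunctor C 0).obj Z)⟦q⟧) :
    x ≫ f⟦i⟧' = 0 :=
  comp_eq_zero_of_refl A ((A.tri_refl.shift_iff _ q).2 hZ)
    ((CategoryTheory.shiftFunctor _ q).mapIso ((singleFunctorIsoCompQ C 0).app Z) ≪≫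
      ((Q.commShiftIso q).app _).symm) K x hx f

variable [HasExt.{w} C] {Z : C} {N n : ℕ} {tr : Ext.{w} Z Z N →+ ZMod n}

/-- **Global biduality**: the evaluation map induces bijections `Hom(Z, K[i]) → Hom(Z, D D K [i])`. -/
theorem bijective_ev (hn : n ≠ 0) (B : SheafDual n tr)
    (hZ : A.Refl ((CochainComplex.singleFunctor C 0).obj Z))
    (hU : ∀ (M : CochainComplex C ℤ) (j : ℤ), Nonempty (((singleFunctor C 0).obj Z ⟶ (Q.obj (A.D M))⟦j⟧) ≃
      (Q.obj M ⟶ ((singleFunctor C 0).obj Z)⟦j⟧)))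
    (K : CochainComplex C ℤ) {a b a' b' : ℤ} (hKa : (Q.obj K).IsGE a) (hKb : (Q.obj K).IsLE b)
    (hDa : (Q.obj (A.D K)).IsGE a') (hDb : (Q.obj (A.D K)).IsLE b')
    (hfin : ∀ i : ℤ, Finite ((singleFunctor C 0).obj Z ⟶ (Q.obj K)⟦i⟧)) (i : ℤ) :
    Function.Bijective (fun x : (singleFunctor C 0).obj Z ⟶ (Q.obj K)⟦i⟧ => x ≫ (Q.map (A.ev K))⟦i⟧') := by
  have hPK := B.perf (injOn_zmod.{w} n hn) (injOn_zmod.{w'} n hn) (Q.obj K) a b
  have hPD := B.perf (injOn_zmod.{w} n hn) (injOn_zmod.{w'} n hn) (Q.obj (A.D K)) a' b'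
  -- injectivity
  have hinj : Function.Injective
      (fun x : (singleFunctor C 0).obj Z ⟶ (Q.obj K)⟦i⟧ => x ≫ (Q.map (A.ev K))⟦i⟧') := by
    intro x y hxy
    dsimp only at hxy
    rw [← sub_eq_zero, ← Preadditive.sub_comp] at hxy
    rw [← sub_eq_zero]
    by_contra hne
    obtain ⟨β, hβ⟩ := exists_hom_ne_zero hn (fun g => nsmul_eq_zero B.tors _ g) hne
    obtain ⟨g, hg⟩ := (hPK (N - i) i (by lia)).2 β
    apply hβ
    rw [← hg, psi_apply, ShiftedHom.comp, ← Category.assoc, comp_eq_zero A hZ K (x - y) hxy g, zero_comp,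
      map_zero]
  -- counting
  have hcount : ∀ (M : CochainComplex C ℤ) (_ : Perf (N := (N : ℤ)) (trD tr) (Q.obj M))
      (_ : ∀ i : ℤ, Finite ((singleFunctor C 0).obj Z ⟶ (Q.obj M)⟦i⟧)) (j : ℤ),
      Finite ((singleFunctor C 0).obj Z ⟶ (Q.obj (A.D M))⟦j⟧) ∧
      Nat.card ((singleFunctor C 0).obj Z ⟶ (Q.obj (A.D M))⟦j⟧) ≤
        Nat.card ((singleFunctor C 0).obj Z ⟶ (Q.obj M)⟦(N : ℤ) - j⟧) := by
    intro M hM hfinM j
    obtain ⟨e⟩ := hU M j
    let e' := e.trans (Equiv.ofBijective _ (hM j (N - j) (by lia)))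
    have := hfinM (N - j)
    obtain ⟨h1, h2⟩ := card_hom_le hn ((singleFunctor C 0).obj Z ⟶ (Q.obj M)⟦(N : ℤ) - j⟧)
    refine ⟨Finite.of_equiv _ e'.symm, ?_⟩
    rw [Nat.card_congr e']
    exact h2
  have hD := hcount K hPK hfin
  have hDD := hcount (A.D K) hPD (fun i => (hD i).1)
  have h1 := (hDD i).2.trans (hD (N - i)).2
  rw [show (N : ℤ) - (N - i) = i by lia] at h1
  have := (hDD i).1
  have := hfin i
  exact (Nat.bijective_iff_injective_and_card _).2 ⟨hinj,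
    le_antisymm (Nat.card_le_card_of_injective _ hinj) h1⟩

end Main

section Cone

variable {D : Type u} [Category.{v} D] [Preadditive D] [HasZeroObject D] [HasShift D ℤ]
  [∀ n : ℤ, (CategoryTheory.shiftFunctor D n).Additive] [Pretriangulated D]

/-- If the first map of a distinguished triangle induces bijections on `Hom(W, -[i])`, then
`Hom(W, T.obj₃[i]) = 0`. -/
lemma eq_zero_of_bijective {T : Triangle D} (hT : T ∈ distTriang D) (W : D)
    (h : ∀ i : ℤ, Function.Bijective (fun x : W ⟶ T.obj₁⟦i⟧ => x ≫ T.mor₁⟦i⟧')) (i : ℤ)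
    (x : W ⟶ T.obj₃⟦i⟧) : x = 0 := by
  have h1 : x ≫ T.mor₃⟦i⟧' = 0 := by
    let e₁ := (shiftFunctorAdd' D 1 i (1 + i) rfl).app T.obj₁
    let e₂ := (shiftFunctorAdd' D 1 i (1 + i) rfl).app T.obj₂
    have h2 : (x ≫ T.mor₃⟦i⟧' ≫ e₁.inv) ≫ T.mor₁⟦1 + i⟧' = 0 := by
      have h3 : e₁.inv ≫ T.mor₁⟦1 + i⟧' = T.mor₁⟦(1 : ℤ)⟧'⟦i⟧' ≫ e₂.inv :=
        ((shiftFunctorAdd' D 1 i (1 + i) rfl).inv.naturality T.mor₁).symm
      rw [Category.assoc, Category.assoc, h3, ← Category.assoc (T.mor₃⟦i⟧'), ← Functor.map_comp,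
        comp_distTriang_mor_zero₃₁ T hT, Functor.map_zero, zero_comp, comp_zero]
    have h4 : x ≫ T.mor₃⟦i⟧' ≫ e₁.inv = 0 := by
      apply (h (1 + i)).1
      dsimp only
      rw [h2, zero_comp]
    rw [← cancel_mono e₁.inv, Category.assoc, h4, zero_comp]
  obtain ⟨y, hy⟩ : ∃ y : W ⟶ T.obj₂⟦i⟧, y ≫ T.mor₂⟦i⟧' = x :=
    coyoneda_shift_exact (rot_of_distTriang T hT) i x h1
  obtain ⟨z, hz⟩ := (h i).2 y
  dsimp only at hz
  rw [← hy, ← hz, Category.assoc, ← Functor.map_comp, comp_distTriang_mor_zero₁₂ T hT, Functor.map_zero, comp_zero]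

variable {C : Type u} [Category.{v} C] [Abelian C] [HasDerivedCategory.{w'} C]

open DerivedCategory

/-- Maps from `Z[-i]` vanish if all maps from `Z[0]` to the shift vanish. -/
lemma eq_zero_of_single {Z : C} {Y : DerivedCategory C} {i : ℤ}
    (h : ∀ x : (singleFunctor C 0).obj Z ⟶ Y⟦i⟧, x = 0) (f : (singleFunctor C i).obj Z ⟶ Y) : f = 0 := by
  have h1 := h (((DerivedCategory.singleFunctors C).shiftIso i 0 i (by lia)).inv.app Z ≫ f⟦i⟧')
  have h2 : f⟦i⟧' = 0 := by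
    rw [← cancel_epi (((DerivedCategory.singleFunctors C).shiftIso i 0 i (by lia)).inv.app Z), h1, comp_zero]
  exact (CategoryTheory.shiftFunctor (DerivedCategory C) i).map_injective (by rw [h2, Functor.map_zero])

end Cone

end Groth.Agent.Sga4h.BidGlobTri
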