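import Groth.Agent.Sga4h.BidPt
import Groth.Agent.Sga4h.BidRefl
import Groth.Agent.Sga4h.BidInj
import Groth.Agent.Sga4h.BidGlobTri
import Mathlib.Algebra.Homology.DerivedCategory.KInjective
import Mathlib.Algebra.Homology.DerivedCategory.ShortExact
import Mathlib.CategoryTheory.Localization.Adjunction
import Mathlib.CategoryTheory.Localization.Opposite

/-!
# The duality functor `D_J` on the derived category

`A : DualData T`.
* `nonempty_selfEquiv` : `Hom_D(K, D E) ≃ Hom_D(E, D K)`;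
* `nonempty_shiftIso` : `D (K[m]) ≅ (D K)[-m]` in the derived category;
* `nonempty_homUnit` : if `I` is a unit for `T` and `I[0] ⟶ A.J` is a quasi-isomorphism, then
  `Hom(I, (D M)[j]) ≃ Hom(M, I[j])`.
-/

set_option autoImplicit false
set_option backward.defeqAttrib.useBackward true
set_option backward.isDefEq.respectTransparency false

universe w w' v₁ u₁

namespace Groth.Agent.Sga4h.BidGlobU

open CategoryTheory Category Limits HomologicalComplex CochainComplex Opposite ZeroObject Pretriangulated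
open Groth.Agent.Sga4h.DualCx Groth.Agent.Sga4h.DualSelf Groth.Agent.Sga4h.Refl

variable {C : Type u₁} [Category.{v₁} C] [Abelian C] [HasDerivedCategory.{w} C] {T : C ⥤ C ⥤ C} [T.Additive]
  [∀ X, (T.obj X).Additive]
  [∀ (K₁ K₂ : CochainComplex C ℤ), CochainComplex.HasMapBifunctor K₁ K₂ T]
  [∀ E : CochainComplex C ℤ, (T.map₂CochainComplex.flip.obj E).IsLeftAdjoint]
  [∀ (J : Type), HasColimitsOfShape (Discrete J) C]
  [∀ (J : Type), (colim : (Discrete J ⥤ C) ⥤ C).PreservesMonomorphisms]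

section

open Localization

variable (A : DualData T)

lemma isInvertedBy : (HomologicalComplex.quasiIso C (.up ℤ)).op.IsInvertedBy (A.F ⋙ DerivedCategory.Q) := by
  intro K L f hf
  have h : QuasiIso f.unop := hf
  have h2 : QuasiIso (A.Dmap f.unop) := A.quasiIso_Dmap _
  exact (DerivedCategory.isIso_Q_map_iff_quasiIso C (A.Dmap f.unop)).2 h2

/-- The duality functor on the derived category. -/
noncomputable def DD : (DerivedCategory C)ᵒᵖ ⥤ DerivedCategory C :=
  Localization.lift (A.F ⋙ DerivedCategory.Q) (isInvertedBy A) DerivedCategory.Q.op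

noncomputable def DDIso : DerivedCategory.Q.op ⋙ DD A ≅ A.F ⋙ DerivedCategory.Q :=
  Localization.fac (A.F ⋙ DerivedCategory.Q) (isInvertedBy A) DerivedCategory.Q.op

noncomputable def DDIso' : A.F.rightOp ⋙ DerivedCategory.Q.op ≅ DerivedCategory.Q ⋙ (DD A).rightOp :=
  NatIso.ofComponents (fun K => ((DDIso A).app (op K)).op) (fun {K L} f => by
    apply Quiver.Hom.unop_inj
    exact ((DDIso A).hom.naturality f.op).symm)

/-- Self-adjointness on the derived category. -/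
noncomputable def adjDD : (DD A).rightOp ⊣ DD A :=
  letI : CatCommSq A.F.rightOp DerivedCategory.Q DerivedCategory.Q.op (DD A).rightOp := ⟨DDIso' A⟩
  letI : CatCommSq A.F DerivedCategory.Q.op DerivedCategory.Q (DD A) := ⟨(DDIso A).symm⟩
  (selfAdj A.S A.J).localization DerivedCategory.Q (HomologicalComplex.quasiIso C (.up ℤ))
    DerivedCategory.Q.op (HomologicalComplex.quasiIso C (.up ℤ)).op (DD A).rightOp (DD A)

/-- `Hom_D(K, D E) ≃ Hom_D(E, D K)`. -/
theorem nonempty_selfEquiv (K E : CochainComplex C ℤ) :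
    Nonempty ((DerivedCategory.Q.obj K ⟶ DerivedCategory.Q.obj (A.D E)) ≃
      (DerivedCategory.Q.obj E ⟶ DerivedCategory.Q.obj (A.D K))) := by
  refine ⟨(Iso.homCongr (Iso.refl _) ((DDIso A).app (op E)).symm).trans
    (((adjDD A).homEquiv (DerivedCategory.Q.obj K) (op (DerivedCategory.Q.obj E))).symm.trans
      ((opEquiv _ _).trans (Iso.homCongr (Iso.refl _) ((DDIso A).app (op K)))))⟩

/-- `D K ≅ (D (K[1]))[1]`. -/
theorem nonempty_shiftIso₁ (K : CochainComplex C ℤ) :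
    Nonempty (DerivedCategory.Q.obj (A.D K) ≅ (DerivedCategory.Q.obj (A.D (K⟦(1 : ℤ)⟧)))⟦(1 : ℤ)⟧) := by
  obtain ⟨f, g, w, hS⟩ := DualData.exists_shortExact_cone (𝟙 K)
  have hS' := A.shortExact_dualSC hS
  have hT := DerivedCategory.triangleOfSES_distinguished hS'
  have hz : IsZero (DerivedCategory.Q.obj (A.D (mappingCone (𝟙 K)))) := by
    have h1 := A.acyclic_D (CohtopA.KInjRes2.acyclic_mappingCone_id K)
    have h2 : QuasiIso (0 : A.D (mappingCone (𝟙 K)) ⟶ 0) := by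
      rw [quasiIso_iff]
      intro i
      rw [quasiIsoAt_iff_exactAt' _ _ (ShortComplex.exact_of_isZero_X₂ _ ((eval C _ i).map_isZero (isZero_zero _)))]
      exact h1 i
    have h3 := (DerivedCategory.isIso_Q_map_iff_quasiIso C (0 : A.D (mappingCone (𝟙 K)) ⟶ 0)).2 h2
    exact (DerivedCategory.Q.map_isZero (isZero_zero _)).of_iso (asIso (DerivedCategory.Q.map
      (0 : A.D (mappingCone (𝟙 K)) ⟶ 0)))
  have h4 := (Triangle.isZero₂_iff_isIso₃ _ hT).1 hz
  exact ⟨asIso (DerivedCategory.triangleOfSES hS').mor₃⟩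

theorem nonempty_shiftIso (K : CochainComplex C ℤ) (m : ℤ) :
    Nonempty (DerivedCategory.Q.obj (A.D K) ≅ (DerivedCategory.Q.obj (A.D (K⟦m⟧)))⟦m⟧) := by
  have hstep : ∀ (m : ℤ), Nonempty ((DerivedCategory.Q.obj (A.D (K⟦m⟧)))⟦m⟧ ≅
      (DerivedCategory.Q.obj (A.D (K⟦m + 1⟧)))⟦m + 1⟧) := by
    intro m
    obtain ⟨e⟩ := nonempty_shiftIso₁ A (K⟦m⟧)
    have h1 : QuasiIso (A.Dmap ((shiftFunctorAdd (CochainComplex C ℤ) m 1).app K).hom) := A.quasiIso_Dmap _
    have e1 := @asIso _ _ _ _ _ ((DerivedCategory.isIso_Q_map_iff_quasiIso C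
      (A.Dmap ((shiftFunctorAdd (CochainComplex C ℤ) m 1).app K).hom)).2 h1)
    exact ⟨(CategoryTheory.shiftFunctor _ m).mapIso (e ≪≫ (CategoryTheory.shiftFunctor _ (1 : ℤ)).mapIso e1) ≪≫
      ((CategoryTheory.shiftFunctorAdd' (DerivedCategory C) 1 m (m + 1) (by lia)).app _).symm⟩
  induction m using Int.induction_on with
  | zero =>
    have h1 : QuasiIso (A.Dmap ((shiftFunctorZero (CochainComplex C ℤ) ℤ).app K).hom) := A.quasiIso_Dmap _
    have e1 := @asIso _ _ _ _ _ ((DerivedCategory.isIso_Q_map_iff_quasiIso C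
      (A.Dmap ((shiftFunctorZero (CochainComplex C ℤ) ℤ).app K).hom)).2 h1)
    exact ⟨e1 ≪≫ ((shiftFunctorZero (DerivedCategory C) ℤ).app _).symm⟩
  | succ i hi =>
    obtain ⟨e⟩ := hi
    obtain ⟨e'⟩ := hstep i
    exact ⟨e ≪≫ e'⟩
  | pred i hi =>
    obtain ⟨e⟩ := hi
    obtain ⟨e'⟩ := hstep (-(i : ℤ) - 1)
    rw [sub_add_cancel] at e'
    exact ⟨e ≪≫ e'.symm⟩

/-- If `I` is a unit for `T` and `I[0] ⟶ A.J` is a quasi-isomorphism, then `Hom(I, (D M)[j]) ≃ Hom(M, I[j])`. -/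
theorem nonempty_homUnit {I : C} (ρ : T.flip.obj I ≅ 𝟭 C)
    (j : (CochainComplex.singleFunctor C 0).obj I ⟶ A.J) (hj : QuasiIso j) (M : CochainComplex C ℤ) (i : ℤ) :
    Nonempty (((DerivedCategory.singleFunctor C 0).obj I ⟶ (DerivedCategory.Q.obj (A.D M))⟦i⟧) ≃
      (DerivedCategory.Q.obj M ⟶ ((DerivedCategory.singleFunctor C 0).obj I)⟦i⟧)) := by
  let I0 : CochainComplex C ℤ := (CochainComplex.singleFunctor C 0).obj I
  let S0 := (DerivedCategory.singleFunctor C 0).obj I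
  let eS : S0 ≅ DerivedCategory.Q.obj I0 := (DerivedCategory.singleFunctorIsoCompQ C 0).app I
  -- `(D (I0[-i])) ≅ S0[i]`
  obtain ⟨e1⟩ := nonempty_shiftIso A I0 (-i)
  have e2 : DerivedCategory.Q.obj (A.D (I0⟦-i⟧)) ≅ (DerivedCategory.Q.obj (A.D I0))⟦i⟧ :=
    ((shiftFunctorZero _ ℤ).app _).symm ≪≫ (CategoryTheory.shiftFunctorAdd' (DerivedCategory C) (-i) i 0 (by lia)).app _ ≪≫
      (CategoryTheory.shiftFunctor _ i).mapIso e1.symm
  have h3 : IsIso (BidPt.toDUnit ρ A) := BidPt.isIso_toDUnit ρ A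
  have e3 : DerivedCategory.Q.obj (A.D I0) ≅ S0 :=
    (DerivedCategory.Q.mapIso (asIso (BidPt.toDUnit ρ A))).symm ≪≫
      (@asIso _ _ _ _ (DerivedCategory.Q.map j) ((DerivedCategory.isIso_Q_map_iff_quasiIso C j).2 hj)).symm ≪≫
      eS.symm
  have e4 : DerivedCategory.Q.obj (A.D (I0⟦-i⟧)) ≅ S0⟦i⟧ := e2 ≪≫ (CategoryTheory.shiftFunctor _ i).mapIso e3
  have e5 : DerivedCategory.Q.obj (I0⟦-i⟧) ≅ S0⟦-i⟧ :=
    (DerivedCategory.Q.commShiftIso (-i)).app I0 ≪≫ (CategoryTheory.shiftFunctor _ (-i)).mapIso eS.symm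
  obtain ⟨h6⟩ := nonempty_selfEquiv A (I0⟦-i⟧) M
  have e7 : (S0⟦-i⟧)⟦i⟧ ≅ S0 :=
    ((CategoryTheory.shiftFunctorAdd' (DerivedCategory C) (-i) i 0 (by lia)).app _).symm ≪≫ (shiftFunctorZero _ ℤ).app _
  have h8 : (S0⟦-i⟧ ⟶ DerivedCategory.Q.obj (A.D M)) ≃ (S0 ⟶ (DerivedCategory.Q.obj (A.D M))⟦i⟧) :=
    (Functor.FullyFaithful.ofFullyFaithful (CategoryTheory.shiftFunctor (DerivedCategory C) i)).homEquiv.trans
      (Iso.homCongr e7 (Iso.refl _))
  exact ⟨h8.symm.trans ((Iso.homCongr e5.symm (Iso.refl _)).trans (h6.trans (Iso.homCongr (Iso.refl _) e4)))⟩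

end

section Bounds

omit [∀ (J : Type), HasColimitsOfShape (Discrete J) C]
  [∀ (J : Type), (colim : (Discrete J ⥤ C) ⥤ C).PreservesMonomorphisms] in
/-- The dual only depends on the dualizing complex up to quasi-isomorphism. -/
theorem nonempty_iso_of_qis (A B : DualData T) {I : CochainComplex C ℤ} (j : I ⟶ A.J) (hj : QuasiIso j)
    (j' : I ⟶ B.J) (hj' : QuasiIso j') (K : CochainComplex C ℤ) :
    Nonempty (DerivedCategory.Q.obj (A.D K) ≅ DerivedCategory.Q.obj (B.D K)) := by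
  have hA := A.kinj
  have hB := B.kinj
  let e : DerivedCategory.Q.obj A.J ≅ DerivedCategory.Q.obj B.J :=
    (@asIso _ _ _ _ (DerivedCategory.Q.map j) ((DerivedCategory.isIso_Q_map_iff_quasiIso C j).2 hj)).symm ≪≫
      (@asIso _ _ _ _ (DerivedCategory.Q.map j') ((DerivedCategory.isIso_Q_map_iff_quasiIso C j').2 hj'))
  obtain ⟨g, hg⟩ := (IsKInjective.Qh_map_bijective ((HomotopyCategory.quotient _ _).obj A.J) B.J).surjective
    ((DerivedCategory.quotientCompQhIso C).hom.app A.J ≫ e.hom ≫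
      (DerivedCategory.quotientCompQhIso C).inv.app B.J)
  obtain ⟨f, rfl⟩ := (HomotopyCategory.quotient _ _).map_surjective g
  have hf : DerivedCategory.Q.map f = e.hom := by
    rw [← cancel_mono ((DerivedCategory.quotientCompQhIso C).inv.app B.J),
      ← cancel_epi ((DerivedCategory.quotientCompQhIso C).hom.app A.J), ← hg]
    have := (DerivedCategory.quotientCompQhIso C).inv.naturality f
    simp only [Functor.comp_map] at this
    rw [this, Iso.hom_inv_id_app_assoc]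
  have : IsIso (DerivedCategory.Q.map f) := by
    rw [hf]
    infer_instance
  have hfq : QuasiIso f := by
    rwa [← DerivedCategory.isIso_Q_map_iff_quasiIso]
  have h1 : QuasiIso ((BidRefl.mapJ T f).app (op K)) := BidRefl.quasiIso_mapJ f K
  exact ⟨@asIso _ _ _ _ (DerivedCategory.Q.map ((BidRefl.mapJ T f).app (op K)))
    ((DerivedCategory.isIso_Q_map_iff_quasiIso C _).2 h1)⟩

variable [EnoughInjectives C] [HasExt.{w'} C]

open DerivedCategory

/-- Boundedness of the dual, if the dualizing object has finite injective dimension. -/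
theorem exists_bounds (A : DualData T) {I : C} (j : (CochainComplex.singleFunctor C 0).obj I ⟶ A.J)
    (hj : QuasiIso j) (N : ℕ) (hN : ∀ (F : C) (q : ℕ) (_ : N < q) (e : Abelian.Ext.{w'} F I q), e = 0)
    (K : CochainComplex C ℤ) {a b : ℤ} (ha : (Q.obj K).IsGE a) (hb : (Q.obj K).IsLE b) :
    ∃ a' b' : ℤ, (Q.obj (A.D K)).IsGE a' ∧ (Q.obj (A.D K)).IsLE b' := by
  have hd : HasInjectiveDimensionLT I (N + 1) := by
    refine (hasInjectiveDimensionLT_iff.{w'} I (N + 1)).2 fun i hi Y e => hN Y i (by lia) e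
  obtain ⟨J', ι, hι, hJ', h1, h2, h3⟩ := BidInj.exists_bounded I N
  let A' : DualData T := ⟨A.S, J', hJ', h3, A.flat⟩
  obtain ⟨e⟩ := nonempty_iso_of_qis A A' j hj ι hι K
  rw [isGE_Q_obj_iff] at ha
  rw [isLE_Q_obj_iff] at hb
  have h4 : (A'.D K).IsGE (-b) := BidRefl.isGE_D A' 0 b (-b) (by lia)
  have h5 : (A'.D K).IsLE (N - a) := BidRefl.isLE_D A' N a (N - a) (by lia)
  rw [← isGE_Q_obj_iff] at h4
  rw [← isLE_Q_obj_iff] at h5
  exact ⟨-b, N - a, (TStructure.t : Triangulated.TStructure (DerivedCategory C)).isGE_of_iso e.symm _,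
    (TStructure.t : Triangulated.TStructure (DerivedCategory C)).isLE_of_iso e.symm _⟩

variable {I : C} {N n : ℕ} {tr : Abelian.Ext.{w'} I I N →+ ZMod n}

open BidGlobDual BidGlobTri Groth.Agent.Sga4B.DualFT

/-- The package for the induction: boundedness and finiteness of the dual, and global biduality. -/
theorem package (hn : n ≠ 0) (B : SheafDual n tr) (A : DualData T) (ρ : T.flip.obj I ≅ 𝟭 C)
    (j : (CochainComplex.singleFunctor C 0).obj I ⟶ A.J) (hj : QuasiIso j)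
    (K : CochainComplex C ℤ) {a b : ℤ} (ha : (Q.obj K).IsGE a) (hb : (Q.obj K).IsLE b)
    (hfin : ∀ i : ℤ, Finite ((DerivedCategory.singleFunctor C 0).obj I ⟶ (Q.obj K)⟦i⟧)) :
    (∃ a' b' : ℤ, (Q.obj (A.D K)).IsGE a' ∧ (Q.obj (A.D K)).IsLE b') ∧
    (∀ i : ℤ, Finite ((DerivedCategory.singleFunctor C 0).obj I ⟶ (Q.obj (A.D K))⟦i⟧)) ∧
    ∀ i : ℤ, Function.Bijective (fun x : (DerivedCategory.singleFunctor C 0).obj I ⟶ (Q.obj K)⟦i⟧ =>
      x ≫ (Q.map (A.ev K))⟦i⟧') := by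
  have h1 := exists_bounds A j hj N (fun F q hq e => B.ext_eq_zero (injOn_zmod.{w'} n hn) hq F e) K ha hb
  refine ⟨h1, fun i => ?_, fun i => ?_⟩
  · obtain ⟨e⟩ := nonempty_homUnit A ρ j hj K i
    have hPK := B.perf (injOn_zmod.{w'} n hn) (injOn_zmod.{w} n hn) (Q.obj K) a b
    let e' := e.trans (Equiv.ofBijective _ (hPK i (N - i) (by lia)))
    have := hfin (N - i)
    obtain ⟨h1, -⟩ := card_hom_le hn ((DerivedCategory.singleFunctor C 0).obj I ⟶ (Q.obj K)⟦(N : ℤ) - i⟧)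
    exact Finite.of_equiv _ e'.symm
  · obtain ⟨a', b', ha', hb'⟩ := h1
    exact bijective_ev A hn B (BidPt.refl_unit' ρ A j hj) (nonempty_homUnit A ρ j hj) K ha hb ha' hb' hfin i

end Bounds

end Groth.Agent.Sga4h.BidGlobU
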