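import Groth.Agent.Sga4h.BidGlobPkg
import Groth.Agent.Sga4h.ModPointCons
import Groth.Agent.Sga4B.UnivHomeoEquiv
import Groth.Agent.Sga4h.BidGeoIt
import Groth.Agent.Sga4B.IterP1
import Mathlib.FieldTheory.PurelyInseparable.PerfectClosure

/-!
# `SheafDual` along a universal homeomorphism

* `isEquivalence_push`, `isEquivalence_pull`: direct and inverse image of sheaves of modules along an integral
  universally injective surjective morphism are equivalences.
* `exists_sheafDual`: `SheafDual` for the constant sheaf descends along such a morphism.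
-/

set_option autoImplicit false
universe u

open CategoryTheory CategoryTheory.Limits CategoryTheory.Abelian AlgebraicGeometry Opposite

attribute [local instance 5000] CategoryTheory.Abelian.toPreadditive
  CategoryTheory.Preadditive.preadditiveHasZeroMorphisms

namespace Groth.Agent.Sga4h.BidGlobUH

open Groth.Agent.Sga4h.BidGlobDual Groth.Agent.Sga4h.BidGlobPkg Groth.Agent.Etrest.ModAb

variable (Λ : Type (u + 1)) [CommRing Λ] {X Y : Scheme.{u}} (f : X ⟶ Y)

lemma hasLimitsOfShape (U : (X.Etale)ᵒᵖ) :
    HasLimitsOfShape (StructuredArrow U (EtCoh.bc f).op) (ModuleCat.{u + 1} Λ) := by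
  have : HasLimitsOfSize.{u + 1, u + 1} (ModuleCat.{u + 1} Λ) := inferInstance
  have : HasLimitsOfSize.{u, u + 1} (ModuleCat.{u + 1} Λ) := hasLimitsOfSizeOfUnivLE.{u + 1, u + 1} _
  exact this.has_limits_of_shape _

variable [IsIntegralHom f] [UniversallyInjective f] [Surjective f]

/-- Direct image of sheaves of modules along a universal homeomorphism is an equivalence. -/
theorem isEquivalence_push : (EtModW.push Λ f).IsEquivalence := by
  have := Sga4B.UnivHomeoEquiv.isDenseSubsite_bc f
  have := hasLimitsOfShape Λ f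
  exact (Functor.IsDenseSubsite.sheafEquiv Y.smallEtaleTopology X.smallEtaleTopology (EtCoh.bc f)
    (ModuleCat.{u + 1} Λ)).isEquivalence_inverse

theorem isEquivalence_pull : (EtModW.pull Λ f).IsEquivalence :=
  have := isEquivalence_push Λ f
  (pullPushAdj Λ f).isEquivalence_left_of_isEquivalence_right

include f in
/-- `SheafDual` descends along a universal homeomorphism. -/
theorem exists_sheafDual {N n : ℕ}
    {tr' : Ext.{u + 1} (cM Λ X) (cM Λ X) N →+ ZMod n} (A : SheafDual n tr') :
    ∃ tr : Ext.{u + 1} (cM Λ Y) (cM Λ Y) N →+ ZMod n, SheafDual n tr := by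
  have := isEquivalence_pull Λ f
  exact SheafDual.of_equivalence (Ψ := EtModW.pull Λ f) A (ModPoint.pullConst Λ f (ModuleCat.of Λ Λ))
    (ModPoint.pullConst Λ f (ModuleCat.of Λ Λ))

/-- The spectrum of a purely inseparable field extension is a universal homeomorphism. -/
theorem uh_of_isPurelyInseparable (F E : Type u) [Field F] [Field E] [Algebra F E]
    [IsPurelyInseparable F E] :
    IsIntegralHom (Spec.map (CommRingCat.ofHom (algebraMap F E))) ∧
      UniversallyInjective (Spec.map (CommRingCat.ofHom (algebraMap F E))) ∧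
      Surjective (Spec.map (CommRingCat.ofHom (algebraMap F E))) := by
  refine ⟨?_, ?_, ?_⟩
  · rw [IsIntegralHom.SpecMap_iff]
    exact algebraMap_isIntegral_iff.mpr inferInstance
  · refine ((tfae_universallyInjective (Spec.map (CommRingCat.ofHom (algebraMap F E)))).out 0 1).mpr ?_
    intro K _ a b hab
    obtain ⟨φ, rfl⟩ := Spec.map_surjective a
    obtain ⟨ψ, rfl⟩ := Spec.map_surjective b
    congr 1
    ext1
    refine IsPurelyInseparable.injective_comp_algebraMap F E K ?_
    simp only [← Spec.map_comp] at hab
    have := Spec.map_injective hab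
    exact congrArg CommRingCat.Hom.hom this
  · constructor
    intro y
    have : Nonempty (PrimeSpectrum E) := inferInstance
    obtain ⟨x⟩ := this
    exact ⟨x, Subsingleton.elim (α := PrimeSpectrum F) _ _⟩

/-- `SheafDual` descends from the algebraic closure of a separably closed field: iterated projective lines. -/
theorem exists_sheafDual_it (k : Type u) [Field k] [IsSepClosed k] (d N n : ℕ)
    (h : ∃ tr : Ext.{u + 1} (cM Λ (BidGeoIt.It (Spec (CommRingCat.of (AlgebraicClosure k))) d))
      (cM Λ (BidGeoIt.It (Spec (CommRingCat.of (AlgebraicClosure k))) d)) N →+ ZMod n, SheafDual n tr) :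
    ∃ tr : Ext.{u + 1} (cM Λ (BidGeoIt.It (Spec (CommRingCat.of k)) d))
      (cM Λ (BidGeoIt.It (Spec (CommRingCat.of k)) d)) N →+ ZMod n, SheafDual n tr := by
  obtain ⟨u1, u2, u3⟩ := uh_of_isPurelyInseparable k (AlgebraicClosure k)
  have sq := (BidGeoIt.isPullback_itMap
    (Spec.map (CommRingCat.ofHom (algebraMap k (AlgebraicClosure k)))) d).flip
  have w1 := MorphismProperty.of_isPullback (P := @IsIntegralHom) sq u1
  have w2 := MorphismProperty.of_isPullback (P := @UniversallyInjective) sq u2
  have w3 := MorphismProperty.of_isPullback (P := @Surjective) sq u3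
  obtain ⟨tr, A⟩ := h
  exact exists_sheafDual Λ (BidGeoIt.itMap
    (Spec.map (CommRingCat.ofHom (algebraMap k (AlgebraicClosure k)))) d) A

/-- The two constructions of iterated projective lines coincide. -/
theorem it_eq (S : Scheme.{u}) (d : ℕ) : BidGeoIt.It S d = Sga4B.IterP1.P S d := by
  induction d with
  | zero => rfl
  | succ d ih => exact congrArg (CohB1.ProjSpaceOver 1) ih

/-- The same for `IterP1.P`. -/
theorem exists_sheafDual_P (k : Type u) [Field k] [IsSepClosed k] (d N n : ℕ)
    (h : ∃ tr : Ext.{u + 1} (cM Λ (Sga4B.IterP1.P (Spec (CommRingCat.of (AlgebraicClosure k))) d))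
      (cM Λ (Sga4B.IterP1.P (Spec (CommRingCat.of (AlgebraicClosure k))) d)) N →+ ZMod n, SheafDual n tr) :
    ∃ tr : Ext.{u + 1} (cM Λ (BidGeoIt.It (Spec (CommRingCat.of k)) d))
      (cM Λ (BidGeoIt.It (Spec (CommRingCat.of k)) d)) N →+ ZMod n, SheafDual n tr := by
  refine exists_sheafDual_it Λ k d N n ?_
  rw [it_eq]
  exact h

end Groth.Agent.Sga4h.BidGlobUH
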