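import Groth.Agent.LoccohA.DzTrunc
import Mathlib.Algebra.Homology.DerivedCategory.TStructure
import Mathlib.Algebra.Homology.DerivedCategory.HomologySequence
import Mathlib.Algebra.Homology.DerivedCategory.FullyFaithful
import Mathlib.CategoryTheory.Triangulated.TStructure.TruncLEGT
import Mathlib.CategoryTheory.Triangulated.Yoneda

/-!
# Morphisms from an object of the heart and the lowest homology object

* `homEquivOfIsGE`: `Hom_D(A, Y⟦q⟧) ≃ Hom(A, H^q(Y))` if `Y ∈ D^{≥ q}`.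
* `finite_hom_homology`: if `Hom_D(A, Y⟦q⟧)` and `Hom_D(A, (τ_{<q} Y)⟦q+1⟧)` are finite, so is `Hom(A, H^q(Y))`.
* `isIso_homologyMap_of_bijective`: criterion for a map in `D^+` to be an isomorphism.
-/

set_option autoImplicit false

universe w v u

open CategoryTheory CategoryTheory.Limits Pretriangulated Category Opposite

namespace Groth.Agent.Sga4h.BidHom48

open DerivedCategory

variable {C : Type u} [Category.{v} C] [Abelian C] [HasDerivedCategory.{w} C]

/-- `Hom(A, Z) ≃ Hom(A, H⁰(Z))` for `Z ∈ D^{≥ 0}`. -/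
theorem nonempty_homEquiv₀ (A : C) (Z : DerivedCategory C) [Z.IsGE 0] :
    Nonempty (((singleFunctor C 0).obj A ⟶ Z) ≃ (A ⟶ (homologyFunctor C 0).obj Z)) := by
  let Z' := (TStructure.t.truncLE 0).obj Z
  have h1 : Z'.IsGE 0 := by
    change TStructure.t.IsGE _ _
    infer_instance
  have h2 : Z'.IsLE 0 := by
    change TStructure.t.IsLE _ _
    infer_instance
  obtain ⟨e⟩ := LoccohA.DzTrunc.nonempty_iso_single Z' 0
  have := LoccohA.DzTrunc.isIso_homology_truncLE Z 0 0 le_rfl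
  let e2 : (homologyFunctor C 0).obj Z' ≅ (homologyFunctor C 0).obj Z :=
    asIso ((homologyFunctor C 0).map ((TStructure.t.truncLEι 0).app Z))
  have hA : TStructure.t.IsLE ((singleFunctor C 0).obj A) 0 :=
    inferInstanceAs (DerivedCategory.IsLE ((singleFunctor C 0).obj A) 0)
  have hbij : Function.Bijective (fun f : (singleFunctor C 0).obj A ⟶ Z' =>
      f ≫ (TStructure.t.truncLEι 0).app Z) := by
    constructor
    · intro f g h
      exact TStructure.t.to_truncLE_obj_ext h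
    · intro f
      exact ⟨TStructure.t.liftTruncLE f 0, TStructure.t.liftTruncLE_ι f 0⟩
  exact ⟨(Equiv.ofBijective _ hbij).symm.trans
    ((Iso.homCongr (Iso.refl _) (e ≪≫ (singleFunctor C 0).mapIso e2)).trans
      (Functor.FullyFaithful.ofFullyFaithful (singleFunctor C 0)).homEquiv.symm)⟩

/-- `Hom_D(A, Y⟦q⟧) ≃ Hom(A, H^q(Y))` if `Y ∈ D^{≥ q}`. -/
theorem nonempty_homEquivOfIsGE (A : C) (Y : DerivedCategory C) (q : ℤ) [Y.IsGE q] :
    Nonempty (((singleFunctor C 0).obj A ⟶ Y⟦q⟧) ≃ (A ⟶ (homologyFunctor C q).obj Y)) := by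
  have h : (Y⟦q⟧).IsGE 0 := TStructure.t.isGE_shift Y q q 0 (by lia)
  obtain ⟨e⟩ := nonempty_homEquiv₀ A (Y⟦q⟧)
  have e2 : (homologyFunctor C 0).obj (Y⟦q⟧) ≅ (homologyFunctor C q).obj Y :=
    ((homologyFunctor C 0).shiftIso q 0 q (by lia)).app Y
  exact ⟨e.trans (Iso.homCongr (Iso.refl _) e2)⟩

/-- finiteness of the middle term of an exact sequence of abelian groups -/
theorem finite_of_exact {G H K : Type*} [AddCommGroup G] [AddCommGroup H] [AddCommGroup K] (f : G →+ H)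
    (g : H →+ K) (hfg : ∀ h, g h = 0 → ∃ x, f x = h) [Finite G] [Finite K] : Finite H := by
  have hk : Finite g.ker := by
    refine Finite.of_surjective (α := {x : G // g (f x) = 0}) (fun x => ⟨f x.1, x.2⟩) ?_
    rintro ⟨h, hh⟩
    obtain ⟨x, rfl⟩ := hfg h hh
    exact ⟨⟨x, hh⟩, rfl⟩
  have hq : Finite g.range := inferInstance
  have hq' : Finite (H ⧸ g.ker) :=
    Finite.of_equiv _ (QuotientAddGroup.quotientKerEquivRange g).symm.toEquiv
  exact Finite.of_equiv _ (AddSubgroup.addGroupEquivQuotientProdAddSubgroup (s := g.ker)).symm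

section Triangle

variable {D : Type*} [Category* D] [Preadditive D] [HasZeroObject D] [HasShift D ℤ]
  [∀ n : ℤ, (shiftFunctor D n).Additive] [Pretriangulated D]

/-- exactness of `Hom(W, Y⟦n⟧) → Hom(W, Z⟦n⟧) → Hom(W, X⟦n+1⟧)` -/
theorem exact₃ (T : Triangle D) (hT : T ∈ distTriang D) (W : D) (n : ℤ) (a : W ⟶ T.obj₃⟦n⟧)
    (ha : a ≫ T.mor₃⟦n⟧' ≫ (shiftFunctorAdd' D 1 n (n + 1) (by lia)).inv.app _ = 0) :
    ∃ b : W ⟶ T.obj₂⟦n⟧, b ≫ T.mor₂⟦n⟧' = a := by
  let F := preadditiveCoyoneda.obj (op W)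
  have h := F.homologySequence_exact₃ T hT n (n + 1) rfl
  rw [ShortComplex.ab_exact_iff] at h
  obtain ⟨b, hb⟩ := h a (by
    refine (Pretriangulated.preadditiveCoyoneda_homologySequenceδ_apply T n (n + 1) rfl a).trans ha)
  exact ⟨b, hb⟩

/-- exactness of `Hom(W, Z⟦n⟧) → Hom(W, X⟦n+1⟧) → Hom(W, Y⟦n+1⟧)`, the easy part -/
theorem comp₁ (T : Triangle D) (hT : T ∈ distTriang D) (W : D) (n : ℤ) (a : W ⟶ T.obj₃⟦n⟧) :
    (a ≫ T.mor₃⟦n⟧' ≫ (shiftFunctorAdd' D 1 n (n + 1) (by lia)).inv.app _) ≫ T.mor₁⟦n + 1⟧' = 0 := by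
  let F := preadditiveCoyoneda.obj (op W)
  have h := F.homologySequenceδ_comp T hT n (n + 1) rfl
  have h2 := ConcreteCategory.congr_hom h a
  rw [← Pretriangulated.preadditiveCoyoneda_homologySequenceδ_apply T n (n + 1) rfl (A := op W) a]
  exact h2

/-- Finiteness of `Hom(W, Z⟦n⟧)` for the third term of a distinguished triangle. -/
theorem finite_hom₃ (T : Triangle D) (hT : T ∈ distTriang D) (W : D) (n : ℤ)
    (h2 : Finite (W ⟶ T.obj₂⟦n⟧)) (h1 : Finite (W ⟶ T.obj₁⟦n + 1⟧)) : Finite (W ⟶ T.obj₃⟦n⟧) := by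
  let f : (W ⟶ T.obj₂⟦n⟧) →+ (W ⟶ T.obj₃⟦n⟧) :=
    { toFun := fun a => a ≫ T.mor₂⟦n⟧'
      map_zero' := zero_comp
      map_add' := fun a b => Preadditive.add_comp _ _ _ _ _ _ }
  let g : (W ⟶ T.obj₃⟦n⟧) →+ (W ⟶ T.obj₁⟦n + 1⟧) :=
    { toFun := fun a => a ≫ T.mor₃⟦n⟧' ≫ (shiftFunctorAdd' D 1 n (n + 1) (by lia)).inv.app _
      map_zero' := zero_comp
      map_add' := fun a b => Preadditive.add_comp _ _ _ _ _ _ }
  exact finite_of_exact f g fun a ha => exact₃ T hT W n a ha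

/-- Vanishing of `Hom(W, Z⟦n⟧)` for the third term of a distinguished triangle. -/
theorem hom₃_eq_zero (T : Triangle D) (hT : T ∈ distTriang D) (W : D)
    (h : ∀ n : ℤ, Function.Bijective (fun a : W ⟶ T.obj₁⟦n⟧ => a ≫ T.mor₁⟦n⟧')) (n : ℤ)
    (a : W ⟶ T.obj₃⟦n⟧) : a = 0 := by
  have h1 : a ≫ T.mor₃⟦n⟧' ≫ (shiftFunctorAdd' D 1 n (n + 1) (by lia)).inv.app _ = 0 :=
    (h (n + 1)).1 ((comp₁ T hT W n a).trans zero_comp.symm)
  obtain ⟨b, rfl⟩ := exact₃ T hT W n a h1
  obtain ⟨c, rfl⟩ := (h n).2 b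
  have h2 : T.mor₁⟦n⟧' ≫ T.mor₂⟦n⟧' = 0 := by
    rw [← Functor.map_comp, comp_distTriang_mor_zero₁₂ _ hT, Functor.map_zero]
  change (c ≫ T.mor₁⟦n⟧') ≫ T.mor₂⟦n⟧' = 0
  rw [Category.assoc, h2, comp_zero]

end Triangle

/-- If `Hom(A, Y⟦q⟧)` and `Hom(A, (τ_{≤ q-1} Y)⟦q+1⟧)` are finite, so is `Hom(A, H^q(Y))`. -/
theorem finite_hom_homology (A : C) (Y : DerivedCategory C) (q : ℤ)
    (h2 : Finite ((singleFunctor C 0).obj A ⟶ Y⟦q⟧))
    (h1 : Finite ((singleFunctor C 0).obj A ⟶ ((TStructure.t.truncLE (q - 1)).obj Y)⟦q + 1⟧)) :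
    Finite (A ⟶ (homologyFunctor C q).obj Y) := by
  have hT := TStructure.t.triangleLEGE_distinguished (q - 1) q (by lia) Y
  have h3 : Finite ((singleFunctor C 0).obj A ⟶ ((TStructure.t.truncGE q).obj Y)⟦q⟧) :=
    finite_hom₃ _ hT _ q h2 h1
  have hG : DerivedCategory.IsGE ((TStructure.t.truncGE q).obj Y) q := by
    change TStructure.t.IsGE _ _
    infer_instance
  obtain ⟨e⟩ := nonempty_homEquivOfIsGE A ((TStructure.t.truncGE q).obj Y) q
  have := LoccohA.DzTrunc.isIso_homology_truncGE Y q q le_rfl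
  let e2 : (homologyFunctor C q).obj Y ≅ (homologyFunctor C q).obj ((TStructure.t.truncGE q).obj Y) :=
    asIso ((homologyFunctor C q).map ((TStructure.t.truncGEπ q).app Y))
  exact Finite.of_equiv _ (e.trans (Iso.homCongr (Iso.refl _) e2.symm))

/-- A bounded below object is zero if its homology objects vanish inductively. -/
theorem isZero_of_induction (Z : DerivedCategory C) (a : ℤ) [Z.IsGE a]
    (h : ∀ q : ℤ, Z.IsGE q → IsZero ((homologyFunctor C q).obj Z)) (q : ℤ) :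
    IsZero ((homologyFunctor C q).obj Z) := by
  have key : ∀ n : ℕ, Z.IsGE (a + n) := by
    intro n
    induction n with
    | zero => simpa using ‹Z.IsGE a›
    | succ n ih =>
      rw [isGE_iff]
      intro i hi
      by_cases h1 : i < a + n
      · exact isZero_of_isGE Z (a + n) i h1
      · have : i = a + n := by push_cast at hi; lia
        rw [this]
        exact h _ ih
  by_cases hq : q < a
  · exact isZero_of_isGE Z a q hq
  · have := key (q - a).toNat
    refine h q ?_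
    have h2 : a + ((q - a).toNat : ℤ) = q := by lia
    rwa [h2] at this

/-- A criterion for a morphism in `D^+(C)` to be an isomorphism. -/
theorem isIso_of_functors {ι : Type*} {C' : ι → Type*} [∀ i, Category* (C' i)] [∀ i, Abelian (C' i)]
    (Φ : ∀ i, C ⥤ C' i) [∀ i, PreservesFiniteLimits (Φ i)] [∀ i, PreservesFiniteColimits (Φ i)]
    (A : C) (hcons : ∀ N : C, (∀ i, IsZero ((Φ i).obj N)) → (∀ f : A ⟶ N, f = 0) → IsZero N)
    {X Y : DerivedCategory C} (φ : X ⟶ Y) (a : ℤ) [X.IsGE a] [Y.IsGE a]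
    (h1 : ∀ i q, IsIso ((Φ i).map ((homologyFunctor C q).map φ)))
    (h2 : ∀ n : ℤ, Function.Bijective
      (fun f : (singleFunctor C 0).obj A ⟶ X⟦n⟧ => f ≫ φ⟦n⟧')) : IsIso φ := by
  obtain ⟨Z, g, h, hT⟩ := distinguished_cocone_triangle φ
  set T := Triangle.mk φ g h with hTdef
  have hadd : ∀ i, (Φ i).Additive := fun i => by
    have := preservesBinaryBiproducts_of_preservesBinaryProducts (Φ i)
    exact Functor.additive_of_preservesBinaryBiproducts _
  have hzero : ∀ (q : ℤ) (i : ι), IsZero ((Φ i).obj ((homologyFunctor C q).obj Z)) := by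
    intro q i
    have hex := HomologySequence.exact₃ T hT q (q + 1) rfl
    have hex' := hex.map (Φ i)
    have e1 : (Φ i).map ((homologyFunctor C q).map T.mor₂) = 0 := by
      have h3 := (HomologySequence.exact₂ T hT q).map (Φ i)
      have : IsIso ((Φ i).map ((homologyFunctor C q).map T.mor₁)) := h1 i q
      have h4 : (Φ i).map ((homologyFunctor C q).map T.mor₁) ≫
          (Φ i).map ((homologyFunctor C q).map T.mor₂) = 0 := by
        rw [← Functor.map_comp, ← Functor.map_comp, comp_distTriang_mor_zero₁₂ _ hT, Functor.map_zero,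
          Functor.map_zero]
      rw [← cancel_epi ((Φ i).map ((homologyFunctor C q).map T.mor₁)), h4, comp_zero]
    have e2 : (Φ i).map (HomologySequence.δ T q (q + 1) rfl) = 0 := by
      have : IsIso ((Φ i).map ((homologyFunctor C (q + 1)).map T.mor₁)) := h1 i (q + 1)
      have h4 : (Φ i).map (HomologySequence.δ T q (q + 1) rfl) ≫
          (Φ i).map ((homologyFunctor C (q + 1)).map T.mor₁) = 0 := by
        rw [← Functor.map_comp, HomologySequence.δ_comp T hT q (q + 1) rfl, Functor.map_zero]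
      rw [← cancel_mono ((Φ i).map ((homologyFunctor C (q + 1)).map T.mor₁)), h4, zero_comp]
    exact hex'.isZero_of_both_zeros e1 e2
  have hZ : Z.IsGE (a - 1) := by
    rw [isGE_iff]
    intro i hi
    have hex := HomologySequence.exact₃ T hT i (i + 1) rfl
    refine hex.isZero_of_both_zeros ?_ ?_
    · exact (isZero_of_isGE Y a i (by lia)).eq_of_src _ _
    · exact (isZero_of_isGE X a (i + 1) (by lia)).eq_of_tgt _ _
  have hZ0 : ∀ q, IsZero ((homologyFunctor C q).obj Z) := by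
    refine isZero_of_induction Z (a - 1) fun q hq => ?_
    refine hcons _ (hzero q) fun f => ?_
    obtain ⟨e⟩ := nonempty_homEquivOfIsGE A Z q
    have hs : Subsingleton ((singleFunctor C 0).obj A ⟶ Z⟦q⟧) :=
      ⟨fun x y => (hom₃_eq_zero T hT _ h2 q x).trans (hom₃_eq_zero T hT _ h2 q y).symm⟩
    have := e.symm.subsingleton
    exact Subsingleton.elim _ _
  have hZz : IsZero Z := by
    have h0 : IsIso (0 : Z ⟶ Z) := by
      rw [isIso_iff]
      intro n
      exact ⟨0, (hZ0 n).eq_of_src _ _, (hZ0 n).eq_of_src _ _⟩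
    rw [IsZero.iff_id_eq_zero, ← cancel_epi (0 : Z ⟶ Z)]
    simp
  exact (Triangle.isZero₃_iff_isIso₁ T hT).1 hZz

end Groth.Agent.Sga4h.BidHom48
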