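import Groth.Prelude.Def_EtModD2
import Groth.Agent.Sga4h.BidHom48
import Groth.Agent.Sga4h.BidConMod48
import Groth.Agent.Etrest.ModCons
import Groth.Agent.Sga4h.Refl

/-!
# The induction step for local biduality

`X` of finite type over a separably closed field, `g i : X' i ⟶ X` a finite family of morphisms covering the
non-closed points.

* `isConstructible_HD`: `Y ∈ D^+` has constructible cohomology sheaves if their inverse images are constructible and
  the global cohomology of `Y` and of the objects of `D^b_c` is finite.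
* `isIso_of_pulls`: a morphism in `D^+` is an isomorphism if it is so after pulling back the cohomology sheaves
  along the `g i` and on global cohomology.
* `isDbc_and_refl`: the induction step.
-/

set_option autoImplicit false
universe u

open CategoryTheory CategoryTheory.Limits AlgebraicGeometry Opposite TopologicalSpace

namespace Groth.Agent.Sga4h.BidInd48

attribute [local instance] HasDerivedCategory.standard

open Groth.Agent.Etbase Groth.Agent.Etcore

variable {Λ : Type (u + 1)} [CommRing Λ] {X : Scheme.{u}}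

/-- If the inverse image of `F` along `f` vanishes, the germs of `F` above the image of `f` vanish. -/
theorem van_of_isZero_pull {Y : Scheme.{u}} (f : Y ⟶ X) (F : EtModW.Mod Λ X)
    (h : IsZero ((EtModW.pull Λ f).obj F)) (U : X.Etale) (s : EtModW.sect Λ F U) (u : U.left)
    (hu : U.hom u ∈ Set.range f) : LVan.Van F s u := by
  obtain ⟨y, hy⟩ := hu
  obtain ⟨z, hz1, hz2⟩ := Scheme.Pullback.exists_preimage_pullback (f := U.hom) (g := f) u y hy.symm
  have hs : LPull.eta f F U s = 0 := by
    have h1 : (𝟙 ((EtModW.pull Λ f).obj F) : _ ⟶ _) = 0 := (IsZero.iff_id_eq_zero _).1 h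
    have h2 := congrArg (fun (α : (EtModW.pull Λ f).obj F ⟶ (EtModW.pull Λ f).obj F) =>
      α.hom.app (op ((EtCoh.bc f).obj U)) (LPull.eta f F U s)) h1
    exact h2
  let z' : ((EtCoh.bc f).obj U).left := z
  have h3 : LVan.Van ((EtModW.pull Λ f).obj F) (LPull.eta f F U s) z' := LVan.van_zero_of_eq hs z'
  have h5 := (LPull.van_eta_iff f F s z').1 h3
  have h4 : EtpbcA.ConsPull.fstBc f U z' = u := hz1
  rwa [h4] at h5

/-- A sheaf of modules all of whose sections vanish is zero. -/
theorem isZero_of_sect (F : EtModW.Mod Λ X) (h : ∀ (U : X.Etale) (s : EtModW.sect Λ F U), s = 0) : IsZero F := by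
  rw [IsZero.iff_id_eq_zero]
  ext U s
  exact (h _ _).trans (h _ _).symm

/-- A sheaf whose germs at the non-closed points vanish and without global sections is zero, if the residue
fields of the closed points are separably closed. -/
theorem isZero_of_closed_points [IsLocallyNoetherian X]
    (hsep : ∀ x : X, IsClosed {x} → IsSepClosed (X.residueField x)) (F : EtModW.Mod Λ X)
    (hF : ∀ (U : X.Etale) (s : EtModW.sect Λ F U) (u : U.left), ¬ IsClosed {U.hom u} → LVan.Van F s u)
    (h0 : ∀ s : EtModW.sect Λ F (EtCoh.top X), s = 0) : IsZero F := by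
  refine isZero_of_sect F fun V t => LVan.eq_zero_of_van t fun v => ?_
  by_cases hc : IsClosed {V.hom v}
  · obtain ⟨m, -, hm⟩ := BidConSky48.exists_section (LVan.ab F) hF V v hc (hsep _ hc) (LVan.toAb F t)
    have hm0 : m = 0 := h0 m
    have h := hm ((EtCore.topIsTerminal X).from V)
    rw [hm0, map_zero, sub_zero] at h
    exact h
  · exact hF V t v hc

/-- Criterion for vanishing in terms of inverse images and global sections. -/
theorem isZero_of_pulls {k : Type u} [Field k] [IsSepClosed k] (a : X ⟶ Spec (.of k))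
    [LocallyOfFiniteType a] [QuasiCompact a] {ι : Type*} (X' : ι → Scheme.{u}) (g : ∀ i, X' i ⟶ X)
    (hcov : ∀ x : X, (∀ i, x ∉ Set.range (g i)) → IsClosed {x}) (F : EtModW.Mod Λ X)
    (hF : ∀ i, IsZero ((EtModW.pull Λ (g i)).obj F)) (h0 : ∀ f : EtModW.constMod Λ X Λ ⟶ F, f = 0) :
    IsZero F := by
  have hN : IsNoetherian X := CurvesA.ClosedPtSep.isNoetherian a
  refine isZero_of_closed_points (fun x hx => CurvesA.ClosedPtSep.isSepClosed_residueField a x hx) F
    (fun U s u hu => ?_) (fun s => ?_)
  · obtain ⟨i, hi⟩ : ∃ i, U.hom u ∈ Set.range (g i) := by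
      by_contra h
      exact hu (hcov _ fun i hi => h ⟨i, hi⟩)
    exact van_of_isZero_pull (g i) F (hF i) U s u hi
  · have : Subsingleton (EtModW.constMod Λ X Λ ⟶ F) := ⟨fun x y => (h0 x).trans (h0 y).symm⟩
    have := (BidConMod48.homConstEquiv F).symm.subsingleton
    exact Subsingleton.elim _ _

/-- Sections of a zero sheaf vanish. -/
theorem sect_eq_zero_of_isZero {F : EtModW.Mod Λ X} (h : IsZero F) (U : X.Etale) (s : EtModW.sect Λ F U) :
    s = 0 := by
  have h1 : (𝟙 F : _ ⟶ _) = 0 := (IsZero.iff_id_eq_zero _).1 h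
  exact congrArg (fun (α : F ⟶ F) => α.hom.app (op U) s) h1

/-- The zero sheaf is constructible. -/
theorem isConstructible_of_isZero {F : EtModW.Mod Λ X} (h : IsZero F) : EtModW.IsConstructible Λ F := by
  refine LCrit.isConstructible_of_good F fun x => ⟨EtCoh.top X, x, rfl, PUnit, inferInstance, inferInstance,
    inferInstance, 0, Set.univ, Topology.IsLocallyConstructible.univ, trivial, fun c _ =>
      ⟨fun m _ => Subsingleton.elim _ _, fun V g v _ t => ⟨0, ?_⟩⟩⟩
  apply LVan.van_zero_of_eq
  exact sect_eq_zero_of_isZero h _ _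

/-- `IsDbc` in terms of truncations: the truncation of an object whose low cohomology sheaves are constructible. -/
theorem isDbc_truncLE (Y : EtModD.D Λ X) (a q : ℤ) (ha : Y.IsGE a)
    (hY : ∀ j ≤ q, EtModW.IsConstructible Λ (EtModD.HD Y j)) :
    EtModD.IsDbc ((DerivedCategory.TStructure.t.truncLE q).obj Y) := by
  have h1 : DerivedCategory.IsGE ((DerivedCategory.TStructure.t.truncLE q).obj Y) a := by
    change DerivedCategory.TStructure.t.IsGE _ _
    infer_instance
  have h2 : DerivedCategory.IsLE ((DerivedCategory.TStructure.t.truncLE q).obj Y) q := by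
    change DerivedCategory.TStructure.t.IsLE _ _
    infer_instance
  refine ⟨⟨a, q, h1, h2⟩, fun i => ?_⟩
  by_cases hi : i ≤ q
  · have := LoccohA.DzTrunc.isIso_homology_truncLE Y q i hi
    exact LCrit.isConstructible_of_iso (asIso ((DerivedCategory.homologyFunctor _ i).map
      ((DerivedCategory.TStructure.t.truncLEι q).app Y))).symm (hY i hi)
  · have h0 : IsZero (EtModD.HD ((DerivedCategory.TStructure.t.truncLE q).obj Y) i) :=
      DerivedCategory.isZero_of_isLE _ q i (by lia)
    exact isConstructible_of_isZero h0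

/-- Constructibility of the cohomology sheaves from the inverse images and finiteness of global cohomology. -/
theorem isConstructible_HD [Finite Λ] {k : Type u} [Field k] [IsSepClosed k] (a : X ⟶ Spec (.of k))
    [LocallyOfFiniteType a] [QuasiCompact a] {n : ℕ} (hn : 0 < n) (hΛ : (n : Λ) = 0)
    {ι : Type*} [Finite ι] (X' : ι → Scheme.{u}) (g : ∀ i, X' i ⟶ X)
    [∀ i, CompactSpace (X' i)] [∀ i, QuasiSeparatedSpace (X' i)]
    (hcov : ∀ x : X, (∀ i, x ∉ Set.range (g i)) → IsClosed {x})
    (h1 : ∀ G : EtCoh.Ab X, EtCoh.KilledBy n G → EtPBC.IsConstructible G → Finite (EtCoh.H X G 1))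
    (hfin : ∀ Z : EtModD.D Λ X, EtModD.IsDbc Z → ∀ n : ℤ,
      Finite ((DerivedCategory.singleFunctor _ 0).obj (EtModW.constMod Λ X Λ) ⟶ Z⟦n⟧))
    (Y : EtModD.D Λ X) (b : ℤ) (hYb : Y.IsGE b)
    (hY : ∀ n : ℤ, Finite ((DerivedCategory.singleFunctor _ 0).obj (EtModW.constMod Λ X Λ) ⟶ Y⟦n⟧))
    (hpull : ∀ i q, EtModW.IsConstructible Λ ((EtModW.pull Λ (g i)).obj (EtModD.HD Y q))) (q : ℤ) :
    EtModW.IsConstructible Λ (EtModD.HD Y q) := by
  have key : ∀ m : ℕ, ∀ j : ℤ, j < b + m → EtModW.IsConstructible Λ (EtModD.HD Y j) := by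
    intro m
    induction m with
    | zero =>
      intro j hj
      have h0 : IsZero (EtModD.HD Y j) := DerivedCategory.isZero_of_isGE _ b j (by simpa using hj)
      exact isConstructible_of_isZero h0
    | succ m ih =>
      intro j hj
      by_cases hj' : j < b + m
      · exact ih j hj'
      · have hD : EtModD.IsDbc ((DerivedCategory.TStructure.t.truncLE (j - 1)).obj Y) :=
          isDbc_truncLE Y b (j - 1) hYb fun i hi => ih i (by push_cast at hj; lia)
        exact BidConMod48.isConstructible_of_pulls_hom a hn hΛ _ X' g hcov (fun i => hpull i j)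
          (BidHom48.finite_hom_homology _ Y j (hY j) (hfin _ hD (j + 1))) h1
  exact key (q + 1 - b).toNat q (by lia)

/-- A morphism in `D^+` is an isomorphism if it becomes so after pulling back the cohomology sheaves along the
`g i` and on global cohomology. -/
theorem isIso_of_pulls {k : Type u} [Field k] [IsSepClosed k] (a : X ⟶ Spec (.of k))
    [LocallyOfFiniteType a] [QuasiCompact a] {ι : Type*} (X' : ι → Scheme.{u}) (g : ∀ i, X' i ⟶ X)
    (hcov : ∀ x : X, (∀ i, x ∉ Set.range (g i)) → IsClosed {x})
    {Y Z : EtModD.D Λ X} (φ : Y ⟶ Z) (b : ℤ) (hY : Y.IsGE b) (hZ : Z.IsGE b)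
    (h1 : ∀ i q, IsIso ((EtModW.pull Λ (g i)).map ((DerivedCategory.homologyFunctor _ q).map φ)))
    (h2 : ∀ n : ℤ, Function.Bijective
      (fun f : (DerivedCategory.singleFunctor _ 0).obj (EtModW.constMod Λ X Λ) ⟶ Y⟦n⟧ => f ≫ φ⟦n⟧')) :
    IsIso φ :=
  BidHom48.isIso_of_functors (fun i => EtModW.pull Λ (g i)) (EtModW.constMod Λ X Λ)
    (fun N hN hN' => isZero_of_pulls a X' g hcov N hN hN') φ b h1 h2

end Groth.Agent.Sga4h.BidInd48
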