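import Groth.Agent.Sga4h.BidIndLoc48
import Groth.Agent.Sga4h.BidGeoIt

/-!
# Biduality on the iterated projective lines over separably closed fields

`bid_It`: induction on the number of factors, from the comparison of duality along limits of étale morphisms
(`Cmp`), the global duality data (`GlobData`) and biduality over a separably closed field.
-/

set_option autoImplicit false
universe u

open CategoryTheory CategoryTheory.Limits AlgebraicGeometry Opposite TopologicalSpace

attribute [local instance 5000] CategoryTheory.Abelian.toPreadditive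
  CategoryTheory.Preadditive.preadditiveHasZeroMorphisms

namespace Groth.Agent.Sga4h.BidIndFin48

attribute [local instance] HasDerivedCategory.standard
open scoped Groth.Agent.Sga4h.ModInst
open Groth.Agent.Sga4h.Refl DerivedCategory Groth.Agent.Sga4h.BidIndD48 Groth.Agent.Sga4h.BidIndLoc48
open Groth.Agent.Sga4h.BidGeoIt Groth.Agent.Sga4h.BidGeoLim

variable {Λ : Type (u + 1)} [CommRing Λ] {X : Scheme.{u}}

/-- The global hypotheses of the induction step. -/
structure GlobData (A : DualData (EtModD.tensorBi Λ X)) (n : ℕ) : Prop where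
  /-- finiteness of `H¹` -/
  h1 : ∀ G : EtCoh.Ab X, EtCoh.KilledBy n G → EtPBC.IsConstructible G → Finite (EtCoh.H X G 1)
  /-- the dual is bounded -/
  bdd : ∀ K : CochainComplex (EtModW.Mod Λ X) ℤ, EtModD.IsDbc (Q.obj K) →
    ∃ a b : ℤ, (Q.obj (A.D K)).IsGE a ∧ (Q.obj (A.D K)).IsLE b
  /-- finiteness of the global cohomology -/
  fin : ∀ K : CochainComplex (EtModW.Mod Λ X) ℤ, EtModD.IsDbc (Q.obj K) → ∀ n : ℤ,
    Finite ((singleFunctor _ 0).obj (EtModW.constMod Λ X Λ) ⟶ (Q.obj K)⟦n⟧)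
  /-- finiteness of the global cohomology of the dual -/
  fin' : ∀ K : CochainComplex (EtModW.Mod Λ X) ℤ, EtModD.IsDbc (Q.obj K) → ∀ n : ℤ,
    Finite ((singleFunctor _ 0).obj (EtModW.constMod Λ X Λ) ⟶ (Q.obj (A.D K))⟦n⟧)
  /-- global biduality -/
  ev : ∀ K : CochainComplex (EtModW.Mod Λ X) ℤ, EtModD.IsDbc (Q.obj K) → EtModD.IsDbc (Q.obj (A.D K)) →
    ∀ n : ℤ, Function.Bijective (fun f : (singleFunctor _ 0).obj (EtModW.constMod Λ X Λ) ⟶ (Q.obj K)⟦n⟧ =>
      f ≫ (Q.map (A.ev K))⟦n⟧')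

/-- **The induction step**: biduality on `X` from biduality on the `X' i`. -/
theorem bid_of_cmp [Finite Λ] {k : Type u} [Field k] [IsSepClosed k] (a : X ⟶ Spec (.of k))
    [LocallyOfFiniteType a] [QuasiCompact a] {n : ℕ} (hn : 0 < n) (hΛ : (n : Λ) = 0)
    (A : DualData (EtModD.tensorBi Λ X)) (G : GlobData A n)
    {ι : Type*} [Finite ι] (X' : ι → Scheme.{u}) (g : ∀ i, X' i ⟶ X)
    [∀ i, CompactSpace (X' i)] [∀ i, QuasiSeparatedSpace (X' i)]
    (hcov : ∀ x : X, (∀ i, x ∉ Set.range (g i)) → IsClosed {x})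
    (A' : ∀ i, DualData (EtModD.tensorBi Λ (X' i))) (c : ∀ i, Nonempty (Cmp A (A' i) (g i)))
    (hB : ∀ i, Bid (A' i)) : Bid A := by
  have S : StepData A X' g :=
    { bdd := G.bdd
      fin := G.fin
      fin' := G.fin'
      ev := G.ev
      loc₁ := fun K hK i q => (c i).some.loc₁ (hB i) K hK q
      loc₂ := fun K hK hK' i q => (c i).some.loc₂ (hB i) K hK hK' q }
  exact ⟨fun K hK => (isDbc_and_refl a hn hΛ hcov G.h1 S K hK).1,
    fun K hK => (isDbc_and_refl a hn hΛ hcov G.h1 S K hK).2⟩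

/-- **Biduality on the iterated projective lines.** -/
theorem bid_It [Finite Λ] {m : ℕ} (hm : 0 < m) (hΛ : (m : Λ) = 0)
    (A : ∀ X : Scheme.{u}, DualData (EtModD.tensorBi Λ X))
    (hglob : ∀ (k : Type u) [Field k] [IsSepClosed k], (m : k) ≠ 0 → ∀ d : ℕ,
      GlobData (A (It (Spec (CommRingCat.of k)) (d + 1))) m)
    (hcmp : ∀ (X X' : Scheme.{u}) (g : X' ⟶ X), IsNoetherian X → IsEtLim g →
      Nonempty (Cmp (A X) (A X') g))
    (h0 : ∀ (k : Type u) [Field k] [IsSepClosed k], (m : k) ≠ 0 → Bid (A (Spec (CommRingCat.of k))))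
    (d : ℕ) : ∀ (k : Type u) [Field k] [IsSepClosed k], (m : k) ≠ 0 →
      Bid (A (It (Spec (CommRingCat.of k)) d)) := by
  induction d with
  | zero => exact fun k _ _ hk => h0 k hk
  | succ d ih =>
    intro k _ _ hk
    obtain ⟨κ, _, _, φ, hφ⟩ := exists_family k
    obtain ⟨r, g, hg1, hg2, hg3⟩ := hφ d
    have hκ : (m : κ) ≠ 0 := by
      intro h
      apply hk
      apply φ.injective
      rw [map_natCast, h, map_zero]
    have hp : IsProper (str (Spec (CommRingCat.of k)) (d + 1)) := isProper_str _ _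
    have hp' : IsProper (str (Spec (CommRingCat.of κ)) d) := isProper_str _ _
    have hN : IsNoetherian (It (Spec (CommRingCat.of k)) (d + 1)) :=
      CurvesA.ClosedPtSep.isNoetherian (str (Spec (CommRingCat.of k)) (d + 1))
    have hN' : IsNoetherian (It (Spec (CommRingCat.of κ)) d) :=
      CurvesA.ClosedPtSep.isNoetherian (str (Spec (CommRingCat.of κ)) d)
    exact bid_of_cmp (str (Spec (CommRingCat.of k)) (d + 1)) hm hΛ _ (hglob k hk d)
      (fun _ : Fin r => It (Spec (CommRingCat.of κ)) d) g hg3 (fun _ => A _)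
      (fun i => hcmp _ _ (g i) hN (hg1 i)) (fun _ => ih κ hκ)

end Groth.Agent.Sga4h.BidIndFin48
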