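import Groth.Agent.Etrest.ModAbR
import Groth.Agent.EtpbcB.BCCalc

/-!
# Inverse images of sheaves of modules and of the underlying abelian sheaves

* `ab_unit_pullIso`: compatibility of `ModAb.pullIso` with the units;
* `sqM`: the isomorphism `g'_* f_* ≅ f'_* g_*` for sheaves of modules;
* `bcM`: the base change map for sheaves of modules; `isIso_bcM`: it is an isomorphism if the base change map
  of the underlying abelian sheaf is.
-/

set_option autoImplicit false

universe u

open CategoryTheory CategoryTheory.Limits AlgebraicGeometry Opposite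

namespace Groth.Agent.Sga4h.BidLimAb

open Groth.Agent.Etrest.ModAb Groth.Agent.EtpbcB

variable {Λ : Type (u + 1)} [CommRing Λ] {X Y : Scheme.{u}}

/-- Compatibility of the units with `pullIso`. -/
theorem ab_unit_pullIso (f : X ⟶ Y) (F : EtModW.Mod Λ Y) :
    (ab Λ Y).map ((pullPushAdj Λ f).unit.app F) ≫ (pushIso Λ f).hom.app _ ≫
      (EtCoh.push f).map ((pullIso Λ f).hom.app F) =
    (EtCoh.pullPushAdj f).unit.app ((ab Λ Y).obj F) := by
  have h := Adjunction.unit_leftAdjointUniq_hom_app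
    (((pullPushAdj Λ f).comp (coindShAdj Λ X)).ofNatIsoRight (pushCoindIso Λ f))
    ((coindShAdj Λ Y).comp (EtCoh.pullPushAdj f)) F
  apply BCCalc.ab_hom_ext
  intro W
  ext s
  have h2 := congrArg (fun k => (show Coind Λ _ from (k.hom.app (op W)).hom s).val 1) h
  have h3 : ((1 : Λ) • (show F.obj.obj (op W) from s)) = s := one_smul _ _
  have h4 : ((1 : Λ) • (show ((EtModW.pull Λ f).obj F).obj.obj (op ((EtCoh.bc f).obj W)) from
    ((((pullPushAdj Λ f).unit.app F).hom.app (op W)).hom s))) =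
      (((pullPushAdj Λ f).unit.app F).hom.app (op W)).hom s := one_smul _ _
  refine Eq.trans ?_ (h2.trans ?_)
  · exact (congrArg (fun z => (((pullIso Λ f).hom.app F).hom.app (op ((EtCoh.bc f).obj W))).hom z) h4).symm
  · exact congrArg (fun z => (((EtCoh.pullPushAdj f).unit.app ((ab Λ Y).obj F)).hom.app (op W)).hom z) h3

section Square

variable {X' Y' : Scheme.{u}} {f : X ⟶ Y} {g : Y' ⟶ Y} {f' : X' ⟶ Y'} {g' : X' ⟶ X}

/-- Naturality of `BCCalc.theta`. -/
lemma theta_naturality (w : g' ≫ f = f' ≫ g) {U V : Y.Etale} (a : U ⟶ V) :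
    (EtCoh.bc f').map ((EtCoh.bc g).map a) ≫ (BCCalc.theta w V).hom =
      (BCCalc.theta w U).hom ≫ (EtCoh.bc g').map ((EtCoh.bc f).map a) := by
  apply BCCalc.hom_ext_bc₂
  simp only [BCCalc.comp_left, Category.assoc, BCCalc.theta_hom_left_pr, BCCalc.bc_map_left_pr_assoc,
    BCCalc.bc_map_left_pr, BCCalc.theta_hom_left_pr_assoc]

variable (Λ) in
/-- For a commutative square, `g'_* ⋙ f_* ≅ f'_* ⋙ g_*`. -/
noncomputable def sqM (w : g' ≫ f = f' ≫ g) :
    EtModW.push Λ g' ⋙ EtModW.push Λ f ≅ EtModW.push Λ f' ⋙ EtModW.push Λ g :=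
  NatIso.ofComponents (fun F => (fullyFaithfulSheafToPresheaf Y.smallEtaleTopology _).preimageIso
    (NatIso.ofComponents (fun U => F.obj.mapIso (BCCalc.theta w U.unop).op) (fun {U V} a => by
      have h := congrArg (fun k => F.obj.map k.op) (theta_naturality w a.unop)
      simp only [op_comp, Functor.map_comp] at h
      exact h.symm)))
    (fun {F G} φ => by
      ext : 1
      refine NatTrans.ext (funext fun U => ?_)
      exact (φ.hom.naturality (BCCalc.theta w U.unop).hom.op).symm)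

lemma sqM_hom_app_app (w : g' ≫ f = f' ≫ g) (F : EtModW.Mod Λ X') (U : Y.Etale) :
    ((sqM Λ w).hom.app F).hom.app (op U) = F.obj.map (BCCalc.theta w U).hom.op := rfl

variable (Λ) in
/-- The base change map for sheaves of modules. -/
noncomputable def bcM (w : g' ≫ f = f' ≫ g) (M : EtModW.Mod Λ X) :
    (EtModW.pull Λ g).obj ((EtModW.push Λ f).obj M) ⟶ (EtModW.push Λ f').obj ((EtModW.pull Λ g').obj M) :=
  MateCalc.bc (pullPushAdj Λ g) (pullPushAdj Λ g') (sqM Λ w).hom M

lemma unit_bcM (w : g' ≫ f = f' ≫ g) (M : EtModW.Mod Λ X) :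
    (pullPushAdj Λ g).unit.app ((EtModW.push Λ f).obj M) ≫ (EtModW.push Λ g).map (bcM Λ w M) =
      (EtModW.push Λ f).map ((pullPushAdj Λ g').unit.app M) ≫ (sqM Λ w).hom.app _ :=
  MateCalc.unit_bc (pullPushAdj Λ g) (pullPushAdj Λ g') (sqM Λ w).hom M

/-- The unit of modules and of abelian sheaves on sections. -/
lemma pullIso_unit (f : X ⟶ Y) (F : EtModW.Mod Λ Y) (W : Y.Etale) (s : F.obj.obj (op W)) :
    (((pullIso Λ f).hom.app F).hom.app (op ((EtCoh.bc f).obj W))).hom
      ((((pullPushAdj Λ f).unit.app F).hom.app (op W)).hom s) =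
    (((EtCoh.pullPushAdj f).unit.app ((ab Λ Y).obj F)).hom.app (op W)).hom s :=
  congrArg (fun k => (k.hom.app (op W)).hom s) (ab_unit_pullIso f F)

lemma pullIso_inv_unit (f : X ⟶ Y) (F : EtModW.Mod Λ Y) (W : Y.Etale) (s : F.obj.obj (op W)) :
    (((pullIso Λ f).inv.app F).hom.app (op ((EtCoh.bc f).obj W))).hom
      ((((EtCoh.pullPushAdj f).unit.app ((ab Λ Y).obj F)).hom.app (op W)).hom s) =
    (((pullPushAdj Λ f).unit.app F).hom.app (op W)).hom s := by
  have h := congrArg (fun k => (k.hom.app (op ((EtCoh.bc f).obj W))).hom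
    ((((pullPushAdj Λ f).unit.app F).hom.app (op W)).hom s)) ((pullIso Λ f).hom_inv_id_app F)
  refine Eq.trans ?_ h
  exact (congrArg (((pullIso Λ f).inv.app F).hom.app (op ((EtCoh.bc f).obj W))).hom
    (pullIso_unit f F W s)).symm

/-- `bcM` and `EtCoh.baseChange0`. -/
theorem ab_bcM (w : g' ≫ f = f' ≫ g) (M : EtModW.Mod Λ X) :
    (ab Λ Y').map (bcM Λ w M) ≫ (pushIso Λ f').hom.app _ ≫ (EtCoh.push f').map ((pullIso Λ g').hom.app M) =
    (pullIso Λ g).hom.app ((EtModW.push Λ f).obj M) ≫ (EtCoh.pull g).map ((pushIso Λ f).hom.app M) ≫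
      EtCoh.baseChange0 f g f' g' w ((ab Λ X).obj M) := by
  rw [← cancel_epi ((pullIso Λ g).inv.app ((EtModW.push Λ f).obj M)), Iso.inv_hom_id_app_assoc]
  have h1 : (EtCoh.pull g).map ((pushIso Λ f).hom.app M) = 𝟙 _ := (EtCoh.pull g).map_id _
  rw [h1]
  refine Eq.trans ?_ (Category.id_comp _).symm
  let b : (EtCoh.pull g).obj ((EtCoh.push f).obj ((ab Λ X).obj M)) ⟶
      (EtCoh.push f').obj ((EtCoh.pull g').obj ((ab Λ X).obj M)) :=
    (pullIso Λ g).inv.app ((EtModW.push Λ f).obj M) ≫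
      (ab Λ Y').map (bcM Λ w M) ≫
        (pushIso Λ f').hom.app ((EtModW.pull Λ g').obj M) ≫ (EtCoh.push f').map ((pullIso Λ g').hom.app M)
  refine BCCalc.baseChange0_unique w b ?_
  apply BCCalc.ab_hom_ext
  intro W
  ext s
  have h3 : (((pullIso Λ g).inv.app ((EtModW.push Λ f).obj M)).hom.app (op ((EtCoh.bc g).obj W))).hom
      ((((EtCoh.pullPushAdj g).unit.app ((ab Λ Y).obj ((EtModW.push Λ f).obj M))).hom.app (op W)).hom s) =
      (((pullPushAdj Λ g).unit.app ((EtModW.push Λ f).obj M)).hom.app (op W)).hom s :=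
    pullIso_inv_unit g ((EtModW.push Λ f).obj M) W s
  have h2 : ((bcM Λ w M).hom.app (op ((EtCoh.bc g).obj W))).hom
      ((((pullPushAdj Λ g).unit.app ((EtModW.push Λ f).obj M)).hom.app (op W)).hom s) =
      (((EtModW.pull Λ g').obj M).obj.map (BCCalc.theta w W).hom.op).hom
        ((((pullPushAdj Λ g').unit.app M).hom.app (op ((EtCoh.bc f).obj W))).hom s) :=
    congrArg (fun k => (k.hom.app (op W)).hom s) (unit_bcM w M)
  have h4 := congrArg (fun k => k.hom
      ((((pullPushAdj Λ g').unit.app M).hom.app (op ((EtCoh.bc f).obj W))).hom s))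
      (((pullIso Λ g').hom.app M).hom.naturality (BCCalc.theta w W).hom.op)
  have h5 := pullIso_unit g' M ((EtCoh.bc f).obj W) s
  have h6 := BCCalc.sq_hom_app_app w ((EtCoh.pull g').obj ((ab Λ X).obj M)) W
  refine (congrArg (fun z => (((pullIso Λ g').hom.app M).hom.app (op ((EtCoh.bc f').obj ((EtCoh.bc g).obj W)))).hom
    (((bcM Λ w M).hom.app (op ((EtCoh.bc g).obj W))).hom z)) h3).trans ?_
  refine (congrArg (fun z => (((pullIso Λ g').hom.app M).hom.app
    (op ((EtCoh.bc f').obj ((EtCoh.bc g).obj W)))).hom z) h2).trans ?_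
  refine h4.trans ?_
  refine (congrArg (fun z => (((EtCoh.pull g').obj ((ab Λ X).obj M)).obj.map
    (BCCalc.theta w W).hom.op).hom z) h5).trans ?_
  exact (congrArg (fun k => k.hom ((((EtCoh.pullPushAdj g').unit.app ((ab Λ X).obj M)).hom.app
    (op ((EtCoh.bc f).obj W))).hom s)) h6).symm

/-- The base change map of a sheaf of modules is an isomorphism if the base change map of the underlying
abelian sheaf is. -/
theorem isIso_bcM (w : g' ≫ f = f' ≫ g) (M : EtModW.Mod Λ X)
    (h : IsIso (EtCoh.baseChange0 f g f' g' w ((ab Λ X).obj M))) : IsIso (bcM Λ w M) := by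
  have h1 : IsIso ((ab Λ Y').map (bcM Λ w M) ≫ (pushIso Λ f').hom.app _ ≫
      (EtCoh.push f').map ((pullIso Λ g').hom.app M)) := by
    rw [ab_bcM]
    infer_instance
  have h2 : IsIso ((ab Λ Y').map (bcM Λ w M)) :=
    IsIso.of_isIso_comp_right _ ((pushIso Λ f').hom.app _ ≫ (EtCoh.push f').map ((pullIso Λ g').hom.app M))
  exact isIso_of_reflects_iso _ (ab Λ Y')

end Square

end Groth.Agent.Sga4h.BidLimAb
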