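import Groth.Agent.Sga4h.Refl
import Groth.Agent.PerfC.CxNat

/-!
# Duality and exact functors: the comparison map `a(Hom•(E, J)) ⟶ Hom•(a E, J')`

Setting: `a : C ⥤ C'` exact, `τ : T'(a M, a N) ⟶ a T(M, N)` compatible with the symmetries,
`α : a J ⟶ J'`.

* `cmp E : a (D E) ⟶ D' (a E)`, natural in `E` (`cmp_naturality`) and compatible with the evaluation maps
  (`map_ev_comp_cmp`);
* `IsCmp E`: `cmp E` is a quasi-isomorphism; this is a triangulated property (`tri_isCmp`).
-/

set_option autoImplicit false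
set_option linter.unusedSectionVars false
set_option backward.defeqAttrib.useBackward true
set_option backward.isDefEq.respectTransparency false

universe w w' v₁ v₂ v₃ u₁ u₂ u₃

namespace Groth.Agent.Sga4h.BidLimAbs

open CategoryTheory Category Limits HomologicalComplex CochainComplex Opposite ZeroObject
open Groth.Agent.Dcoh.CxFun Groth.Agent.Sga4h.HomCx Groth.Agent.Sga4h.DualCx Groth.Agent.Sga4h.DualSelf
open Groth.Agent.Sga4h.Refl Groth.Agent.PerfC

variable {C : Type u₁} [Category.{v₁} C] [Abelian C] {C' : Type u₂} [Category.{v₂} C'] [Abelian C']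
  {T : C ⥤ C ⥤ C} [T.Additive] [∀ X, (T.obj X).Additive]
  [∀ (K₁ K₂ : CochainComplex C ℤ), CochainComplex.HasMapBifunctor K₁ K₂ T]
  [∀ E : CochainComplex C ℤ, (T.map₂CochainComplex.flip.obj E).IsLeftAdjoint]
  {T' : C' ⥤ C' ⥤ C'} [T'.Additive] [∀ X, (T'.obj X).Additive]
  [∀ (K₁ K₂ : CochainComplex C' ℤ), CochainComplex.HasMapBifunctor K₁ K₂ T']
  [∀ E : CochainComplex C' ℤ, (T'.map₂CochainComplex.flip.obj E).IsLeftAdjoint]

/-- The data: an exact functor, lax monoidal for `T`, `T'`, and a map from the image of the dualizing complex to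
the dualizing complex. -/
structure CmpData (A : DualData T) (A' : DualData T') (a : C ⥤ C') [a.Additive] where
  /-- the tensor comparison -/
  τ : a ⋙ T' ⋙ (Functor.whiskeringLeft _ _ _).obj a ⟶ T ⋙ (Functor.whiskeringRight _ _ _).obj a
  /-- compatibility with the symmetries -/
  symm : ∀ M N : C, (A'.S.σ (a.obj M) (a.obj N)).hom ≫ (τ.app M).app N =
    (τ.app N).app M ≫ a.map (A.S.σ M N).hom
  /-- comparison of the dualizing complexes -/
  α : (a.mapHomologicalComplex (ComplexShape.up ℤ)).obj A.J ⟶ A'.J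

namespace CmpData

variable {A : DualData T} {A' : DualData T'} {a : C ⥤ C'} [a.Additive] (W : CmpData A A' a)

variable (a) in
/-- The functor on complexes. -/
noncomputable abbrev ac : CochainComplex C ℤ ⥤ CochainComplex C' ℤ :=
  a.mapHomologicalComplex (ComplexShape.up ℤ)

/-- The tensor comparison on complexes. -/
noncomputable abbrev τc (K L : CochainComplex C ℤ) :
    (T'.map₂CochainComplex.obj ((ac a).obj K)).obj ((ac a).obj L) ⟶
      (ac a).obj ((T.map₂CochainComplex.obj K).obj L) :=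
  CxNat.natHom W.τ K L

@[reassoc]
lemma τc_naturality_left {K K' : CochainComplex C ℤ} (f : K ⟶ K') (L : CochainComplex C ℤ) :
    (T'.map₂CochainComplex.map ((ac a).map f)).app ((ac a).obj L) ≫ W.τc K' L =
      W.τc K L ≫ (ac a).map ((T.map₂CochainComplex.map f).app L) := by
  have := congr_app ((CxNat.natTrans W.τ).naturality f) L
  exact this

@[reassoc]
lemma τc_naturality_right (K : CochainComplex C ℤ) {L L' : CochainComplex C ℤ} (g : L ⟶ L') :
    (T'.map₂CochainComplex.obj ((ac a).obj K)).map ((ac a).map g) ≫ W.τc K L' =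
      W.τc K L ≫ (ac a).map ((T.map₂CochainComplex.obj K).map g) :=
  ((CxNat.natTrans W.τ).app K).naturality g

@[reassoc]
lemma braid_τc (K L : CochainComplex C ℤ) :
    (braid A'.S ((ac a).obj K) ((ac a).obj L)).hom ≫ W.τc L K =
      W.τc K L ≫ (ac a).map (braid A.S K L).hom := by
  ext n : 1
  refine mapBifunctor.hom_ext (fun p q h => ?_)
  have h1 := ι_braid A'.S ((ac a).obj K) ((ac a).obj L) p q n h
  have h2 := ι_braid A.S K L p q n h
  have h3 := W.symm (L.X q) (K.X p)
  rw [HomologicalComplex.comp_f, HomologicalComplex.comp_f]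
  change _ ≫ (braid A'.S ((ac a).obj K) ((ac a).obj L)).hom.f n ≫ CxNat.natHomX W.τ L K n =
    _ ≫ CxNat.natHomX W.τ K L n ≫ a.map ((braid A.S K L).hom.f n)
  rw [← Category.assoc, h1, CxNat.ι_natHomX_assoc, ← a.map_comp, h2, Functor.map_units_smul, Linear.comp_units_smul,
    Linear.units_smul_comp, Functor.map_comp]
  congr 1
  rw [Category.assoc]
  erw [CxNat.ι_natHomX]
  exact (Category.assoc _ _ _).symm.trans ((congrArg (fun k => k ≫ a.map (HomologicalComplex.ιMapBifunctor L K T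
    (ComplexShape.up ℤ) q p n _)) h3).trans (Category.assoc _ _ _))

/-- The universal pairing `D E ⊗ E ⟶ J`. -/
noncomputable def ε (A : DualData T) (E : CochainComplex C ℤ) :
    (T.map₂CochainComplex.obj (A.D E)).obj E ⟶ A.J :=
  (dualEquiv T (A.D E) E A.J).symm (𝟙 _)

lemma dualEquiv_symm_eq (A : DualData T) {K E : CochainComplex C ℤ} (φ : K ⟶ A.D E) :
    (dualEquiv T K E A.J).symm φ = (T.map₂CochainComplex.map φ).app E ≫ ε A E := by
  have := dualEquiv_symm_naturality_left A.J (T := T) φ (𝟙 (A.D E))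
  rwa [Category.comp_id] at this

/-- The comparison map. -/
noncomputable def cmp (E : CochainComplex C ℤ) : (ac a).obj (A.D E) ⟶ A'.D ((ac a).obj E) :=
  dualEquiv T' _ _ _ (W.τc (A.D E) E ≫ (ac a).map (ε A E) ≫ W.α)

/-- The comparison map in terms of transposes. -/
lemma map_comp_cmp {K E : CochainComplex C ℤ} (φ : K ⟶ A.D E) :
    (ac a).map φ ≫ W.cmp E = dualEquiv T' ((ac a).obj K) ((ac a).obj E) A'.J
      (W.τc K E ≫ (ac a).map ((dualEquiv T K E A.J).symm φ) ≫ W.α) := by
  rw [cmp, ← dualEquiv_naturality_left, dualEquiv_symm_eq, Functor.map_comp, Category.assoc,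
    ← Category.assoc, W.τc_naturality_left, Category.assoc]

lemma cmp_naturality {E E' : CochainComplex C ℤ} (f : E ⟶ E') :
    (ac a).map (A.Dmap f) ≫ W.cmp E = W.cmp E' ≫ A'.Dmap ((ac a).map f) := by
  rw [map_comp_cmp, cmp, ← dualEquiv_naturality_mid, W.τc_naturality_right_assoc]
  congr 2
  rw [← Functor.map_comp_assoc]
  congr 2
  have := dualEquiv_symm_naturality_mid A.J (T := T) f (𝟙 (A.D E'))
  rwa [Category.id_comp] at this

/-- Compatibility with the evaluation maps. -/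
lemma map_ev_comp_cmp (K : CochainComplex C ℤ) :
    (ac a).map (A.ev K) ≫ W.cmp (A.D K) = A'.ev ((ac a).obj K) ≫ A'.Dmap (W.cmp K) := by
  rw [map_comp_cmp]
  have h1 : A'.ev ((ac a).obj K) ≫ A'.Dmap (W.cmp K) = selfEquiv A'.S A'.J _ _ (W.cmp K) :=
    (selfEquiv_eq A'.S A'.J (W.cmp K)).symm
  rw [h1, selfEquiv_apply]
  congr 1
  rw [cmp, Equiv.symm_apply_apply]
  have h2 : (dualEquiv T K (A.D K) A.J).symm (A.ev K) = (braid A.S (A.D K) K).inv ≫ ε A K := by
    change (dualEquiv T K (A.D K) A.J).symm (DualSelf.ev A.S A.J K) = _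
    rw [DualSelf.ev, selfEquiv_apply, Equiv.symm_apply_apply]
    rfl
  rw [h2, braid_inv, braid_inv, Functor.map_comp, Category.assoc, ← Category.assoc,
    ← W.braid_τc, Category.assoc]

section Tri

variable [PreservesFiniteLimits a] [PreservesFiniteColimits a]

/-- `Hom•(E, J)` is compatible with `a`. -/
structure IsCmp (E : CochainComplex C ℤ) : Prop where
  qis : QuasiIso (W.cmp E)

variable [∀ (J : Type), HasColimitsOfShape (Discrete J) C]
  [∀ (J : Type), (colim : (Discrete J ⥤ C) ⥤ C).PreservesMonomorphisms]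
  [∀ (J : Type), HasColimitsOfShape (Discrete J) C']
  [∀ (J : Type), (colim : (Discrete J ⥤ C') ⥤ C').PreservesMonomorphisms]

lemma isCmp_iff_of_quasiIso {K L : CochainComplex C ℤ} (f : K ⟶ L) [QuasiIso f] :
    W.IsCmp K ↔ W.IsCmp L := by
  have h := W.cmp_naturality f
  constructor
  · intro hK
    have := hK.qis
    have h1 : QuasiIso (W.cmp L ≫ A'.Dmap ((ac a).map f)) := by
      rw [← h]
      infer_instance
    exact ⟨(quasiIso_iff_comp_right (W.cmp L) (A'.Dmap ((ac a).map f))).1 h1⟩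
  · intro hL
    have := hL.qis
    have h1 : QuasiIso ((ac a).map (A.Dmap f) ≫ W.cmp K) := by
      rw [h]
      infer_instance
    exact ⟨(quasiIso_iff_comp_left ((ac a).map (A.Dmap f)) (W.cmp K)).1 h1⟩

lemma acyclic_ac {K : CochainComplex C ℤ} (hK : K.Acyclic) : ((ac a).obj K).Acyclic :=
  fun i => (hK i).map a

lemma shortExact_ac {S : ShortComplex (CochainComplex C ℤ)} (hS : S.ShortExact) :
    (S.map (ac a)).ShortExact :=
  HomologicalComplex.shortExact_of_degreewise_shortExact _ fun i => by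
    have h1 : (S.map (HomologicalComplex.eval C (ComplexShape.up ℤ) i)).ShortExact := hS.map_of_exact _
    exact h1.map_of_exact a

lemma isCmp_of_acyclic {K : CochainComplex C ℤ} (hK : K.Acyclic) : W.IsCmp K :=
  ⟨CohtopA.TrivCof.quasiIso_of_acyclic _ (acyclic_ac (A.acyclic_D hK)) (A'.acyclic_D (acyclic_ac hK))⟩

/-- The comparison map of short complexes. -/
noncomputable def cmpSC (S : ShortComplex (CochainComplex C ℤ)) :
    (A.dualSC S).map (ac a) ⟶ A'.dualSC (S.map (ac a)) where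
  τ₁ := W.cmp S.X₃
  τ₂ := W.cmp S.X₂
  τ₃ := W.cmp S.X₁
  comm₁₂ := (W.cmp_naturality S.g).symm
  comm₂₃ := (W.cmp_naturality S.f).symm

lemma isCmp₁ {S : ShortComplex (CochainComplex C ℤ)} (hS : S.ShortExact) (h₂ : W.IsCmp S.X₂) (h₃ : W.IsCmp S.X₃) :
    W.IsCmp S.X₁ :=
  ⟨HomologicalComplex.HomologySequence.quasiIso_τ₃ (W.cmpSC S) (shortExact_ac (A.shortExact_dualSC hS))
    (A'.shortExact_dualSC (shortExact_ac hS)) h₃.qis h₂.qis⟩

lemma isCmp₂ {S : ShortComplex (CochainComplex C ℤ)} (hS : S.ShortExact) (h₁ : W.IsCmp S.X₁) (h₃ : W.IsCmp S.X₃) :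
    W.IsCmp S.X₂ :=
  ⟨Cohder.HomSeqTau1.quasiIso_τ₂ (W.cmpSC S) (shortExact_ac (A.shortExact_dualSC hS))
    (A'.shortExact_dualSC (shortExact_ac hS)) h₃.qis h₁.qis⟩

lemma isCmp₃ {S : ShortComplex (CochainComplex C ℤ)} (hS : S.ShortExact) (h₁ : W.IsCmp S.X₁) (h₂ : W.IsCmp S.X₂) :
    W.IsCmp S.X₃ :=
  ⟨Cohder.HomSeqTau1.quasiIso_τ₁ (W.cmpSC S) (shortExact_ac (A.shortExact_dualSC hS))
    (A'.shortExact_dualSC (shortExact_ac hS)) h₂.qis h₁.qis⟩

lemma isCmp_shift_one_iff (K : CochainComplex C ℤ) : W.IsCmp (K⟦(1 : ℤ)⟧) ↔ W.IsCmp K := by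
  obtain ⟨f, g, w, hS⟩ := DualData.exists_shortExact_cone (𝟙 K)
  have h2 : W.IsCmp (mappingCone (𝟙 K)) :=
    W.isCmp_of_acyclic (CohtopA.KInjRes2.acyclic_mappingCone_id K)
  exact ⟨fun h => W.isCmp₁ (S := ShortComplex.mk f g w) hS h2 h,
    fun h => W.isCmp₃ (S := ShortComplex.mk f g w) hS h h2⟩

lemma isCmp_mappingCone {K L : CochainComplex C ℤ} (φ : K ⟶ L) (hK : W.IsCmp K) (hL : W.IsCmp L) :
    W.IsCmp (mappingCone φ) := by
  obtain ⟨f, g, w, hS⟩ := DualData.exists_shortExact_cone φ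
  exact W.isCmp₂ (S := ShortComplex.mk f g w) hS hL ((W.isCmp_shift_one_iff K).2 hK)

/-- The compatibility of the duality with `a` is a triangulated property. -/
lemma tri_isCmp : CxProp.Tri W.IsCmp where
  qi f _ := W.isCmp_iff_of_quasiIso f
  shift := W.isCmp_shift_one_iff
  cone φ hK hL := W.isCmp_mappingCone φ hK hL
  zero := ⟨mappingCone (𝟙 0), W.isCmp_of_acyclic (CohtopA.KInjRes2.acyclic_mappingCone_id _)⟩

/-- If the duality is compatible with `a` for `K` and `D K` and `a K` is reflexive, then `a (ev K)` is a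
quasi-isomorphism. -/
theorem quasiIso_map_ev {K : CochainComplex C ℤ} (h₁ : W.IsCmp K) (h₂ : W.IsCmp (A.D K))
    (h₃ : A'.Refl ((ac a).obj K)) : QuasiIso ((ac a).map (A.ev K)) := by
  have := h₁.qis
  have := h₂.qis
  have := h₃.qis
  have h : QuasiIso ((ac a).map (A.ev K) ≫ W.cmp (A.D K)) := by
    rw [W.map_ev_comp_cmp]
    infer_instance
  exact (quasiIso_iff_comp_right ((ac a).map (A.ev K)) (W.cmp (A.D K))).1 h

/-- Conversely, if `a (ev K)` is a quasi-isomorphism, then `a K` is reflexive. -/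
theorem refl_of_quasiIso_map_ev {K : CochainComplex C ℤ} (h₁ : W.IsCmp K) (h₂ : W.IsCmp (A.D K))
    (h₃ : QuasiIso ((ac a).map (A.ev K))) : A'.Refl ((ac a).obj K) := by
  have := h₁.qis
  have := h₂.qis
  have h : QuasiIso (A'.ev ((ac a).obj K) ≫ A'.Dmap (W.cmp K)) := by
    rw [← W.map_ev_comp_cmp]
    infer_instance
  exact ⟨(quasiIso_iff_comp_right _ (A'.Dmap (W.cmp K))).1 h⟩

end Tri

end CmpData

end Groth.Agent.Sga4h.BidLimAbs
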