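import Groth.Agent.Sga4h.BidLimAbs
import Groth.Agent.Sga4h.BidLimSingle

/-!
# The comparison maps of `CmpData` for a complex concentrated in degree `0`

* `CmpData.isCmp_single`
-/

set_option autoImplicit false
set_option linter.unusedSectionVars false
set_option backward.defeqAttrib.useBackward true
set_option backward.isDefEq.respectTransparency false

universe w w' v₁ v₂ v₃ u₁ u₂ u₃

namespace Groth.Agent.Sga4h.BidLimAbs

open CategoryTheory Category Limits HomologicalComplex CochainComplex Opposite ZeroObject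
open Groth.Agent.Dcoh.CxFun Groth.Agent.Sga4h.HomCx Groth.Agent.Sga4h.DualCx Groth.Agent.Sga4h.DualSelf
open Groth.Agent.Sga4h.Refl Groth.Agent.PerfC

variable {C : Type u₁} [Category.{v₁} C] [Abelian C] {C' : Type u₂} [Category.{v₂} C'] [Abelian C']
  {T : C ⥤ C ⥤ C} [T.Additive] [∀ X, (T.obj X).Additive]
  [∀ (K₁ K₂ : CochainComplex C ℤ), CochainComplex.HasMapBifunctor K₁ K₂ T]
  [∀ E : CochainComplex C ℤ, (T.map₂CochainComplex.flip.obj E).IsLeftAdjoint]
  {T' : C' ⥤ C' ⥤ C'} [T'.Additive] [∀ X, (T'.obj X).Additive]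
  [∀ (K₁ K₂ : CochainComplex C' ℤ), CochainComplex.HasMapBifunctor K₁ K₂ T']
  [∀ E : CochainComplex C' ℤ, (T'.map₂CochainComplex.flip.obj E).IsLeftAdjoint]

variable {A : DualData T} {A' : DualData T'} {a : C ⥤ C'} [a.Additive]
  [PreservesFiniteLimits a] [PreservesFiniteColimits a]

/-- The duality is compatible with `a` for `B[0]` if `R M ↦ R' (a M)` is an isomorphism for `M = J^n` and `R'`
sends `α` to a quasi-isomorphism. -/
theorem CmpData.isCmp_single (W : CmpData A A' a) {B : C} {R : C ⥤ C} [R.Additive] (adj : T.flip.obj B ⊣ R)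
    {R' : C' ⥤ C'} [R'.Additive] (adj' : T'.flip.obj (a.obj B) ⊣ R')
    (hθ : ∀ n, IsIso (BidLimSingle.thetaOf W.τ adj adj' (A.J.X n)))
    (hj : QuasiIso ((R'.mapHomologicalComplex (ComplexShape.up ℤ)).map W.α)) :
    W.IsCmp ((HomologicalComplex.single C (ComplexShape.up ℤ) 0).obj B) :=
  ⟨BidLimSingle.quasiIso_cmp_single W.τ adj adj' W.α hθ hj⟩

/-- A variant of `isCmp_single`. -/
theorem CmpData.isCmp_single' (W : CmpData A A' a)
    {τ : a ⋙ T' ⋙ (Functor.whiskeringLeft _ _ _).obj a ⟶ T ⋙ (Functor.whiskeringRight _ _ _).obj a}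
    (hτ : W.τ = τ) {α : (a.mapHomologicalComplex (ComplexShape.up ℤ)).obj A.J ⟶ A'.J} (hα : W.α = α)
    {B : C} {R : C ⥤ C} (hR : R.Additive) (adj : T.flip.obj B ⊣ R)
    {R' : C' ⥤ C'} (hR' : R'.Additive) (adj' : T'.flip.obj (a.obj B) ⊣ R')
    (hθ : ∀ n, IsIso (BidLimSingle.thetaOf τ adj adj' (A.J.X n)))
    (hj : QuasiIso ((R'.mapHomologicalComplex (ComplexShape.up ℤ)).map α)) :
    W.IsCmp ((HomologicalComplex.single C (ComplexShape.up ℤ) 0).obj B) := by
  subst hτ hα
  exact W.isCmp_single adj adj' hθ hj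

end Groth.Agent.Sga4h.BidLimAbs
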