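import Groth.Agent.Etrest.RDer2

/-!
# K-injective complexes with bounded below cohomology and additive functors

* `exists_bdd`: a K-injective complex with bounded below cohomology is homotopy equivalent to a bounded below
  complex of injective objects;
* `quasiIso_map_of_kInj`: if an additive functor `R'` preserves the quasi-isomorphisms `a J ⟶ J'` for bounded below
  complexes of injective objects `J`, `J'`, then also for K-injective complexes with bounded below cohomology.
-/

set_option autoImplicit false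

universe w w' v₁ v₂ v₃ u₁ u₂ u₃

namespace Groth.Agent.Sga4h.BidLimKInj

open CategoryTheory Category Limits HomologicalComplex CochainComplex Groth.Agent.Etrest

variable {C : Type u₁} [Category.{v₁} C] [Abelian C] {C' : Type u₂} [Category.{v₂} C'] [Abelian C']

/-- A K-injective complex with bounded below cohomology is homotopy equivalent to a bounded below complex of
injective objects. -/
theorem exists_bdd [EnoughInjectives C] (J : CochainComplex C ℤ) [J.IsKInjective] (a : ℤ) [J.IsGE a] :
    ∃ (J₀ : CochainComplex C ℤ) (e : J ⟶ J₀) (f : J₀ ⟶ J), homotopyEquivalences C (.up ℤ) e ∧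
      homotopyEquivalences C (.up ℤ) f ∧ (∀ n, Injective (J₀.X n)) ∧ J₀.IsStrictlyGE a := by
  obtain ⟨J₀, i, hi, hJ₀, ha, hK⟩ := RDer2.exists_injRes (J.truncGE a) a
  have h1 : QuasiIso (J.πTruncGE a ≫ i) := inferInstance
  rw [IsKInjective.quasiIso_iff] at h1
  obtain ⟨h, he⟩ := h1
  exact ⟨J₀, h.hom, h.inv, ⟨h, rfl⟩, ⟨h.symm, rfl⟩, hJ₀, ha⟩

theorem homotopyEquivalences_map (F : C ⥤ C') [F.Additive] {K L : CochainComplex C ℤ} {f : K ⟶ L}
    (hf : homotopyEquivalences C (.up ℤ) f) :
    homotopyEquivalences C' (.up ℤ) ((F.mapHomologicalComplex (.up ℤ)).map f) := by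
  obtain ⟨h, rfl⟩ := hf
  exact ⟨F.mapHomotopyEquiv h, rfl⟩

theorem quasiIso_of_homotopyEquivalences {K L : CochainComplex C ℤ} {f : K ⟶ L}
    (hf : homotopyEquivalences C (.up ℤ) f) : QuasiIso f :=
  homotopyEquivalences_le_quasiIso _ _ _ hf

/-- The statement `R' (a J) ⟶ R' J'` is a quasi-isomorphism. -/
theorem quasiIso_map_of_kInj [EnoughInjectives C] [EnoughInjectives C'] (F : C ⥤ C') [F.Additive]
    [PreservesFiniteLimits F] [PreservesFiniteColimits F] (R' : C' ⥤ C') [R'.Additive]
    (H : ∀ (J : CochainComplex C ℤ) (J' : CochainComplex C' ℤ) (a b : ℤ) (_ : J.IsStrictlyGE a)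
      (_ : J'.IsStrictlyGE b) (_ : ∀ n, Injective (J.X n)) (_ : ∀ n, Injective (J'.X n))
      (α : (F.mapHomologicalComplex (.up ℤ)).obj J ⟶ J') (_ : QuasiIso α),
      QuasiIso ((R'.mapHomologicalComplex (.up ℤ)).map α))
    (J : CochainComplex C ℤ) (J' : CochainComplex C' ℤ) [J.IsKInjective] [J'.IsKInjective] (a b : ℤ)
    [J.IsGE a] [J'.IsGE b] (α : (F.mapHomologicalComplex (.up ℤ)).obj J ⟶ J') (hα : QuasiIso α) :
    QuasiIso ((R'.mapHomologicalComplex (.up ℤ)).map α) := by
  obtain ⟨J₀, e, f, he, hf, hJ₀, ha⟩ := exists_bdd J a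
  obtain ⟨J₀', e', f', he', hf', hJ₀', hb⟩ := exists_bdd J' b
  have h1 := quasiIso_of_homotopyEquivalences (homotopyEquivalences_map F hf)
  have h2 := quasiIso_of_homotopyEquivalences he'
  have h3 := H J₀ J₀' a b ha hb hJ₀ hJ₀' ((F.mapHomologicalComplex (.up ℤ)).map f ≫ α ≫ e') inferInstance
  have h4 := quasiIso_of_homotopyEquivalences (homotopyEquivalences_map R' (homotopyEquivalences_map F hf))
  have h5 := quasiIso_of_homotopyEquivalences (homotopyEquivalences_map R' he')
  rw [Functor.map_comp, Functor.map_comp] at h3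
  have h6 := quasiIso_of_comp_left _ _ (hφ := h4) (hφφ' := h3)
  exact quasiIso_of_comp_right _ _ (hφ := h5) (hφφ' := h6)

end Groth.Agent.Sga4h.BidLimKInj
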