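import Groth.Agent.Sga4h.BidLimSingle
import Groth.Agent.Sga4h.Refl
import Groth.Agent.Sga4h.BidLimKInj

/-!
# The dual of a complex concentrated in degree `0` is bounded below
-/

set_option autoImplicit false
set_option backward.defeqAttrib.useBackward true
set_option backward.isDefEq.respectTransparency false

set_option linter.unusedSectionVars false

universe w v₁ v₂ v₃ u₁ u₂ u₃

namespace Groth.Agent.Sga4h.BidLimGE

open CategoryTheory Category Limits HomologicalComplex CochainComplex Opposite
open Groth.Agent.Sga4h.DualCx Groth.Agent.Sga4h.BidLimSingle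

variable {C : Type u₁} [Category.{v₁} C] [Abelian C] {T : C ⥤ C ⥤ C} [T.Additive] [∀ X, (T.obj X).Additive]
  [∀ (K₁ K₂ : CochainComplex C ℤ), CochainComplex.HasMapBifunctor K₁ K₂ T]
  [∀ E : CochainComplex C ℤ, (T.map₂CochainComplex.flip.obj E).IsLeftAdjoint]
  {B : C} {R : C ⥤ C} [R.Additive] (adj : T.flip.obj B ⊣ R)

include adj in
theorem isGE_dualFun_single (J : CochainComplex C ℤ) (a : ℤ) [J.IsStrictlyGE a] :
    ((dualFun T J).obj (op (sg B))).IsGE a := by
  have h : CochainComplex.IsGE ((R.mapHomologicalComplex (ComplexShape.up ℤ)).obj J) a := inferInstance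
  exact CochainComplex.isGE_of_iso (asIso (uMap adj J)) a

include adj in
/-- The dual of `B[0]` with respect to a K-injective complex in degrees `≥ a` is in degrees `≥ a`. -/
theorem isGE_dualFun_single_kInj [EnoughInjectives C] (J : CochainComplex C ℤ) [J.IsKInjective] (a : ℤ)
    [J.IsGE a] : ((dualFun T J).obj (op (sg B))).IsGE a := by
  obtain ⟨J₀, e, f, he, hf, hJ₀, ha⟩ := BidLimKInj.exists_bdd J a
  have h1 := BidLimKInj.quasiIso_of_homotopyEquivalences (BidLimKInj.homotopyEquivalences_map R he)
  have h0 : CochainComplex.IsGE ((R.mapHomologicalComplex (ComplexShape.up ℤ)).obj J₀) a := inferInstance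
  have h : CochainComplex.IsGE ((R.mapHomologicalComplex (ComplexShape.up ℤ)).obj J) a := by
    rw [CochainComplex.isGE_iff] at h0 ⊢
    intro i hi
    exact (exactAt_iff_of_quasiIsoAt ((R.mapHomologicalComplex (ComplexShape.up ℤ)).map e) i).2 (h0 i hi)
  exact CochainComplex.isGE_of_iso (asIso (uMap adj J)) a

end Groth.Agent.Sga4h.BidLimGE
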