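import Groth.Agent.Sga4h.BidTens
import Groth.Agent.Sga4h.HomRes
import Groth.Agent.Etcore.LFreePull

/-!
# The comparison map `g⁻¹ Hom(F, G) ⟶ Hom(g⁻¹F, g⁻¹G)`

* `theta g F G`, with the formula `hev_theta` on sections;
* `theta_naturality`.
-/

set_option autoImplicit false

universe u

open CategoryTheory CategoryTheory.Limits AlgebraicGeometry MonoidalCategory Opposite TensorProduct

namespace Groth.Agent.Sga4h.BidLimHom

open ModDTensor HomSh BidTens

variable {Λ : Type (u + 1)} [CommRing Λ] {X Y : Scheme.{u}}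

/-- The adjoint of `ψ : F ⊗ Q ⟶ H` on sections. -/
lemma hev_homEquiv {F Q H : EtModW.Mod Λ X} (ψ : ((EtModD.tensorBi Λ X).obj F).obj Q ⟶ H) {W W' : X.Etale}
    (q : Q.obj.obj (op W)) (k : W' ⟶ W) (x : F.obj.obj (op W')) :
    (hev (((homShAdj F).homEquiv Q H ψ).hom.app (op W) q) k).hom x =
      (ψ.hom.app (op W')).hom ((toT F Q W').hom (x ⊗ₜ[Λ] (Q.obj.map k.op).hom q)) := rfl

/-- The evaluation `F ⊗ Hom(F, G) ⟶ G` on sections. -/
lemma counit_toT {F G : EtModW.Mod Λ X} {W : X.Etale} (x : F.obj.obj (op W))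
    (φ : (homSh F G).obj.obj (op W)) :
    (((homShAdj F).counit.app G).hom.app (op W)).hom ((toT F (homSh F G) W).hom (x ⊗ₜ[Λ] φ)) =
      (hev φ (𝟙 W)).hom x := by
  have h : (homShAdj F).homEquiv (homSh F G) G ((homShAdj F).counit.app G) = 𝟙 _ := by
    rw [Adjunction.homEquiv_unit]
    exact (homShAdj F).right_triangle_components G
  have h1 := hev_homEquiv (Q := homSh F G) ((homShAdj F).counit.app G) φ (𝟙 W) x
  have h2 : (hev (((homShAdj F).homEquiv (homSh F G) G
      ((homShAdj F).counit.app G)).hom.app (op W) φ) (𝟙 W)).hom x = (hev φ (𝟙 W)).hom x := by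
    rw [h]
    rfl
  have h3 : ((homSh F G).obj.map (𝟙 W).op).hom φ = φ := by
    rw [op_id, CategoryTheory.Functor.map_id]
    rfl
  rw [h3] at h1
  exact h1.symm.trans h2

variable (g : Y ⟶ X)

/-- The pairing `g⁻¹F ⊗ g⁻¹Hom(F, G) ⟶ g⁻¹G`. -/
noncomputable def thetaPair (F G : EtModW.Mod Λ X) :
    ((EtModD.tensorBi Λ Y).obj ((EtModW.pull Λ g).obj F)).obj ((EtModW.pull Λ g).obj (homSh F G)) ⟶
      (EtModW.pull Λ g).obj G :=
  ((pullTensor Λ g).inv.app F).app (homSh F G) ≫ (EtModW.pull Λ g).map ((homShAdj F).counit.app G)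

/-- The comparison map `g⁻¹ Hom(F, G) ⟶ Hom(g⁻¹F, g⁻¹G)`. -/
noncomputable def theta (F G : EtModW.Mod Λ X) :
    (EtModW.pull Λ g).obj (homSh F G) ⟶ homSh ((EtModW.pull Λ g).obj F) ((EtModW.pull Λ g).obj G) :=
  (homShAdj ((EtModW.pull Λ g).obj F)).homEquiv _ _ (thetaPair g F G)

lemma toT_thetaPair (F G : EtModW.Mod Λ X) (W : X.Etale) (x : F.obj.obj (op W))
    (φ : (homSh F G).obj.obj (op W)) :
    ((thetaPair g F G).hom.app (op ((EtCoh.bc g).obj W))).hom
      ((toT ((EtModW.pull Λ g).obj F) ((EtModW.pull Λ g).obj (homSh F G)) ((EtCoh.bc g).obj W)).hom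
        ((eta g F W).hom x ⊗ₜ[Λ] (eta g (homSh F G) W).hom φ)) =
      (eta g G W).hom ((hev φ (𝟙 W)).hom x) := by
  have h1 : ((delta g F (homSh F G)).hom.app (op ((EtCoh.bc g).obj W))).hom
      ((eta g _ W).hom ((toT F (homSh F G) W).hom (x ⊗ₜ[Λ] φ))) =
      (toT ((EtModW.pull Λ g).obj F) ((EtModW.pull Λ g).obj (homSh F G)) ((EtCoh.bc g).obj W)).hom
        ((eta g F W).hom x ⊗ₜ[Λ] (eta g (homSh F G) W).hom φ) :=
    ConcreteCategory.congr_hom (toT_delta g F (homSh F G) W) (x ⊗ₜ[Λ] φ)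
  have h3 := ConcreteCategory.congr_hom (eta_nat g ((homShAdj F).counit.app G) W)
    ((toT F (homSh F G) W).hom (x ⊗ₜ[Λ] φ))
  have h4 : delta g F (homSh F G) ≫ thetaPair g F G = (EtModW.pull Λ g).map ((homShAdj F).counit.app G) := by
    rw [thetaPair, ← Category.assoc, delta_pullTensor_inv]
    exact Category.id_comp _
  have h5 : ((thetaPair g F G).hom.app (op ((EtCoh.bc g).obj W))).hom
      (((delta g F (homSh F G)).hom.app (op ((EtCoh.bc g).obj W))).hom
      ((eta g _ W).hom ((toT F (homSh F G) W).hom (x ⊗ₜ[Λ] φ)))) =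
      (((EtModW.pull Λ g).map ((homShAdj F).counit.app G)).hom.app (op ((EtCoh.bc g).obj W))).hom
        ((eta g _ W).hom ((toT F (homSh F G) W).hom (x ⊗ₜ[Λ] φ))) := by
    rw [← h4]
    rfl
  rw [← h1]
  exact h5.trans (h3.trans (congrArg (eta g G W).hom (counit_toT x φ)))

/-- The comparison map on sections. -/
theorem hev_theta (F G : EtModW.Mod Λ X) {W W' : X.Etale} (φ : (homSh F G).obj.obj (op W)) (k : W' ⟶ W)
    (x : F.obj.obj (op W')) :
    (hev ((theta g F G).hom.app (op ((EtCoh.bc g).obj W)) ((eta g (homSh F G) W).hom φ))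
      ((EtCoh.bc g).map k)).hom ((eta g F W').hom x) = (eta g G W').hom ((hev φ k).hom x) := by
  have h1 := hev_homEquiv (thetaPair g F G) ((eta g (homSh F G) W).hom φ) ((EtCoh.bc g).map k)
    ((eta g F W').hom x)
  have h2 : (((EtModW.pull Λ g).obj (homSh F G)).obj.map ((EtCoh.bc g).map k).op).hom
      ((eta g (homSh F G) W).hom φ) = (eta g (homSh F G) W').hom (((homSh F G).obj.map k.op).hom φ) :=
    ConcreteCategory.congr_hom (eta_res g (homSh F G) k) φ
  rw [h2] at h1
  refine h1.trans ?_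
  refine (toT_thetaPair g F G W' x _).trans ?_
  have h3 : hev (((homSh F G).obj.map k.op).hom φ) (𝟙 W') = hev φ (𝟙 W' ≫ k) := rfl
  rw [h3, Category.id_comp]

/-- The comparison map is natural in `G`. -/
theorem theta_naturality (F : EtModW.Mod Λ X) {G G' : EtModW.Mod Λ X} (a : G ⟶ G') :
    (EtModW.pull Λ g).map ((homShF F).map a) ≫ theta g F G' =
      theta g F G ≫ (homShF ((EtModW.pull Λ g).obj F)).map ((EtModW.pull Λ g).map a) := by
  have h1 : ((EtModD.tensorBi Λ Y).obj ((EtModW.pull Λ g).obj F)).map ((EtModW.pull Λ g).map ((homShF F).map a)) ≫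
      thetaPair g F G' = thetaPair g F G ≫ (EtModW.pull Λ g).map a := by
    have h2 : ((EtModD.tensorBi Λ Y).obj ((EtModW.pull Λ g).obj F)).map
        ((EtModW.pull Λ g).map ((homShF F).map a)) ≫ ((pullTensor Λ g).inv.app F).app (homSh F G') =
        ((pullTensor Λ g).inv.app F).app (homSh F G) ≫
          (EtModW.pull Λ g).map (((EtModD.tensorBi Λ X).obj F).map ((homShF F).map a)) :=
      ((pullTensor Λ g).inv.app F).naturality ((homShF F).map a)
    have h3 := (homShAdj F).counit.naturality a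
    refine (Category.assoc _ _ _).symm.trans ((congrArg (· ≫ _) h2).trans ?_)
    refine (Category.assoc _ _ _).trans (Eq.trans ?_ (Category.assoc _ _ _).symm)
    refine congrArg (((pullTensor Λ g).inv.app F).app (homSh F G) ≫ ·) ?_
    exact ((EtModW.pull Λ g).map_comp _ _).symm.trans ((congrArg _ h3).trans ((EtModW.pull Λ g).map_comp _ _))
  refine ((homShAdj ((EtModW.pull Λ g).obj F)).homEquiv_naturality_left _ _).symm.trans ?_
  refine Eq.trans ?_ ((homShAdj ((EtModW.pull Λ g).obj F)).homEquiv_naturality_right _ _)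
  exact congrArg _ h1

end Groth.Agent.Sga4h.BidLimHom
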