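import Groth.Agent.Sga4h.ModDTensor
import Groth.Agent.Sga4h.EtPts
import Groth.Agent.Sga4B.PullGerm

/-!
# The inverse image of sheaves of modules commutes with tensor products

For `f : Y ⟶ X` and sheaves of `Λ`-modules `A`, `B` on `X_et`: `delta f A B : f⁻¹ (A ⊗ B) ⟶ f⁻¹ A ⊗ f⁻¹ B` is an
isomorphism, natural in `A` and `B` and compatible with the symmetries; `pullTensor` is the isomorphism of
bifunctors.
-/

set_option autoImplicit false

universe u

open CategoryTheory CategoryTheory.Limits AlgebraicGeometry MonoidalCategory Opposite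

namespace Groth.Agent.Sga4h.BidTens

open ModDTensor EtPts

variable {Λ : Type (u + 1)} [CommRing Λ] {X Y : Scheme.{u}} (f : Y ⟶ X)

/-- The adjunction between inverse image and direct image of sheaves of modules. -/
noncomputable abbrev ppAdj : EtModW.pull Λ f ⊣ EtModW.push Λ f :=
  (EtCoh.bc f).sheafAdjunctionContinuous (ModuleCat.{u + 1} Λ) X.smallEtaleTopology Y.smallEtaleTopology

/-- The unit on sections: `F(U) ⟶ (f⁻¹ F)(U ×_X Y)`. -/
noncomputable abbrev eta (F : EtModW.Mod Λ X) (U : X.Etale) :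
    F.obj.obj (op U) ⟶ ((EtModW.pull Λ f).obj F).obj.obj (op ((EtCoh.bc f).obj U)) :=
  ((ppAdj f).unit.app F).hom.app (op U)

lemma eta_nat {F G : EtModW.Mod Λ X} (a : F ⟶ G) (U : X.Etale) :
    eta f F U ≫ ((EtModW.pull Λ f).map a).hom.app (op ((EtCoh.bc f).obj U)) = a.hom.app (op U) ≫ eta f G U := by
  have h := (ppAdj f).unit.naturality a
  have h2 := congrArg (fun φ => φ.hom.app (op U)) h
  exact h2.symm

lemma eta_res (F : EtModW.Mod Λ X) {U V : X.Etale} (g : V ⟶ U) :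
    eta f F U ≫ ((EtModW.pull Λ f).obj F).obj.map ((EtCoh.bc f).map g).op = F.obj.map g.op ≫ eta f F V :=
  (((ppAdj f).unit.app F).hom.naturality g.op).symm

/-- Morphisms out of `f⁻¹ F` are determined on sections of `F`. -/
lemma pull_hom_ext {F : EtModW.Mod Λ X} {M : EtModW.Mod Λ Y} {u v : (EtModW.pull Λ f).obj F ⟶ M}
    (h : ∀ U : X.Etale, eta f F U ≫ u.hom.app (op ((EtCoh.bc f).obj U)) =
      eta f F U ≫ v.hom.app (op ((EtCoh.bc f).obj U))) : u = v := by
  apply ((ppAdj f).homEquiv _ _).injective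
  rw [Adjunction.homEquiv_unit, Adjunction.homEquiv_unit]
  ext : 3
  exact h _

/-- The canonical map `A(U) ⊗ B(U) ⟶ (A ⊗ B)(U)`. -/
noncomputable abbrev toT (A B : EtModW.Mod Λ X) (U : X.Etale) :
    A.obj.obj (op U) ⊗ B.obj.obj (op U) ⟶ (((EtModD.tensorBi Λ X).obj A).obj B).obj.obj (op U) :=
  (toSheafify X.smallEtaleTopology (((inc Λ X).obj A : PMod Λ X) ⊗ (inc Λ X).obj B)).app (op U)

lemma toT_nat₁ {A A' : EtModW.Mod Λ X} (a : A ⟶ A') (B : EtModW.Mod Λ X) (U : X.Etale) :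
    toT A B U ≫ (((EtModD.tensorBi Λ X).map a).app B).hom.app (op U) =
      (a.hom.app (op U) ▷ B.obj.obj (op U)) ≫ toT A' B U :=
  congr_app (toSheafify_naturality X.smallEtaleTopology
    (((inc Λ X).map a) ▷ ((inc Λ X).obj B : PMod Λ X))) (op U) |>.symm

lemma toT_nat₂ (A : EtModW.Mod Λ X) {B B' : EtModW.Mod Λ X} (b : B ⟶ B') (U : X.Etale) :
    toT A B U ≫ (((EtModD.tensorBi Λ X).obj A).map b).hom.app (op U) =
      (A.obj.obj (op U) ◁ b.hom.app (op U)) ≫ toT A B' U :=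
  congr_app (toSheafify_naturality X.smallEtaleTopology
    (((inc Λ X).obj A : PMod Λ X) ◁ ((inc Λ X).map b))) (op U) |>.symm

lemma toT_flip (A B : EtModW.Mod Λ X) (U : X.Etale) :
    toT B A U ≫ (((tensorFlipIso Λ X).hom.app A).app B).hom.app (op U) =
      (β_ (B.obj.obj (op U)) (A.obj.obj (op U))).hom ≫ toT A B U :=
  congr_app (toSheafify_naturality X.smallEtaleTopology
    (β_ ((inc Λ X).obj B : PMod Λ X) ((inc Λ X).obj A)).hom) (op U) |>.symm

/-- Morphisms out of `A ⊗ B` are determined on pure tensors. -/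
lemma tensor_hom_ext {A B M : EtModW.Mod Λ X} {u v : ((EtModD.tensorBi Λ X).obj A).obj B ⟶ M}
    (h : ∀ U : X.Etale, toT A B U ≫ u.hom.app (op U) = toT A B U ≫ v.hom.app (op U)) : u = v := by
  ext1
  refine sheafify_hom_ext _ _ _ M.property ?_
  ext U : 2
  exact h U.unop

/-- Morphisms out of `f⁻¹ (A ⊗ B)` are determined on pure tensors. -/
lemma pull_tensor_hom_ext {A B : EtModW.Mod Λ X} {M : EtModW.Mod Λ Y}
    {u v : (EtModW.pull Λ f).obj (((EtModD.tensorBi Λ X).obj A).obj B) ⟶ M}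
    (h : ∀ U : X.Etale, toT A B U ≫ eta f _ U ≫ u.hom.app (op ((EtCoh.bc f).obj U)) =
      toT A B U ≫ eta f _ U ≫ v.hom.app (op ((EtCoh.bc f).obj U))) : u = v := by
  apply ((ppAdj f).homEquiv _ _).injective
  rw [Adjunction.homEquiv_unit, Adjunction.homEquiv_unit]
  exact tensor_hom_ext h

/-- The morphism of presheaves `A ⊗ B ⟶ f_* (f⁻¹ A ⊗ f⁻¹ B)`. -/
noncomputable def dPre (A B : EtModW.Mod Λ X) :
    (((inc Λ X).obj A : PMod Λ X) ⊗ (inc Λ X).obj B) ⟶
      ((EtModW.push Λ f).obj (((EtModD.tensorBi Λ Y).obj ((EtModW.pull Λ f).obj A)).obj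
        ((EtModW.pull Λ f).obj B))).obj where
  app U := (eta f A U.unop ⊗ₘ eta f B U.unop) ≫
    toT ((EtModW.pull Λ f).obj A) ((EtModW.pull Λ f).obj B) ((EtCoh.bc f).obj U.unop)
  naturality {U V} g := by
    have h1 := eta_res f A g.unop
    have h2 := eta_res f B g.unop
    have h3 := (toSheafify Y.smallEtaleTopology (((inc Λ Y).obj ((EtModW.pull Λ f).obj A) : PMod Λ Y) ⊗
      (inc Λ Y).obj ((EtModW.pull Λ f).obj B))).naturality ((EtCoh.bc f).map g.unop).op
    have h4 : (A.obj.map g ⊗ₘ B.obj.map g) ≫ (eta f A V.unop ⊗ₘ eta f B V.unop) =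
        (eta f A U.unop ⊗ₘ eta f B U.unop) ≫
          (((EtModW.pull Λ f).obj A).obj.map ((EtCoh.bc f).map g.unop).op ⊗ₘ
            ((EtModW.pull Λ f).obj B).obj.map ((EtCoh.bc f).map g.unop).op) := by
      rw [MonoidalCategory.tensorHom_comp_tensorHom, MonoidalCategory.tensorHom_comp_tensorHom, h1, h2]
      rfl
    refine ((Category.assoc _ _ _).symm.trans ?_).trans (Category.assoc _ _ _).symm
    refine (congrArg (· ≫ toT ((EtModW.pull Λ f).obj A) ((EtModW.pull Λ f).obj B)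
      ((EtCoh.bc f).obj V.unop)) h4).trans ?_
    refine (Category.assoc _ _ _).trans ?_
    exact congrArg ((eta f A U.unop ⊗ₘ eta f B U.unop) ≫ ·) h3

/-- The morphism `A ⊗ B ⟶ f_* (f⁻¹ A ⊗ f⁻¹ B)`. -/
noncomputable def dSh (A B : EtModW.Mod Λ X) :
    ((EtModD.tensorBi Λ X).obj A).obj B ⟶
      (EtModW.push Λ f).obj (((EtModD.tensorBi Λ Y).obj ((EtModW.pull Λ f).obj A)).obj
        ((EtModW.pull Λ f).obj B)) :=
  ((sheafificationAdjunction X.smallEtaleTopology (ModuleCat.{u + 1} Λ)).homEquiv _ _).symm (dPre f A B)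

lemma toT_dSh (A B : EtModW.Mod Λ X) (U : X.Etale) :
    toT A B U ≫ (dSh f A B).hom.app (op U) = (eta f A U ⊗ₘ eta f B U) ≫
      toT ((EtModW.pull Λ f).obj A) ((EtModW.pull Λ f).obj B) ((EtCoh.bc f).obj U) := by
  have h := ((sheafificationAdjunction X.smallEtaleTopology
    (ModuleCat.{u + 1} Λ)).homEquiv (((inc Λ X).obj A : PMod Λ X) ⊗ (inc Λ X).obj B)
      ((EtModW.push Λ f).obj (((EtModD.tensorBi Λ Y).obj ((EtModW.pull Λ f).obj A)).obj
        ((EtModW.pull Λ f).obj B)))).apply_symm_apply (dPre f A B)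
  rw [Adjunction.homEquiv_unit] at h
  exact congr_app h (op U)

/-- The canonical morphism `f⁻¹ (A ⊗ B) ⟶ f⁻¹ A ⊗ f⁻¹ B`. -/
noncomputable def delta (A B : EtModW.Mod Λ X) :
    (EtModW.pull Λ f).obj (((EtModD.tensorBi Λ X).obj A).obj B) ⟶
      ((EtModD.tensorBi Λ Y).obj ((EtModW.pull Λ f).obj A)).obj ((EtModW.pull Λ f).obj B) :=
  ((ppAdj f).homEquiv _ _).symm (dSh f A B)

lemma toT_delta (A B : EtModW.Mod Λ X) (U : X.Etale) :
    toT A B U ≫ eta f _ U ≫ (delta f A B).hom.app (op ((EtCoh.bc f).obj U)) =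
      (eta f A U ⊗ₘ eta f B U) ≫
        toT ((EtModW.pull Λ f).obj A) ((EtModW.pull Λ f).obj B) ((EtCoh.bc f).obj U) := by
  have h := ((ppAdj f).homEquiv _ _).apply_symm_apply (dSh f A B)
  rw [Adjunction.homEquiv_unit] at h
  rw [← toT_dSh, ← h]
  rfl

section Nat

lemma delta_nat₁ {A A' : EtModW.Mod Λ X} (a : A ⟶ A') (B : EtModW.Mod Λ X) :
    (EtModW.pull Λ f).map (((EtModD.tensorBi Λ X).map a).app B) ≫ delta f A' B =
      delta f A B ≫ ((EtModD.tensorBi Λ Y).map ((EtModW.pull Λ f).map a)).app ((EtModW.pull Λ f).obj B) := by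
  refine pull_tensor_hom_ext f (fun U => ?_)
  have h1 := eta_nat f (((EtModD.tensorBi Λ X).map a).app B) U
  have h2 := toT_nat₁ a B U
  have h3 := toT_delta f A' B U
  have h4 := toT_delta f A B U
  have h5 := toT_nat₁ ((EtModW.pull Λ f).map a) ((EtModW.pull Λ f).obj B) ((EtCoh.bc f).obj U)
  have h6 := eta_nat f a U
  change toT A B U ≫ eta f _ U ≫ ((EtModW.pull Λ f).map (((EtModD.tensorBi Λ X).map a).app B)).hom.app
      (op ((EtCoh.bc f).obj U)) ≫ (delta f A' B).hom.app (op ((EtCoh.bc f).obj U)) =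
    toT A B U ≫ eta f _ U ≫ (delta f A B).hom.app (op ((EtCoh.bc f).obj U)) ≫
      (((EtModD.tensorBi Λ Y).map ((EtModW.pull Λ f).map a)).app ((EtModW.pull Λ f).obj B)).hom.app
        (op ((EtCoh.bc f).obj U))
  rw [reassoc_of% h1, reassoc_of% h2, h3, reassoc_of% h4, h5, whiskerRight_comp_tensorHom_assoc,
    tensorHom_comp_whiskerRight_assoc, h6]

lemma delta_nat₂ (A : EtModW.Mod Λ X) {B B' : EtModW.Mod Λ X} (b : B ⟶ B') :
    (EtModW.pull Λ f).map (((EtModD.tensorBi Λ X).obj A).map b) ≫ delta f A B' =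
      delta f A B ≫ ((EtModD.tensorBi Λ Y).obj ((EtModW.pull Λ f).obj A)).map ((EtModW.pull Λ f).map b) := by
  refine pull_tensor_hom_ext f (fun U => ?_)
  have h1 := eta_nat f (((EtModD.tensorBi Λ X).obj A).map b) U
  have h2 := toT_nat₂ A b U
  have h3 := toT_delta f A B' U
  have h4 := toT_delta f A B U
  have h5 := toT_nat₂ ((EtModW.pull Λ f).obj A) ((EtModW.pull Λ f).map b) ((EtCoh.bc f).obj U)
  have h6 := eta_nat f b U
  change toT A B U ≫ eta f _ U ≫ ((EtModW.pull Λ f).map (((EtModD.tensorBi Λ X).obj A).map b)).hom.app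
      (op ((EtCoh.bc f).obj U)) ≫ (delta f A B').hom.app (op ((EtCoh.bc f).obj U)) =
    toT A B U ≫ eta f _ U ≫ (delta f A B).hom.app (op ((EtCoh.bc f).obj U)) ≫
      (((EtModD.tensorBi Λ Y).obj ((EtModW.pull Λ f).obj A)).map ((EtModW.pull Λ f).map b)).hom.app
        (op ((EtCoh.bc f).obj U))
  rw [reassoc_of% h1, reassoc_of% h2, h3, reassoc_of% h4, h5, whiskerLeft_comp_tensorHom_assoc,
    tensorHom_comp_whiskerLeft_assoc, h6]

lemma delta_flip (A B : EtModW.Mod Λ X) :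
    (EtModW.pull Λ f).map (((tensorFlipIso Λ X).hom.app A).app B) ≫ delta f A B =
      delta f B A ≫ ((tensorFlipIso Λ Y).hom.app ((EtModW.pull Λ f).obj A)).app ((EtModW.pull Λ f).obj B) := by
  refine pull_tensor_hom_ext f (fun U => ?_)
  have h1 : eta f (((EtModD.tensorBi Λ X).obj B).obj A) U ≫
      ((EtModW.pull Λ f).map (((tensorFlipIso Λ X).hom.app A).app B)).hom.app (op ((EtCoh.bc f).obj U)) =
    (((tensorFlipIso Λ X).hom.app A).app B).hom.app (op U) ≫ eta f (((EtModD.tensorBi Λ X).obj A).obj B) U :=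
    eta_nat f (((tensorFlipIso Λ X).hom.app A).app B) U
  have h2 := toT_flip A B U
  have h3 := toT_delta f A B U
  have h4 := toT_delta f B A U
  have h5 := toT_flip ((EtModW.pull Λ f).obj A) ((EtModW.pull Λ f).obj B) ((EtCoh.bc f).obj U)
  change toT B A U ≫ eta f _ U ≫ ((EtModW.pull Λ f).map (((tensorFlipIso Λ X).hom.app A).app B)).hom.app
      (op ((EtCoh.bc f).obj U)) ≫ (delta f A B).hom.app (op ((EtCoh.bc f).obj U)) =
    toT B A U ≫ eta f _ U ≫ (delta f B A).hom.app (op ((EtCoh.bc f).obj U)) ≫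
      (((tensorFlipIso Λ Y).hom.app ((EtModW.pull Λ f).obj A)).app ((EtModW.pull Λ f).obj B)).hom.app
        (op ((EtCoh.bc f).obj U))
  rw [reassoc_of% h1, reassoc_of% h2, h3, reassoc_of% h4, h5, BraidedCategory.braiding_naturality_assoc]

end Nat

section Stalk

open GrothendieckTopology.Point

/-- The point of `X` below a geometric point of `Y`. -/
noncomputable abbrev below (y : Y) : X.smallEtaleTopology.Point :=
  (gpt y).comap (EtCoh.bc f) (EtCoh.coverPreserving_bc f)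

/-- The stalk of `f⁻¹ F` at `y` is the stalk of `F` below `y`. -/
noncomputable def stkIso (y : Y) (F : EtModW.Mod Λ X) :
    (below f y).presheafFiber.obj F.obj ≅ (gpt y).presheafFiber.obj ((EtModW.pull Λ f).obj F).obj :=
  ((gpt y).sheafFiberComapIso (EtCoh.bc f) (EtCoh.coverPreserving_bc f) (ModuleCat.{u + 1} Λ)).app F

lemma germ_stkIso (y : Y) (F : EtModW.Mod Λ X) (V : X.Etale) (x : (gpt y).fiber.obj ((EtCoh.bc f).obj V)) :
    (below f y).toPresheafFiber V x F.obj ≫ (stkIso f y F).hom =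
      eta f F V ≫ (gpt y).toPresheafFiber ((EtCoh.bc f).obj V) x ((EtModW.pull Λ f).obj F).obj :=
  Sga4B.PullGerm.toPresheafFiber_sheafFiberComapIso_hom (gpt y) (EtCoh.bc f) (EtCoh.coverPreserving_bc f)
    (ModuleCat.{u + 1} Λ) F V x

/-- The sheafification morphism of the presheaf tensor product. -/
noncomputable abbrev tSh {X : Scheme.{u}} (A B : EtModW.Mod Λ X) :
    (A.obj ⊗ B.obj : X.Etaleᵒᵖ ⥤ ModuleCat.{u + 1} Λ) ⟶ (((EtModD.tensorBi Λ X).obj A).obj B).obj :=
  toSheafify X.smallEtaleTopology (((inc Λ X).obj A : PMod Λ X) ⊗ (inc Λ X).obj B)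

instance isIso_tSh (Φ : X.smallEtaleTopology.Point) [InitiallySmall.{u} Φ.fiber.Elements] (A B : EtModW.Mod Λ X) :
    IsIso ((GrothendieckTopology.Point.presheafFiber.{u} Φ).map (tSh A B)) :=
  inferInstanceAs (IsIso (Φ.presheafFiber.map (CategoryTheory.toSheafify X.smallEtaleTopology
    (((inc Λ X).obj A : PMod Λ X) ⊗ (inc Λ X).obj B))))

lemma toT_germ (y : Y) (A B : EtModW.Mod Λ X) (V : X.Etale) (x : (gpt y).fiber.obj ((EtCoh.bc f).obj V)) :
    ((below f y).toPresheafFiber V x A.obj ⊗ₘ (below f y).toPresheafFiber V x B.obj) ≫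
      ((stkIso f y A).hom ⊗ₘ (stkIso f y B).hom) ≫
        Functor.LaxMonoidal.μ (gpt y).presheafFiber ((EtModW.pull Λ f).obj A).obj ((EtModW.pull Λ f).obj B).obj =
      (eta f A V ⊗ₘ eta f B V) ≫ (gpt y).toPresheafFiber ((EtCoh.bc f).obj V) x
        (((EtModW.pull Λ f).obj A).obj ⊗ ((EtModW.pull Λ f).obj B).obj) := by
  rw [tensorHom_comp_tensorHom_assoc, germ_stkIso, germ_stkIso, ← tensorHom_comp_tensorHom_assoc,
    GrothendieckTopology.Point.tensorHom_comp_toPresheafFiber_μ]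

lemma stalk_delta (y : Y) (A B : EtModW.Mod Λ X) :
    (below f y).presheafFiber.map (tSh A B) ≫
      (stkIso f y (((EtModD.tensorBi Λ X).obj A).obj B)).hom ≫ (gpt y).presheafFiber.map (delta f A B).hom =
    Functor.OplaxMonoidal.δ (below f y).presheafFiber A.obj B.obj ≫
      ((stkIso f y A).hom ⊗ₘ (stkIso f y B).hom) ≫
      Functor.LaxMonoidal.μ (gpt y).presheafFiber ((EtModW.pull Λ f).obj A).obj ((EtModW.pull Λ f).obj B).obj ≫
      (gpt y).presheafFiber.map (tSh ((EtModW.pull Λ f).obj A) ((EtModW.pull Λ f).obj B)) := by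
  refine GrothendieckTopology.Point.presheafFiber_hom_ext _ (fun V x => ?_)
  have h1 := toT_germ f y A B V x
  have h2 := germ_stkIso f y (((EtModD.tensorBi Λ X).obj A).obj B) V x
  have h3 := (gpt y).toPresheafFiber_naturality (delta f A B).hom ((EtCoh.bc f).obj V) x
  have h4 := toT_delta f A B V
  have h5 := (gpt y).toPresheafFiber_naturality (tSh ((EtModW.pull Λ f).obj A) ((EtModW.pull Λ f).obj B))
    ((EtCoh.bc f).obj V) x
  have h6 := (below f y).toPresheafFiber_naturality (tSh A B) V x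
  have h7 := (below f y).toPresheafFiber_δ V x A.obj B.obj
  rw [reassoc_of% h6, reassoc_of% h2, h3, reassoc_of% h7]
  refine Eq.trans ?_ ((reassoc_of% h1) _).symm
  refine Eq.trans ?_ (congrArg (fun z => (eta f A V ⊗ₘ eta f B V) ≫ z) h5).symm
  exact (reassoc_of% h4) _

/-- `f⁻¹ (A ⊗ B) ⟶ f⁻¹ A ⊗ f⁻¹ B` is an isomorphism. -/
instance isIso_delta (A B : EtModW.Mod Λ X) : IsIso (delta f A B) := by
  rw [(stk_jointly Λ Y).isIso_iff]
  intro y
  have h := stalk_delta f y A B
  have h1 : IsIso ((below f y).presheafFiber.map (tSh A B) ≫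
      (stkIso f y (((EtModD.tensorBi Λ X).obj A).obj B)).hom ≫
        (gpt y).presheafFiber.map (delta f A B).hom) := by
    rw [h]
    infer_instance
  have h2 : IsIso ((stkIso f y (((EtModD.tensorBi Λ X).obj A).obj B)).hom ≫
        (gpt y).presheafFiber.map (delta f A B).hom) :=
    IsIso.of_isIso_comp_left ((below f y).presheafFiber.map (tSh A B)) _
  have h3 : IsIso ((gpt y).presheafFiber.map (delta f A B).hom) :=
    IsIso.of_isIso_comp_left (stkIso f y (((EtModD.tensorBi Λ X).obj A).obj B)).hom _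
  exact h3

end Stalk

variable (Λ) in
/-- `f⁻¹ (A ⊗ B) ≅ f⁻¹ A ⊗ f⁻¹ B` as an isomorphism of bifunctors. -/
noncomputable def pullTensor :
    EtModD.tensorBi Λ X ⋙ (Functor.whiskeringRight _ _ _).obj (EtModW.pull Λ f) ≅
      EtModW.pull Λ f ⋙ EtModD.tensorBi Λ Y ⋙ (Functor.whiskeringLeft _ _ _).obj (EtModW.pull Λ f) :=
  NatIso.ofComponents (fun A => NatIso.ofComponents (fun B => asIso (delta f A B))
    (fun {B B'} b => delta_nat₂ f A b)) (fun {A A'} a => by
      ext B : 2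
      exact delta_nat₁ f a B)

lemma pullTensor_hom_app_app (A B : EtModW.Mod Λ X) :
    ((pullTensor Λ f).hom.app A).app B = delta f A B := rfl

lemma delta_pullTensor_inv (A B : EtModW.Mod Λ X) :
    delta f A B ≫ ((pullTensor Λ f).inv.app A).app B = 𝟙 _ :=
  congr_app (congr_app (pullTensor Λ f).hom_inv_id A) B

lemma pullTensor_inv_delta (A B : EtModW.Mod Λ X) :
    ((pullTensor Λ f).inv.app A).app B ≫ delta f A B = 𝟙 _ :=
  congr_app (congr_app (pullTensor Λ f).inv_hom_id A) B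

/-- The inverse of `pullTensor` is compatible with the symmetries. -/
lemma pullTensor_inv_flip (A B : EtModW.Mod Λ X) :
    ((tensorFlipIso Λ Y).hom.app ((EtModW.pull Λ f).obj A)).app ((EtModW.pull Λ f).obj B) ≫
        ((pullTensor Λ f).inv.app A).app B =
      ((pullTensor Λ f).inv.app B).app A ≫
        (EtModW.pull Λ f).map (((tensorFlipIso Λ X).hom.app A).app B) := by
  have h1 := delta_flip f A B
  rw [← cancel_mono (delta f A B), Category.assoc, Category.assoc]
  refine ((congrArg (((tensorFlipIso Λ Y).hom.app ((EtModW.pull Λ f).obj A)).app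
    ((EtModW.pull Λ f).obj B) ≫ ·) (pullTensor_inv_delta f A B)).trans (Category.comp_id _)).trans ?_
  refine Eq.trans ?_ (congrArg (((pullTensor Λ f).inv.app B).app A ≫ ·) h1).symm
  refine Eq.trans ?_ (Category.assoc _ _ _)
  exact ((congrArg (· ≫ ((tensorFlipIso Λ Y).hom.app ((EtModW.pull Λ f).obj A)).app
    ((EtModW.pull Λ f).obj B)) (pullTensor_inv_delta f B A)).trans (Category.id_comp _)).symm

end Groth.Agent.Sga4h.BidTens
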