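import Groth.Agent.Sga4h.HomRes
import Groth.Agent.Sga4h.BidTens
import Groth.Agent.Etcore.LFreePull

/-!
# Internal Hom out of a sheaf representing sections

`Rep U F δ`: the sheaf of modules `F` represents sections over `U`, with universal section `δ ∈ F(U)`.
* `rep_LM`: `Λ[U]`; `Rep.pull`, `Rep.res`: stability under inverse images and restriction;
* `psi U F δ H : Hom(F, H) ⟶ j_* j^* H` (`j = U.hom`), natural in `H`, and an isomorphism if `Rep U F δ`.
-/

set_option autoImplicit false

universe u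

open CategoryTheory CategoryTheory.Limits AlgebraicGeometry MonoidalCategory Opposite TensorProduct

namespace Groth.Agent.Sga4h.BidLimRep

open HomPre HomSh HomRes ModRestr EtaleRes Groth.Agent.EtpbcA.OverSite

variable {Λ : Type (u + 1)} [CommRing Λ] {X Y : Scheme.{u}}

/-- `F` represents sections over `U`, with universal section `δ`. -/
def Rep (U : X.Etale) (F : EtModW.Mod Λ X) (δ : F.obj.obj (op U)) : Prop :=
  ∀ H : EtModW.Mod Λ X, Function.Bijective (fun α : F ⟶ H => (α.hom.app (op U)).hom δ)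

theorem rep_LM (U : X.Etale) : Rep U (Etcore.LFree.LM Λ U) (Etcore.LFree.gen Λ U) := fun H =>
  (Etcore.LFree.homEquiv U H).bijective

theorem Rep.pull {U : X.Etale} {F : EtModW.Mod Λ X} {δ : F.obj.obj (op U)} (h : Rep U F δ) (g : Y ⟶ X) :
    Rep ((EtCoh.bc g).obj U) ((EtModW.pull Λ g).obj F) ((BidTens.eta g F U).hom δ) := fun H =>
  (h ((EtModW.push Λ g).obj H)).comp ((BidTens.ppAdj g).homEquiv F H).bijective

theorem Rep.res {U : X.Etale} {F : EtModW.Mod Λ X} {δ : F.obj.obj (op U)} (h : Rep U F δ) (p : Y ⟶ X)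
    [Etale p] : Rep ((EtCoh.bc p).obj U) ((ModRestr.res Λ p).obj F)
      ((F.obj.map ((compBcAdj p).counit.app U).op).hom δ) := fun H =>
  (h ((EtModW.push Λ p).obj H)).comp ((resPushAdj Λ p).homEquiv F H).bijective

/-- The product `U ×_X W` as an etale scheme over `X` through `U`. -/
noncomputable abbrev PW (U W : X.Etale) : X.Etale :=
  (EtShriek.compEtale U.hom).obj ((EtCoh.bc U.hom).obj W)

/-- The first projection. -/
noncomputable def p₁ (U W : X.Etale) : PW U W ⟶ U :=
  MorphismProperty.Over.homMk ((EtCoh.bc U.hom).obj W).hom rfl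

/-- The second projection. -/
noncomputable def p₂ (U W : X.Etale) : PW U W ⟶ W := (compBcAdj U.hom).counit.app W

/-- Functoriality of `U ×_X W` in `W`. -/
noncomputable abbrev PWmap (U : X.Etale) {W W' : X.Etale} (k : W' ⟶ W) : PW U W' ⟶ PW U W :=
  (EtShriek.compEtale U.hom).map ((EtCoh.bc U.hom).map k)

lemma PWmap_p₁ (U : X.Etale) {W W' : X.Etale} (k : W' ⟶ W) : PWmap U k ≫ p₁ U W = p₁ U W' := by
  apply MorphismProperty.Over.Hom.ext
  exact MorphismProperty.Over.w ((EtCoh.bc U.hom).map k)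

lemma PWmap_p₂ (U : X.Etale) {W W' : X.Etale} (k : W' ⟶ W) : PWmap U k ≫ p₂ U W = p₂ U W' ≫ k :=
  (compBcAdj U.hom).counit.naturality k

/-- The swap. -/
noncomputable def sw (U W : X.Etale) : PW U W ≅ PW W U :=
  MorphismProperty.Over.isoMk (pullbackSymmetry W.hom U.hom) (by
    change (pullbackSymmetry W.hom U.hom).hom ≫ pullback.snd U.hom W.hom ≫ W.hom =
      pullback.snd W.hom U.hom ≫ U.hom
    rw [pullbackSymmetry_hom_comp_snd_assoc, pullback.condition])

lemma sw_p₁ (U W : X.Etale) : (sw U W).hom ≫ p₁ W U = p₂ U W := by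
  apply MorphismProperty.Over.Hom.ext
  exact pullbackSymmetry_hom_comp_snd W.hom U.hom

lemma sw_p₂ (U W : X.Etale) : (sw U W).hom ≫ p₂ W U = p₁ U W := by
  apply MorphismProperty.Over.Hom.ext
  exact pullbackSymmetry_hom_comp_fst W.hom U.hom

/-- The map `Hom(F, H) ⟶ j_* j^* H` given by a section `δ ∈ F(U)`, `j = U.hom`. -/
noncomputable def psi (U : X.Etale) (F : EtModW.Mod Λ X) (δ : F.obj.obj (op U)) (H : EtModW.Mod Λ X) :
    homSh F H ⟶ (EtModW.push Λ U.hom).obj ((ModRestr.res Λ U.hom).obj H) where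
  hom :=
    { app := fun W => ModuleCat.ofHom
        { toFun := fun φ => (hev (W := W.unop) φ (p₂ U W.unop)).hom ((F.obj.map (p₁ U W.unop).op).hom δ)
          map_add' := fun _ _ => rfl
          map_smul' := fun _ _ => rfl }
      naturality := fun W W' k => by
        ext φ
        have h1 := ev_naturality_apply (W := W.unop) φ (p₂ U W.unop) (PWmap U k.unop)
          ((F.obj.map (p₁ U W.unop).op).hom δ)
        have h2 : (F.obj.map (PWmap U k.unop).op).hom ((F.obj.map (p₁ U W.unop).op).hom δ) =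
            (F.obj.map (p₁ U W'.unop).op).hom δ := by
          rw [← PWmap_p₁ U k.unop, op_comp, F.obj.map_comp]
          rfl
        have h3 : (hev (W := W'.unop) (((homSh F H).obj.map k).hom φ) (p₂ U W'.unop)) =
            ev (W := W.unop) φ (p₂ U W'.unop ≫ k.unop) := rfl
        refine Eq.trans ?_ h1
        refine Eq.trans ?_ (congrArg (fun z => (ev (W := W.unop) φ (PWmap U k.unop ≫ p₂ U W.unop)).hom z) h2).symm
        rw [PWmap_p₂]
        rfl }

lemma psi_app (U : X.Etale) (F : EtModW.Mod Λ X) (δ : F.obj.obj (op U)) (H : EtModW.Mod Λ X) (W : X.Etale)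
    (φ : (homSh F H).obj.obj (op W)) :
    ((psi U F δ H).hom.app (op W)).hom φ = (hev φ (p₂ U W)).hom ((F.obj.map (p₁ U W).op).hom δ) := rfl

lemma psi_naturality (U : X.Etale) (F : EtModW.Mod Λ X) (δ : F.obj.obj (op U)) {H H' : EtModW.Mod Λ X}
    (a : H ⟶ H') :
    (homShF F).map a ≫ psi U F δ H' =
      psi U F δ H ≫ (EtModW.push Λ U.hom).map ((ModRestr.res Λ U.hom).map a) := by
  ext : 1
  refine NatTrans.ext (funext fun W => ?_)
  ext φ
  rfl

lemma bijective_psi {U : X.Etale} {F : EtModW.Mod Λ X} {δ : F.obj.obj (op U)} (h : Rep U F δ)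
    (H : EtModW.Mod Λ X) (W : X.Etale) : Function.Bijective ((psi U F δ H).hom.app (op W)).hom := by
  have h1 := (h.res (str W) ((ModRestr.res Λ (str W)).obj H)).comp (secHom_bijective (A := F) (H := H) W)
  have h2 : Function.Bijective (H.obj.map (sw U W).hom.op).hom :=
    ConcreteCategory.bijective_of_isIso (H.obj.map (sw U W).hom.op)
  have h3 := h2.comp h1
  have e : ∀ φ : (homSh F H).obj.obj (op W), ((psi U F δ H).hom.app (op W)).hom φ =
      (H.obj.map (sw U W).hom.op).hom ((hev φ (p₁ W U)).hom ((F.obj.map (p₂ W U).op).hom δ)) := by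
    intro φ
    have h4 := ev_naturality_apply (W := W) φ (p₁ W U) (sw U W).hom ((F.obj.map (p₂ W U).op).hom δ)
    have h5 : (F.obj.map (sw U W).hom.op).hom ((F.obj.map (p₂ W U).op).hom δ) =
        (F.obj.map (p₁ U W).op).hom δ := by
      rw [← sw_p₂ U W, op_comp, F.obj.map_comp]
      rfl
    refine Eq.trans ?_ h4
    refine Eq.trans ?_ (congrArg (fun z => (ev (W := W) φ ((sw U W).hom ≫ p₁ W U)).hom z) h5).symm
    rw [sw_p₁]
    rfl
  have e' : (((psi U F δ H).hom.app (op W)).hom : (homSh F H).obj.obj (op W) → _) = fun φ =>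
      (H.obj.map (sw U W).hom.op).hom ((hev φ (p₁ W U)).hom ((F.obj.map (p₂ W U).op).hom δ)) := funext e
  rw [e']
  exact h3

lemma isIso_psi {U : X.Etale} {F : EtModW.Mod Λ X} {δ : F.obj.obj (op U)} (h : Rep U F δ)
    (H : EtModW.Mod Λ X) : IsIso (psi U F δ H) := by
  have : ∀ W, IsIso (((sheafToPresheaf _ _).map (psi U F δ H)).app W) := fun W =>
    (ConcreteCategory.isIso_iff_bijective _).2 (bijective_psi h H W.unop)
  have : IsIso ((sheafToPresheaf _ _).map (psi U F δ H)) := NatIso.isIso_of_isIso_app _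
  exact isIso_of_reflects_iso _ (sheafToPresheaf _ _)

/-- `Hom(F, -) ≅ j_* j^*` if `F` represents sections over `U`, `j = U.hom`. -/
noncomputable def psiIso {U : X.Etale} {F : EtModW.Mod Λ X} {δ : F.obj.obj (op U)} (h : Rep U F δ) :
    homShF F ≅ ModRestr.res Λ U.hom ⋙ EtModW.push Λ U.hom :=
  NatIso.ofComponents (fun H => @asIso _ _ _ _ (psi U F δ H) (isIso_psi h H))
    (fun a => psi_naturality U F δ a)

end Groth.Agent.Sga4h.BidLimRep
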