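import Groth.Agent.Sga4h.BidLimRep
import Groth.Agent.Sga4h.BidLimAb
import Groth.Agent.Sga4h.BidLimHom

/-!
# The comparison map `g⁻¹ Hom(F, G) ⟶ Hom(g⁻¹F, g⁻¹G)` for `F` representing sections over `U`

It is an isomorphism if the base change map of `j = U.hom` along `g` is.
-/

set_option autoImplicit false

universe u

open CategoryTheory CategoryTheory.Limits AlgebraicGeometry MonoidalCategory Opposite TensorProduct

namespace Groth.Agent.Sga4h.BidLimTheta

open HomPre HomSh HomRes ModRestr EtaleRes BidTens BidLimRep BidLimAb BidLimHom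
open Groth.Agent.EtpbcA.OverSite Groth.Agent.EtpbcB

variable {Λ : Type (u + 1)} [CommRing Λ] {X Y : Scheme.{u}} (g : Y ⟶ X) (U : X.Etale)

/-- The projection `U ×_X Y ⟶ U`. -/
noncomputable abbrev gU : ((EtCoh.bc g).obj U).left ⟶ U.left := BCCalc.pr g U

lemma isPullback_gU : IsPullback (gU g U) ((EtCoh.bc g).obj U).hom U.hom g := BCCalc.isPullback_pr g U

/-- the left adjoints of `push gU ⋙ push U.hom`. -/
noncomputable abbrev adj1 (Λ : Type (u + 1)) [CommRing Λ] :
    ModRestr.res Λ U.hom ⋙ EtModW.pull Λ (gU g U) ⊣ EtModW.push Λ (gU g U) ⋙ EtModW.push Λ U.hom :=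
  (resPushAdj Λ U.hom).comp (ppAdj (gU g U))

/-- the left adjoints of `push U'.hom ⋙ push g`. -/
noncomputable abbrev adj2 (Λ : Type (u + 1)) [CommRing Λ] :
    EtModW.pull Λ g ⋙ ModRestr.res Λ ((EtCoh.bc g).obj U).hom ⊣
      EtModW.push Λ ((EtCoh.bc g).obj U).hom ⋙ EtModW.push Λ g :=
  (ppAdj g).comp (resPushAdj Λ ((EtCoh.bc g).obj U).hom)

/-- Restriction and inverse images. -/
noncomputable def lam (Λ : Type (u + 1)) [CommRing Λ] :
    ModRestr.res Λ U.hom ⋙ EtModW.pull Λ (gU g U) ≅ EtModW.pull Λ g ⋙ ModRestr.res Λ ((EtCoh.bc g).obj U).hom :=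
  MateCalc.leftIso (adj1 g U Λ) (adj2 g U Λ) (sqM Λ (isPullback_gU g U).w)

/-- The unit of `lam` on sections. -/
lemma lam_unit (G : EtModW.Mod Λ X) (W : X.Etale) (s : G.obj.obj (op W)) :
    (((EtModW.pull Λ g).obj G).obj.map ((compBcAdj ((EtCoh.bc g).obj U).hom).counit.app
      ((EtCoh.bc g).obj W)).op).hom ((eta g G W).hom s) =
    (((EtModW.pull Λ g).obj G).obj.map ((EtShriek.compEtale ((EtCoh.bc g).obj U).hom).map
      (BCCalc.theta (isPullback_gU g U).w W).hom).op).hom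
      ((((lam g U Λ).hom.app G).hom.app (op ((EtCoh.bc (gU g U)).obj ((EtCoh.bc U.hom).obj W)))).hom
        ((eta (gU g U) ((ModRestr.res Λ U.hom).obj G) ((EtCoh.bc U.hom).obj W)).hom
          ((G.obj.map ((compBcAdj U.hom).counit.app W).op).hom s))) :=
  congrArg (fun k => (k.hom.app (op W)).hom s)
    (MateCalc.unit_leftIso (adj1 g U Λ) (adj2 g U Λ) (sqM Λ (isPullback_gU g U).w) G)

/-- The comparison `V ×_U (U ×_X Y) ⟶ V ×_X Y` for `V` etale over `U`. -/
noncomputable def mor (V : U.left.Etale) :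
    (EtShriek.compEtale ((EtCoh.bc g).obj U).hom).obj ((EtCoh.bc (gU g U)).obj V) ⟶
      (EtCoh.bc g).obj ((EtShriek.compEtale U.hom).obj V) :=
  BCCalc.lift g (W := (EtShriek.compEtale ((EtCoh.bc g).obj U).hom).obj ((EtCoh.bc (gU g U)).obj V))
    (U := (EtShriek.compEtale U.hom).obj V) (BCCalc.pr (gU g U) V) (by
      change BCCalc.pr (gU g U) V ≫ V.hom ≫ U.hom = (((EtCoh.bc (gU g U)).obj V).hom ≫ ((EtCoh.bc g).obj U).hom) ≫ g
      rw [BCCalc.pr_hom_assoc, BCCalc.pr_hom, Category.assoc])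

lemma mor_left_pr (V : U.left.Etale) :
    (mor g U V).left ≫ BCCalc.pr g ((EtShriek.compEtale U.hom).obj V) = BCCalc.pr (gU g U) V :=
  BCCalc.lift_left_pr g _ _

lemma counit_left (p : Y ⟶ X) [Etale p] (W : X.Etale) :
    ((compBcAdj p).counit.app W).left = BCCalc.pr p W := rfl

lemma theta_inv_left_pr {X' Y' : Scheme.{u}} {f : Y ⟶ X} {g : Y' ⟶ X} {f' : X' ⟶ Y'} {g' : X' ⟶ Y}
    (w : g' ≫ f = f' ≫ g) (W : X.Etale) :
    (BCCalc.theta w W).inv.left ≫ BCCalc.pr f' _ ≫ BCCalc.pr g W = BCCalc.pr g' _ ≫ BCCalc.pr f W := by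
  rw [← BCCalc.theta_hom_left_pr w W, BCCalc.inv_hom_left_assoc]

lemma unit_left_pr (p : Y ⟶ X) [Etale p] (V : Y.Etale) :
    ((compBcAdj p).unit.app V).left ≫ BCCalc.pr p ((EtShriek.compEtale p).obj V) = 𝟙 V.left :=
  congrArg (fun k => k.left) ((compBcAdj p).left_triangle_components V)

/-- `mor` in terms of `theta`. -/
lemma mor_eq (V : U.left.Etale) :
    (EtShriek.compEtale ((EtCoh.bc g).obj U).hom).map ((EtCoh.bc (gU g U)).map ((compBcAdj U.hom).unit.app V)) ≫
      (EtShriek.compEtale ((EtCoh.bc g).obj U).hom).map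
        (BCCalc.theta (isPullback_gU g U).w ((EtShriek.compEtale U.hom).obj V)).inv ≫
      (compBcAdj ((EtCoh.bc g).obj U).hom).counit.app ((EtCoh.bc g).obj ((EtShriek.compEtale U.hom).obj V)) =
    mor g U V := by
  apply BCCalc.hom_ext_bc
  rw [mor_left_pr, BCCalc.comp_left, BCCalc.comp_left, counit_left]
  have h1 := theta_inv_left_pr (isPullback_gU g U).w ((EtShriek.compEtale U.hom).obj V)
  have h2 := BCCalc.bc_map_left_pr (gU g U) ((compBcAdj U.hom).unit.app V)
  have h3 := unit_left_pr U.hom V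
  refine (Category.assoc _ _ _).trans ?_
  refine (congrArg (fun k => ((EtCoh.bc (gU g U)).map ((compBcAdj U.hom).unit.app V)).left ≫ k)
    ((Category.assoc _ _ _).trans h1)).trans ?_
  refine (Category.assoc _ _ _).symm.trans ((congrArg (fun k => k ≫ BCCalc.pr U.hom _) h2).trans ?_)
  exact (Category.assoc _ _ _).trans ((congrArg (fun k => BCCalc.pr (gU g U) V ≫ k) h3).trans (Category.comp_id _))

lemma map_map (G : EtModW.Mod Λ X) {A B C : X.Etale} (a : A ⟶ B) (b : B ⟶ C) (s : G.obj.obj (op C)) :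
    (G.obj.map a.op).hom ((G.obj.map b.op).hom s) = (G.obj.map (a ≫ b).op).hom s := by
  rw [op_comp, Functor.map_comp]
  rfl

lemma map_of_eq_id (G : EtModW.Mod Λ X) {A : X.Etale} (a : A ⟶ A) (h : a = 𝟙 A) (s : G.obj.obj (op A)) :
    (G.obj.map a.op).hom s = s := by
  rw [h, op_id, CategoryTheory.Functor.map_id]
  rfl

/-- `lam` on sections. -/
lemma lam_eta (G : EtModW.Mod Λ X) (V : U.left.Etale) (s : G.obj.obj (op ((EtShriek.compEtale U.hom).obj V))) :
    (((lam g U Λ).hom.app G).hom.app (op ((EtCoh.bc (gU g U)).obj V))).hom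
      ((eta (gU g U) ((ModRestr.res Λ U.hom).obj G) V).hom s) =
    (((EtModW.pull Λ g).obj G).obj.map (mor g U V).op).hom
      ((eta g G ((EtShriek.compEtale U.hom).obj V)).hom s) := by
  have h1 := lam_unit g U G ((EtShriek.compEtale U.hom).obj V) s
  -- the section over the larger scheme
  let z := (((lam g U Λ).hom.app G).hom.app (op ((EtCoh.bc (gU g U)).obj ((EtCoh.bc U.hom).obj
    ((EtShriek.compEtale U.hom).obj V))))).hom ((eta (gU g U) ((ModRestr.res Λ U.hom).obj G)
      ((EtCoh.bc U.hom).obj ((EtShriek.compEtale U.hom).obj V))).hom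
        ((G.obj.map ((compBcAdj U.hom).counit.app ((EtShriek.compEtale U.hom).obj V)).op).hom s))
  have h2 : (((EtModW.pull Λ g).obj G).obj.map ((EtShriek.compEtale ((EtCoh.bc g).obj U).hom).map
      (BCCalc.theta (isPullback_gU g U).w ((EtShriek.compEtale U.hom).obj V)).inv).op).hom
      ((((EtModW.pull Λ g).obj G).obj.map ((EtShriek.compEtale ((EtCoh.bc g).obj U).hom).map
      (BCCalc.theta (isPullback_gU g U).w ((EtShriek.compEtale U.hom).obj V)).hom).op).hom z) = z := by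
    refine (map_map _ _ _ _).trans (map_of_eq_id _ _ ?_ _)
    refine ((EtShriek.compEtale ((EtCoh.bc g).obj U).hom).map_comp _ _).symm.trans ?_
    exact (congrArg (EtShriek.compEtale ((EtCoh.bc g).obj U).hom).map
      (BCCalc.theta (isPullback_gU g U).w ((EtShriek.compEtale U.hom).obj V)).inv_hom_id).trans
        ((EtShriek.compEtale ((EtCoh.bc g).obj U).hom).map_id _)
  have h3 : (((EtModW.pull Λ g).obj G).obj.map ((EtShriek.compEtale ((EtCoh.bc g).obj U).hom).map
      ((EtCoh.bc (gU g U)).map ((compBcAdj U.hom).unit.app V))).op).hom z =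
      (((lam g U Λ).hom.app G).hom.app (op ((EtCoh.bc (gU g U)).obj V))).hom
        ((((EtModW.pull Λ (gU g U)).obj ((ModRestr.res Λ U.hom).obj G)).obj.map
          ((EtCoh.bc (gU g U)).map ((compBcAdj U.hom).unit.app V)).op).hom
            ((eta (gU g U) ((ModRestr.res Λ U.hom).obj G)
      ((EtCoh.bc U.hom).obj ((EtShriek.compEtale U.hom).obj V))).hom
        ((G.obj.map ((compBcAdj U.hom).counit.app ((EtShriek.compEtale U.hom).obj V)).op).hom s))) :=
    (ConcreteCategory.congr_hom (((lam g U Λ).hom.app G).hom.naturality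
      ((EtCoh.bc (gU g U)).map ((compBcAdj U.hom).unit.app V)).op) _).symm
  have h4 : (((EtModW.pull Λ (gU g U)).obj ((ModRestr.res Λ U.hom).obj G)).obj.map
          ((EtCoh.bc (gU g U)).map ((compBcAdj U.hom).unit.app V)).op).hom
            ((eta (gU g U) ((ModRestr.res Λ U.hom).obj G)
      ((EtCoh.bc U.hom).obj ((EtShriek.compEtale U.hom).obj V))).hom
        ((G.obj.map ((compBcAdj U.hom).counit.app ((EtShriek.compEtale U.hom).obj V)).op).hom s)) =
      (eta (gU g U) ((ModRestr.res Λ U.hom).obj G) V).hom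
        ((((ModRestr.res Λ U.hom).obj G).obj.map ((compBcAdj U.hom).unit.app V).op).hom
          ((G.obj.map ((compBcAdj U.hom).counit.app ((EtShriek.compEtale U.hom).obj V)).op).hom s)) :=
    ConcreteCategory.congr_hom (eta_res (gU g U) ((ModRestr.res Λ U.hom).obj G)
      ((compBcAdj U.hom).unit.app V)) _
  have h5 : (((ModRestr.res Λ U.hom).obj G).obj.map ((compBcAdj U.hom).unit.app V).op).hom
          ((G.obj.map ((compBcAdj U.hom).counit.app ((EtShriek.compEtale U.hom).obj V)).op).hom s) = s := by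
    exact (map_map G ((EtShriek.compEtale U.hom).map ((compBcAdj U.hom).unit.app V))
      ((compBcAdj U.hom).counit.app ((EtShriek.compEtale U.hom).obj V)) s).trans
        (map_of_eq_id G _ ((compBcAdj U.hom).left_triangle_components V) s)
  rw [← mor_eq, op_comp, op_comp, Functor.map_comp, Functor.map_comp, ModuleCat.comp_apply,
    ModuleCat.comp_apply]
  refine Eq.trans ?_ (congrArg _ (congrArg _ h1)).symm
  refine Eq.trans ?_ (congrArg _ h2).symm
  refine Eq.trans ?_ h3.symm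
  rw [h4, h5]

/-- `g⁻¹ j_* j^* G ⟶ j'_* j'^* g⁻¹ G`. -/
noncomputable def kap (G : EtModW.Mod Λ X) :
    (EtModW.pull Λ g).obj ((EtModW.push Λ U.hom).obj ((ModRestr.res Λ U.hom).obj G)) ⟶
      (EtModW.push Λ ((EtCoh.bc g).obj U).hom).obj
        ((ModRestr.res Λ ((EtCoh.bc g).obj U).hom).obj ((EtModW.pull Λ g).obj G)) :=
  bcM Λ (isPullback_gU g U).w ((ModRestr.res Λ U.hom).obj G) ≫
    (EtModW.push Λ ((EtCoh.bc g).obj U).hom).map ((lam g U Λ).hom.app G)

/-- `kap` is an isomorphism if the base change map is. -/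
lemma isIso_kap (G : EtModW.Mod Λ X)
    (h : IsIso (EtCoh.baseChange0 U.hom g ((EtCoh.bc g).obj U).hom (gU g U) (isPullback_gU g U).w
      ((Groth.Agent.Etrest.ModAb.ab Λ U.left).obj ((ModRestr.res Λ U.hom).obj G)))) : IsIso (kap g U G) := by
  have := isIso_bcM (isPullback_gU g U).w ((ModRestr.res Λ U.hom).obj G) h
  rw [kap]
  infer_instance

/-- The comparison of `(U ×_X Y) ×_Y (W ×_X Y)` and `(U ×_X W) ×_X Y`. -/
noncomputable def nu (W : X.Etale) :
    PW ((EtCoh.bc g).obj U) ((EtCoh.bc g).obj W) ⟶ (EtCoh.bc g).obj (PW U W) :=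
  (EtShriek.compEtale ((EtCoh.bc g).obj U).hom).map (BCCalc.theta (isPullback_gU g U).w W).hom ≫
    mor g U ((EtCoh.bc U.hom).obj W)

lemma nu_left_pr (W : X.Etale) : (nu g U W).left ≫ BCCalc.pr g (PW U W) =
    (BCCalc.theta (isPullback_gU g U).w W).hom.left ≫ BCCalc.pr (gU g U) ((EtCoh.bc U.hom).obj W) :=
  (Category.assoc _ _ _).trans (congrArg (fun k =>
    (BCCalc.theta (isPullback_gU g U).w W).hom.left ≫ k) (mor_left_pr g U ((EtCoh.bc U.hom).obj W)))

lemma nu_p₂ (W : X.Etale) : nu g U W ≫ (EtCoh.bc g).map (p₂ U W) =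
    p₂ ((EtCoh.bc g).obj U) ((EtCoh.bc g).obj W) := by
  apply BCCalc.hom_ext_bc
  have h1 := BCCalc.bc_map_left_pr g (p₂ U W)
  have h2 := nu_left_pr g U W
  have h3 := BCCalc.theta_hom_left_pr (isPullback_gU g U).w W
  refine (Category.assoc _ _ _).trans ((congrArg (fun k => (nu g U W).left ≫ k) h1).trans ?_)
  refine (Category.assoc _ _ _).symm.trans ((congrArg (fun k => k ≫ (p₂ U W).left) h2).trans ?_)
  exact (Category.assoc _ _ _).trans h3

lemma nu_p₁ (W : X.Etale) : nu g U W ≫ (EtCoh.bc g).map (p₁ U W) =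
    p₁ ((EtCoh.bc g).obj U) ((EtCoh.bc g).obj W) := by
  apply BCCalc.hom_ext_bc
  have h1 := BCCalc.bc_map_left_pr g (p₁ U W)
  have h2 := nu_left_pr g U W
  refine (Category.assoc _ _ _).trans ((congrArg (fun k => (nu g U W).left ≫ k) h1).trans ?_)
  refine (Category.assoc _ _ _).symm.trans ((congrArg (fun k => k ≫ (p₁ U W).left) h2).trans ?_)
  refine (Category.assoc _ _ _).trans ?_
  have h4 : BCCalc.pr (gU g U) ((EtCoh.bc U.hom).obj W) ≫ ((EtCoh.bc U.hom).obj W).hom =
      ((EtCoh.bc (gU g U)).obj ((EtCoh.bc U.hom).obj W)).hom ≫ gU g U := BCCalc.pr_hom _ _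
  refine (congrArg (fun k => (BCCalc.theta (isPullback_gU g U).w W).hom.left ≫ k) h4).trans ?_
  refine (Category.assoc _ _ _).symm.trans ?_
  exact congrArg (fun k => k ≫ gU g U) (BCCalc.left_hom (BCCalc.theta (isPullback_gU g U).w W).hom)

/-- `kap` on sections. -/
lemma kap_eta (G : EtModW.Mod Λ X) (W : X.Etale) (t : G.obj.obj (op (PW U W))) :
    ((kap g U G).hom.app (op ((EtCoh.bc g).obj W))).hom
      ((eta g ((EtModW.push Λ U.hom).obj ((ModRestr.res Λ U.hom).obj G)) W).hom t) =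
    (((EtModW.pull Λ g).obj G).obj.map (nu g U W).op).hom ((eta g G (PW U W)).hom t) := by
  have h1 : ((bcM Λ (isPullback_gU g U).w ((ModRestr.res Λ U.hom).obj G)).hom.app
      (op ((EtCoh.bc g).obj W))).hom
      ((eta g ((EtModW.push Λ U.hom).obj ((ModRestr.res Λ U.hom).obj G)) W).hom t) =
      (((EtModW.pull Λ (gU g U)).obj ((ModRestr.res Λ U.hom).obj G)).obj.map
        (BCCalc.theta (isPullback_gU g U).w W).hom.op).hom
        ((eta (gU g U) ((ModRestr.res Λ U.hom).obj G) ((EtCoh.bc U.hom).obj W)).hom t) :=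
    congrArg (fun k => (k.hom.app (op W)).hom t) (unit_bcM (isPullback_gU g U).w ((ModRestr.res Λ U.hom).obj G))
  have h2 := ConcreteCategory.congr_hom (((lam g U Λ).hom.app G).hom.naturality
    (BCCalc.theta (isPullback_gU g U).w W).hom.op)
      ((eta (gU g U) ((ModRestr.res Λ U.hom).obj G) ((EtCoh.bc U.hom).obj W)).hom t)
  have h3 := lam_eta g U G ((EtCoh.bc U.hom).obj W) t
  refine (congrArg (fun z => (((lam g U Λ).hom.app G).hom.app (op ((EtCoh.bc ((EtCoh.bc g).obj U).hom).obj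
    ((EtCoh.bc g).obj W)))).hom z) h1).trans ?_
  refine h2.trans ?_
  refine (congrArg (fun z => (((EtModW.pull Λ g).obj G).obj.map
    ((EtShriek.compEtale ((EtCoh.bc g).obj U).hom).map (BCCalc.theta (isPullback_gU g U).w W).hom).op).hom z)
      h3).trans ?_
  exact map_map _ _ _ _

/-- The comparison map `theta` for a sheaf representing sections over `U`. -/
theorem theta_psi {F : EtModW.Mod Λ X} (δ : F.obj.obj (op U)) (G : EtModW.Mod Λ X) :
    theta g F G ≫ psi ((EtCoh.bc g).obj U) ((EtModW.pull Λ g).obj F) ((eta g F U).hom δ)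
      ((EtModW.pull Λ g).obj G) = (EtModW.pull Λ g).map (psi U F δ G) ≫ kap g U G := by
  apply pull_hom_ext g
  intro W
  ext φ
  obtain ⟨Φ, hΦ⟩ : ∃ Φ : (homSh ((EtModW.pull Λ g).obj F) ((EtModW.pull Λ g).obj G)).obj.obj
      (op ((EtCoh.bc g).obj W)), Φ = ((theta g F G).hom.app (op ((EtCoh.bc g).obj W))).hom
        ((eta g (homSh F G) W).hom φ) := ⟨_, rfl⟩
  have h1 : ((((EtModW.pull Λ g).obj F).obj.map (p₁ ((EtCoh.bc g).obj U) ((EtCoh.bc g).obj W)).op).hom
      ((eta g F U).hom δ)) = (((EtModW.pull Λ g).obj F).obj.map (nu g U W).op).hom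
        ((eta g F (PW U W)).hom ((F.obj.map (p₁ U W).op).hom δ)) := by
    have h0 : (((EtModW.pull Λ g).obj F).obj.map ((EtCoh.bc g).map (p₁ U W)).op).hom ((eta g F U).hom δ) =
        (eta g F (PW U W)).hom ((F.obj.map (p₁ U W).op).hom δ) :=
      ConcreteCategory.congr_hom (eta_res g F (p₁ U W)) δ
    rw [← h0, map_map, nu_p₁]
  have h2 : (hev Φ (nu g U W ≫ (EtCoh.bc g).map (p₂ U W))).hom
      ((((EtModW.pull Λ g).obj F).obj.map (nu g U W).op).hom
        ((eta g F (PW U W)).hom ((F.obj.map (p₁ U W).op).hom δ))) =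
      (((EtModW.pull Λ g).obj G).obj.map (nu g U W).op).hom ((hev Φ ((EtCoh.bc g).map (p₂ U W))).hom
        ((eta g F (PW U W)).hom ((F.obj.map (p₁ U W).op).hom δ))) :=
    ev_naturality_apply Φ ((EtCoh.bc g).map (p₂ U W)) (nu g U W) _
  rw [nu_p₂, ← h1] at h2
  have h3 : (hev Φ ((EtCoh.bc g).map (p₂ U W))).hom
      ((eta g F (PW U W)).hom ((F.obj.map (p₁ U W).op).hom δ)) =
      (eta g G (PW U W)).hom ((hev φ (p₂ U W)).hom ((F.obj.map (p₁ U W).op).hom δ)) := by
    rw [hΦ]
    exact hev_theta g F G φ (p₂ U W) _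
  rw [h3] at h2
  have h4 : (((EtModW.pull Λ g).map (psi U F δ G)).hom.app (op ((EtCoh.bc g).obj W))).hom
      ((eta g (homSh F G) W).hom φ) = (eta g ((EtModW.push Λ U.hom).obj ((ModRestr.res Λ U.hom).obj G)) W).hom
        ((hev φ (p₂ U W)).hom ((F.obj.map (p₁ U W).op).hom δ)) :=
    ConcreteCategory.congr_hom (eta_nat g (psi U F δ G) W) φ
  have h5 := kap_eta g U G W ((hev φ (p₂ U W)).hom ((F.obj.map (p₁ U W).op).hom δ))
  rw [← h4] at h5
  refine Eq.trans ?_ (h2.trans h5.symm)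
  rw [hΦ]
  rfl

/-- The comparison map `theta` is an isomorphism for a sheaf representing sections over `U` if the base change
map of `U.hom` is. -/
theorem isIso_theta {F : EtModW.Mod Λ X} {δ : F.obj.obj (op U)} (hF : Rep U F δ) (G : EtModW.Mod Λ X)
    (h : IsIso (EtCoh.baseChange0 U.hom g ((EtCoh.bc g).obj U).hom (gU g U) (isPullback_gU g U).w
      ((Groth.Agent.Etrest.ModAb.ab Λ U.left).obj ((ModRestr.res Λ U.hom).obj G)))) :
    IsIso (theta g F G) := by
  have h1 := isIso_psi hF G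
  have h2 := isIso_psi (hF.pull g) ((EtModW.pull Λ g).obj G)
  have h3 := isIso_kap g U G h
  have h4 : IsIso (theta g F G ≫ psi ((EtCoh.bc g).obj U) ((EtModW.pull Λ g).obj F) ((eta g F U).hom δ)
      ((EtModW.pull Λ g).obj G)) := by
    rw [theta_psi]
    infer_instance
  exact IsIso.of_isIso_comp_right _ (psi ((EtCoh.bc g).obj U) ((EtModW.pull Λ g).obj F) ((eta g F U).hom δ)
      ((EtModW.pull Λ g).obj G))

end Groth.Agent.Sga4h.BidLimTheta
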