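import Groth.Agent.Sga4h.Refl
import Groth.Agent.Sga4h.BidWay
import Groth.Agent.Dcoh.DerAdj
import Mathlib.Algebra.Homology.DerivedCategory.KInjective

/-!
# Reflexivity of the unit and of quotients of its finite powers when the unit is injective

`A : DualData T`, `I` an object with `M ⊗ I ≅ M`, `j : I[0] ⟶ A.J` a quasi-isomorphism.
* `refl_unit`: `I[0]` is reflexive.
* `exists_single`: if `I` is injective then `D (M[0])` is quasi-isomorphic to an object in degree `0`.
* `refl_of_class`: if `I` is injective and every object of a class `K` is a quotient of a reflexive object with kernel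
  in `K`, then the objects of `K` are reflexive.
-/

set_option autoImplicit false
set_option maxHeartbeats 400000
set_option backward.defeqAttrib.useBackward true
set_option backward.isDefEq.respectTransparency false

universe w v₁ v₂ v₃ u₁ u₂ u₃

namespace Groth.Agent.Sga4h.BidPt

open CategoryTheory Category Limits HomologicalComplex CochainComplex Opposite ZeroObject
open Groth.Agent.Dcoh.CxFun Groth.Agent.Sga4h.HomCx Groth.Agent.Sga4h.DualCx Groth.Agent.Sga4h.DualSelf
open Groth.Agent.Sga4h.Refl

variable {C : Type u₁} [Category.{v₁} C] [Abelian C] {T : C ⥤ C ⥤ C} [T.Additive] [∀ X, (T.obj X).Additive]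
  [∀ (K₁ K₂ : CochainComplex C ℤ), CochainComplex.HasMapBifunctor K₁ K₂ T]
  [∀ E : CochainComplex C ℤ, (T.map₂CochainComplex.flip.obj E).IsLeftAdjoint]

section Unit

variable {I : C} (ρ : T.flip.obj I ≅ 𝟭 C) (A : DualData T)

/-- `K ⊗ I[0] ≅ K`. -/
noncomputable def tensorUnit :
    T.map₂CochainComplex.flip.obj ((single C (ComplexShape.up ℤ) 0).obj I) ≅ 𝟭 (CochainComplex C ℤ) :=
  (tensorSingleIso₂ T I).symm ≪≫ NatIso.mapHomologicalComplex ρ (ComplexShape.up ℤ) ≪≫
    Functor.mapHomologicalComplexIdIso _ _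

/-- The map `J ⟶ D (I[0])`. -/
noncomputable def toDUnit : A.J ⟶ A.D ((single C (ComplexShape.up ℤ) 0).obj I) :=
  dualEquiv T _ _ _ ((tensorUnit ρ).hom.app A.J)

lemma comp_toDUnit {K : CochainComplex C ℤ} (f : K ⟶ A.J) :
    f ≫ toDUnit ρ A = dualEquiv T K ((single C (ComplexShape.up ℤ) 0).obj I) A.J
      ((tensorUnit ρ).hom.app K ≫ f) := by
  rw [toDUnit, ← dualEquiv_naturality_left]
  congr 1
  exact (tensorUnit ρ).hom.naturality f

lemma dualEquiv_eq {K : CochainComplex C ℤ}
    (g : (T.map₂CochainComplex.obj K).obj ((single C (ComplexShape.up ℤ) 0).obj I) ⟶ A.J) :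
    dualEquiv T K ((single C (ComplexShape.up ℤ) 0).obj I) A.J g =
      ((tensorUnit ρ).inv.app K ≫ g) ≫ toDUnit ρ A := by
  rw [comp_toDUnit]
  congr 1
  exact ((tensorUnit ρ).hom_inv_id_app_assoc K g).symm

instance isIso_toDUnit : IsIso (toDUnit ρ A) := by
  refine isIso_of_yoneda_map_bijective _ (fun K => ?_)
  have h : (fun x : K ⟶ A.J => x ≫ toDUnit ρ A) =
      dualEquiv T K ((single C (ComplexShape.up ℤ) 0).obj I) A.J ∘ (fun x => (tensorUnit ρ).hom.app K ≫ x) :=
    funext fun x => comp_toDUnit ρ A x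
  rw [h]
  refine (Equiv.bijective _).comp ⟨fun x y hxy => ?_, fun y => ⟨(tensorUnit ρ).inv.app K ≫ y, ?_⟩⟩
  · exact (cancel_epi ((tensorUnit ρ).hom.app K)).1 hxy
  · exact (tensorUnit ρ).hom_inv_id_app_assoc K y

include ρ in
lemma quasiIso_dualEquiv {K : CochainComplex C ℤ}
    (g : (T.map₂CochainComplex.obj K).obj ((single C (ComplexShape.up ℤ) 0).obj I) ⟶ A.J) [QuasiIso g] :
    QuasiIso (dualEquiv T K ((single C (ComplexShape.up ℤ) 0).obj I) A.J g) := by
  rw [dualEquiv_eq ρ A]
  infer_instance

variable [∀ (J : Type), HasColimitsOfShape (Discrete J) C]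
  [∀ (J : Type), (colim : (Discrete J ⥤ C) ⥤ C).PreservesMonomorphisms]

include ρ in
/-- The unit is reflexive if it is quasi-isomorphic to the dualizing complex. -/
theorem refl_unit (j : (single C (ComplexShape.up ℤ) 0).obj I ⟶ A.J) [QuasiIso j] :
    A.Refl ((single C (ComplexShape.up ℤ) 0).obj I) := by
  let t := j ≫ toDUnit ρ A
  have h := selfEquiv_eq A.S A.J t
  rw [selfEquiv_apply] at h
  have h1 : QuasiIso ((dualEquiv T _ _ A.J).symm t) := by
    have : (dualEquiv T _ _ A.J).symm t = (tensorUnit ρ).hom.app _ ≫ j := by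
      rw [Equiv.symm_apply_eq]
      exact comp_toDUnit ρ A j
    rw [this]
    infer_instance
  have h2 := quasiIso_dualEquiv ρ A ((braid A.S ((single C (ComplexShape.up ℤ) 0).obj I)
    ((single C (ComplexShape.up ℤ) 0).obj I)).inv ≫ (dualEquiv T _ _ A.J).symm t)
  rw [h] at h2
  have h3 : QuasiIso (A.Dmap t) := inferInstance
  exact ⟨(quasiIso_iff_comp_right _ (A.Dmap t)).1 h2⟩

end Unit

section Inj

variable {I : C} (A : DualData T) (hI : Injective I) (j : (single C (ComplexShape.up ℤ) 0).obj I ⟶ A.J)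

/-- The functor `Hom•(E, -)`. -/
noncomputable abbrev homFun (T : C ⥤ C ⥤ C) [T.Additive] [∀ X, (T.obj X).Additive]
    [∀ (K₁ K₂ : CochainComplex C ℤ), CochainComplex.HasMapBifunctor K₁ K₂ T]
    [∀ E : CochainComplex C ℤ, (T.map₂CochainComplex.flip.obj E).IsLeftAdjoint] (E : CochainComplex C ℤ) :
    CochainComplex C ℤ ⥤ CochainComplex C ℤ :=
  (rightBi (T.map₂CochainComplex.flip)).obj (op E)

/-- The adjunction `- ⊗ E ⊣ Hom•(E, -)`. -/
noncomputable abbrev homAdj (E : CochainComplex C ℤ) : T.map₂CochainComplex.flip.obj E ⊣ homFun T E :=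
  Adjunction.ofIsLeftAdjoint _

instance htpyFunctor_homFun (E : CochainComplex C ℤ) : HtpyFunctor (homFun T E) :=
  htpyFunctor_of_adjunction (homAdj E)

lemma quasiIso_homFun_map (E : CochainComplex C ℤ) {K L : CochainComplex C ℤ} [K.IsKInjective]
    [L.IsKInjective] (f : K ⟶ L) [QuasiIso f] : QuasiIso ((homFun T E).map f) := by
  have hf : homotopyEquivalences C (ComplexShape.up ℤ) f :=
    (CochainComplex.IsKInjective.quasiIso_iff f).1 inferInstance
  obtain ⟨e, rfl⟩ := hf
  obtain ⟨h1⟩ := HtpyFunctor.homotopy (homFun T E) e.homotopyHomInvId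
  obtain ⟨h2⟩ := HtpyFunctor.homotopy (homFun T E) e.homotopyInvHomId
  let e' : HomotopyEquiv ((homFun T E).obj K) ((homFun T E).obj L) :=
    { hom := (homFun T E).map e.hom
      inv := (homFun T E).map e.inv
      homotopyHomInvId := (Homotopy.ofEq (CategoryTheory.Functor.map_comp _ _ _).symm).trans
        (h1.trans (Homotopy.ofEq (CategoryTheory.Functor.map_id _ _)))
      homotopyInvHomId := (Homotopy.ofEq (CategoryTheory.Functor.map_comp _ _ _).symm).trans
        (h2.trans (Homotopy.ofEq (CategoryTheory.Functor.map_id _ _))) }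
  exact e'.quasiIso_hom

variable [∀ M : C, (T.flip.obj M).IsLeftAdjoint]

instance additive_rightAdjoint (M : C) : (T.flip.obj M).rightAdjoint.Additive :=
  (Adjunction.ofIsLeftAdjoint (T.flip.obj M)).right_adjoint_additive

/-- `Hom•(M[0], -)` is `Hom(M, -)` applied termwise. -/
noncomputable def homSingle (M : C) :
    homFun T ((single C (ComplexShape.up ℤ) 0).obj M) ≅
      (T.flip.obj M).rightAdjoint.mapHomologicalComplex (ComplexShape.up ℤ) :=
  (homAdj _).rightAdjointUniq ((Dcoh.DerAdj.adjCx (Adjunction.ofIsLeftAdjoint (T.flip.obj M)) _).ofNatIsoLeft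
    (tensorSingleIso₂ T M))

include hI in
omit [∀ (K₁ K₂ : CochainComplex C ℤ), CochainComplex.HasMapBifunctor K₁ K₂ T]
  [∀ E : CochainComplex C ℤ, (T.map₂CochainComplex.flip.obj E).IsLeftAdjoint]
  [∀ M : C, (T.flip.obj M).IsLeftAdjoint] in
lemma isKInjective_single : CochainComplex.IsKInjective ((single C (ComplexShape.up ℤ) 0).obj I) := by
  have (n : ℤ) : Injective (((single C (ComplexShape.up ℤ) 0).obj I).X n) := by
    by_cases h : n = 0
    · subst h
      exact Injective.of_iso (singleObjXSelf _ _ _).symm hI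
    · exact (isZero_single_obj_X _ _ _ _ h).injective
  have : CochainComplex.IsStrictlyGE ((single C (ComplexShape.up ℤ) 0).obj I) 0 := by
    change ((CochainComplex.singleFunctor C 0).obj I).IsStrictlyGE 0
    infer_instance
  exact isKInjective_of_injective _ 0

include hI j in
/-- The dual of `M[0]` is quasi-isomorphic to an object in degree `0`. -/
theorem exists_single [QuasiIso j] (M : C) :
    ∃ (N : C) (f : (single C (ComplexShape.up ℤ) 0).obj N ⟶ A.D ((single C (ComplexShape.up ℤ) 0).obj M)),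
      QuasiIso f := by
  have h0 := isKInjective_single hI
  have := A.kinj
  have h1 := quasiIso_homFun_map (T := T) ((single C (ComplexShape.up ℤ) 0).obj M) j
  let e : (single C (ComplexShape.up ℤ) 0).obj ((T.flip.obj M).rightAdjoint.obj I) ≅
      (homFun T ((single C (ComplexShape.up ℤ) 0).obj M)).obj ((single C (ComplexShape.up ℤ) 0).obj I) :=
    (singleMapHomologicalComplex (T.flip.obj M).rightAdjoint (ComplexShape.up ℤ) 0).symm.app I ≪≫
      ((homSingle M).app _).symm
  refine ⟨(T.flip.obj M).rightAdjoint.obj I, e.hom ≫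
    (homFun T ((single C (ComplexShape.up ℤ) 0).obj M)).map j, ?_⟩
  infer_instance

variable [∀ (J : Type), HasColimitsOfShape (Discrete J) C]
  [∀ (J : Type), (colim : (Discrete J ⥤ C) ⥤ C).PreservesMonomorphisms]

include hI j in
/-- The double dual of `M[0]` is quasi-isomorphic to an object in degree `0`. -/
theorem exists_single₂ [QuasiIso j] (M : C) :
    ∃ (N : C) (E : CochainComplex C ℤ)
      (f : (single C (ComplexShape.up ℤ) 0).obj N ⟶ E)
      (g : A.D (A.D ((single C (ComplexShape.up ℤ) 0).obj M)) ⟶ E),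
      QuasiIso f ∧ QuasiIso g := by
  obtain ⟨N, f, hf⟩ := exists_single A hI j M
  obtain ⟨N', f', hf'⟩ := exists_single A hI j N
  exact ⟨N', _, f', A.Dmap f, hf', inferInstance⟩

include hI j in
lemma isLE_DD [QuasiIso j] (M : C) :
    CochainComplex.IsLE (A.D (A.D ((single C (ComplexShape.up ℤ) 0).obj M))) 0 := by
  obtain ⟨N, E, f, g, hf, hg⟩ := exists_single₂ A hI j M
  have h1 : CochainComplex.IsLE ((CochainComplex.singleFunctor C 0).obj N) 0 := inferInstance
  have h2 : CochainComplex.IsLE E 0 :=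
    (isSupported_iff_of_quasiIso f (ComplexShape.embeddingUpIntLE 0)).1 h1
  exact (isSupported_iff_of_quasiIso g (ComplexShape.embeddingUpIntLE 0)).2 h2

/-- The double duality functor. -/
noncomputable abbrev ddFun : CochainComplex C ℤ ⥤ CochainComplex C ℤ := A.F.rightOp ⋙ A.F

/-- The evaluation as a natural transformation. -/
noncomputable def evNat : 𝟭 (CochainComplex C ℤ) ⟶ ddFun A where
  app K := A.ev K
  naturality _ _ f := A.ev_naturality f

omit [∀ M : C, (T.flip.obj M).IsLeftAdjoint] in
lemma exactCx_dd : BidWay.ExactCx (ddFun A) := fun S hS => by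
  have h := A.shortExact_dualSC (A.shortExact_dualSC hS)
  refine ShortComplex.shortExact_of_iso (S₁ := A.dualSC (A.dualSC S)) ?_ h
  refine ShortComplex.isoMk (Iso.refl _) (Iso.refl _) (Iso.refl _) ?_ ?_
  · exact (Category.id_comp _).trans (Category.comp_id _).symm
  · exact (Category.id_comp _).trans (Category.comp_id _).symm

omit [∀ M : C, (T.flip.obj M).IsLeftAdjoint] in
lemma qisCx_dd : BidWay.QisCx (ddFun A) := fun K L f hf => by
  change QuasiIso (A.Dmap (A.Dmap f))
  infer_instance

include hI j in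
/-- If the unit is injective, the objects of a class such that every object is a quotient of a reflexive object with
kernel in the class are reflexive. -/
theorem refl_of_class [QuasiIso j] (P : ObjectProperty C)
    (hP : ∀ X, P X → ∃ (Y Z : C) (f : Y ⟶ Z) (g : Z ⟶ X) (w : f ≫ g = 0),
      (ShortComplex.mk f g w).ShortExact ∧ P Y ∧ A.Refl ((single C (ComplexShape.up ℤ) 0).obj Z))
    (X : C) (hX : P X) : A.Refl ((single C (ComplexShape.up ℤ) 0).obj X) := by
  refine ⟨BidWay.quasiIso_of_resolution (evNat A) (fun S hS => hS) (exactCx_dd A)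
    (fun Z => A.Refl ((single C (ComplexShape.up ℤ) 0).obj Z)) P (fun Z hZ => hZ.qis) hP 0
    (fun X _ => ?_) (fun X _ => isLE_DD A hI j X) X hX⟩
  change CochainComplex.IsLE ((CochainComplex.singleFunctor C 0).obj X) 0
  infer_instance

end Inj

/-- Reflexive objects are closed under extensions. -/
lemma refl_single₂ [∀ (J : Type), HasColimitsOfShape (Discrete J) C]
    [∀ (J : Type), (colim : (Discrete J ⥤ C) ⥤ C).PreservesMonomorphisms] (A : DualData T)
    {S : ShortComplex C} (hS : S.ShortExact) (h₁ : A.Refl ((single C (ComplexShape.up ℤ) 0).obj S.X₁))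
    (h₃ : A.Refl ((single C (ComplexShape.up ℤ) 0).obj S.X₃)) :
    A.Refl ((single C (ComplexShape.up ℤ) 0).obj S.X₂) :=
  A.refl₂ (hS.map_of_exact (HomologicalComplex.single C (ComplexShape.up ℤ) 0)) h₁ h₃

section SingleFunctor

variable [∀ (J : Type), HasColimitsOfShape (Discrete J) C]
  [∀ (J : Type), (colim : (Discrete J ⥤ C) ⥤ C).PreservesMonomorphisms]

/-- `refl_unit` with `CochainComplex.singleFunctor`. -/
theorem refl_unit' {I : C} (ρ : T.flip.obj I ≅ 𝟭 C) (A : DualData T)
    (j : (CochainComplex.singleFunctor C 0).obj I ⟶ A.J) (hj : QuasiIso j) :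
    A.Refl ((CochainComplex.singleFunctor C 0).obj I) :=
  refl_unit ρ A j

/-- `refl_of_class` with `CochainComplex.singleFunctor`. -/
theorem refl_of_class' [∀ M : C, (T.flip.obj M).IsLeftAdjoint] {I : C} (A : DualData T) (hI : Injective I)
    (j : (CochainComplex.singleFunctor C 0).obj I ⟶ A.J) (hj : QuasiIso j) (P : ObjectProperty C)
    (hP : ∀ X, P X → ∃ (Y Z : C) (f : Y ⟶ Z) (g : Z ⟶ X) (w : f ≫ g = 0),
      (ShortComplex.mk f g w).ShortExact ∧ P Y ∧ A.Refl ((CochainComplex.singleFunctor C 0).obj Z))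
    (X : C) (hX : P X) : A.Refl ((CochainComplex.singleFunctor C 0).obj X) :=
  refl_of_class A hI j P hP X hX

/-- `refl_single₂` with `CochainComplex.singleFunctor`. -/
lemma refl_single₂' (A : DualData T)
    {S : ShortComplex C} (hS : S.ShortExact) (h₁ : A.Refl ((CochainComplex.singleFunctor C 0).obj S.X₁))
    (h₃ : A.Refl ((CochainComplex.singleFunctor C 0).obj S.X₃)) :
    A.Refl ((CochainComplex.singleFunctor C 0).obj S.X₂) :=
  refl_single₂ A hS h₁ h₃

/-- Biproducts of reflexive objects. -/
lemma refl_biprod (A : DualData T) {M N : C} (h₁ : A.Refl ((CochainComplex.singleFunctor C 0).obj M))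
    (h₂ : A.Refl ((CochainComplex.singleFunctor C 0).obj N)) :
    A.Refl ((CochainComplex.singleFunctor C 0).obj (M ⊞ N)) := by
  refine refl_single₂' A (S := ShortComplex.mk (biprod.inl : M ⟶ M ⊞ N) biprod.snd (by simp)) ?_ h₁ h₂
  exact (ShortComplex.Splitting.mk (S := ShortComplex.mk (biprod.inl : M ⟶ M ⊞ N) biprod.snd (by simp))
    biprod.fst biprod.inr (by simp) (by simp) (by simp)).shortExact

/-- Zero is reflexive. -/
lemma refl_zero (A : DualData T) : A.Refl ((CochainComplex.singleFunctor C 0).obj 0) :=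
  A.refl_of_acyclic (fun i => ShortComplex.exact_of_isZero_X₂ _
    ((eval C _ i).map_isZero ((CochainComplex.singleFunctor C 0).map_isZero (isZero_zero _))))

end SingleFunctor

end Groth.Agent.Sga4h.BidPt
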