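import Groth.Agent.Sga4h.DualQ
import Groth.Agent.Sga4h.BidRefl

/-!
# From reflexivity on complexes to the double dual of the prelude
-/

set_option autoImplicit false

universe w v u

open CategoryTheory CategoryTheory.Limits AlgebraicGeometry HomologicalComplex

namespace Groth.Agent.Sga4h.BidRed538Fin

section Abstract

variable {C : Type u} [Category.{v} C] [Abelian C] [HasDerivedCategory.{w} C] {T : C ⥤ C ⥤ C} [T.Additive]
  [∀ X, (T.obj X).Additive]
  [∀ (K₁ K₂ : CochainComplex C ℤ), CochainComplex.HasMapBifunctor K₁ K₂ T]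
  [∀ E : CochainComplex C ℤ, (T.map₂CochainComplex.flip.obj E).IsLeftAdjoint]
  [∀ (J : Type), HasColimitsOfShape (Discrete J) C]
  [∀ (J : Type), (colim : (Discrete J ⥤ C) ⥤ C).PreservesMonomorphisms]

open Groth.Agent.Sga4h.Refl

/-- The dual only depends on the object of the derived category. -/
theorem nonempty_D_iso (A : DualData T) {K L : CochainComplex C ℤ}
    (e : DerivedCategory.Q.obj K ≅ DerivedCategory.Q.obj L) :
    Nonempty (DerivedCategory.Q.obj (A.D K) ≅ DerivedCategory.Q.obj (A.D L)) := by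
  obtain ⟨M, s, hs, g, hg⟩ := DerivedCategory.right_fac e.hom
  have hs' : QuasiIso s := (DerivedCategory.isIso_Q_map_iff_quasiIso _ s).1 hs
  have hg' : IsIso (DerivedCategory.Q.map g) := by
    have : DerivedCategory.Q.map g = DerivedCategory.Q.map s ≫ e.hom := by
      rw [hg, IsIso.hom_inv_id_assoc]
    rw [this]
    infer_instance
  have hg'' : QuasiIso g := (DerivedCategory.isIso_Q_map_iff_quasiIso _ g).1 hg'
  have h1 : QuasiIso (A.Dmap s) := inferInstance
  have h2 : QuasiIso (A.Dmap g) := inferInstance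
  exact ⟨asIso (DerivedCategory.Q.map (A.Dmap s)) ≪≫ (asIso (DerivedCategory.Q.map (A.Dmap g))).symm⟩

/-- Reflexive complexes are isomorphic to their double duals in the derived category. -/
theorem nonempty_bidual (A : DualData T) {K L : CochainComplex C ℤ} (hK : A.Refl K)
    (e : DerivedCategory.Q.obj L ≅ DerivedCategory.Q.obj (A.D K)) :
    Nonempty (DerivedCategory.Q.obj K ≅ DerivedCategory.Q.obj (A.D L)) := by
  obtain ⟨e'⟩ := nonempty_D_iso A e
  have := hK.qis
  exact ⟨asIso (DerivedCategory.Q.map (A.ev K)) ≪≫ e'.symm⟩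

end Abstract

section Concrete

attribute [local instance] HasDerivedCategory.standard
attribute [local instance 5000] CategoryTheory.Abelian.toPreadditive
  CategoryTheory.Preadditive.preadditiveHasZeroMorphisms
open scoped Groth.Agent.Sga4h.ModInst

variable {Λ : Type (u + 1)} [CommRing Λ] {X : Scheme.{u}}

/-- From reflexivity on complexes to the double dual of the prelude. -/
theorem main (L K DK : CochainComplex (EtModW.Mod Λ X) ℤ) [EtModD.HasLTensorCx K] [EtModD.HasRHom K]
    [EtModD.HasLTensorCx DK] [EtModD.HasRHom DK]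
    (hR : ∀ (J : CochainComplex (EtModW.Mod Λ X) ℤ) (hJ : J.IsKInjective) (hJ' : ∀ n, Injective (J.X n))
      (i : L ⟶ J) (_ : QuasiIso i), (DualEt.dualData J hJ hJ').Refl K)
    (hDK : Nonempty (DerivedCategory.Q.obj DK ≅ EtModD.dual (DerivedCategory.Q.obj L) K)) :
    Nonempty (DerivedCategory.Q.obj K ≅ EtModD.dual (DerivedCategory.Q.obj L) DK) := by
  obtain ⟨J, i, hJ, hJ', hi, -⟩ := DualEt.exists_kInj L
  obtain ⟨e⟩ := hDK
  obtain ⟨e₁⟩ := DualQ.nonempty_dualIso J hJ hJ' K
  obtain ⟨e₂⟩ := DualQ.nonempty_dualIso J hJ hJ' DK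
  have hi' : IsIso (DerivedCategory.Q.map i) := inferInstance
  obtain ⟨e₃⟩ := nonempty_bidual (DualEt.dualData J hJ hJ') (hR J hJ hJ' i hi)
    (e ≪≫ (EtModD.RHom K).mapIso (asIso (DerivedCategory.Q.map i)) ≪≫ e₁)
  exact ⟨e₃ ≪≫ e₂.symm ≪≫ (EtModD.RHom DK).mapIso (asIso (DerivedCategory.Q.map i)).symm⟩

end Concrete

end Groth.Agent.Sga4h.BidRed538Fin
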