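import Groth.Agent.Picfga.CurveRelDim
import Groth.Agent.Sga4B.EtCoords
import Groth.Agent.Sga4B.IterP1

/-!
# Étale coordinates on a smooth scheme

Every point of a smooth scheme `X` over `S` has an affine open neighbourhood `U` with an étale morphism to an iterated
projective line over `S`.
-/

set_option autoImplicit false

universe u

open CategoryTheory CategoryTheory.Limits AlgebraicGeometry

namespace Groth.Agent.Sga4h.BidRed538Geo

open Groth.Agent.Sga4B.IterP1

variable {X S : Scheme.{u}}

theorem exists_relDim (f : X ⟶ S) [Smooth f] (x : X) :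
    ∃ (n : ℕ) (V : X.Opens), x ∈ V ∧ SmoothOfRelativeDimension n (V.ι ≫ f) := by
  obtain ⟨U, hU, V, hV, hx, e, h⟩ := Smooth.exists_isStandardSmooth f x
  obtain ⟨n, hn⟩ := Picfga.CurveRelDim.exists_relativeDimension h
  refine ⟨n, V, hx, ?_⟩
  have h1 : SmoothOfRelativeDimension n (f.resLE U V e) := by
    have : IsAffine U := hU
    have : IsAffine V := hV
    rw [HasRingHomProperty.iff_of_isAffine (P := @SmoothOfRelativeDimension n)]
    have hr : (RingHom.toMorphismProperty
        (RingHom.Locally (RingHom.IsStandardSmoothOfRelativeDimension n))).RespectsIso :=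
      RingHom.toMorphismProperty_respectsIso_iff.mp
        (HasRingHomProperty.isLocal_ringHomProperty (@SmoothOfRelativeDimension n)).respectsIso
    exact (MorphismProperty.arrow_mk_iso_iff (RingHom.toMorphismProperty
      (RingHom.Locally (RingHom.IsStandardSmoothOfRelativeDimension n)))
      (arrowResLEAppIso f U V e)).mpr
        (RingHom.locally_of RingHom.isStandardSmoothOfRelativeDimension_respectsIso _ hn)
  have h2 : V.ι ≫ f = f.resLE U V e ≫ U.ι := (Scheme.Hom.resLE_comp_ι _ _).symm
  rw [h2]
  exact (inferInstance : SmoothOfRelativeDimension (n + 0) (f.resLE U V e ≫ U.ι))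

/-- Étale coordinates. -/
theorem exists_coord (f : X ⟶ S) [Smooth f] (x : X) :
    ∃ (n : ℕ) (U : Scheme.{u}) (j : U ⟶ X) (w : U ⟶ P S n), IsAffine U ∧ IsOpenImmersion j ∧ x ∈ Set.range j ∧
      Etale w ∧ w ≫ toBase S n = j ≫ f := by
  obtain ⟨n, V, hx, hV⟩ := exists_relDim f x
  obtain ⟨V', w, h1, h2, -, h3, h4⟩ := Sga4B.EtCoords.exists_etale (V.ι ≫ f) n ⟨x, hx⟩ ⊤ trivial
  refine ⟨n, V'.toScheme, V'.ι ≫ V.ι, w, h1, inferInstance, ⟨⟨⟨x, hx⟩, h2⟩, rfl⟩, h3, ?_⟩
  rw [h4, Category.assoc]

/-- The iterated projective lines over a field are Noetherian. -/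
theorem isNoetherian_P (k : Type u) [Field k] (n : ℕ) : IsNoetherian (P (Spec (CommRingCat.of k)) n) := by
  have h1 : IsLocallyNoetherian (P (Spec (CommRingCat.of k)) n) :=
    LocallyOfFiniteType.isLocallyNoetherian (toBase (Spec (CommRingCat.of k)) n)
  have h2 : CompactSpace (P (Spec (CommRingCat.of k)) n) :=
    QuasiCompact.compactSpace_of_compactSpace (toBase (Spec (CommRingCat.of k)) n)
  exact { __ := h1 }

/-- Morphisms with affine source are separated. -/
theorem isSeparated_of_isAffine {U P : Scheme.{u}} [IsAffine U] (w : U ⟶ P) : IsSeparated w := by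
  have : IsSeparated (w ≫ terminal.from P) := by
    rw [terminal.comp_from]
    infer_instance
  exact IsSeparated.of_comp w (terminal.from P)

end Groth.Agent.Sga4h.BidRed538Geo
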