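import Groth.Agent.Sga4h.BidRed538Ext
import Groth.Agent.Sga4h.BidRed538Geo
import Groth.Agent.Sga4h.BidRed538Fin
import Groth.Agent.Sga4h.DbcDual323
import Groth.Agent.Sga4h.BidGeoCmp
import Groth.Agent.Sga4h.ExtFree
import Groth.Agent.Dcoh.DerAdj

/-!
# Reduction of local biduality on a smooth scheme over a separably closed field to iterated projective lines

From:
* reflexivity of the objects of `D^b_c` on the iterated projective lines over `k`;
* stability of reflexivity under restriction along étale morphisms, étale locality of reflexivity;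
* `F` is a direct summand of `w^* w_! F` for `w` étale separated;
one gets the reflexivity of the objects of `D^b_c` on every smooth scheme over `k`.
-/

set_option autoImplicit false

universe u

open CategoryTheory CategoryTheory.Limits AlgebraicGeometry

attribute [local instance 5000] CategoryTheory.Abelian.toPreadditive
  CategoryTheory.Preadditive.preadditiveHasZeroMorphisms

namespace Groth.Agent.Sga4h.BidRed538Asm

attribute [local instance] HasDerivedCategory.standard
open scoped Groth.Agent.Sga4h.ModInst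
open Groth.Agent.Sga4h.Refl Groth.Agent.Sga4h.ModRestr Groth.Agent.Sga4h.BidRed538Geo Groth.Agent.Sga4h.BidGeoIt

variable {Λ : Type (u + 1)} [CommRing Λ]

/-- Restriction of complexes along an étale morphism. -/
noncomputable abbrev resC {V X : Scheme.{u}} (j : V ⟶ X) [Etale j] :
    CochainComplex (EtModW.Mod Λ X) ℤ ⥤ CochainComplex (EtModW.Mod Λ V) ℤ :=
  (res Λ j).mapHomologicalComplex (ComplexShape.up ℤ)

/-- Restriction and objects in degree zero. -/
noncomputable def resSingle {V X : Scheme.{u}} (j : V ⟶ X) [Etale j] (F : EtModW.Mod Λ X) :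
    (resC j).obj ((CochainComplex.singleFunctor (EtModW.Mod Λ X) 0).obj F) ≅
      (CochainComplex.singleFunctor (EtModW.Mod Λ V) 0).obj ((res Λ j).obj F) :=
  (HomologicalComplex.singleMapHomologicalComplex (res Λ j) (ComplexShape.up ℤ) 0).app F

variable (A : ∀ X : Scheme.{u}, DualData (EtModD.tensorBi Λ X))

/-- Properties of reflexivity with respect to étale morphisms. -/
structure EtRefl : Prop where
  /-- restriction preserves reflexivity -/
  res : ∀ {V X : Scheme.{u}} (j : V ⟶ X) [Etale j] (E : CochainComplex (EtModW.Mod Λ X) ℤ), (A X).Refl E →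
    (A V).Refl ((resC j).obj E)
  /-- reflexivity is local -/
  loc : ∀ {X : Scheme.{u}} {ι : Type u} (V : ι → Scheme.{u}) (j : ∀ i, V i ⟶ X) [∀ i, Etale (j i)]
    (_ : ∀ x : X, ∃ i, x ∈ Set.range (j i)) (E : CochainComplex (EtModW.Mod Λ X) ℤ),
    (∀ i, (A (V i)).Refl ((resC (j i)).obj E)) → (A X).Refl E

variable {A}

/-- Reflexivity on an affine scheme étale over `P`. -/
theorem refl_of_etale [Finite Λ] (hA : EtRefl A)
    (hretr : ∀ {V X : Scheme.{u}} (w : V ⟶ X) [Etale w] [IsSeparated w] (F : EtModW.Mod Λ V),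
      ∃ (i : F ⟶ (res Λ w).obj ((ext Λ w).obj F)) (r : (res Λ w).obj ((ext Λ w).obj F) ⟶ F), i ≫ r = 𝟙 F)
    {U P : Scheme.{u}} [IsAffine U] [IsNoetherian P] (w : U ⟶ P) [Etale w]
    (hP : ∀ E : CochainComplex (EtModW.Mod Λ P) ℤ, EtModD.IsDbc (DerivedCategory.Q.obj E) → (A P).Refl E)
    (F : EtModW.Mod Λ U) (hF : EtModW.IsConstructible Λ F) :
    (A U).Refl ((CochainComplex.singleFunctor (EtModW.Mod Λ U) 0).obj F) := by
  have hw : IsSeparated w := isSeparated_of_isAffine w
  obtain ⟨i, r, hir⟩ := hretr w F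
  have h1 : EtModW.IsConstructible Λ ((ext Λ w).obj F) := BidRed538Ext.isConstructible_ext w F hF
  have h2 := hP _ ((Dbc323.isDbc_Q_single_iff ((ext Λ w).obj F) 0).2 h1)
  have h3 := hA.res w _ h2
  have h4 : (A U).Refl ((CochainComplex.singleFunctor (EtModW.Mod Λ U) 0).obj
      ((res Λ w).obj ((ext Λ w).obj F))) :=
    ((A U).refl_iff_of_quasiIso (resSingle w ((ext Λ w).obj F)).hom).1 h3
  refine (A U).refl_of_retract ((CochainComplex.singleFunctor (EtModW.Mod Λ U) 0).map i)
    ((CochainComplex.singleFunctor (EtModW.Mod Λ U) 0).map r) ?_ h4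
  rw [← Functor.map_comp, hir, CategoryTheory.Functor.map_id]

/-- **Reduction**: reflexivity on smooth schemes over `k` from reflexivity on iterated projective lines. -/
theorem refl_of_smooth [Finite Λ] (hA : EtRefl A)
    (hretr : ∀ {V X : Scheme.{u}} (w : V ⟶ X) [Etale w] [IsSeparated w] (F : EtModW.Mod Λ V),
      ∃ (i : F ⟶ (res Λ w).obj ((ext Λ w).obj F)) (r : (res Λ w).obj ((ext Λ w).obj F) ⟶ F), i ≫ r = 𝟙 F)
    (k : Type u) [Field k]
    (hP : ∀ (d : ℕ) (E : CochainComplex (EtModW.Mod Λ (It (Spec (CommRingCat.of k)) d)) ℤ),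
      EtModD.IsDbc (DerivedCategory.Q.obj E) → (A (It (Spec (CommRingCat.of k)) d)).Refl E)
    {X : Scheme.{u}} (a : X ⟶ Spec (CommRingCat.of k)) [Smooth a]
    (E : CochainComplex (EtModW.Mod Λ X) ℤ) (hE : EtModD.IsDbc (DerivedCategory.Q.obj E)) : (A X).Refl E := by
  refine DbcDual323.refl_of_isDbc (A X) (fun F hF => ?_) E hE
  choose n U j w h1 h2 h3 h4 h5 using fun x : X => exists_coord a x
  have (x : X) : IsOpenImmersion (j x) := h2 x
  refine hA.loc U j (fun x => ⟨x, h3 x⟩) _ (fun x => ?_)
  have h6 : (A (U x)).Refl ((CochainComplex.singleFunctor (EtModW.Mod Λ (U x)) 0).obj ((res Λ (j x)).obj F)) := by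
    have hN : IsNoetherian (Sga4B.IterP1.P (Spec (CommRingCat.of k)) (n x)) := isNoetherian_P k (n x)
    have hN' : IsNoetherian (It (Spec (CommRingCat.of k)) (n x)) := by
      rw [BidGeoCmp.it_eq_P]
      exact hN
    have := h1 x
    have := h4 x
    refine refl_of_etale hA hretr (w x ≫ (BidGeoCmp.isoP _ (n x)).inv) (hP (n x)) _ ?_
    exact Etrest.ModCons.isConstructible_of_iso ((ExtFree.pullIsoRes (j x)).app F)
      (Etcore.LCrit.isConstructible_pull (j x) F hF)
  exact ((A (U x)).refl_iff_of_quasiIso (resSingle (j x) F).hom).2 h6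

end Groth.Agent.Sga4h.BidRed538Asm
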