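import Groth.Agent.Sga4h.ModRestr
import Groth.Agent.Sga4h.LamSerreFin
import Groth.Agent.Etcore.LFreePull
import Groth.Agent.Etcore.LFinite
import Groth.Agent.EtpbcA.Present
import Groth.Agent.S0128

/-!
# Constructibility of extensions by zero of sheaves of modules

* `exists_epi_LM`: for `Λ` finite, a constructible sheaf of `Λ`-modules on a quasi-compact quasi-separated scheme is
  a quotient of a finite sum of sheaves `Λ[U]`, `U` affine.
* `extLM`: `j_! Λ[U] ≅ Λ[U]` for `j` étale.
* `isConstructible_ext`: `j_! F` is constructible if `F` is.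
-/

set_option autoImplicit false
universe u

open CategoryTheory CategoryTheory.Limits AlgebraicGeometry Opposite

namespace Groth.Agent.Sga4h.BidRed538Ext

open Groth.Agent.Etcore.LVan Groth.Agent.Etcore.LFree Groth.Agent.Sga4h.ModRestr

variable {Λ : Type (u + 1)} [CommRing Λ]

theorem hasFiniteBiproducts (X : Scheme.{u}) : HasFiniteBiproducts (EtModW.Mod Λ X) :=
  Abelian.hasFiniteBiproducts

attribute [local instance] hasFiniteBiproducts

section Gen

variable {X : Scheme.{u}}

/-- For `Λ` finite, a constructible sheaf is generated by finitely many sections over affine étale schemes. -/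
theorem exists_gen [Finite Λ] [CompactSpace X] [QuasiSeparatedSpace X] (F : EtModW.Mod Λ X)
    (hF : EtModW.IsConstructible Λ F) :
    ∃ (b : ℕ) (U : Fin b → X.Etale) (_ : ∀ i, IsAffine (U i).left) (s : ∀ i, EtModW.sect Λ F (U i)),
      ∀ {G : EtModW.Mod Λ X} (π : F ⟶ G), (∀ i, ev π (U i) (s i) = 0) → π = 0 := by
  have hab := (Etcore.LFinite.isConstructible_iff_ab F).1 hF
  have hn : ((Nat.card Λ : ℕ) : Λ) = 0 := by
    have h := card_nsmul_eq_zero' (G := Λ) (x := 1)
    rwa [nsmul_one] at h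
  have hk : EtCoh.KilledBy (Nat.card Λ) (ab F) := by
    intro U s
    have h : ∀ t : EtModW.sect Λ F U, (Nat.card Λ) • t = 0 := fun t => by
      rw [← Nat.cast_smul_eq_nsmul Λ, hn, zero_smul]
    exact h s
  obtain ⟨a, ha⟩ := EtpbcA.Present.exists_epi_of_strata' ((S0128.result X (ab F)).1 hab) hk
  refine ⟨a.b, fun i => (a.f i).U, fun i => (a.f i).aff, fun i => (a.f i).s, ?_⟩
  intro G π hπ
  have h1 : a.map ≫ abMap π = 0 := by
    apply biproduct.hom_ext'
    intro i
    rw [comp_zero]
    refine (Category.assoc _ _ _).symm.trans ?_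
    have h2 : biproduct.ι (fun i => EtPBC.extZeroConst (a.f i).U (ZMod (Nat.card Λ))) i ≫ a.map = (a.f i).map :=
      biproduct.ι_desc _ _
    rw [h2]
    apply EtpbcA.Jshriek.ext_e
    change (abMap π).hom.app (op (a.f i).U) (((a.f i).map).hom.app (op (a.f i).U)
      (EtpbcA.Jshriek.e (a.f i).U (Nat.card Λ))) = 0
    have h3 : ((a.f i).map).hom.app (op (a.f i).U) (EtpbcA.Jshriek.e (a.f i).U (Nat.card Λ)) = (a.f i).s :=
      EtpbcA.Jshriek.ofSect_e _ _ _ _
    rw [h3]
    exact hπ i
  have h4 : abMap π = 0 := by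
    rw [← cancel_epi a.map, h1, comp_zero]
  ext U x
  exact ConcreteCategory.congr_hom (congrArg (fun (α : ab F ⟶ ab G) => α.hom.app U) h4) x

/-- For `Λ` finite, a constructible sheaf is a quotient of a finite sum of sheaves `Λ[U]`. -/
theorem exists_epi_LM [Finite Λ] [CompactSpace X] [QuasiSeparatedSpace X] (F : EtModW.Mod Λ X)
    (hF : EtModW.IsConstructible Λ F) :
    ∃ (b : ℕ) (U : Fin b → X.Etale) (_ : ∀ i, IsAffine (U i).left) (p : (⨁ fun i => LM Λ (U i)) ⟶ F), Epi p := by
  obtain ⟨b, U, hU, s, hs⟩ := exists_gen F hF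
  refine ⟨b, U, hU, biproduct.desc (fun i => desc (s i)), ?_⟩
  refine Preadditive.epi_of_cancel_zero _ (fun {G} π h => hs π (fun i => ?_))
  have h1 : desc (s i) ≫ π = 0 := by
    rw [← biproduct.ι_desc (fun i => desc (s i)) i, Category.assoc, h, comp_zero]
  have h2 := congrArg (fun α => ev α (U i) (gen Λ (U i))) h1
  change ev π (U i) (ev (desc (s i)) (U i) (gen Λ (U i))) = 0 at h2
  rwa [desc_gen] at h2

end Gen

section Ext

variable {V X : Scheme.{u}} (j : V ⟶ X) [Etale j]

/-- `j_! Λ[U]` represents sections over `U`. -/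
theorem bijective_ext_LM (U : V.Etale) (G : EtModW.Mod Λ X) :
    Function.Bijective (fun f : (ext Λ j).obj (LM Λ U) ⟶ G =>
      ev f ((EtShriek.compEtale j).obj U) (ev ((extResAdj Λ j).unit.app (LM Λ U)) U (gen Λ U))) :=
  (homEquiv U ((res Λ j).obj G)).bijective.comp ((extResAdj Λ j).homEquiv (LM Λ U) G).bijective

/-- `j_! Λ[U] ≅ Λ[U]`. -/
theorem nonempty_ext_LM (U : V.Etale) :
    Nonempty (LM Λ ((EtShriek.compEtale j).obj U) ≅ (ext Λ j).obj (LM Λ U)) := by
  let U' := (EtShriek.compEtale j).obj U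
  let e : EtModW.sect Λ ((ext Λ j).obj (LM Λ U)) U' := ev ((extResAdj Λ j).unit.app (LM Λ U)) U (gen Λ U)
  let f : LM Λ U' ⟶ (ext Λ j).obj (LM Λ U) := desc e
  obtain ⟨g, hg⟩ := (bijective_ext_LM (Λ := Λ) j U (LM Λ U')).2 (gen Λ U')
  refine ⟨⟨f, g, ?_, ?_⟩⟩
  · apply hom_ext
    change ev g U' (ev f U' (gen Λ U')) = gen Λ U'
    rw [desc_gen]
    exact hg
  · apply (bijective_ext_LM (Λ := Λ) j U _).1
    change ev f U' (ev g U' e) = e
    have h : ev g U' e = gen Λ U' := hg
    rw [h, desc_gen]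

/-- `j_! F` is constructible if `F` is. -/
theorem isConstructible_ext [Finite Λ] [CompactSpace V] [QuasiSeparatedSpace V] [QuasiSeparatedSpace X]
    [IsLocallyNoetherian X] (F : EtModW.Mod Λ V) (hF : EtModW.IsConstructible Λ F) :
    EtModW.IsConstructible Λ ((ext Λ j).obj F) := by
  have : IsNoetherianRing Λ := inferInstance
  obtain ⟨b, U, hU, p, hp⟩ := exists_epi_LM F hF
  have h1 : EtModW.IsConstructible Λ ((ext Λ j).obj (⨁ fun i => LM Λ (U i))) := by
    refine Etcore.LCrit.isConstructible_of_iso ((ext Λ j).mapBiproduct (fun i => LM Λ (U i))).symm ?_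
    refine LamSerre.isConstructible_biproduct _ (fun i => ?_)
    refine Etcore.LCrit.isConstructible_of_iso (nonempty_ext_LM j (U i)).some ?_
    have : IsAffine ((EtShriek.compEtale j).obj (U i)).left := hU i
    exact Etcore.LFreePull.isConstructible_LM_of_affine _
  have h2 : Epi ((ext Λ j).map p) := inferInstance
  exact LamSerre.isConstructible_of_epi ((ext Λ j).map p) h1

end Ext

end Groth.Agent.Sga4h.BidRed538Ext
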