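import Groth.Agent.Sga4h.ModRestr
import Groth.Agent.Etcore.ShriekToPush
import Groth.Agent.Etcore.LVan
import Groth.Agent.Etrest.ModSmul

/-!
# `F ⟶ w^* w_! F` has a retraction for `w` étale and separated

* `sigmaM w F : F ⟶ w^* w_* F`: extension by zero along the diagonal;
* `sigmaM_counit`: the composite with the counit `w^* w_* F ⟶ F` is the identity;
* `exists_retr`: `F` is a direct summand of `w^* w_! F`.
-/

set_option autoImplicit false
universe u

open CategoryTheory CategoryTheory.Limits AlgebraicGeometry Opposite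

namespace Groth.Agent.Sga4h.BidRetr756

open Groth.Agent.Sga4h.ModRestr Groth.Agent.Etcore.ClopenExt Groth.Agent.Etcore.ShriekToPush
  Groth.Agent.Etcore.LVan

attribute [local instance] Groth.Agent.Sga4h.EtaleRes.jCont

variable {Λ : Type (u + 1)} [CommRing Λ] {V X : Scheme.{u}}

/-- Extension by zero of sections of a sheaf of modules along the graph, as a linear map. -/
noncomputable def extM (w : V ⟶ X) [Etale w] [IsSeparated w] (F : EtModW.Mod Λ V) (T : V.Etale) :
    F.obj.obj (op T) →ₗ[Λ] F.obj.obj (op ((EtCoh.bc w).obj ((EtShriek.compEtale w).obj T))) where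
  toFun s := extHom (ab F) (gr w T) (isClopen_gr w T) s
  map_add' s t := map_add (extHom (ab F) (gr w T) (isClopen_gr w T)) s t
  map_smul' a s := (hom_extHom_gr w (abMap (Etrest.ModSmul.smulEnd a F)) T s).symm

theorem extM_res (w : V ⟶ X) [Etale w] [IsSeparated w] (F : EtModW.Mod Λ V) (T : V.Etale)
    (s : F.obj.obj (op T)) : F.obj.map (gr w T).op (extM w F T s) = s :=
  map_extHom (ab F) (gr w T) (isClopen_gr w T) s

/-- The map `F ⟶ w^* w_* F` given by extension by zero along the graph. -/
noncomputable def sigmaM (w : V ⟶ X) [Etale w] [IsSeparated w] (F : EtModW.Mod Λ V) :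
    F ⟶ (res Λ w).obj ((EtModW.push Λ w).obj F) :=
  ⟨{ app := fun T => ModuleCat.ofHom (extM w F T.unop)
     naturality := fun T T' f => by
      ext s
      exact (map_extHom_gr w (ab F) f.unop s).symm }⟩

theorem sigmaM_counit (w : V ⟶ X) [Etale w] [IsSeparated w] (F : EtModW.Mod Λ V) :
    sigmaM w F ≫ (resPushAdj Λ w).counit.app F = 𝟙 F := by
  ext T s
  exact extM_res w F T.unop s

/-- For `w` étale and separated, `F` is a direct summand of `w^* w_! F`. -/
theorem exists_retr (w : V ⟶ X) [Etale w] [IsSeparated w] (F : EtModW.Mod Λ V) :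
    ∃ (i : F ⟶ (res Λ w).obj ((ext Λ w).obj F)) (r : (res Λ w).obj ((ext Λ w).obj F) ⟶ F), i ≫ r = 𝟙 F := by
  refine ⟨(extResAdj Λ w).unit.app F, (res Λ w).map (((extResAdj Λ w).homEquiv _ _).symm (sigmaM w F)) ≫
    (resPushAdj Λ w).counit.app F, ?_⟩
  have h : (extResAdj Λ w).unit.app F ≫ (res Λ w).map (((extResAdj Λ w).homEquiv _ _).symm (sigmaM w F)) =
      sigmaM w F :=
    (Adjunction.homEquiv_unit (extResAdj Λ w) _ _ _).symm.trans
      (((extResAdj Λ w).homEquiv _ _).apply_symm_apply (sigmaM w F))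
  rw [← Category.assoc, h, sigmaM_counit]

end Groth.Agent.Sga4h.BidRetr756
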