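import Groth.Prelude.Def_EtBase
import Groth.Prelude.Def_Hensel
import Groth.Agent.S0538
import Groth.Agent.S0539
import Groth.Agent.S0540
import Mathlib.RingTheory.DiscreteValuationRing.TFAE
import Mathlib.RingTheory.Polynomial.Content
import Mathlib.RingTheory.Filtration
import Mathlib.RingTheory.FiniteType
import Mathlib.RingTheory.Algebraic.Integral

/-!
# The strict henselization of `R[t]` at `π R[t]`, for a discrete valuation ring `R`

* `primeIdeal R` : the prime ideal `𝔪 R[t]`, `Gauss R` : the local ring of `R[t]` there, a discrete
  valuation ring with the same uniformizer as `R`.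
* `exists_coordinate` : at a non closed point of the special fibre of `Spec B` one of the given
  generators of `B` is a coordinate with value the generic point of the affine line.
* a strict henselization of a discrete valuation ring is a strictly henselian discrete valuation
  ring with the same uniformizer.
-/

set_option autoImplicit false

universe u

namespace Groth.Agent.Sga4h.ChartDVR

open Polynomial IsLocalRing

section general

variable {S : Type u} [CommRing S] [IsLocalRing S] [IsNoetherianRing S] {p : S}

theorem exists_unit_mul_pow (hp : maximalIdeal S = Ideal.span {p}) {x : S} (hx : x ≠ 0) :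
    ∃ (n : ℕ) (u : S), IsUnit u ∧ x = u * p ^ n := by
  have hk : (⨅ n : ℕ, (maximalIdeal S) ^ n) = ⊥ :=
    Ideal.iInf_pow_eq_bot_of_isLocalRing _ (Ideal.IsPrime.ne_top inferInstance)
  have h1 : ∃ n : ℕ, x ∉ (maximalIdeal S) ^ n := by
    by_contra hcon
    push Not at hcon
    apply hx
    have : x ∈ (⨅ n : ℕ, (maximalIdeal S) ^ n) := by
      simpa [Ideal.mem_iInf] using hcon
    rw [hk] at this
    simpa using this
  classical
  have h2 := Nat.find_spec h1
  set n := Nat.find h1 with hn
  have hn0 : n ≠ 0 := by
    intro h0
    rw [h0] at h2
    simp at h2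
  obtain ⟨m, hm⟩ := Nat.exists_eq_succ_of_ne_zero hn0
  have h3 : x ∈ (maximalIdeal S) ^ m := by
    by_contra hcon
    have := Nat.find_min' h1 hcon
    omega
  rw [hp, Ideal.span_singleton_pow, Ideal.mem_span_singleton'] at h3
  obtain ⟨u, hu⟩ := h3
  refine ⟨m, u, ?_, hu.symm⟩
  by_contra hnu
  apply h2
  have hu' : u ∈ maximalIdeal S := (mem_maximalIdeal u).2 hnu
  rw [hm, pow_succ', ← hu]
  exact Ideal.mul_mem_mul hu' (by rw [hp]; exact Ideal.pow_mem_pow (Ideal.mem_span_singleton_self p) m)

theorem isDomain (hp : maximalIdeal S = Ideal.span {p}) (hn : ¬ IsNilpotent p) : IsDomain S := by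
  have : NoZeroDivisors S := by
    refine ⟨fun {a b} hab => ?_⟩
    by_contra hcon
    push Not at hcon
    obtain ⟨n, u, hu, rfl⟩ := exists_unit_mul_pow hp hcon.1
    obtain ⟨m, v, hv, rfl⟩ := exists_unit_mul_pow hp hcon.2
    apply hn
    refine ⟨n + m, ?_⟩
    have h1 : (u * v) * p ^ (n + m) = 0 := by rw [← hab]; ring
    exact (hu.mul hv).mul_right_eq_zero.1 h1
  exact NoZeroDivisors.to_isDomain S

theorem isDiscreteValuationRing (hp : maximalIdeal S = Ideal.span {p}) (hn : ¬ IsNilpotent p)
    [IsDomain S] : IsDiscreteValuationRing S := by
  have hnf : ¬ IsField S := by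
    rw [IsLocalRing.isField_iff_maximalIdeal_eq, hp, Ideal.span_singleton_eq_bot]
    rintro rfl
    exact hn ⟨1, by simp⟩
  have := ((IsDiscreteValuationRing.TFAE S hnf).out 0 4).2
    (by rw [hp]; exact ⟨⟨p, rfl⟩⟩)
  exact this

end general

section strict

variable (A S : Type u) [CommRing A] [IsDomain A] [IsDiscreteValuationRing A]
  [CommRing S] [IsLocalRing S] [Algebra A S] [IsLocalHom (algebraMap A S)]
  [Hensel.IsStrictHenselization A S]

theorem injective_algebraMap : Function.Injective (algebraMap A S) := by
  have := Groth.Agent.S0539.result A S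
  exact FaithfulSMul.algebraMap_injective A S

theorem maximalIdeal_eq_span {p : A} (hp : Irreducible p) :
    maximalIdeal S = Ideal.span {algebraMap A S p} := by
  rw [← Groth.Agent.S0538.result A S, (IsDiscreteValuationRing.irreducible_iff_uniformizer p).1 hp,
    Ideal.map_span, Set.image_singleton]

theorem not_isNilpotent {p : A} (hp : Irreducible p) : ¬ IsNilpotent (algebraMap A S p) := by
  rintro ⟨n, hn⟩
  rw [← map_pow] at hn
  have h1 : p ^ n = 0 := injective_algebraMap A S (by rw [hn, map_zero])
  exact hp.ne_zero (eq_zero_of_pow_eq_zero h1)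

include A in
theorem isDomain_of_isStrictHenselization : IsDomain S := by
  have : IsNoetherianRing S := (Groth.Agent.S0540.result A S).1 inferInstance
  obtain ⟨p, hp⟩ := IsDiscreteValuationRing.exists_irreducible A
  exact isDomain (maximalIdeal_eq_span A S hp) (not_isNilpotent A S hp)

include A in
theorem isDiscreteValuationRing_of_isStrictHenselization [IsDomain S] :
    IsDiscreteValuationRing S := by
  have : IsNoetherianRing S := (Groth.Agent.S0540.result A S).1 inferInstance
  obtain ⟨p, hp⟩ := IsDiscreteValuationRing.exists_irreducible A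
  exact isDiscreteValuationRing (maximalIdeal_eq_span A S hp) (not_isNilpotent A S hp)

theorem irreducible_of_isStrictHenselization [IsDomain S] [IsDiscreteValuationRing S] {p : A}
    (hp : Irreducible p) : Irreducible (algebraMap A S p) :=
  (IsDiscreteValuationRing.irreducible_iff_uniformizer _).2 (maximalIdeal_eq_span A S hp)

include A in
theorem isStrictlyHenselianLocalRing_of_isStrictHenselization :
    EtCoh.IsStrictlyHenselianLocalRing S := by
  have h1 : HenselianLocalRing S := Hensel.IsStrictHenselization.henselian A
  have h2 : IsSepClosure (ResidueField A) (ResidueField S) :=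
    Hensel.IsStrictHenselization.isSepClosure
  exact ⟨h1, h2.sep_closed⟩

end strict

section gauss

variable (R : Type u) [CommRing R] [IsDomain R] [IsDiscreteValuationRing R]

/-- The prime ideal `𝔪 R[t]` of `R[t]`. -/
noncomputable def primeIdeal : Ideal R[X] := (maximalIdeal R).map C

instance : (primeIdeal R).IsPrime := by
  unfold primeIdeal
  infer_instance

/-- The local ring of `R[t]` at the generic point of the special fibre. -/
abbrev Gauss : Type u := Localization.AtPrime (primeIdeal R)

theorem maximalIdeal_gauss {p : R} (hp : Irreducible p) :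
    maximalIdeal (Gauss R) = Ideal.span {algebraMap R (Gauss R) p} := by
  have h1 : primeIdeal R = Ideal.span {C p} := by
    unfold primeIdeal
    rw [(IsDiscreteValuationRing.irreducible_iff_uniformizer p).1 hp, Ideal.map_span,
      Set.image_singleton]
  have h2 := Localization.AtPrime.map_eq_maximalIdeal (I := primeIdeal R)
  have h3 : Ideal.map (algebraMap R[X] (Gauss R)) (primeIdeal R) =
      Ideal.span {algebraMap R (Gauss R) p} := by
    refine (congrArg (Ideal.map (algebraMap R[X] (Gauss R))) h1).trans ?_
    rw [Ideal.map_span, Set.image_singleton, IsScalarTower.algebraMap_apply R R[X] (Gauss R)]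
    rfl
  rw [← h3, ← h2]

theorem algebraMap_gauss_injective : Function.Injective (algebraMap R (Gauss R)) := by
  rw [IsScalarTower.algebraMap_eq R R[X] (Gauss R)]
  exact (IsLocalization.injective (Gauss R) (primeIdeal R).primeCompl_le_nonZeroDivisors).comp
    C_injective

instance : IsDiscreteValuationRing (Gauss R) := by
  obtain ⟨p, hp⟩ := IsDiscreteValuationRing.exists_irreducible R
  refine isDiscreteValuationRing (maximalIdeal_gauss R hp) ?_
  rintro ⟨n, hn⟩
  rw [← map_pow] at hn
  have h1 : p ^ n = 0 := algebraMap_gauss_injective R (by rw [hn, map_zero])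
  exact hp.ne_zero (eq_zero_of_pow_eq_zero h1)

theorem irreducible_gauss {p : R} (hp : Irreducible p) :
    Irreducible (algebraMap R (Gauss R) p) :=
  (IsDiscreteValuationRing.irreducible_iff_uniformizer _).2 (maximalIdeal_gauss R hp)

end gauss

section coordinate

variable {R B : Type u} [CommRing R] [IsDomain R] [IsDiscreteValuationRing R] [CommRing B] [Algebra R B]

/-- at a non closed point `q` of the special fibre of `Spec B`, one of the generators is a
coordinate whose value is the generic point of the affine line over the residue field. -/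
theorem exists_coordinate (s : Set B) (hs : Algebra.adjoin R s = ⊤) (q : Ideal B) [hqp : q.IsPrime]
    (hq : q.comap (algebraMap R B) = maximalIdeal R) (hmax : ¬ q.IsMaximal) :
    ∃ x ∈ s, q.comap (aeval x : R[X] →ₐ[R] B) = primeIdeal R := by
  -- the residue ring `B / q` is an algebra over `κ`
  by_contra hcon
  push Not at hcon
  apply hmax
  let _ : Algebra (ResidueField R) (B ⧸ q) :=
    (Ideal.Quotient.lift (maximalIdeal R) ((Ideal.Quotient.mk q).comp (algebraMap R B)) (by
      intro a ha
      rw [← hq] at ha
      rw [RingHom.comp_apply, Ideal.Quotient.eq_zero_iff_mem]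
      exact ha)).toAlgebra
  have hst : ∀ a : R, algebraMap (ResidueField R) (B ⧸ q) (residue R a) =
      Ideal.Quotient.mk q (algebraMap R B a) := fun a => rfl
  have hint : ∀ b : B, IsIntegral (ResidueField R) (Ideal.Quotient.mk q b) := by
    intro b
    have hb : b ∈ Algebra.adjoin R s := by rw [hs]; trivial
    induction hb using Algebra.adjoin_induction with
    | mem x hx =>
      -- `x` satisfies a polynomial with some coefficient a unit
      have hne := hcon x hx
      have hle : primeIdeal R ≤ q.comap (aeval x : R[X] →ₐ[R] B) := by
        unfold primeIdeal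
        rw [Ideal.map_le_iff_le_comap]
        intro a ha
        rw [← hq] at ha
        rw [Ideal.mem_comap, Ideal.mem_comap, aeval_C]
        exact ha
      obtain ⟨f, hf, hfn⟩ := SetLike.exists_of_lt (lt_of_le_of_ne hle (Ne.symm hne))
      have hf' : f.map (residue R) ≠ 0 := by
        intro h0
        apply hfn
        rw [primeIdeal, Ideal.mem_map_C_iff]
        intro n
        have := congrArg (fun g => g.coeff n) h0
        simpa [coeff_map] using this
      have h1 : aeval (Ideal.Quotient.mk q x) (f.map (residue R)) = 0 := by
        rw [aeval_def, eval₂_map]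
        have h2 : (algebraMap (ResidueField R) (B ⧸ q)).comp (residue R) =
            (Ideal.Quotient.mk q).comp (algebraMap R B) := RingHom.ext hst
        rw [h2, ← hom_eval₂, Ideal.Quotient.eq_zero_iff_mem]
        exact hf
      exact (IsAlgebraic.isIntegral ⟨_, hf', h1⟩)
    | algebraMap r =>
      rw [← hst]
      exact isIntegral_algebraMap
    | add x y _ _ hx hy => rw [map_add]; exact hx.add hy
    | mul x y _ _ hx hy => rw [map_mul]; exact hx.mul hy
  have hAI : Algebra.IsIntegral (ResidueField R) (B ⧸ q) := by
    refine ⟨fun y => ?_⟩
    obtain ⟨b, rfl⟩ := Ideal.Quotient.mk_surjective y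
    exact hint b
  have hf : IsField (B ⧸ q) := by
    have hinj : Function.Injective (algebraMap (ResidueField R) (B ⧸ q)) :=
      (algebraMap (ResidueField R) (B ⧸ q)).injective
    exact (Algebra.IsIntegral.isField_iff_isField hinj).1 (Field.toIsField _)
  exact Ideal.Quotient.maximal_of_isField q hf

end coordinate

end Groth.Agent.Sga4h.ChartDVR
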