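import Groth.Prelude.Def_PBC
import Groth.Agent.Proet.IndEtale
import Groth.Agent.Etcore.PullbackSys
import Mathlib.CategoryTheory.Presentable.Directed
import Mathlib.AlgebraicGeometry.Morphisms.Etale
import Mathlib.AlgebraicGeometry.AffineScheme
import Mathlib.CategoryTheory.Limits.Constructions.Over.Connected

/-!
# Directed limits of étale schemes

`IsEtLim h` : the morphism `h : X' ⟶ X` is a directed limit of étale `X`-schemes which are affine
schemes (in the form used by S0646 and S0672).

* `isEtLim_of_isIndEtale` : `Spec B ⟶ Spec A ⟶ X` for `B` ind-étale over `A` and an open immersion.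
* `IsEtLim.of_isPullback` : base change along an affine morphism `Z ⟶ X`.
-/

set_option autoImplicit false

universe u

open CategoryTheory CategoryTheory.Limits AlgebraicGeometry Opposite

namespace Groth.Agent.Sga4h.EtLim

/-- `h : X' ⟶ X` is a directed limit of étale `X`-schemes which are affine schemes. -/
def IsEtLim {X' X : Scheme.{u}} (h : X' ⟶ X) : Prop :=
  ∃ (ι : Type u) (_ : PartialOrder ι) (_ : IsDirected ι (· ≤ ·)) (_ : Nonempty ι)
    (D : ιᵒᵖ ⥤ Over X) (π : (Functor.const ιᵒᵖ).obj X' ⟶ D ⋙ Over.forget X)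
    (_ : IsLimit (Cone.mk X' π)), (∀ i, Etale (D.obj i).hom) ∧ (∀ i, IsAffine (D.obj i).left) ∧
      ∀ i, π.app i ≫ (D.obj i).hom = h

theorem isEtLim_mk {X' X : Scheme.{u}} (h : X' ⟶ X) {ι : Type u} [PartialOrder ι]
    [IsDirected ι (· ≤ ·)] [Nonempty ι] (D : ιᵒᵖ ⥤ Over X) (c : Cone (D ⋙ Over.forget X))
    (hc : IsLimit c) (e : X' ≅ c.pt) (h1 : ∀ i, Etale (D.obj i).hom)
    (h2 : ∀ i, IsAffine (D.obj i).left) (h3 : ∀ i, e.hom ≫ c.π.app i ≫ (D.obj i).hom = h) :
    IsEtLim h :=
  ⟨ι, inferInstance, inferInstance, inferInstance, D, (c.extend e.hom).π,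
    IsLimit.ofIsoLimit hc (Cone.ext e (fun _ => rfl)).symm, h1, h2, fun i =>
      (Category.assoc _ _ _).trans (h3 i)⟩

section

variable {ι : Type u} [PartialOrder ι] {A : CommRingCat.{u}} (F : ι ⥤ Under A) {X : Scheme.{u}}
  (j : Spec A ⟶ X)

/-- The diagram of spectra. -/
noncomputable def diag : ιᵒᵖ ⥤ Over X where
  obj i := Over.mk (Spec.map (F.obj i.unop).hom ≫ j)
  map f := Over.homMk (Spec.map (F.map f.unop).right) (by
    have := Under.w (F.map f.unop)
    dsimp only [Over.mk_left, Over.mk_hom]
    rw [← Category.assoc, ← Spec.map_comp, this])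
  map_id i := by
    apply Over.OverMorphism.ext
    simp
  map_comp f g := by
    apply Over.OverMorphism.ext
    simp

/-- The cone of spectra. -/
noncomputable def cone (c : Cocone F) : Cone (diag F j ⋙ Over.forget X) where
  pt := Spec c.pt.right
  π :=
    { app := fun i => Spec.map (c.ι.app i.unop).right
      naturality := fun a b f => by
        have := congrArg CommaMorphism.right (c.w f.unop)
        change 𝟙 _ ≫ Spec.map (c.ι.app b.unop).right = Spec.map (c.ι.app a.unop).right ≫
          Spec.map (F.map f.unop).right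
        rw [Category.id_comp, ← Spec.map_comp]
        exact congrArg Spec.map this.symm }

/-- The spectrum of a directed colimit is the limit of the spectra. -/
noncomputable def isLimitCone [IsDirected ι (· ≤ ·)] [Nonempty ι] {c : Cocone F}
    (hc : IsColimit c) : IsLimit (cone F j c) :=
  have : PreservesColimit F (Under.forget A) := inferInstance
  have h1 : IsColimit ((Under.forget A).mapCocone c) := isColimitOfPreserves (Under.forget A) hc
  isLimitOfPreserves Scheme.Spec h1.op

end

theorem isEtLim_of_isIndEtale {A B : Type u} [CommRing A] [CommRing B] [Algebra A B]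
    (h : EtPBC.IsIndEtale A B) {X : Scheme.{u}} (j : Spec (CommRingCat.of A) ⟶ X)
    [IsOpenImmersion j] :
    IsEtLim (Spec.map (CommRingCat.ofHom (algebraMap A B)) ≫ j) := by
  obtain ⟨J, _, _, F, c, hc, hF, ⟨e⟩⟩ := h
  obtain ⟨ι, _, _, _, G, _⟩ := IsFiltered.exists_directed J
  have hc' : IsColimit (c.whisker G) := (Functor.Final.isColimitWhiskerEquiv G c).symm hc
  refine isEtLim_mk _ (diag (G ⋙ F) j)
    (cone (G ⋙ F) j (c.whisker G)) (isLimitCone (G ⋙ F) j hc')
    (Scheme.Spec.mapIso ((Under.forget _).mapIso e).op) ?_ ?_ ?_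
  · intro i
    have h1 : Etale (Spec.map ((G ⋙ F).obj i.unop).hom) := by
      rw [HasRingHomProperty.Spec_iff (P := @Etale)]
      exact hF _
    change Etale (Spec.map ((G ⋙ F).obj i.unop).hom ≫ j)
    infer_instance
  · intro i
    dsimp [diag]
    infer_instance
  · intro i
    change Spec.map e.hom.right ≫ Spec.map (c.ι.app (G.obj i.unop)).right ≫
      Spec.map (F.obj (G.obj i.unop)).hom ≫ j = _
    rw [← Category.assoc, ← Category.assoc, ← Spec.map_comp, ← Spec.map_comp]
    congr 2
    rw [← Category.assoc]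
    have h1 := Under.w (c.ι.app (G.obj i.unop))
    have h2 := Under.w e.hom
    rw [h1]
    exact h2

/-- Base change along an affine morphism. -/
theorem IsEtLim.of_isPullback {X' X Z' Z : Scheme.{u}} {h : X' ⟶ X} (H : IsEtLim h) {f : Z ⟶ X}
    [IsAffineHom f] {f' : Z' ⟶ X'} {h' : Z' ⟶ Z} (sq : IsPullback h' f' f h) : IsEtLim h' := by
  obtain ⟨ι, _, _, _, D, π, hc, h1, h2, h3⟩ := H
  let T : ιᵒᵖ ⥤ Scheme.{u} := D ⋙ Over.forget X
  let τ : ∀ a : ιᵒᵖ, T.obj a ⟶ X := fun a => (D.obj a).hom
  have hτ : ∀ ⦃a b : ιᵒᵖ⦄ (g : a ⟶ b), T.map g ≫ τ b = τ a := fun a b g => Over.w (D.map g)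
  let D' : ιᵒᵖ ⥤ Over Z :=
    { obj := fun i => Over.mk (pullback.fst f (τ i))
      map := fun g => Over.homMk (Etcore.PullbackSys.mapp T τ hτ f g)
        (Etcore.PullbackSys.mapp_fst T τ hτ f g)
      map_id := fun i => by
        apply Over.OverMorphism.ext
        exact (Etcore.PullbackSys.sys T τ hτ f).map_id i
      map_comp := fun a b => by
        apply Over.OverMorphism.ext
        exact (Etcore.PullbackSys.sys T τ hτ f).map_comp a b }
  let c' : Cone (D' ⋙ Over.forget Z) :=
    { pt := pullback f h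
      π := { app := fun i => (Etcore.PullbackSys.cone T τ hτ f (Cone.mk X' π) h h3).π.app i
             naturality := fun a b g =>
              (Etcore.PullbackSys.cone T τ hτ f (Cone.mk X' π) h h3).π.naturality g } }
  have hc' : IsLimit c' := Etcore.PullbackSys.isLimitCone T τ hτ f (Cone.mk X' π) h h3 hc
  refine isEtLim_mk _ D' c' hc' sq.isoPullback ?_ ?_ ?_
  · intro i
    have h4 : Etale (τ i) := h1 i
    change Etale (pullback.fst f (τ i))
    exact MorphismProperty.of_isPullback (P := @Etale) (IsPullback.of_hasPullback f (τ i)).flip h4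
  · intro i
    have h4 : IsAffine (T.obj i) := h2 i
    have h5 : IsAffineHom (pullback.snd f (τ i)) :=
      MorphismProperty.of_isPullback (P := @IsAffineHom) (IsPullback.of_hasPullback f (τ i)) ‹_›
    exact isAffine_of_isAffineHom (pullback.snd f (τ i))
  · intro i
    change sq.isoPullback.hom ≫ Etcore.PullbackSys.proj T τ f (Cone.mk X' π) h h3 i ≫
      pullback.fst f (τ i) = h'
    rw [Etcore.PullbackSys.proj_fst, IsPullback.isoPullback_hom_fst]

end Groth.Agent.Sga4h.EtLim
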