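import Groth.Agent.Sga4h.ChartDVR
import Groth.Agent.Sga4h.GeoDim3
import Groth.Agent.Sga4h.EtLim
import Groth.Agent.EtpbcA.ArtinTrdeg
import Groth.Agent.Proet.IndEtale
import Groth.Agent.CalgC.IndEtale
import Groth.Agent.Hensel.Exist
import Groth.Agent.Models.DVRGeneric

/-!
# Charts for the induction in Deligne's finiteness theorems over a discrete valuation ring

`R` a discrete valuation ring, `f : X ⟶ Spec R` locally of finite type, `x` a non closed point of the
special fibre.  Projecting an affine neighbourhood of `x` to the affine line by a suitable coordinate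
and strictly localizing the affine line at the generic point of its special fibre gives
(`exists_chart`) a strictly henselian discrete valuation ring `R'` with the same uniformizer and a
commutative square

    X' --h--> X
    |f'       |f
  Spec R' -> Spec R

with `X'` affine, `f'` of finite type, `h` a directed limit of étale affine `X`-schemes
(`EtLim.IsEtLim`), `x` the image of a point of the special fibre of `X'`, and generic fibre of
dimension one less.  `isPullback_residue`, `isPullback_frac`, `isPullback_fibre` : special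
and generic fibres of `X'` are the pullbacks of those of `X`.
-/

set_option autoImplicit false
set_option linter.unusedSectionVars false

universe u

open CategoryTheory CategoryTheory.Limits AlgebraicGeometry IsLocalRing Polynomial TensorProduct

namespace Groth.Agent.Sga4h.ChartGeo

open Groth.Agent.EtpbcA.Artin GeoDim ChartDVR

section algAt

theorem isIntegralElem_evaluation {X Y W : Scheme.{u}} (f : X ⟶ Y) (x : X) (b : Γ(X, ⊤))
    (g : X ⟶ W) (k : W ⟶ Y) (hf : g ≫ k = f) [Etale k] (e : Γ(W, ⊤)) (he : g.appTop.hom e = b) :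
    (f.residueFieldMap x).hom.IsIntegralElem (X.evaluation ⊤ x trivial b) := by
  subst hf
  have e1 := Scheme.residueFieldMap_comp g k x
  have e2 : ((g.residueFieldMap x).hom.comp (k.residueFieldMap (g x)).hom).IsIntegralElem
      (X.evaluation ⊤ x trivial b) := by
    have h1 := algAt_of_etale k (g x) (W.evaluation ⊤ (g x) trivial e)
    have h2 : (g.residueFieldMap x).hom (W.evaluation ⊤ (g x) trivial e) =
        X.evaluation ⊤ x trivial b := by
      have h3 := congrArg (fun t => t.hom e) (Scheme.evaluation_naturality g x (V := ⊤) trivial)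
      rw [← he]
      exact h3
    rw [← h2]
    obtain ⟨p, hp, hpe⟩ := h1
    refine ⟨p, hp, ?_⟩
    rw [← Polynomial.hom_eval₂, hpe, map_zero]
  exact (congrArg (fun t : (Y.residueField (k (g x)) ⟶ X.residueField x) => t.hom.IsIntegralElem
    (X.evaluation ⊤ x trivial b)) e1).mpr e2

/-- A morphism of affine schemes all of whose functions upstairs come from étale stages has
algebraic residue field extensions. -/
theorem algAt_of_forall {X Y : Scheme.{u}} [IsAffine X] (f : X ⟶ Y)
    (h : ∀ b : Γ(X, ⊤), ∃ (W : Scheme.{u}) (g : X ⟶ W) (k : W ⟶ Y), g ≫ k = f ∧ Etale k ∧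
      ∃ e : Γ(W, ⊤), g.appTop.hom e = b) (x : X) : AlgAt f x := by
  have key : ∀ b : Γ(X, ⊤), (f.residueFieldMap x).hom.IsIntegralElem
      (X.evaluation ⊤ x trivial b) := by
    intro b
    obtain ⟨W, g, k, hf, hk, e, he⟩ := h b
    exact isIntegralElem_evaluation f x b g k hf e he
  let _ : Algebra (Y.residueField (f x)) (X.residueField x) := (f.residueFieldMap x).hom.toAlgebra
  intro z
  change IsIntegral (Y.residueField (f x)) z
  obtain ⟨z, rfl⟩ := X.residue_surjective x z
  have hU : IsAffineOpen (⊤ : X.Opens) := isAffineOpen_top X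
  let _ := X.presheaf.algebra_section_stalk (⟨x, trivial⟩ : (⊤ : X.Opens))
  have := hU.isLocalization_stalk ⟨x, trivial⟩
  obtain ⟨⟨a, s⟩, hz⟩ := IsLocalization.surj (hU.primeIdealOf ⟨x, trivial⟩).asIdeal.primeCompl z
  have hz2 : (X.residue x).hom z * X.evaluation ⊤ x trivial s.1 = X.evaluation ⊤ x trivial a := by
    have := congrArg (X.residue x).hom hz
    rw [map_mul] at this
    exact this
  have hs : X.evaluation ⊤ x trivial s.1 ≠ 0 := by
    intro h0
    have hu : IsUnit (algebraMap Γ(X, ⊤) (X.presheaf.stalk x) s.1) := IsLocalization.map_units _ s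
    have := hu.map (X.residue x).hom
    exact this.ne_zero h0
  have hz3 : (X.residue x).hom z =
      X.evaluation ⊤ x trivial a * (X.evaluation ⊤ x trivial s.1)⁻¹ := by
    rw [← hz2, mul_assoc, mul_inv_cancel₀ hs, mul_one]
  change IsIntegral (Y.residueField (f x)) ((X.residue x).hom z)
  rw [hz3]
  have k1 : IsIntegral (Y.residueField (f x)) (X.evaluation ⊤ x trivial a) := key a
  have k2 : IsIntegral (Y.residueField (f x)) (X.evaluation ⊤ x trivial s.1) := key s.1
  exact k1.mul k2.inv

/-- Ind-étale ring maps have algebraic residue field extensions. -/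
theorem algAt_of_isIndEtale {A B : Type u} [CommRing A] [CommRing B] [Algebra A B]
    (h : EtPBC.IsIndEtale A B) (x : Spec (CommRingCat.of B)) :
    AlgAt (Spec.map (CommRingCat.ofHom (algebraMap A B))) x := by
  apply algAt_of_forall
  intro b
  obtain ⟨W, _, _, u, v, hW, huv⟩ := (Proet.IndEtale.isIndEtale_iff_factor A B).1 h
    (MvPolynomial (Fin 1) A) inferInstance
    (MvPolynomial.aeval fun _ => (Scheme.ΓSpecIso (CommRingCat.of B)).hom.hom b)
  refine ⟨Spec (CommRingCat.of W), Spec.map (CommRingCat.ofHom v.toRingHom),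
    Spec.map (CommRingCat.ofHom (algebraMap A W)), ?_, ?_,
    (Scheme.ΓSpecIso (CommRingCat.of W)).inv.hom (u (MvPolynomial.X 0)), ?_⟩
  · rw [← Spec.map_comp, ← CommRingCat.ofHom_comp]
    congr 2
    exact v.comp_algebraMap
  · rw [HasRingHomProperty.Spec_iff (P := @Etale)]
    exact RingHom.etale_algebraMap.2 hW
  · have h1 : v (u (MvPolynomial.X 0)) = (Scheme.ΓSpecIso (CommRingCat.of B)).hom.hom b := by
      have := congrArg (fun t => t (MvPolynomial.X 0)) huv
      simpa using this
    have h2 := congrArg (fun t => t.hom (u (MvPolynomial.X 0)))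
      (Scheme.ΓSpecIso_inv_naturality (CommRingCat.ofHom v.toRingHom))
    have h3 : (Scheme.ΓSpecIso (CommRingCat.of B)).inv.hom (v (u (MvPolynomial.X 0))) = b := by
      rw [h1]
      exact congrArg (fun t => t.hom b) (Scheme.ΓSpecIso (CommRingCat.of B)).hom_inv_id
    exact h2.symm.trans h3

theorem trdegAt_eq_zero_of_algAt {X Y : Scheme.{u}} (f : X ⟶ Y) (x : X) (h : AlgAt f x) :
    trdegAt f x = 0 := by
  let _ := (f.residueFieldMap x).hom.toAlgebra
  have : Algebra.IsIntegral (Y.residueField (f x)) (X.residueField x) := ⟨h⟩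
  have : Algebra.IsAlgebraic (Y.residueField (f x)) (X.residueField x) := inferInstance
  exact _root_.trdeg_eq_zero

end algAt

section squares

variable {A S : Type u} [CommRing A] [CommRing S] [Algebra A S]

theorem isPushout_residue [IsLocalRing A] [IsLocalRing S] [IsLocalHom (algebraMap A S)]
    (h : Ideal.map (algebraMap A S) (maximalIdeal A) = maximalIdeal S) :
    IsPushout (CommRingCat.ofHom (algebraMap A S)) (CommRingCat.ofHom (residue A))
      (CommRingCat.ofHom (residue S)) (CommRingCat.ofHom (ResidueField.map (algebraMap A S))) := by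
  have eq : CommRingCat.ofHom (algebraMap A S) ≫ CommRingCat.ofHom (residue S) =
      CommRingCat.ofHom (residue A) ≫ CommRingCat.ofHom (ResidueField.map (algebraMap A S)) := by
    ext x
    rfl
  have hk : ∀ s : PushoutCocone (CommRingCat.ofHom (algebraMap A S)) (CommRingCat.ofHom (residue A)),
      ∀ a ∈ maximalIdeal S, s.inl.hom a = 0 := by
    intro s a ha
    rw [← h] at ha
    have hle : Ideal.map (algebraMap A S) (maximalIdeal A) ≤ RingHom.ker s.inl.hom := by
      rw [Ideal.map_le_iff_le_comap]
      intro b hb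
      have h1 := congrArg (fun t => t.hom b) s.condition
      have h2 : s.inl.hom (algebraMap A S b) = s.inr.hom (residue A b) := h1
      rw [Ideal.mem_comap, RingHom.mem_ker, h2, (residue_eq_zero_iff b).2 hb, map_zero]
    exact hle ha
  refine ⟨⟨eq⟩, ⟨PushoutCocone.IsColimit.mk eq
    (fun s => CommRingCat.ofHom (Ideal.Quotient.lift (maximalIdeal S) s.inl.hom (hk s))) ?_ ?_ ?_⟩⟩
  · intro s
    ext x
    rfl
  · intro s
    ext x
    obtain ⟨x, rfl⟩ := residue_surjective x
    have h1 := congrArg (fun t => t.hom x) s.condition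
    exact h1
  · intro s m h1 h2
    ext x
    obtain ⟨x, rfl⟩ := residue_surjective x
    exact congrArg (fun t => t.hom x) h1

theorem isPullback_residue [IsLocalRing A] [IsLocalRing S] [IsLocalHom (algebraMap A S)]
    (h : Ideal.map (algebraMap A S) (maximalIdeal A) = maximalIdeal S) :
    IsPullback (Spec.map (CommRingCat.ofHom (residue S)))
      (Spec.map (CommRingCat.ofHom (ResidueField.map (algebraMap A S))))
      (Spec.map (CommRingCat.ofHom (algebraMap A S))) (Spec.map (CommRingCat.ofHom (residue A))) :=
  isPullback_SpecMap_of_isPushout _ _ _ _ (isPushout_residue h)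

variable [IsDomain A] [IsDiscreteValuationRing A] [IsDomain S] [IsDiscreteValuationRing S]
  {p : A} (hp : Irreducible p) (hp' : Irreducible (algebraMap A S p))
  (K L : Type u) [Field K] [Field L] [Algebra A K] [IsFractionRing A K] [Algebra S L]
  [IsFractionRing S L] [Algebra K L] [Algebra A L] [IsScalarTower A K L] [IsScalarTower A S L]

include hp hp' in
theorem isPushout_frac :
    IsPushout (CommRingCat.ofHom (algebraMap A S)) (CommRingCat.ofHom (algebraMap A K))
      (CommRingCat.ofHom (algebraMap S L)) (CommRingCat.ofHom (algebraMap K L)) := by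
  have hK := Models.DVRGeneric.isLocalization_away A p hp K
  have hL := Models.DVRGeneric.isLocalization_away S _ hp' L
  have eq : CommRingCat.ofHom (algebraMap A S) ≫ CommRingCat.ofHom (algebraMap S L) =
      CommRingCat.ofHom (algebraMap A K) ≫ CommRingCat.ofHom (algebraMap K L) := by
    ext x
    change algebraMap S L (algebraMap A S x) = algebraMap K L (algebraMap A K x)
    rw [← IsScalarTower.algebraMap_apply, ← IsScalarTower.algebraMap_apply]
  have hk : ∀ s : PushoutCocone (CommRingCat.ofHom (algebraMap A S))
      (CommRingCat.ofHom (algebraMap A K)), IsUnit (s.inl.hom (algebraMap A S p)) := by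
    intro s
    have h1 := congrArg (fun t => t.hom p) s.condition
    have h2 : s.inl.hom (algebraMap A S p) = s.inr.hom (algebraMap A K p) := h1
    rw [h2]
    exact (IsLocalization.Away.algebraMap_isUnit (S := K) p).map s.inr.hom
  refine ⟨⟨eq⟩, ⟨PushoutCocone.IsColimit.mk eq
    (fun s => CommRingCat.ofHom (IsLocalization.Away.lift (S := L) (algebraMap A S p) (hk s)))
    ?_ ?_ ?_⟩⟩
  · intro s
    ext x
    exact IsLocalization.Away.lift_eq (S := L) (algebraMap A S p) (hk s) x
  · intro s
    have h3 : (IsLocalization.Away.lift (S := L) (algebraMap A S p) (hk s)).comp (algebraMap K L) =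
        s.inr.hom := by
      apply IsLocalization.ringHom_ext (Submonoid.powers p)
      ext x
      have h1 := congrArg (fun t => t.hom x) s.condition
      have h2 : s.inl.hom (algebraMap A S x) = s.inr.hom (algebraMap A K x) := h1
      change IsLocalization.Away.lift (S := L) (algebraMap A S p) (hk s)
        (algebraMap K L (algebraMap A K x)) = s.inr.hom (algebraMap A K x)
      rw [← IsScalarTower.algebraMap_apply A K L, IsScalarTower.algebraMap_apply A S L,
        IsLocalization.Away.lift_eq, h2]
    ext x
    exact congrArg (fun t => t x) h3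
  · intro s m h1 h2
    have h3 : m.hom = IsLocalization.Away.lift (S := L) (algebraMap A S p) (hk s) := by
      apply IsLocalization.ringHom_ext (Submonoid.powers (algebraMap A S p))
      ext x
      have h4 := congrArg (fun t => t.hom x) h1
      change m.hom (algebraMap S L x) = IsLocalization.Away.lift (S := L) (algebraMap A S p) (hk s)
        (algebraMap S L x)
      rw [IsLocalization.Away.lift_eq]
      exact h4
    ext x
    exact congrArg (fun t => t x) h3

include hp hp' in
theorem isPullback_frac :
    IsPullback (Spec.map (CommRingCat.ofHom (algebraMap S L)))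
      (Spec.map (CommRingCat.ofHom (algebraMap K L)))
      (Spec.map (CommRingCat.ofHom (algebraMap A S)))
      (Spec.map (CommRingCat.ofHom (algebraMap A K))) :=
  isPullback_SpecMap_of_isPushout _ _ _ _ (isPushout_frac hp hp' K L)

end squares

section chart

variable (R : Type u) [CommRing R] [IsDomain R] [IsDiscreteValuationRing R]
  (S : Type u) [CommRing S] [IsLocalRing S] [Algebra (Gauss R) S]
  [IsLocalHom (algebraMap (Gauss R) S)] [Hensel.IsStrictHenselization (Gauss R) S]
  [Algebra R[X] S] [IsScalarTower R[X] (Gauss R) S]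

theorem isIndEtale_strict : EtPBC.IsIndEtale R[X] S := by
  refine Proet.IndEtale.isIndEtale_trans R[X] (Gauss R) S ?_ ?_
  · rw [Proet.IndEtale.isIndEtale_iff_factor]
    intro Z _ _ hZ g
    obtain ⟨E, i1, i2, hE, ψ, χ, h⟩ := CalgC.IndEtale.isIndEtale_of_isLocalization
      (primeIdeal R).primeCompl (Gauss R) Z g
    exact ⟨E, i1, i2, ψ, χ, hE, h⟩
  · rw [Proet.IndEtale.isIndEtale_iff_factor]
    intro Z _ _ hZ g
    obtain ⟨E, i1, i2, hE, ψ, χ, h⟩ :=
      (Hensel.Exist.isHull_of_isStrictHenselization (Gauss R) S).lazard Z g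
    exact ⟨E, i1, i2, ψ, χ, hE, h⟩

theorem comap_maximalIdeal_strict :
    (maximalIdeal S).comap (algebraMap R[X] S) = primeIdeal R := by
  rw [IsScalarTower.algebraMap_eq R[X] (Gauss R) S, ← Ideal.comap_comap]
  have h1 : (maximalIdeal S).comap (algebraMap (Gauss R) S) = maximalIdeal (Gauss R) :=
    ((IsLocalRing.local_hom_TFAE (algebraMap (Gauss R) S)).out 0 4).1
      (inferInstance : IsLocalHom (algebraMap (Gauss R) S))
  rw [h1]
  exact Localization.AtPrime.under_maximalIdeal

theorem injective_strict : Function.Injective (algebraMap R[X] S) := by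
  rw [IsScalarTower.algebraMap_eq R[X] (Gauss R) S]
  exact (injective_algebraMap (Gauss R) S).comp
    (IsLocalization.injective (Gauss R) (primeIdeal R).primeCompl_le_nonZeroDivisors)

variable {B : Type u} [CommRing B] [Algebra R B] [Algebra R[X] B] [IsScalarTower R R[X] B]

/-- the chart ring -/
abbrev ChartRing (B : Type u) [CommRing B] [Algebra R[X] B] : Type u := B ⊗[R[X]] S

theorem isIndEtale_chart : EtPBC.IsIndEtale B (ChartRing R S B) :=
  Proet.IndEtale.isIndEtale_baseChange R[X] S B (isIndEtale_strict R S)

theorem finiteType_chart [Algebra.FiniteType R B] :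
    (Algebra.TensorProduct.includeRight : S →ₐ[R[X]] ChartRing R S B).toRingHom.FiniteType := by
  have h1 : Algebra.FiniteType R[X] B := Algebra.FiniteType.of_restrictScalars_finiteType R R[X] B
  let _ : Algebra S (ChartRing R S B) := Algebra.TensorProduct.rightAlgebra
  have h2 : Algebra.FiniteType S (ChartRing R S B) :=
    Algebra.FiniteType.equiv (Algebra.FiniteType.baseChange S)
      (Algebra.TensorProduct.commRight R[X] S B)
  exact h2

theorem isPullback_chart : IsPullback
    (Spec.map (CommRingCat.ofHom (Algebra.TensorProduct.includeLeftRingHom : B →+* ChartRing R S B)))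
    (Spec.map (CommRingCat.ofHom
      (Algebra.TensorProduct.includeRight : S →ₐ[R[X]] ChartRing R S B).toRingHom))
    (Spec.map (CommRingCat.ofHom (algebraMap R[X] B)))
    (Spec.map (CommRingCat.ofHom (algebraMap R[X] S))) :=
  isPullback_SpecMap_of_isPushout _ _ _ _ (CommRingCat.isPushout_tensorProduct R[X] B S)

theorem exists_point (q : Spec (CommRingCat.of B))
    (hq : q.asIdeal.comap (algebraMap R[X] B) = primeIdeal R) :
    ∃ x : Spec (CommRingCat.of (ChartRing R S B)),
      Spec.map (CommRingCat.ofHom (Algebra.TensorProduct.includeLeftRingHom :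
        B →+* ChartRing R S B)) x = q ∧
      Spec.map (CommRingCat.ofHom (Algebra.TensorProduct.includeRight :
        S →ₐ[R[X]] ChartRing R S B).toRingHom) x = closedPoint S := by
  obtain ⟨z, h1, h2⟩ := Scheme.Pullback.exists_preimage_pullback q (closedPoint S :
    Spec (CommRingCat.of S)) (f := Spec.map (CommRingCat.ofHom (algebraMap R[X] B)))
    (g := Spec.map (CommRingCat.ofHom (algebraMap R[X] S))) (by
      apply PrimeSpectrum.ext
      exact hq.trans (comap_maximalIdeal_strict R S).symm)
  refine ⟨(isPullback_chart R S (B := B)).isoPullback.inv z, ?_, ?_⟩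
  · rw [← h1, ← Scheme.Hom.comp_apply, IsPullback.isoPullback_inv_fst]
  · rw [← h2, ← Scheme.Hom.comp_apply, IsPullback.isoPullback_inv_snd]

theorem trdegAt_chart [IsDomain S] (x : Spec (CommRingCat.of (ChartRing R S B)))
    (hx : Spec.map (CommRingCat.ofHom (Algebra.TensorProduct.includeRight :
        S →ₐ[R[X]] ChartRing R S B).toRingHom) x = genericPoint (Spec (CommRingCat.of S))) :
    trdegAt (Spec.map (CommRingCat.ofHom (Algebra.TensorProduct.includeRight :
        S →ₐ[R[X]] ChartRing R S B).toRingHom)) x + 1 =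
      trdegAt (Spec.map (CommRingCat.ofHom (algebraMap R B)))
        (Spec.map (CommRingCat.ofHom (Algebra.TensorProduct.includeLeftRingHom :
        B →+* ChartRing R S B)) x) := by
  have h0 := (isPullback_chart R S (B := B)).w
  have h1 := trdegAt_square _ _ _ _ h0 x
    (trdegAt_eq_zero_of_algAt _ _ (algAt_of_isIndEtale (isIndEtale_chart R S (B := B)) x))
    (trdegAt_eq_zero_of_algAt _ _ (algAt_of_isIndEtale (isIndEtale_strict R S) _))
  have h2 : Spec.map (CommRingCat.ofHom (algebraMap R B)) =
      Spec.map (CommRingCat.ofHom (algebraMap R[X] B)) ≫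
        Spec.map (CommRingCat.ofHom (algebraMap R R[X])) := by
    rw [← Spec.map_comp, ← CommRingCat.ofHom_comp, ← IsScalarTower.algebraMap_eq]
  have h3 : Spec.map (CommRingCat.ofHom (algebraMap R[X] S)) (genericPoint (Spec (CommRingCat.of S)))
      = genericPoint (Spec (CommRingCat.of R[X])) := by
    rw [genericPoint_eq_bot_of_affine, genericPoint_eq_bot_of_affine]
    apply PrimeSpectrum.ext
    exact (RingHom.injective_iff_ker_eq_bot _).1 (injective_strict R S)
  have h4 : Spec.map (CommRingCat.ofHom (algebraMap R[X] B))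
      (Spec.map (CommRingCat.ofHom (Algebra.TensorProduct.includeLeftRingHom :
        B →+* ChartRing R S B)) x) = genericPoint (Spec (CommRingCat.of R[X])) := by
    rw [← Scheme.Hom.comp_apply, h0, Scheme.Hom.comp_apply, hx, h3]
  have h5 : trdegAt (Spec.map (CommRingCat.ofHom (algebraMap R R[X])))
      (genericPoint (Spec (CommRingCat.of R[X]))) = 1 := by
    rw [trdegAt_genericPoint_Spec]
    · exact (CycB.TrdegAlg.trd_algebraMap (K := R) (L := R[X])).trans
        (Polynomial.trdeg_of_isDomain (R := R))
    · exact C_injective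
  rw [h1, h2, trdegAt_comp, h4, h5, add_comm]

end chart

section squareFibre

variable {X X' T T' P P' : Scheme.{u}} {f : X ⟶ T} {f' : X' ⟶ T'} {h : X' ⟶ X} {g : T' ⟶ T}
  (w : h ≫ f = f' ≫ g) {c : P ⟶ T} {c' : P' ⟶ T'} {e : P' ⟶ P} (sq : IsPullback c' e g c)

/-- The induced map on fibre products. -/
noncomputable def fibreMap (w : h ≫ f = f' ≫ g) (sq : IsPullback c' e g c) :
    pullback f' c' ⟶ pullback f c :=
  pullback.lift (pullback.fst f' c' ≫ h) (pullback.snd f' c' ≫ e) (by
    rw [Category.assoc, w, pullback.condition_assoc, Category.assoc, sq.w])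

@[reassoc (attr := simp)]
theorem fibreMap_fst : fibreMap w sq ≫ pullback.fst f c = pullback.fst f' c' ≫ h :=
  pullback.lift_fst _ _ _

@[reassoc (attr := simp)]
theorem fibreMap_snd : fibreMap w sq ≫ pullback.snd f c = pullback.snd f' c' ≫ e :=
  pullback.lift_snd _ _ _

/-- The fibre of `f'` over `P'` is the base change along `h` of the fibre of `f` over `P`. -/
theorem isPullback_fibre :
    IsPullback (pullback.fst f' c') (fibreMap w sq) h (pullback.fst f c) := by
  have h1 : IsPullback (pullback.fst f' c') (pullback.snd f' c' ≫ e) (f' ≫ g) c :=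
    (IsPullback.of_hasPullback f' c').paste_vert sq
  rw [← w, ← fibreMap_snd w sq] at h1
  exact IsPullback.of_bot h1 (fibreMap_fst w sq).symm (IsPullback.of_hasPullback f c)

end squareFibre

section final

variable {R : Type u} [CommRing R] [IsDomain R] [IsDiscreteValuationRing R]

theorem isClosed_singleton_of_isMaximal {X : Scheme.{u}} (f : X ⟶ Spec (CommRingCat.of R))
    [LocallyOfFiniteType f] (x : X) (hx : f x = closedPoint R) {U : X.Opens} (hU : IsAffineOpen U)
    (hxU : x ∈ U) (hq : (hU.primeIdealOf ⟨x, hxU⟩).asIdeal.IsMaximal) : IsClosed ({x} : Set X) := by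
  have h1 : IsClosed ({hU.primeIdealOf ⟨x, hxU⟩} : Set (Spec Γ(X, U))) :=
    (PrimeSpectrum.isClosed_singleton_iff_isMaximal _).2 hq
  have h2 : hU.fromSpec (hU.primeIdealOf ⟨x, hxU⟩) = x := hU.fromSpec_primeIdealOf ⟨x, hxU⟩
  have h3 : IsLocallyClosed ({x} : Set X) := by
    have := h1.isLocallyClosed.image hU.fromSpec.isOpenEmbedding.isInducing
      hU.fromSpec.isOpenEmbedding.isOpen_range.isLocallyClosed
    have h9 : (hU.fromSpec '' {hU.primeIdealOf ⟨x, hxU⟩} : Set X) = {x} :=
      (Set.image_singleton (f := hU.fromSpec)).trans (congrArg _ h2)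
    exact h9 ▸ this
  have h4 : IsLocallyClosed ({f.asFiber x} : Set (f.fiber (f x))) := by
    have := h3.preimage (f.fiberι (f x)).continuous
    have h5 : (f.fiberι (f x)) ⁻¹' ({x} : Set X) = {f.asFiber x} := by
      ext z
      rw [Set.mem_preimage, Set.mem_singleton_iff, Set.mem_singleton_iff]
      constructor
      · intro hz
        apply (f.fiberι (f x)).isEmbedding.injective
        rw [hz, Scheme.Hom.fiberι_asFiber]
      · rintro rfl
        exact Scheme.Hom.fiberι_asFiber f x
    rwa [h5] at this
  have h6 : IsClosed ({f.asFiber x} : Set (f.fiber (f x))) :=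
    isClosed_singleton_of_isLocallyClosed_singleton h4
  have h7 : IsClosed (Set.range (f.fiberι (f x))) := by
    rw [Scheme.Hom.range_fiberι]
    apply IsClosed.preimage f.continuous
    rw [hx]
    exact (PrimeSpectrum.isClosed_singleton_iff_isMaximal _).2 (IsLocalRing.maximalIdeal.isMaximal R)
  have h8 := (Topology.IsClosedEmbedding.mk (f.fiberι (f x)).isEmbedding h7).isClosedMap _ h6
  rwa [Set.image_singleton, Scheme.Hom.fiberι_asFiber] at h8

/-- **Chart theorem.** -/
theorem exists_chart {X : Scheme.{u}} (f : X ⟶ Spec (CommRingCat.of R)) [LocallyOfFiniteType f]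
    (x : X) (hx : f x = closedPoint R) (hcl : ¬ IsClosed ({x} : Set X)) :
    ∃ (R' : Type u) (_ : CommRing R') (_ : IsDomain R') (_ : IsDiscreteValuationRing R')
      (_ : Algebra R R') (_ : IsLocalHom (algebraMap R R'))
      (X' : Scheme.{u}) (h : X' ⟶ X) (f' : X' ⟶ Spec (CommRingCat.of R')) (x' : X'),
      EtCoh.IsStrictlyHenselianLocalRing R' ∧
      (∀ p : R, Irreducible p → Irreducible (algebraMap R R' p)) ∧
      IsAffine X' ∧ LocallyOfFiniteType f' ∧
      h ≫ f = f' ≫ Spec.map (CommRingCat.ofHom (algebraMap R R')) ∧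
      EtLim.IsEtLim h ∧ h x' = x ∧ f' x' = closedPoint R' ∧
      ∀ y : X', f' y = genericPoint (Spec (CommRingCat.of R')) →
        f (h y) = genericPoint (Spec (CommRingCat.of R)) ∧ trdegAt f' y + 1 = trdegAt f (h y) := by
  obtain ⟨U, hU, hxU, -⟩ := exists_isAffineOpen_mem_and_subset (x := x) (U := ⊤) trivial
  let B : Type u := Γ(X, U)
  let j : Spec (CommRingCat.of B) ⟶ X := hU.fromSpec
  let φ : R →+* B := (Spec.preimage (j ≫ f)).hom
  let _ : Algebra R B := φ.toAlgebra
  have hφ : Spec.map (CommRingCat.ofHom (algebraMap R B)) = j ≫ f := Spec.map_preimage _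
  have hft : Algebra.FiniteType R B := by
    have h1 : LocallyOfFiniteType (Spec.map (CommRingCat.ofHom (algebraMap R B))) := by
      rw [hφ]
      infer_instance
    rw [HasRingHomProperty.Spec_iff (P := @LocallyOfFiniteType)] at h1
    exact h1
  let q : Spec (CommRingCat.of B) := hU.primeIdealOf ⟨x, hxU⟩
  have hq : j q = x := hU.fromSpec_primeIdealOf ⟨x, hxU⟩
  have hqR : q.asIdeal.comap (algebraMap R B) = maximalIdeal R := by
    have h1 : Spec.map (CommRingCat.ofHom (algebraMap R B)) q = closedPoint R := by
      rw [hφ, Scheme.Hom.comp_apply, hq, hx]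
    exact congrArg PrimeSpectrum.asIdeal h1
  have hqm : ¬ q.asIdeal.IsMaximal := fun hm =>
    hcl (isClosed_singleton_of_isMaximal f x hx hU hxU hm)
  have hqp : q.asIdeal.IsPrime := q.2
  obtain ⟨s, hs⟩ := hft.out
  obtain ⟨t, -, ht⟩ := exists_coordinate (s : Set B) hs q.asIdeal hqR hqm
  let _ : Algebra R[X] B := (aeval t : R[X] →ₐ[R] B).toRingHom.toAlgebra
  have _ : IsScalarTower R R[X] B := IsScalarTower.of_algebraMap_eq fun a => by
    change _ = (aeval t : R[X] →ₐ[R] B) (C a)
    rw [aeval_C]
  obtain ⟨S, _, _, _, _, hS, -⟩ := Hensel.Exist.exists_isStrictHenselization (Gauss R)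
  let _ : Algebra R[X] S := ((algebraMap (Gauss R) S).comp (algebraMap R[X] (Gauss R))).toAlgebra
  have _ : IsScalarTower R[X] (Gauss R) S := IsScalarTower.of_algebraMap_eq fun a => rfl
  let _ : Algebra R S := ((algebraMap R[X] S).comp (algebraMap R R[X])).toAlgebra
  have _ : IsDomain S := isDomain_of_isStrictHenselization (Gauss R) S
  have _ : IsDiscreteValuationRing S :=
    isDiscreteValuationRing_of_isStrictHenselization (Gauss R) S
  have hirr : ∀ p : R, Irreducible p → Irreducible (algebraMap R S p) := by
    intro p hp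
    have h1 := irreducible_of_isStrictHenselization (Gauss R) S (irreducible_gauss R hp)
    exact h1
  have hloc : IsLocalHom (algebraMap R S) := by
    obtain ⟨p, hp⟩ := IsDiscreteValuationRing.exists_irreducible R
    apply ((IsLocalRing.local_hom_TFAE (algebraMap R S)).out 0 2).2
    rw [(IsDiscreteValuationRing.irreducible_iff_uniformizer p).1 hp, Ideal.map_span,
      Set.image_singleton, Ideal.span_singleton_le_iff_mem]
    exact (mem_maximalIdeal _).2 (hirr p hp).not_isUnit
  obtain ⟨x', hx1, hx2⟩ := exists_point R S (B := B) q ht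
  have hcomm : (Spec.map (CommRingCat.ofHom (Algebra.TensorProduct.includeLeftRingHom :
      B →+* ChartRing R S B)) ≫ j) ≫ f =
      Spec.map (CommRingCat.ofHom (Algebra.TensorProduct.includeRight :
      S →ₐ[R[X]] ChartRing R S B).toRingHom) ≫ Spec.map (CommRingCat.ofHom (algebraMap R S)) := by
    rw [Category.assoc, ← hφ]
    have h1 := (isPullback_chart R S (B := B)).w
    have h2 : Spec.map (CommRingCat.ofHom (algebraMap R B)) =
        Spec.map (CommRingCat.ofHom (algebraMap R[X] B)) ≫
        Spec.map (CommRingCat.ofHom (algebraMap R R[X])) := by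
      rw [← Spec.map_comp, ← CommRingCat.ofHom_comp, ← IsScalarTower.algebraMap_eq]
    rw [h2, ← Category.assoc, h1, Category.assoc, ← Spec.map_comp, ← CommRingCat.ofHom_comp]
  refine ⟨S, inferInstance, inferInstance, inferInstance, inferInstance, hloc,
    Spec (CommRingCat.of (ChartRing R S B)),
    Spec.map (CommRingCat.ofHom (Algebra.TensorProduct.includeLeftRingHom :
      B →+* ChartRing R S B)) ≫ j,
    Spec.map (CommRingCat.ofHom (Algebra.TensorProduct.includeRight :
      S →ₐ[R[X]] ChartRing R S B).toRingHom), x',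
    isStrictlyHenselianLocalRing_of_isStrictHenselization (Gauss R) S, hirr, inferInstance,
    ?_, hcomm, ?_, ?_, hx2, ?_⟩
  · rw [HasRingHomProperty.Spec_iff (P := @LocallyOfFiniteType)]
    exact finiteType_chart R S
  · exact EtLim.isEtLim_of_isIndEtale (isIndEtale_chart R S (B := B)) j
  · rw [Scheme.Hom.comp_apply, hx1, hq]
  · intro y hy
    have h1 := trdegAt_chart R S (B := B) y hy
    have h2 := trdegAt_comp j f (Spec.map (CommRingCat.ofHom
      (Algebra.TensorProduct.includeLeftRingHom : B →+* ChartRing R S B)) y)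
    rw [trdegAt_eq_zero_of_isPreimmersion j, add_zero, ← hφ] at h2
    refine ⟨?_, ?_⟩
    · rw [← Scheme.Hom.comp_apply, hcomm, Scheme.Hom.comp_apply, hy, genericPoint_eq_bot_of_affine,
        genericPoint_eq_bot_of_affine]
      apply PrimeSpectrum.ext
      have hinj : Function.Injective (algebraMap R S) :=
        (injective_strict R S).comp C_injective
      exact (RingHom.injective_iff_ker_eq_bot _).1 hinj
    · rw [h1, h2, Scheme.Hom.comp_apply]

end final

end Groth.Agent.Sga4h.ChartGeo
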