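import Groth.Agent.EtpbcA.ConsDescent
import Groth.Agent.EtpbcA.StrataGlob
import Groth.Agent.S0127

/-!
# Constructibility can be tested on a finite jointly surjective family of quasi-compact schemes
-/

set_option autoImplicit false
universe u
open CategoryTheory CategoryTheory.Limits AlgebraicGeometry Opposite

namespace Groth.Agent.Sga4h.ConsFam

open Groth.Agent.EtpbcA

/-- Affine case. -/
theorem isConstructible_of_affine_family {Y : Scheme.{u}} [QuasiSeparatedSpace Y] (F : EtCoh.Ab Y)
    {K : Type u} [Finite K] (X : K → Scheme.{u}) [∀ k, IsAffine (X k)] (f : ∀ k, X k ⟶ Y)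
    (hcov : ∀ y, ∃ k, y ∈ Set.range (f k))
    (h : ∀ k, EtPBC.IsConstructible ((EtCoh.pull (f k)).obj F)) : EtPBC.IsConstructible F := by
  have h1 : Surjective (Sigma.desc f) := by
    refine Surjective.sigmaDesc_of_union_range_eq_univ ?_
    ext y
    simpa using hcov y
  have h2 : QuasiCompact (Sigma.desc f) := inferInstance
  have h3 : QuasiSeparated (Sigma.desc f) := by
    have : QuasiSeparated (Sigma.desc f ≫ terminal.from Y) := by
      rw [terminal.comp_from]
      infer_instance
    exact QuasiSeparated.of_comp _ (terminal.from Y)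
  refine ConsDescent.isConstructible_of_pull (Sigma.desc f) F ?_
  refine StrataGlob.isConstructible_of_openImmersions _ X (Sigma.ι X) (fun x => ?_) fun k => ?_
  · obtain ⟨⟨k, x'⟩, rfl⟩ := (sigmaMk X).surjective x
    exact ⟨k, x', (sigmaMk_mk X k x').symm⟩
  · refine StrataGlob.isConstructible_of_iso ?_ (h k)
    exact ((PullFLC.pullCongr (Sigma.ι_desc f k)).app F).symm ≪≫
      ((PullFLC.pullComp (Sigma.ι X k) (Sigma.desc f)).app F).symm

theorem isConstructible_of_family {Y : Scheme.{u}} [QuasiSeparatedSpace Y] (F : EtCoh.Ab Y)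
    {K : Type u} [Finite K] (X : K → Scheme.{u}) [∀ k, CompactSpace (X k)] (f : ∀ k, X k ⟶ Y)
    (hcov : ∀ y, ∃ k, y ∈ Set.range (f k))
    (h : ∀ k, EtPBC.IsConstructible ((EtCoh.pull (f k)).obj F)) : EtPBC.IsConstructible F := by
  let V : ∀ k, (X k).OpenCover := fun k => (X k).affineCover.finiteSubcover
  have hfin : ∀ k, Finite (V k).I₀ := fun k => inferInstanceAs (Finite ((X k).affineCover.finiteSubcover).I₀)
  have haff : ∀ k m, IsAffine ((V k).X m) := fun k m =>
    inferInstanceAs (IsAffine (((X k).affineCover.finiteSubcover).X m))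
  let Z : (Σ k, (V k).I₀) → Scheme.{u} := fun p => (V p.1).X p.2
  have hZ : ∀ p, IsAffine (Z p) := fun p => haff _ _
  refine isConstructible_of_affine_family F Z (fun p => (V p.1).f p.2 ≫ f p.1) (fun y => ?_) fun p => ?_
  · obtain ⟨k, x, rfl⟩ := hcov y
    obtain ⟨z, hz⟩ := (V k).covers x
    exact ⟨⟨k, (V k).idx x⟩, z, congrArg (f k) hz⟩
  · exact StrataGlob.isConstructible_of_iso ((PullFLC.pullComp ((V p.1).f p.2) (f p.1)).app F)
      (Groth.Agent.S0127.result _ _ (h p.1))

end Groth.Agent.Sga4h.ConsFam
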