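import Groth.Agent.Sga4h.GenIso
import Groth.Agent.Sga4h.TensorConst
import Groth.Agent.Sga4h.AffCover
import Mathlib.AlgebraicGeometry.Morphisms.ClosedImmersion

/-!
# The direct image of a constant sheaf by a closed immersion is locally generated by one section
-/

set_option autoImplicit false
universe u
open CategoryTheory CategoryTheory.Limits AlgebraicGeometry Opposite

namespace Groth.Agent.Sga4h.ConstPush

open GenIso TensorConst

variable {X D : Scheme.{u}}

/-- Open subschemes of étale `X`-schemes. -/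
theorem exists_open (V : X.Etale) (Ω : Set V.left) (hΩ : IsOpen Ω) :
    ∃ (V' : X.Etale) (a : V' ⟶ V), ∀ v : V.left, v ∈ Set.range a.left ↔ v ∈ Ω := by
  let W : V.left.Opens := ⟨Ω, hΩ⟩
  have hV : Etale V.hom := V.prop
  have hW : Etale (W.ι ≫ V.hom) := inferInstance
  refine ⟨MorphismProperty.Over.mk ⊤ (W.ι ≫ V.hom) hW, MorphismProperty.Over.homMk W.ι rfl trivial, ?_⟩
  intro v
  have h1 : Set.range W.ι = Ω := by
    rw [Scheme.Opens.range_ι]
    rfl
  have h2 : v ∈ Set.range W.ι ↔ v ∈ Ω := by rw [h1]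
  exact h2

variable (i : D ⟶ X)

theorem bc_map_fst {V V' : X.Etale} (a : V' ⟶ V) :
    ((EtCoh.bc i).map a).left ≫ pullback.fst V.hom i = pullback.fst V'.hom i ≫ a.left :=
  pullback.lift_fst _ _ _

/-- The projection `V ×_X D ⟶ V`. -/
noncomputable abbrev pr (V : X.Etale) : ((EtCoh.bc i).obj V).left ⟶ V.left := pullback.fst V.hom i

theorem pr_map {V V' : X.Etale} (a : V' ⟶ V) (y : ((EtCoh.bc i).obj V').left) :
    pr i V (((EtCoh.bc i).map a).left y) = a.left (pr i V' y) :=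
  congrArg (fun k : ((EtCoh.bc i).obj V').left ⟶ V.left => k y) (bc_map_fst i a)

theorem mem_range_pr (V : X.Etale) (v : V.left) : v ∈ Set.range (pr i V) ↔ V.hom v ∈ Set.range i := by
  have h : ∀ {Y : Scheme.{u}} (g : Y ⟶ X) (y : Y), y ∈ Set.range (pullback.fst g i) ↔ g y ∈ Set.range i := by
    intro Y g y
    rw [Scheme.Pullback.range_fst]
    rfl
  exact h (Y := V.left) V.hom v

theorem isClosedEmbedding_pr [IsClosedImmersion i] (V : X.Etale) : Topology.IsClosedEmbedding (pr i V) := by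
  have h : ∀ {Y : Scheme.{u}} (g : Y ⟶ X), Topology.IsClosedEmbedding (pullback.fst g i) := by
    intro Y g
    exact (pullback.fst g i).isClosedEmbedding
  exact h (Y := V.left) V.hom

theorem isEmpty_bc (V : X.Etale) (h : ∀ v : V.left, V.hom v ∉ Set.range i) :
    IsEmpty ((EtCoh.bc i).obj V).left := by
  constructor
  intro y
  exact h _ ((mem_range_pr i V _).1 ⟨y, rfl⟩)

/-- An open neighbourhood off the closed subset. -/
theorem exists_off [IsClosedImmersion i] (V : X.Etale) (v : V.left) (hv : V.hom v ∉ Set.range i) :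
    ∃ (V' : X.Etale) (a : V' ⟶ V), (∃ v' : V'.left, a.left v' = v) ∧ IsEmpty ((EtCoh.bc i).obj V').left := by
  have hc : IsClosed (Set.range i) := i.isClosedEmbedding.isClosed_range
  have ho : IsOpen (V.hom ⁻¹' (Set.range i)ᶜ) := hc.isOpen_compl.preimage V.hom.continuous
  obtain ⟨V', a, ha⟩ := exists_open V _ ho
  refine ⟨V', a, (ha v).2 hv, ?_⟩
  apply isEmpty_bc
  intro v'
  have h1 := (ha (a.left v')).1 ⟨v', rfl⟩
  have e : a.left ≫ V.hom = V'.hom := MorphismProperty.Over.w a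
  have h3 : V.hom (a.left v') = V'.hom v' := congrArg (fun k : V'.left ⟶ X => k v') e
  rw [← h3]
  exact h1

/-- Sections of a constant sheaf on the closed subscheme are constant on open neighbourhoods. -/
theorem exists_cst_open [IsClosedImmersion i] (M : Type) [AddCommGroup M] (V : X.Etale)
    (x : EtCoh.sect (EtCoh.const D M) ((EtCoh.bc i).obj V)) (y : ((EtCoh.bc i).obj V).left) :
    ∃ (V' : X.Etale) (a : V' ⟶ V), (∃ v' : V'.left, a.left v' = pr i V y) ∧
      ∃ m : M, (EtCoh.const D M).obj.map ((EtCoh.bc i).map a).op x = cst M ((EtCoh.bc i).obj V') m := by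
  obtain ⟨W, g, ⟨w, hw⟩, m, hm⟩ := exists_cst M ((EtCoh.bc i).obj V) x y
  have hO : IsOpen (Set.range g.left) := (Etcore.Cover.isOpenMap_left g).isOpen_range
  obtain ⟨Ω, hΩ, hΩO⟩ := (isClosedEmbedding_pr i V).isInducing.isOpen_iff.1 hO
  obtain ⟨V', a, ha⟩ := exists_open V Ω hΩ
  have hmem : ∀ z : ((EtCoh.bc i).obj V).left, pr i V z ∈ Ω ↔ z ∈ Set.range g.left := by
    intro z
    rw [← hΩO]
    rfl
  refine ⟨V', a, (ha _).2 ((hmem y).2 ⟨w, hw⟩), m, ?_⟩
  apply Etrest.Site0.eq_of_local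
  intro z
  have h1 : ((EtCoh.bc i).map a).left z ∈ Set.range g.left := by
    rw [← hmem, ← ha, pr_map]
    exact ⟨_, rfl⟩
  obtain ⟨w', hw'⟩ := h1
  obtain ⟨T, b, c, t, hbc, hb, hc⟩ := Etcore.Cover.exists_common_over ((EtCoh.bc i).obj V') W
    ((EtCoh.bc i).map a) g z w' hw'.symm
  refine ⟨T, b, ⟨t, hb⟩, ?_⟩
  rw [Etrest.Site0.map_map_apply, hbc, ← Etrest.Site0.map_map_apply, hm, cst_res, cst_res]

/-- `i_* (ℤ/n)` is generated by `1`. -/
theorem isGen [IsClosedImmersion i] [EtCoh.BCCont i] (n : ℕ) :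
    IsGen ((EtCoh.push i).obj (EtCoh.const D (ZMod n)))
      (fun V => cst (ZMod n) ((EtCoh.bc i).obj V) (1 : ZMod n)) (Set.range i) n := by
  have hz : ∀ (V : X.Etale) (m : ℤ), m • cst (ZMod n) ((EtCoh.bc i).obj V) (1 : ZMod n) =
      cst (ZMod n) ((EtCoh.bc i).obj V) (m : ZMod n) := by
    intro V m
    rw [← cst_zsmul]
    congr 1
    simp
  refine ⟨?_, ?_, ?_, ?_, ?_⟩
  · intro V V' a
    exact cst_res (ZMod n) ((EtCoh.bc i).map a) 1
  · intro V t v
    by_cases hv : V.hom v ∈ Set.range i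
    · obtain ⟨y, hy⟩ := (mem_range_pr i V v).2 hv
      obtain ⟨V', a, ⟨v', hv'⟩, m, hm⟩ := exists_cst_open i (ZMod n) V t y
      obtain ⟨k, rfl⟩ := ZMod.intCast_surjective m
      exact ⟨V', a, ⟨v', hv'.trans hy⟩, k, hm.trans (hz V' k).symm⟩
    · obtain ⟨V', a, hv', he⟩ := exists_off i V v hv
      exact ⟨V', a, hv', 0, AffCover.sect_eq_of_isEmpty (EtCoh.const D (ZMod n)) _ he _ _⟩
  · intro V m v hv hm
    obtain ⟨y, hy⟩ := (mem_range_pr i V v).2 hv
    obtain ⟨ρ, hρ⟩ := exists_split (ZMod n) ((EtCoh.bc i).obj V) y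
    have h1 : cst (ZMod n) ((EtCoh.bc i).obj V) (m : ZMod n) = 0 := (hz V m).symm.trans hm
    have h2 := hρ (m : ZMod n)
    rw [h1, map_zero] at h2
    exact (ZMod.intCast_zmod_eq_zero_iff_dvd m n).1 h2.symm
  · intro V v hv
    obtain ⟨V', a, hv', he⟩ := exists_off i V v hv
    exact ⟨V', a, hv', AffCover.sect_eq_of_isEmpty (EtCoh.const D (ZMod n)) _ he _ _⟩
  · intro V
    have h1 := hz V n
    rw [natCast_zsmul] at h1
    refine h1.trans ?_
    have h2 : ((n : ℤ) : ZMod n) = 0 := by simp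
    rw [h2]
    exact cst_zero (ZMod n) _

end Groth.Agent.Sga4h.ConstPush
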