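import Groth.Agent.Sga4h.ConstCrit
import Groth.Agent.Sga4h.EtaleRes2

/-!
# `ℤ/n ⊗ ℤ/n ≅ ℤ/n` on the small etale site, and Tate twists when `μ_n ≅ ℤ/n`
-/

set_option autoImplicit false
universe u
open CategoryTheory CategoryTheory.Limits AlgebraicGeometry Opposite TensorProduct

namespace Groth.Agent.Sga4h.ConstTensor

open Groth.Agent.Sga4h.ConstCrit

variable (V : Scheme.{u}) (n : ℕ)

/-- The generator of the constant presheaf. -/
noncomputable def one : (constPre V n).obj (op (EtCoh.top V)) := (⟨1⟩ : ULift.{u + 1} (ZMod n))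

/-- The map from the constant presheaf to the constant sheaf. -/
noncomputable def toConst : constPre V n ⟶ (EtCoh.const V (ZMod n)).obj :=
  (sheafificationAdjunction V.smallEtaleTopology AddCommGrpCat.{u + 1}).unit.app (constPre V n)

/-- The generator of the constant sheaf `ℤ/n`. -/
noncomputable def gen : (EtCoh.const V (ZMod n)).obj.obj (op (EtCoh.top V)) :=
  (toConst V n).app (op (EtCoh.top V)) (⟨1⟩ : ULift.{u + 1} (ZMod n))

variable {V}

theorem gen_map (W : V.Etale) :
    (EtCoh.const V (ZMod n)).obj.map (toTop W).op (gen V n) =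
      (toConst V n).app (op W) (⟨1⟩ : ULift.{u + 1} (ZMod n)) :=
  (ConcreteCategory.congr_hom ((toConst V n).naturality (toTop W).op) _).symm

theorem nsmul_gen : n • gen V n = 0 := by
  have h := map_nsmul ((toConst V n).app (op (EtCoh.top V))).hom n (⟨1⟩ : ULift.{u + 1} (ZMod n))
  refine h.symm.trans ?_
  have h2 : n • (⟨1⟩ : ULift.{u + 1} (ZMod n)) = 0 := by
    ext
    simp
  rw [h2]
  exact map_zero _

theorem toConst_apply (W : V.Etale) (k : ℤ) :
    (toConst V n).app (op W) (⟨(k : ZMod n)⟩ : ULift.{u + 1} (ZMod n)) =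
      k • (EtCoh.const V (ZMod n)).obj.map (toTop W).op (gen V n) := by
  rw [gen_map]
  have h := map_zsmul ((toConst V n).app (op W)).hom k (⟨1⟩ : ULift.{u + 1} (ZMod n))
  refine Eq.trans ?_ h
  have h2 : k • (⟨1⟩ : ULift.{u + 1} (ZMod n)) = ⟨(k : ZMod n)⟩ := by
    ext
    simp
  rw [h2]

theorem exists_local (W : V.Etale) (s : (EtCoh.const V (ZMod n)).obj.obj (op W)) (w : W.left) :
    ∃ (W' : V.Etale) (g : W' ⟶ W) (w' : W'.left) (k : ℤ), g.left w' = w ∧
      (EtCoh.const V (ZMod n)).obj.map g.op s = k • (EtCoh.const V (ZMod n)).obj.map (toTop W').op (gen V n) := by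
  have h : Presheaf.IsLocallySurjective V.smallEtaleTopology (toConst V n) :=
    inferInstanceAs (Presheaf.IsLocallySurjective V.smallEtaleTopology
      (toSheafify V.smallEtaleTopology (constPre V n)))
  have h1 := h.imageSieve_mem s
  rw [Etcore.Cover.mem_iff] at h1
  obtain ⟨W', g, w', ⟨t, ht⟩, hw⟩ := h1 w
  obtain ⟨k, rfl⟩ := exists_int t
  refine ⟨W', g, w', k, hw, ?_⟩
  rw [← toConst_apply]
  exact ht.symm

section Cont

/-- Locally constant functions as an etale sheaf. -/
noncomputable def contSheaf (V : Scheme.{u}) (n : ℕ) : EtCoh.Ab V :=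
  letI : TopologicalSpace (ULift.{u + 1} (ZMod n)) := ⊥
  haveI : DiscreteTopology (ULift.{u + 1} (ZMod n)) := ⟨rfl⟩
  ((Scheme.Etale.forget V ⋙ Over.forget V).sheafPushforwardContinuous _ _ Scheme.etaleTopology).obj
    ⟨continuousMapPresheafAb (ULift.{u + 1} (ZMod n)),
      .of_le (Scheme.etaleTopology_le_proetaleTopology.trans
        Scheme.proetaleTopology_le_fpqcTopology) (isSheaf_fpqcTopology_continuousMapPresheafAb _)⟩

/-- Evaluation of a locally constant function at a point. -/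
noncomputable def contEval (W : V.Etale) (w : W.left) :
    (contSheaf V n).obj.obj (op W) →+ ZMod n :=
  letI : TopologicalSpace (ULift.{u + 1} (ZMod n)) := ⊥
  { toFun := fun f => ((show C(W.left, ULift.{u + 1} (ZMod n)) from f) w).down
    map_zero' := rfl
    map_add' := fun _ _ => rfl }

/-- The constant function `1`. -/
noncomputable def contOne : (contSheaf V n).obj.obj (op (EtCoh.top V)) :=
  letI : TopologicalSpace (ULift.{u + 1} (ZMod n)) := ⊥
  (show C((EtCoh.top V).left, ULift.{u + 1} (ZMod n)) from ContinuousMap.const _ ⟨1⟩)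

theorem cont_ext (W : V.Etale) (f g : (contSheaf V n).obj.obj (op W))
    (h : ∀ w : W.left, contEval n W w f = contEval n W w g) : f = g := by
  let _ : TopologicalSpace (ULift.{u + 1} (ZMod n)) := ⊥
  have : (show C(W.left, ULift.{u + 1} (ZMod n)) from f) = (show C(W.left, ULift.{u + 1} (ZMod n)) from g) := by
    ext w
    exact h w
  exact this

theorem contEval_top_contOne (w : (EtCoh.top V).left) : contEval n (EtCoh.top V) w (contOne n) = 1 := rfl

theorem nsmul_contOne : n • contOne n (V := V) = 0 := by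
  apply cont_ext
  intro w
  rw [map_nsmul, contEval_top_contOne, map_zero]
  simp

theorem contEval_contOne (W : V.Etale) (w : W.left) :
    contEval n W w ((contSheaf V n).obj.map (toTop W).op (contOne n)) = 1 := rfl

/-- The map from `ℤ/n` to locally constant functions. -/
noncomputable def constToCont (V : Scheme.{u}) (n : ℕ) : EtCoh.const V (ZMod n) ⟶ contSheaf V n :=
  ((sheafificationAdjunction V.smallEtaleTopology AddCommGrpCat.{u + 1}).homEquiv _ _).symm
    (mulMap (contSheaf V n).obj (contOne n) (nsmul_contOne n))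

theorem toConst_constToCont (V : Scheme.{u}) (n : ℕ) :
    toConst V n ≫ (constToCont V n).hom = mulMap (contSheaf V n).obj (contOne n) (nsmul_contOne n) := by
  have := ((sheafificationAdjunction V.smallEtaleTopology AddCommGrpCat.{u + 1}).homEquiv
    (constPre V n) (contSheaf V n)).apply_symm_apply
    (mulMap (contSheaf V n).obj (contOne n) (nsmul_contOne n))
  rw [Adjunction.homEquiv_unit] at this
  exact this

/-- Evaluation of a section of `ℤ/n` at a point. -/
noncomputable def constEval (W : V.Etale) (w : W.left) :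
    (EtCoh.const V (ZMod n)).obj.obj (op W) →+ ZMod n :=
  (contEval n W w).comp ((constToCont V n).hom.app (op W)).hom

theorem constEval_gen (W : V.Etale) (w : W.left) :
    constEval n W w ((EtCoh.const V (ZMod n)).obj.map (toTop W).op (gen V n)) = 1 := by
  rw [gen_map]
  have h := ConcreteCategory.congr_hom (NatTrans.congr_app (toConst_constToCont V n) (op W))
    (⟨((1 : ℤ) : ZMod n)⟩ : ULift.{u + 1} (ZMod n))
  rw [mulMap_app, one_zsmul] at h
  have h1 : ((constToCont V n).hom.app (op W)) ((toConst V n).app (op W)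
      (⟨1⟩ : ULift.{u + 1} (ZMod n))) = (contSheaf V n).obj.map (toTop W).op (contOne n) := by
    rw [← h]
    simp
  exact (congrArg (contEval n W w) h1).trans (contEval_contOne n W w)

end Cont

section Tensor

theorem map_mul_refine (Q : V.Etaleᵒᵖ ⥤ AddCommGrpCat.{u + 1}) (q : Q.obj (op (EtCoh.top V)))
    {W' W₁ W : V.Etale} (f : W' ⟶ W₁) (g : W₁ ⟶ W) (a : Q.obj (op W)) (k : ℤ)
    (h : Q.map g.op a = k • Q.map (toTop W₁).op q) :
    Q.map (f ≫ g).op a = k • Q.map (toTop W').op q := by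
  rw [op_comp, Functor.map_comp_apply, h]
  have := map_zsmul (Q.map f.op).hom k (Q.map (toTop W₁).op q)
  refine this.trans ?_
  congr 1
  have h2 : toTop W' = f ≫ toTop W₁ := toTop_unique _ _
  rw [h2, op_comp]
  exact (Functor.map_comp_apply _ _ _ _).symm

/-- Two sections which are multiples of `q` near `w` are so on a common neighbourhood. -/
theorem exists_common_mul (Q Q' : V.Etaleᵒᵖ ⥤ AddCommGrpCat.{u + 1}) (q : Q.obj (op (EtCoh.top V)))
    (q' : Q'.obj (op (EtCoh.top V))) {W : V.Etale} (w : W.left) (a : Q.obj (op W)) (b : Q'.obj (op W))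
    (ha : ∃ (W' : V.Etale) (g : W' ⟶ W) (w' : W'.left) (k : ℤ), g.left w' = w ∧
      Q.map g.op a = k • Q.map (toTop W').op q)
    (hb : ∃ (W' : V.Etale) (g : W' ⟶ W) (w' : W'.left) (k : ℤ), g.left w' = w ∧
      Q'.map g.op b = k • Q'.map (toTop W').op q') :
    ∃ (W' : V.Etale) (g : W' ⟶ W) (w' : W'.left) (k l : ℤ), g.left w' = w ∧
      Q.map g.op a = k • Q.map (toTop W').op q ∧ Q'.map g.op b = l • Q'.map (toTop W').op q' := by
  obtain ⟨W₁, g₁, w₁, k₁, h₁, e₁⟩ := ha
  obtain ⟨W₂, g₂, w₂, k₂, h₂, e₂⟩ := hb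
  obtain ⟨W', f₁, f₂, z, hc, hz₁, hz₂⟩ := Etcore.Cover.exists_common_over W₁ W₂ g₁ g₂ w₁ w₂ (h₁.trans h₂.symm)
  refine ⟨W', f₁ ≫ g₁, z, k₁, k₂, ?_, map_mul_refine Q q f₁ g₁ a k₁ e₁, ?_⟩
  · rw [← h₁, ← hz₁]
    rfl
  · rw [hc]
    exact map_mul_refine Q' q' f₂ g₂ b k₂ e₂

/-- The generator of the presheaf tensor product. -/
noncomputable def genT (V : Scheme.{u}) (n : ℕ) :
    (EtDual.tensorPre (EtCoh.const V (ZMod n)) (EtCoh.const V (ZMod n))).obj (op (EtCoh.top V)) :=
  (gen V n ⊗ₜ[ℤ] gen V n :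
    (EtCoh.const V (ZMod n)).obj.obj (op (EtCoh.top V)) ⊗[ℤ] (EtCoh.const V (ZMod n)).obj.obj (op (EtCoh.top V)))

theorem nsmul_genT : n • genT V n = 0 := by
  have h := TensorProduct.smul_tmul' (R := ℤ) (n : ℤ) (gen V n) (gen V n)
  have h0 : (n : ℤ) • gen V n = 0 := by rw [natCast_zsmul]; exact nsmul_gen n
  rw [h0, TensorProduct.zero_tmul] at h
  have h2 : (n : ℤ) • (genT V n) = 0 := h
  rwa [natCast_zsmul] at h2

theorem genT_map (W : V.Etale) :
    (EtDual.tensorPre (EtCoh.const V (ZMod n)) (EtCoh.const V (ZMod n))).map (toTop W).op (genT V n) =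
      ((EtCoh.const V (ZMod n)).obj.map (toTop W).op (gen V n) ⊗ₜ[ℤ]
        (EtCoh.const V (ZMod n)).obj.map (toTop W).op (gen V n) :
      (EtCoh.const V (ZMod n)).obj.obj (op W) ⊗[ℤ] (EtCoh.const V (ZMod n)).obj.obj (op W)) := rfl

theorem tensor_map_tmul {F G : EtCoh.Ab V} {W W' : V.Etale} (g : W' ⟶ W) (a : F.obj.obj (op W))
    (b : G.obj.obj (op W)) :
    (EtDual.tensorPre F G).map g.op (a ⊗ₜ[ℤ] b : F.obj.obj (op W) ⊗[ℤ] G.obj.obj (op W)) =
      (F.obj.map g.op a ⊗ₜ[ℤ] G.obj.map g.op b : F.obj.obj (op W') ⊗[ℤ] G.obj.obj (op W')) := rfl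

theorem genT_inj (W : V.Etale) (w : W.left) (k : ℤ)
    (hk : k • (EtDual.tensorPre (EtCoh.const V (ZMod n)) (EtCoh.const V (ZMod n))).map (toTop W).op (genT V n) = 0) :
    (k : ZMod n) = 0 := by
  let lam := (constEval n W w).toIntLinearMap
  let L := TensorProduct.lift ((LinearMap.mul ℤ (ZMod n)).compl₁₂ lam lam)
  have h := congrArg L hk
  rw [genT_map] at h
  have h1 := L.map_smul k ((EtCoh.const V (ZMod n)).obj.map (toTop W).op (gen V n) ⊗ₜ[ℤ]
    (EtCoh.const V (ZMod n)).obj.map (toTop W).op (gen V n))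
  have h2 : L ((EtCoh.const V (ZMod n)).obj.map (toTop W).op (gen V n) ⊗ₜ[ℤ]
    (EtCoh.const V (ZMod n)).obj.map (toTop W).op (gen V n)) = 1 := by
    change constEval n W w _ * constEval n W w _ = 1
    rw [constEval_gen, mul_one]
  rw [h2] at h1
  have h3 := h1.symm.trans (h.trans (map_zero L))
  simpa using h3

theorem genT_surj (W : V.Etale)
    (s : (EtDual.tensorPre (EtCoh.const V (ZMod n)) (EtCoh.const V (ZMod n))).obj (op W)) (w : W.left) :
    ∃ (W' : V.Etale) (g : W' ⟶ W) (w' : W'.left) (k : ℤ), g.left w' = w ∧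
      (EtDual.tensorPre (EtCoh.const V (ZMod n)) (EtCoh.const V (ZMod n))).map g.op s =
        k • (EtDual.tensorPre (EtCoh.const V (ZMod n)) (EtCoh.const V (ZMod n))).map (toTop W').op (genT V n) := by
  let s' : (EtCoh.const V (ZMod n)).obj.obj (op W) ⊗[ℤ] (EtCoh.const V (ZMod n)).obj.obj (op W) := s
  change ∃ (W' : V.Etale) (g : W' ⟶ W) (w' : W'.left) (k : ℤ), g.left w' = w ∧
      (EtDual.tensorPre (EtCoh.const V (ZMod n)) (EtCoh.const V (ZMod n))).map g.op s' =
        k • (EtDual.tensorPre (EtCoh.const V (ZMod n)) (EtCoh.const V (ZMod n))).map (toTop W').op (genT V n)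
  induction s' using TensorProduct.induction_on with
  | zero =>
    refine ⟨W, 𝟙 _, w, 0, rfl, ?_⟩
    rw [zero_zsmul]
    exact map_zero ((EtDual.tensorPre (EtCoh.const V (ZMod n)) (EtCoh.const V (ZMod n))).map (𝟙 W).op).hom
  | tmul a b =>
    obtain ⟨W', g, w', k, l, h, h1, h2⟩ := exists_common_mul (EtCoh.const V (ZMod n)).obj
      (EtCoh.const V (ZMod n)).obj (gen V n) (gen V n) w a b (exists_local n W a w) (exists_local n W b w)
    refine ⟨W', g, w', k * l, h, ?_⟩
    rw [genT_map]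
    rw [tensor_map_tmul, h1, h2, TensorProduct.smul_tmul_smul]
    rfl
  | add a b ha hb =>
    obtain ⟨W', g, w', k, l, h, h1, h2⟩ := exists_common_mul _ _ _ _ w _ _ ha hb
    refine ⟨W', g, w', k + l, h, ?_⟩
    rw [add_zsmul, ← h1, ← h2]
    exact map_add ((EtDual.tensorPre (EtCoh.const V (ZMod n)) (EtCoh.const V (ZMod n))).map g.op).hom a b

/-- `ℤ/n ⊗ ℤ/n ≅ ℤ/n`. -/
noncomputable def constTensorConst (V : Scheme.{u}) (n : ℕ) :
    EtCoh.const V (ZMod n) ≅ EtDual.tensorAb (EtCoh.const V (ZMod n)) (EtCoh.const V (ZMod n)) :=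
  constIso (EtDual.tensorPre (EtCoh.const V (ZMod n)) (EtCoh.const V (ZMod n))) (genT V n) (nsmul_genT n)
    (fun W ⟨w⟩ k hk => genT_inj n W w k hk) (genT_surj n)

/-- If `μ_n ≅ ℤ/n` then all Tate twists are `ℤ/n`. -/
noncomputable def tateIso (V : Scheme.{u}) (n : ℕ) (e : EtCoh.const V (ZMod n) ≅ EtCoh.mu V n) :
    ∀ c : ℕ, EtCoh.const V (ZMod n) ≅ EtDual.tate V n c
  | 0 => Iso.refl _
  | c + 1 => constTensorConst V n ≪≫ EtaleRes2.tensorAbIso (tateIso V n e c) e

end Tensor

end Groth.Agent.Sga4h.ConstTensor
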