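import Groth.Agent.Sga4h.LamDev

/-!
# Contravariant dévissage, uniform in the degree

`CDev P`: a graded property `P q F` (think: `Ext^q(F, G)` is constructible) satisfying the
two-out-of-three properties given by the long exact sequence in the first variable.
-/

set_option autoImplicit false
universe u

open CategoryTheory CategoryTheory.Limits AlgebraicGeometry Opposite TopologicalSpace
open scoped ZeroObject

namespace Groth.Agent.Sga4h.ContraDev

open Groth.Agent.Etcore.LVan Groth.Agent.Etcore.LFree Groth.Agent.Sga4h.LVanExact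
  Groth.Agent.Sga4h.GalDatum Groth.Agent.Sga4h.GalClass Groth.Agent.Sga4h.GalQ
  Groth.Agent.Sga4h.GalSyz

variable {Λ : Type (u + 1)} [CommRing Λ] {X : Scheme.{u}}

/-- Graded properties behaving like "`Ext^q(F, G)` belongs to a Serre class". -/
structure CDev (P : ℕ → EtModW.Mod Λ X → Prop) : Prop where
  zero : ∀ q F, IsZero F → P q F
  mid : ∀ q (S : ShortComplex (EtModW.Mod Λ X)), S.ShortExact → P q S.X₁ → P q S.X₃ → P q S.X₂
  right₀ : ∀ (S : ShortComplex (EtModW.Mod Λ X)), S.ShortExact → P 0 S.X₂ → P 0 S.X₃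
  right : ∀ q (S : ShortComplex (EtModW.Mod Λ X)), S.ShortExact → P q S.X₁ → P (q + 1) S.X₂ →
    P (q + 1) S.X₃

variable {P : ℕ → EtModW.Mod Λ X → Prop}

instance mono_map_inc (D : Datum X) : Mono (map (Λ := Λ) (inc D)) := by
  classical
  refine mono_of_van _ fun T s t hs => ?_
  obtain ⟨W, g, w, c, hw, hc⟩ := exists_sec (U₀ D) s t
  rw [← hw, ← van_res_iff, hc]
  have h1 : ev (map (inc D)) W (sec Λ (U₀ D) c) = 0 := by
    rw [← hc, ← res_ev, hs, map_zero]
  rw [map_sec] at h1
  obtain ⟨W', g', w', hw', h2⟩ := (van_sec_iff _ _ w).1 (van_zero_of_eq h1 w)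
  rw [van_sec_iff]
  refine ⟨W', g', w', hw', ?_⟩
  rw [← Finsupp.mapDomain_comp] at h2
  have h3 : ((fun h : W ⟶ D.U => g' ≫ h) ∘ fun h : W ⟶ U₀ D => h ≫ inc D) =
      (fun k : W' ⟶ U₀ D => k ≫ inc D) ∘ fun h : W ⟶ U₀ D => g' ≫ h := by
    funext h
    exact (Category.assoc _ _ _).symm
  rw [h3, Finsupp.mapDomain_comp] at h2
  have hinj : Function.Injective (fun k : W' ⟶ U₀ D => k ≫ inc D) := by
    intro a b hab
    have h4 : a.left ≫ (opn D).ι = b.left ≫ (opn D).ι :=
      congrArg (fun f : W' ⟶ D.U => f.left) hab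
    have h5 : a.left = b.left := (cancel_mono (opn D).ι).1 h4
    exact MorphismProperty.Over.Hom.ext h5
  exact Finsupp.mapDomain_injective hinj (h2.trans Finsupp.mapDomain_zero.symm)

variable (Λ) in
/-- The defining sequence of `Q`. -/
noncomputable def seqQ (D : Datum X) : ShortComplex (EtModW.Mod Λ X) :=
  ShortComplex.mk (map (inc D)) (q Λ D) (map_q D)

theorem shortExact_seqQ (D : Datum X) : (seqQ Λ D).ShortExact :=
  { exact := ShortComplex.exact_of_g_is_cokernel _ (cokernelIsCokernel (map (Λ := Λ) (inc D)))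
    mono_f := mono_map_inc D
    epi_g := inferInstanceAs (Epi (q Λ D)) }

theorem CDev.gen (h : CDev P) (D : Datum X) (h₀ : ∀ q, P q (LM Λ (U₀ D)))
    (h₁ : ∀ q, P q (LM Λ D.U)) (q : ℕ) : P q (Q Λ D) := by
  cases q with
  | zero => exact h.right₀ (seqQ Λ D) (shortExact_seqQ D) (h₁ 0)
  | succ q => exact h.right q (seqQ Λ D) (shortExact_seqQ D) (h₀ q) (h₁ (q + 1))

theorem CDev.biprod (h : CDev P) {F G : EtModW.Mod Λ X} {q : ℕ} (hF : P q F)
    (hG : P q G) : P q (F ⊞ G) := by
  let S : ShortComplex (EtModW.Mod Λ X) := ShortComplex.mk (biprod.inl : F ⟶ F ⊞ G) biprod.snd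
    (by simp)
  have hS : S.ShortExact := (ShortComplex.Splitting.ofHasBinaryBiproduct F G).shortExact
  exact h.mid q S hS hF hG

theorem CDev.pow (h : CDev P) (D : Datum X) (hQ : ∀ q, P q (Q Λ D)) (r q : ℕ) :
    P q (pow Λ D r) := by
  induction r with
  | zero => exact h.zero q _ (isZero_zero _)
  | succ r ih => exact h.biprod (hQ q) ih

/-- All sheaves in the class of a Galois datum, in all degrees. -/
theorem CDev.mem [IsNoetherianRing Λ] (h : CDev P) (D : Datum X)
    (hQ : ∀ q, P q (GalQ.Q Λ D)) (q : ℕ) : ∀ F, Mem D F → P q F := by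
  induction q with
  | zero =>
    intro F hF
    obtain ⟨r, S, hS, -, h2, h3⟩ := exists_syzygy hF
    rw [← h3]
    refine h.right₀ S hS ?_
    rw [h2]
    exact h.pow D hQ r 0
  | succ q ih =>
    intro F hF
    obtain ⟨r, S, hS, h1, h2, h3⟩ := exists_syzygy hF
    rw [← h3]
    refine h.right q S hS (ih _ h1) ?_
    rw [h2]
    exact h.pow D hQ r (q + 1)

end Groth.Agent.Sga4h.ContraDev
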