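import Groth.Agent.Sga4h.SigmaSeq
import Groth.Agent.Etcore.FGLim
import Groth.Agent.Etcore.PullbackLim
import Mathlib.LinearAlgebra.FreeModule.Finite.Matrix
import Mathlib.FieldTheory.IsSepClosed
import Mathlib.FieldTheory.Galois.Basic

/-!
# The procyclic cover of the spectrum of a field attached to a cyclic tower

`E : ℕ → IntermediateField K L` exhausting, `E a / K` cyclic Galois of degree `n ^ a` generated by the restriction
of `σ : L ≃ₐ[K] L`: `cyc : CycData` for `Spec L ⟶ Spec K` (`N a = n ^ a`), and its base change `CycData.bc` along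
`f : X ⟶ Spec K`.
-/

set_option autoImplicit false
set_option backward.isDefEq.respectTransparency.types false
set_option linter.unusedSectionVars false
universe u

open CategoryTheory CategoryTheory.Limits AlgebraicGeometry Opposite

namespace Groth.Agent.Sga4h.CycField

open Groth.Agent.EtpbcB.Big Groth.Agent.Sga4h.SigmaSeq

theorem it_specMap {R : Type u} [CommRing R] (s : R →+* R) (k : ℕ) :
    it (Spec.map (CommRingCat.ofHom s)) k = Spec.map (CommRingCat.ofHom (s ^ k)) := by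
  induction k with
  | zero => exact (Spec.map_id _).symm
  | succ k ih =>
    rw [it_succ, ih, ← Spec.map_comp, ← CommRingCat.ofHom_comp, pow_succ]

section Field

variable {K L : Type u} [Field K] [Field L] [Algebra K L] (E : ℕ → IntermediateField K L) (σ : L ≃ₐ[K] L)
  (hE : ∀ a, ∀ x ∈ E a, σ x ∈ E a)

/-- The restriction of `σ`. -/
def sa (a : ℕ) : E a →+* E a where
  toFun x := ⟨σ x, hE a x x.2⟩
  map_one' := Subtype.ext (map_one σ)
  map_mul' x y := Subtype.ext (map_mul σ (x : L) (y : L))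
  map_zero' := Subtype.ext (map_zero σ)
  map_add' x y := Subtype.ext (map_add σ (x : L) (y : L))

theorem sa_apply (a : ℕ) (x : E a) : ((sa E σ hE a x : E a) : L) = σ x := rfl

theorem sa_pow_apply (a k : ℕ) (x : E a) : (((sa E σ hE a ^ k) x : E a) : L) = (σ ^ k) (x : L) := by
  induction k with
  | zero => rfl
  | succ k ih =>
    rw [pow_succ', pow_succ']
    change σ (((sa E σ hE a ^ k) x : E a) : L) = σ ((σ ^ k) (x : L))
    rw [ih]

variable {n : ℕ} (hfd : ∀ a, FiniteDimensional K (E a)) (hgal : ∀ a, IsGalois K (E a))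
  (hrk : ∀ a, Module.finrank K (E a) = n ^ a)
  (hgen : ∀ a (g : E a ≃ₐ[K] E a), ∃ k : ℕ, ∀ x : E a, ((g x : E a) : L) = (σ ^ k) (x : L))

/-- The restriction of `σ` as an algebra homomorphism. -/
def saHom (a : ℕ) : E a →ₐ[K] E a := { sa E σ hE a with commutes' := fun r => Subtype.ext (σ.commutes r) }

/-- The restriction of `σ` as an automorphism. -/
noncomputable def saEquiv (a : ℕ) : E a ≃ₐ[K] E a :=
  haveI := hfd a
  algEquivEquivAlgHom K (E a) |>.symm (saHom E σ hE a)

theorem saEquiv_apply (a : ℕ) (x : E a) : saEquiv E σ hE hfd a x = sa E σ hE a x := rfl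

theorem saEquiv_pow_apply (a k : ℕ) (x : E a) : (saEquiv E σ hE hfd a ^ k) x = (sa E σ hE a ^ k) x := by
  induction k with
  | zero => rfl
  | succ k ih =>
    rw [pow_succ', pow_succ']
    change saEquiv E σ hE hfd a ((saEquiv E σ hE hfd a ^ k) x) = sa E σ hE a ((sa E σ hE a ^ k) x)
    rw [ih, saEquiv_apply]

include hgal hrk hgen in
theorem orderOf_saEquiv (a : ℕ) : orderOf (saEquiv E σ hE hfd a) = n ^ a := by
  have := hfd a
  have := hgal a
  rw [← hrk a, ← IsGalois.card_aut_eq_finrank K (E a)]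
  refine orderOf_eq_card_of_forall_mem_zpowers fun g => ?_
  obtain ⟨k, hk⟩ := hgen a g
  refine ⟨k, ?_⟩
  ext x
  change (((saEquiv E σ hE hfd a ^ (k : ℤ)) x : E a) : L) = ((g x : E a) : L)
  rw [zpow_natCast, saEquiv_pow_apply, sa_pow_apply, hk]

include hfd hgal hrk hgen in
theorem sa_pow_card (a : ℕ) : sa E σ hE a ^ (n ^ a) = RingHom.id _ := by
  have h := pow_orderOf_eq_one (saEquiv E σ hE hfd a)
  rw [orderOf_saEquiv E σ hE hfd hgal hrk hgen] at h
  ext x
  have h2 := saEquiv_pow_apply E σ hE hfd a (n ^ a) x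
  rw [h] at h2
  exact congrArg Subtype.val h2.symm

include hfd hgal hrk hgen in
theorem sa_free (a : ℕ) {Ω : Type u} [Field Ω] (φ : E a →+* Ω) (k k' : ℕ) (hk : k < n ^ a) (hk' : k' < n ^ a)
    (h : φ.comp (sa E σ hE a ^ k) = φ.comp (sa E σ hE a ^ k')) : k = k' := by
  rw [← orderOf_saEquiv E σ hE hfd hgal hrk hgen a] at hk hk'
  refine pow_injOn_Iio_orderOf (x := saEquiv E σ hE hfd a) hk hk' ?_
  ext x
  refine congrArg Subtype.val ?_
  change (saEquiv E σ hE hfd a ^ k) x = (saEquiv E σ hE hfd a ^ k') x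
  rw [saEquiv_pow_apply, saEquiv_pow_apply]
  exact φ.injective (RingHom.congr_fun h x)

include hfd hgal hrk hgen in
theorem sa_trans (a : ℕ) {Ω : Type u} [Field Ω] (φ φ' : E a →+* Ω)
    (h : φ.comp (algebraMap K (E a)) = φ'.comp (algebraMap K (E a))) :
    ∃ k < n ^ a, φ' = φ.comp (sa E σ hE a ^ k) := by
  have := hfd a
  let _ : Algebra K Ω := (φ.comp (algebraMap K (E a))).toAlgebra
  let ψ : E a →ₐ[K] Ω := { φ with commutes' := fun _ => rfl }
  let ψ' : E a →ₐ[K] Ω := { φ' with commutes' := fun r => (RingHom.congr_fun h r).symm }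
  have hcard : Nat.card (E a →ₐ[K] Ω) ≤ n ^ a := by
    rw [← hrk a]
    exact card_algHom_le_finrank K (E a) Ω
  let Φ : Fin (n ^ a) → (E a →ₐ[K] Ω) := fun k => ψ.comp ((saEquiv E σ hE hfd a ^ (k : ℕ) : E a ≃ₐ[K] E a) : E a →ₐ[K] E a)
  have hinj : Function.Injective Φ := by
    intro k k' hkk
    apply Fin.ext
    refine sa_free E σ hE hfd hgal hrk hgen a φ k k' k.2 k'.2 ?_
    ext x
    have h1 := DFunLike.congr_fun hkk x
    change φ ((saEquiv E σ hE hfd a ^ (k : ℕ)) x) = φ ((saEquiv E σ hE hfd a ^ (k' : ℕ)) x) at h1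
    rw [saEquiv_pow_apply, saEquiv_pow_apply] at h1
    exact h1
  have : Finite (E a →ₐ[K] Ω) := inferInstance
  have hsurj : Function.Surjective Φ := by
    have h1 : Nat.card (Fin (n ^ a)) = Nat.card (E a →ₐ[K] Ω) :=
      le_antisymm (Nat.card_le_card_of_injective Φ hinj) (by rwa [Nat.card_fin])
    exact (Function.Injective.bijective_of_nat_card_le hinj h1.ge).2
  obtain ⟨k, hk⟩ := hsurj ψ'
  refine ⟨k, k.2, ?_⟩
  ext x
  have h1 := DFunLike.congr_fun hk x
  change φ ((saEquiv E σ hE hfd a ^ (k : ℕ)) x) = φ' x at h1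
  rw [saEquiv_pow_apply] at h1
  exact h1.symm

end Field

section Cyc

variable {K L : Type u} [Field K] [Field L] [Algebra K L] (E : ℕ → IntermediateField K L) (hmono : Monotone E)

/-- The system of rings. -/
def G : ULift.{u} ℕ ⥤ CommRingCat.{u} where
  obj a := CommRingCat.of (E a.down)
  map h := CommRingCat.ofHom (IntermediateField.inclusion (hmono (ULift.down_le.2 h.le))).toRingHom
  map_id _ := rfl
  map_comp _ _ := rfl

/-- The cocone with point `L`. -/
def coc : Cocone (G E hmono) where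
  pt := CommRingCat.of L
  ι :=
    { app := fun a => CommRingCat.ofHom (E a.down).val.toRingHom
      naturality := fun _ _ _ => rfl }

theorem nonempty_isColimit (hun : ∀ x : L, ∃ a, x ∈ E a) : Nonempty (IsColimit (coc E hmono)) := by
  apply Etcore.FGLim.nonempty_isColimit
  · intro (x : L)
    obtain ⟨a, ha⟩ := hun x
    exact ⟨⟨a⟩, ⟨x, ha⟩, rfl⟩
  · intro B y z h
    exact ⟨B, 𝟙 B, congrArg _ (Subtype.ext h)⟩

/-- The system of spectra. -/
noncomputable abbrev TT : (ULift.{u} ℕ)ᵒᵖ ⥤ Scheme.{u} := Etcore.PullbackLim.specSys (G E hmono)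

/-- The cone with point `Spec L`. -/
noncomputable abbrev cc : Cone (TT E hmono) := Etcore.PullbackLim.specCone (G E hmono) (coc E hmono)

/-- `Spec (E a) ⟶ Spec K`. -/
noncomputable abbrev ττ (a : (ULift.{u} ℕ)ᵒᵖ) : (TT E hmono).obj a ⟶ Spec (CommRingCat.of K) :=
  Spec.map (CommRingCat.ofHom (algebraMap K (E a.unop.down)))

/-- `Spec L ⟶ Spec K`. -/
noncomputable abbrev tt (K L : Type u) [Field K] [Field L] [Algebra K L] :
    Spec (CommRingCat.of L) ⟶ Spec (CommRingCat.of K) := Spec.map (CommRingCat.ofHom (algebraMap K L))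

variable (σ : L ≃ₐ[K] L)
  (hE : ∀ a, ∀ x ∈ E a, σ x ∈ E a) {n : ℕ} (hfd : ∀ a, FiniteDimensional K (E a))
  (hgal : ∀ a, IsGalois K (E a)) (hrk : ∀ a, Module.finrank K (E a) = n ^ a)
  (hgen : ∀ a (g : E a ≃ₐ[K] E a), ∃ k : ℕ, ∀ x : E a, ((g x : E a) : L) = (σ ^ k) (x : L))
  (hun : ∀ x : L, ∃ a, x ∈ E a)

theorem surj_of_field {A B : Type u} [Field A] [Field B] (φ : A →+* B) :
    Surjective (Spec.map (CommRingCat.ofHom φ)) := by
  constructor
  intro x
  refine ⟨(default : PrimeSpectrum B), ?_⟩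
  have : Subsingleton (PrimeSpectrum A) := inferInstance
  exact this.elim (α := PrimeSpectrum A) _ _

theorem etale_of_field (A B : Type u) [Field A] [Field B] [Algebra A B] [FiniteDimensional A B]
    [Algebra.IsSeparable A B] : Etale (Spec.map (CommRingCat.ofHom (algebraMap A B))) := by
  have h1 : Algebra.FormallyEtale A B := Algebra.FormallyEtale.of_isSeparable A B
  have h2 : Algebra.FinitePresentation A B :=
    Algebra.FinitePresentation.of_finiteType.1 (Module.Finite.finiteType B)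
  have h3 : Algebra.Etale A B := ⟨h1, h2⟩
  rw [HasRingHomProperty.Spec_iff (P := @AlgebraicGeometry.Etale)]
  change RingHom.Etale (algebraMap A B)
  rwa [RingHom.etale_algebraMap]

include hfd hgal hrk hgen in
theorem ord_aux (a : ℕ) : it (Spec.map (CommRingCat.ofHom (sa E σ hE a))) (n ^ a) =
    𝟙 (Spec (CommRingCat.of (E a))) := by
  rw [it_specMap, sa_pow_card E σ hE hfd hgal hrk hgen]
  exact Spec.map_id _

include hfd hgal hrk hgen in
theorem trans_aux (a : ℕ) (Ω : Type u) [Field Ω] (m m' : Spec (.of Ω) ⟶ Spec (CommRingCat.of (E a)))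
    (h : m ≫ Spec.map (CommRingCat.ofHom (algebraMap K (E a))) =
      m' ≫ Spec.map (CommRingCat.ofHom (algebraMap K (E a)))) :
    ∃ k < n ^ a, m' = m ≫ it (Spec.map (CommRingCat.ofHom (sa E σ hE a))) k := by
  obtain ⟨φ, rfl⟩ := Spec.map_surjective m
  obtain ⟨φ', rfl⟩ := Spec.map_surjective m'
  rw [← Spec.map_comp, ← Spec.map_comp] at h
  have h2 := congrArg CommRingCat.Hom.hom (Spec.map_injective h)
  obtain ⟨k, hk, hk'⟩ := sa_trans E σ hE hfd hgal hrk hgen a φ.hom φ'.hom h2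
  refine ⟨k, hk, ?_⟩
  rw [it_specMap, ← Spec.map_comp]
  congr 1
  ext x
  exact RingHom.congr_fun hk' x

include hfd hgal hrk hgen in
theorem free_aux (a : ℕ) (Ω : Type u) [Field Ω] (m : Spec (.of Ω) ⟶ Spec (CommRingCat.of (E a))) (k k' : ℕ)
    (hk : k < n ^ a) (hk' : k' < n ^ a)
    (h : m ≫ it (Spec.map (CommRingCat.ofHom (sa E σ hE a))) k =
      m ≫ it (Spec.map (CommRingCat.ofHom (sa E σ hE a))) k') : k = k' := by
  obtain ⟨φ, rfl⟩ := Spec.map_surjective m
  rw [it_specMap, it_specMap, ← Spec.map_comp, ← Spec.map_comp] at h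
  have h2 := congrArg CommRingCat.Hom.hom (Spec.map_injective h)
  exact sa_free E σ hE hfd hgal hrk hgen a φ.hom k k' hk hk' h2

theorem lift_aux [Algebra.IsSeparable K L] (a : ℕ) (Ω : Type u) [Field Ω] [IsSepClosed Ω]
    (m : Spec (.of Ω) ⟶ Spec (CommRingCat.of (E a))) :
    ∃ m' : Spec (.of Ω) ⟶ Spec (CommRingCat.of L),
      m' ≫ Spec.map (CommRingCat.ofHom (E a).val.toRingHom) = m := by
  obtain ⟨φ, rfl⟩ := Spec.map_surjective m
  let _ : Algebra (E a) Ω := φ.hom.toAlgebra
  have h1 : Algebra.IsSeparable (E a) L := Algebra.isSeparable_tower_top_of_isSeparable K _ L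
  let ψ : L →ₐ[E a] Ω := IsSepClosed.lift
  refine ⟨Spec.map (CommRingCat.ofHom ψ.toRingHom), ?_⟩
  rw [← Spec.map_comp]
  congr 1
  ext x
  exact ψ.commutes x

/-- The procyclic cover `Spec L ⟶ Spec K`. -/
noncomputable def cyc [Algebra.IsSeparable K L] (hn : 0 < n) (k : ℕ) :
    CycData (TT E hmono) (ττ E hmono) (cc E hmono) (tt K L) (n ^ k) where
  hτ a b h := by
    change Spec.map _ ≫ Spec.map _ = Spec.map _
    rw [← Spec.map_comp]
    rfl
  hc := Etcore.PullbackLim.isLimitSpecCone _ _ (nonempty_isColimit E hmono hun).some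
  ht a := by
    change Spec.map _ ≫ Spec.map _ = Spec.map _
    rw [← Spec.map_comp]
    rfl
  aff a := inferInstance
  et a := by
    have := hfd a.unop.down
    have := hgal a.unop.down
    exact etale_of_field K (E a.unop.down)
  surj a := surj_of_field _
  σ := Spec.map (CommRingCat.ofHom (σ : L →+* L))
  σa a := Spec.map (CommRingCat.ofHom (sa E σ hE a.unop.down))
  hσ a := by
    change Spec.map _ ≫ Spec.map _ = Spec.map _ ≫ Spec.map _
    rw [← Spec.map_comp, ← Spec.map_comp]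
    rfl
  hσT a b h := by
    change Spec.map _ ≫ Spec.map _ = Spec.map _ ≫ Spec.map _
    rw [← Spec.map_comp, ← Spec.map_comp]
    rfl
  hσt := by
    change Spec.map _ ≫ Spec.map _ = Spec.map _
    rw [← Spec.map_comp]
    congr 1
    ext x
    exact σ.commutes x
  hστ a := by
    change Spec.map _ ≫ Spec.map _ = Spec.map _
    rw [← Spec.map_comp]
    congr 1
    ext x
    exact Subtype.ext (σ.commutes x)
  N a := n ^ a.unop.down
  N_pos a := pow_pos hn _
  ord a := ord_aux E σ hE hfd hgal hrk hgen a.unop.down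
  trans a Ω _ _ m m' h := trans_aux E σ hE hfd hgal hrk hgen a.unop.down Ω m m' h
  free a Ω _ _ m k k' hk hk' h := free_aux E σ hE hfd hgal hrk hgen a.unop.down Ω m k k' hk hk' h
  lift a Ω _ _ m := lift_aux E a.unop.down Ω m
  grow a := by
    refine ⟨op (ULift.up (a.unop.down + k)),
      Quiver.Hom.op (homOfLE (show a.unop ≤ ULift.up (a.unop.down + k) from
        ULift.down_le.1 (Nat.le_add_right a.unop.down k))), n ^ k, ?_, dvd_rfl⟩
    exact pow_add _ _ _

end Cyc

section BaseChange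

variable {K : Type u} [SmallCategory K] [IsCofiltered K] {T : K ⥤ Scheme.{u}} {Z : Scheme.{u}}
  {τ : ∀ a, T.obj a ⟶ Z} {c : Cone T} {t : c.pt ⟶ Z} {n : ℕ} (D : CycData T τ c t n)
  {X : Scheme.{u}} (f : X ⟶ Z)

/-- Base change of a morphism over `Z`. -/
noncomputable def mB {Y Y' : Scheme.{u}} {y : Y ⟶ Z} {y' : Y' ⟶ Z} (s : Y ⟶ Y') (h : s ≫ y' = y) :
    pullback f y ⟶ pullback f y' :=
  pullback.lift (pullback.fst f y) (pullback.snd f y ≫ s)
    (by rw [Category.assoc, h]; exact pullback.condition)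

@[reassoc (attr := simp)]
theorem mB_fst {Y Y' : Scheme.{u}} {y : Y ⟶ Z} {y' : Y' ⟶ Z} (s : Y ⟶ Y') (h : s ≫ y' = y) :
    mB f s h ≫ pullback.fst f y' = pullback.fst f y := pullback.lift_fst _ _ _

@[reassoc (attr := simp)]
theorem mB_snd {Y Y' : Scheme.{u}} {y : Y ⟶ Z} {y' : Y' ⟶ Z} (s : Y ⟶ Y') (h : s ≫ y' = y) :
    mB f s h ≫ pullback.snd f y' = pullback.snd f y ≫ s := pullback.lift_snd _ _ _

theorem it_mB_fst {Y : Scheme.{u}} {y : Y ⟶ Z} (s : Y ⟶ Y) (h : s ≫ y = y) (k : ℕ) :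
    it (mB f s h) k ≫ pullback.fst f y = pullback.fst f y := it_comp_eq _ _ (mB_fst f s h) k

theorem it_mB_snd {Y : Scheme.{u}} {y : Y ⟶ Z} (s : Y ⟶ Y) (h : s ≫ y = y) (k : ℕ) :
    it (mB f s h) k ≫ pullback.snd f y = pullback.snd f y ≫ it s k :=
  it_comm _ _ (pullback.snd f y) (mB_snd f s h) k

theorem bc_trans (a : K) (Ω : Type u) [Field Ω] [IsSepClosed Ω] (m m' : Spec (.of Ω) ⟶ pullback f (τ a))
    (h : m ≫ pullback.fst f (τ a) = m' ≫ pullback.fst f (τ a)) :
    ∃ k < D.N a, m' = m ≫ it (mB f (D.σa a) (D.hστ a)) k := by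
  obtain ⟨k, hk, hk'⟩ := D.trans a Ω (m ≫ pullback.snd f (τ a)) (m' ≫ pullback.snd f (τ a)) (by
    rw [Category.assoc, Category.assoc, ← pullback.condition, ← Category.assoc, h, Category.assoc])
  refine ⟨k, hk, ?_⟩
  apply pullback.hom_ext
  · rw [Category.assoc, it_mB_fst, h]
  · rw [hk', Category.assoc, Category.assoc, it_mB_snd]

theorem bc_free (a : K) (Ω : Type u) [Field Ω] [IsSepClosed Ω] (m : Spec (.of Ω) ⟶ pullback f (τ a))
    (k k' : ℕ) (hk : k < D.N a) (hk' : k' < D.N a)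
    (h : m ≫ it (mB f (D.σa a) (D.hστ a)) k = m ≫ it (mB f (D.σa a) (D.hστ a)) k') : k = k' := by
  refine D.free a Ω (m ≫ pullback.snd f (τ a)) k k' hk hk' ?_
  rw [Category.assoc, ← it_mB_snd f _ (D.hστ a), ← Category.assoc, h, Category.assoc, it_mB_snd,
    Category.assoc]

theorem bc_lift (a : K) (Ω : Type u) [Field Ω] [IsSepClosed Ω] (m : Spec (.of Ω) ⟶ pullback f (τ a)) :
    ∃ m' : Spec (.of Ω) ⟶ pullback f t, m' ≫ Etcore.PullbackSys.proj T τ f c t D.ht a = m := by
  obtain ⟨m₁, hm₁⟩ := D.lift a Ω (m ≫ pullback.snd f (τ a))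
  refine ⟨pullback.lift (m ≫ pullback.fst f (τ a)) m₁ ?_, ?_⟩
  · rw [← D.ht a, ← Category.assoc m₁, hm₁, Category.assoc, Category.assoc, pullback.condition]
  · apply pullback.hom_ext
    · rw [Category.assoc, Etcore.PullbackSys.proj_fst, pullback.lift_fst]
    · rw [Category.assoc, Etcore.PullbackSys.proj_snd, pullback.lift_snd_assoc, hm₁]

/-- Base change of procyclic covers. -/
noncomputable def bc : CycData (Etcore.PullbackSys.sys T τ D.hτ f) (fun a => pullback.fst f (τ a))
    (Etcore.PullbackSys.cone T τ D.hτ f c t D.ht) (pullback.fst f t) n where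
  hτ a b h := Etcore.PullbackSys.mapp_fst T τ D.hτ f h
  hc := Etcore.PullbackSys.isLimitCone T τ D.hτ f c t D.ht D.hc
  ht a := Etcore.PullbackSys.proj_fst T τ f c t D.ht a
  aff a := MorphismProperty.pullback_fst _ _ (D.aff a)
  et a := MorphismProperty.pullback_fst _ _ (D.et a)
  surj a := MorphismProperty.pullback_fst _ _ (D.surj a)
  σ := mB f D.σ D.hσt
  σa a := mB f (D.σa a) (D.hστ a)
  hσ a := by
    change mB f D.σ D.hσt ≫ Etcore.PullbackSys.proj T τ f c t D.ht a =
      Etcore.PullbackSys.proj T τ f c t D.ht a ≫ mB f (D.σa a) (D.hστ a)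
    apply pullback.hom_ext
    · rw [Category.assoc, Etcore.PullbackSys.proj_fst, mB_fst, Category.assoc, mB_fst,
        Etcore.PullbackSys.proj_fst]
    · rw [Category.assoc, Etcore.PullbackSys.proj_snd, mB_snd_assoc, Category.assoc, mB_snd,
        Etcore.PullbackSys.proj_snd_assoc, D.hσ]
  hσT a b h := by
    change mB f (D.σa a) (D.hστ a) ≫ Etcore.PullbackSys.mapp T τ D.hτ f h =
      Etcore.PullbackSys.mapp T τ D.hτ f h ≫ mB f (D.σa b) (D.hστ b)
    apply pullback.hom_ext
    · rw [Category.assoc, Etcore.PullbackSys.mapp_fst, mB_fst, Category.assoc, mB_fst,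
        Etcore.PullbackSys.mapp_fst]
    · rw [Category.assoc, Etcore.PullbackSys.mapp_snd, mB_snd_assoc, Category.assoc, mB_snd,
        Etcore.PullbackSys.mapp_snd_assoc, D.hσT h]
  hσt := mB_fst f _ _
  hστ a := mB_fst f _ _
  N := D.N
  N_pos := D.N_pos
  ord a := by
    change it (mB f (D.σa a) (D.hστ a)) (D.N a) = 𝟙 (pullback f (τ a))
    apply pullback.hom_ext
    · rw [it_mB_fst, Category.id_comp]
    · rw [it_mB_snd, D.ord, Category.comp_id, Category.id_comp]
  trans a Ω _ _ m m' h := bc_trans D f a Ω m m' h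
  free a Ω _ _ m k k' hk hk' h := bc_free D f a Ω m k k' hk hk' h
  lift a Ω _ _ m := bc_lift D f a Ω m
  grow := D.grow

end BaseChange

end Groth.Agent.Sga4h.CycField
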