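import Groth.Prelude.Def_EtDual
import Groth.Agent.Sga4h.EtaleRes
import Groth.Agent.Sga4h.SecSupp
import Groth.Agent.Etrest.Site0
import Groth.Agent.Dix.EtaleSieve

/-!
# Sections of `j_* j^{-1} F` for an open immersion `j : U ⟶ X`

`IsUPart j k` for `k : W ⟶ V` in `X.Etale`: `W` is the open subscheme of `V` lying over `U`.
* `R j F := (push j).obj ((restrAlong j).obj F)` with `eta j F : F ⟶ R j F`
* `cls j k hk : F(W) → (R j F)(V)`, bijective, compatible with restriction and with `eta`.
-/

set_option autoImplicit false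

universe u

open CategoryTheory CategoryTheory.Limits AlgebraicGeometry Opposite

namespace Groth.Agent.Sga4h.UPart

open EtaleRes SecSupp

variable {X U : Scheme.{u}} (j : U ⟶ X) [IsOpenImmersion j]

/-- The open part of `V` over `U`. -/
noncomputable abbrev part (V : X.Etale) : X.Etale := (EtShriek.compEtale j).obj ((EtCoh.bc j).obj V)

/-- The inclusion of the open part. -/
noncomputable abbrev inc (V : X.Etale) : part j V ⟶ V := (compBcAdj j).counit.app V

/-- `W` is the open subscheme of `V` over `U`. -/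
structure IsUPart {W V : X.Etale} (k : W ⟶ V) : Prop where
  isOpen : IsOpenImmersion k.left
  range : ∀ v : V.left, v ∈ Set.range k.left ↔ V.hom v ∈ Set.range j

theorem inc_left (V : X.Etale) : (inc j V).left = pullback.fst V.hom j := rfl

theorem isOpen_fst {Y : Scheme.{u}} (g : Y ⟶ X) : IsOpenImmersion (pullback.fst g j) := inferInstance

theorem mem_range_fst {Y : Scheme.{u}} (g : Y ⟶ X) (y : Y) :
    y ∈ Set.range (pullback.fst g j) ↔ g y ∈ Set.range j := by
  rw [Scheme.Pullback.range_fst]
  rfl

theorem isUPart_inc (V : X.Etale) : IsUPart j (inc j V) where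
  isOpen := isOpen_fst j (Y := V.left) V.hom
  range v := mem_range_fst j (Y := V.left) V.hom v

variable {j}

theorem hom_hom {T V : X.Etale} (h : T ⟶ V) (t : T.left) : V.hom (h.left t) = T.hom t := by
  have e : h.left ≫ V.hom = T.hom := MorphismProperty.Over.w h
  exact congrArg (fun k : T.left ⟶ X => k t) e

omit [IsOpenImmersion j] in
theorem Fac.range {T : X.Etale} (h : Fac j T) (t : T.left) : T.hom t ∈ Set.range j := by
  obtain ⟨a, ha⟩ := h
  exact ⟨a t, congrArg (fun k : T.left ⟶ X => k t) ha⟩

theorem fac_of_range {T : X.Etale} (h : ∀ t : T.left, T.hom t ∈ Set.range j) : Fac j T := by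
  refine ⟨IsOpenImmersion.lift j T.hom ?_, IsOpenImmersion.lift_fac _ _ _⟩
  rintro _ ⟨t, rfl⟩
  exact h t

variable {W V : X.Etale} {k : W ⟶ V}

theorem IsUPart.fac (hk : IsUPart j k) : Fac j W := by
  apply fac_of_range
  intro t
  rw [← hom_hom k t]
  exact (hk.range _).1 ⟨t, rfl⟩

omit [IsOpenImmersion j] in
theorem IsUPart.mono (hk : IsUPart j k) : Mono k := by
  constructor
  intro T a b hab
  have := hk.isOpen
  apply MorphismProperty.Over.Hom.ext
  rw [← cancel_mono k.left]
  exact congrArg (fun l => l.left) hab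

theorem IsUPart.exists_lift (hk : IsUPart j k) {T : X.Etale} (h : T ⟶ V) (hT : Fac j T) :
    ∃ h' : T ⟶ W, h' ≫ k = h := by
  have := hk.isOpen
  have h1 : Set.range h.left ⊆ Set.range k.left := by
    rintro _ ⟨t, rfl⟩
    rw [hk.range, hom_hom h t]
    exact Fac.range hT t
  let l : T.left ⟶ W.left := IsOpenImmersion.lift k.left h.left h1
  have hl : l ≫ k.left = h.left := IsOpenImmersion.lift_fac _ _ _
  have e1 : k.left ≫ V.hom = W.hom := MorphismProperty.Over.w k
  have e2 : h.left ≫ V.hom = T.hom := MorphismProperty.Over.w h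
  refine ⟨MorphismProperty.Over.homMk l ?_ trivial, ?_⟩
  · exact (congrArg (fun m => l ≫ m) e1).symm.trans ((Category.assoc _ _ _).symm.trans
      ((congrArg (fun m => m ≫ V.hom) hl).trans e2))
  · apply MorphismProperty.Over.Hom.ext
    exact hl

/-- The comparison map. -/
noncomputable def lft (hk : IsUPart j k) : part j V ⟶ W :=
  (hk.exists_lift (inc j V) (isUPart_inc j V).fac).choose

theorem lft_comp (hk : IsUPart j k) : lft hk ≫ k = inc j V :=
  (hk.exists_lift (inc j V) (isUPart_inc j V).fac).choose_spec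

theorem isIso_lft (hk : IsUPart j k) : IsIso (lft hk) := by
  obtain ⟨l, hl⟩ := (isUPart_inc j V).exists_lift k hk.fac
  have := hk.mono
  have := (isUPart_inc j V).mono
  refine ⟨l, ?_, ?_⟩
  · rw [← cancel_mono (inc j V), Category.assoc, hl, lft_comp, Category.id_comp]
  · rw [← cancel_mono k, Category.assoc, lft_comp, hl, Category.id_comp]

variable [EtCoh.BCCont j] [EtShriek.JCont j]

variable (j) in
/-- `j_* j^{-1} F`. -/
noncomputable abbrev R (F : EtCoh.Ab X) : EtCoh.Ab X := (EtCoh.push j).obj ((EtShriek.restrAlong j).obj F)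

variable (j) in
/-- The unit `F ⟶ j_* j^{-1} F`. -/
noncomputable abbrev eta (F : EtCoh.Ab X) : F ⟶ R j F := (restrPushAdj j).unit.app F

/-- Sections of `j_* j^{-1} F` over `V` are sections of `F` over the open part of `V`. -/
noncomputable def toPart {F : EtCoh.Ab X} {V : X.Etale} (x : EtCoh.sect (R j F) V) :
    EtCoh.sect F (part j V) := x

/-- Sections of `j_* j^{-1} F` over `V` are sections of `F` over the open part of `V`. -/
noncomputable def ofPart {F : EtCoh.Ab X} {V : X.Etale} (x : EtCoh.sect F (part j V)) :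
    EtCoh.sect (R j F) V := x

theorem toPart_ofPart {F : EtCoh.Ab X} {V : X.Etale} (x : EtCoh.sect F (part j V)) :
    toPart (j := j) (ofPart x) = x := rfl

theorem ofPart_toPart {F : EtCoh.Ab X} {V : X.Etale} (x : EtCoh.sect (R j F) V) :
    ofPart (toPart x) = x := rfl

theorem toPart_injective {F : EtCoh.Ab X} {V : X.Etale} :
    Function.Injective (toPart (j := j) (F := F) (V := V)) := fun x y h => h

theorem toPart_add {F : EtCoh.Ab X} {V : X.Etale} (x y : EtCoh.sect (R j F) V) :
    toPart (x + y) = toPart x + toPart y := rfl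

theorem toPart_zero {F : EtCoh.Ab X} {V : X.Etale} :
    toPart (0 : EtCoh.sect (R j F) V) = 0 := rfl

variable (j) in
/-- The map of open parts. -/
noncomputable abbrev partMap {V V' : X.Etale} (a : V' ⟶ V) : part j V' ⟶ part j V :=
  (EtShriek.compEtale j).map ((EtCoh.bc j).map a)

omit [EtCoh.BCCont j] [EtShriek.JCont j] in
theorem partMap_inc {V V' : X.Etale} (a : V' ⟶ V) : partMap j a ≫ inc j V = inc j V' ≫ a :=
  (compBcAdj j).counit.naturality a

theorem toPart_map {F : EtCoh.Ab X} {V V' : X.Etale} (a : V' ⟶ V) (x : EtCoh.sect (R j F) V) :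
    toPart ((R j F).obj.map a.op x) = F.obj.map (partMap j a).op (toPart x) := rfl

theorem toPart_eta {F : EtCoh.Ab X} {V : X.Etale} (s : EtCoh.sect F V) :
    toPart ((eta j F).hom.app (op V) s) = F.obj.map (inc j V).op s := rfl

/-- The section of `j_* j^{-1} F` over `V` attached to a section of `F` over the open part of `V`. -/
noncomputable def cls {F : EtCoh.Ab X} (hk : IsUPart j k) (t : EtCoh.sect F W) : EtCoh.sect (R j F) V :=
  F.obj.map (lft hk).op t

theorem cls_bijective {F : EtCoh.Ab X} (hk : IsUPart j k) :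
    Function.Bijective (cls (F := F) hk) := by
  have := isIso_lft hk
  have : IsIso (F.obj.map (lft hk).op) := inferInstance
  exact ConcreteCategory.bijective_of_isIso (F.obj.map (lft hk).op)

theorem cls_add {F : EtCoh.Ab X} (hk : IsUPart j k) (s t : EtCoh.sect F W) :
    cls hk (s + t) = cls hk s + cls hk t := map_add (F.obj.map (lft hk).op).hom s t

theorem cls_zsmul {F : EtCoh.Ab X} (hk : IsUPart j k) (m : ℤ) (t : EtCoh.sect F W) :
    cls hk (m • t) = m • cls hk t := map_zsmul (F.obj.map (lft hk).op).hom m t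

theorem cls_nsmul {F : EtCoh.Ab X} (hk : IsUPart j k) (m : ℕ) (t : EtCoh.sect F W) :
    cls hk (m • t) = m • cls hk t := map_nsmul (F.obj.map (lft hk).op).hom m t

theorem cls_neg {F : EtCoh.Ab X} (hk : IsUPart j k) (t : EtCoh.sect F W) :
    cls hk (-t) = -cls hk t := map_neg (F.obj.map (lft hk).op).hom t

theorem toPart_cls {F : EtCoh.Ab X} (hk : IsUPart j k) (t : EtCoh.sect F W) :
    toPart (cls hk t) = F.obj.map (lft hk).op t := rfl

/-- The unit on sections. -/
theorem eta_app {F : EtCoh.Ab X} (hk : IsUPart j k) (s : EtCoh.sect F V) :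
    (eta j F).hom.app (op V) s = cls hk (F.obj.map k.op s) := by
  have h1 : (eta j F).hom.app (op V) s = F.obj.map (inc j V).op s := rfl
  rw [h1, cls, Etrest.Site0.map_map_apply, lft_comp]

/-- Restriction. -/
theorem map_cls {F : EtCoh.Ab X} {W' V' : X.Etale} {k' : W' ⟶ V'} (hk : IsUPart j k) (hk' : IsUPart j k')
    (a : V' ⟶ V) (b : W' ⟶ W) (hab : b ≫ k = k' ≫ a) (t : EtCoh.sect F W) :
    (R j F).obj.map a.op (cls hk t) = cls hk' (F.obj.map b.op t) := by
  let au : part j V' ⟶ part j V := (EtShriek.compEtale j).map ((EtCoh.bc j).map a)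
  have h1 : (R j F).obj.map a.op (cls hk t) = F.obj.map au.op (F.obj.map (lft hk).op t) := rfl
  have h2 : au ≫ inc j V = inc j V' ≫ a := (compBcAdj j).counit.naturality a
  have h3 : au ≫ lft hk = lft hk' ≫ b := by
    have := hk.mono
    rw [← cancel_mono k, Category.assoc, lft_comp, h2, Category.assoc, hab, ← Category.assoc, lft_comp]
  rw [h1, cls, Etrest.Site0.map_map_apply, Etrest.Site0.map_map_apply, h3]

/-- Functoriality. -/
theorem app_cls {F G : EtCoh.Ab X} (φ : F ⟶ G) (hk : IsUPart j k) (t : EtCoh.sect F W) :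
    ((EtCoh.push j).map ((EtShriek.restrAlong j).map φ)).hom.app (op V) (cls hk t) =
      cls hk (φ.hom.app (op W) t) :=
  ConcreteCategory.congr_hom (φ.hom.naturality (lft hk).op) t

/-- The two versions of the unit. -/
theorem unitApp_comp (F : EtCoh.Ab X) :
    EtDual.unitApp j F ≫ (EtCoh.push j).map ((pullIsoRestr j).hom.app F) = eta j F :=
  unit_pullIsoRestr j F

theorem epi_unitApp_iff (F : EtCoh.Ab X) : Epi (EtDual.unitApp j F) ↔ Epi (eta j F) := by
  have h := unitApp_comp (j := j) F
  have hi : IsIso ((EtCoh.push j).map ((pullIsoRestr j).hom.app F)) := inferInstance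
  constructor
  · intro h1
    rw [← h]
    exact epi_comp _ _
  · intro h1
    have h2 : EtDual.unitApp j F = eta j F ≫ inv ((EtCoh.push j).map ((pullIsoRestr j).hom.app F)) := by
      rw [← h, Category.assoc, IsIso.hom_inv_id, Category.comp_id]
    rw [h2]
    exact epi_comp _ _

theorem mono_unitApp_iff (F : EtCoh.Ab X) : Mono (EtDual.unitApp j F) ↔ Mono (eta j F) := by
  have h := unitApp_comp (j := j) F
  have hi : IsIso ((EtCoh.push j).map ((pullIsoRestr j).hom.app F)) := inferInstance
  constructor
  · intro h1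
    rw [← h]
    exact mono_comp _ _
  · intro h1
    have h2 : EtDual.unitApp j F = eta j F ≫ inv ((EtCoh.push j).map ((pullIsoRestr j).hom.app F)) := by
      rw [← h, Category.assoc, IsIso.hom_inv_id, Category.comp_id]
    rw [h2]
    exact mono_comp _ _

/-- The cokernels of the two versions of the unit. -/
noncomputable def cokerIso (F : EtCoh.Ab X) : cokernel (EtDual.unitApp j F) ≅ cokernel (eta j F) :=
  haveI hi : IsIso ((EtCoh.push j).map ((pullIsoRestr j).hom.app F)) := inferInstance
  cokernel.mapIso _ _ (Iso.refl _) (asIso ((EtCoh.push j).map ((pullIsoRestr j).hom.app F)))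
    (by rw [asIso_hom, unitApp_comp]; exact (Category.id_comp _).symm)

end Groth.Agent.Sga4h.UPart
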