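import Groth.Agent.Sga4h.SecSupp
import Groth.Agent.Sga4h.ConstCrit
import Groth.Agent.Etrest.Site0
import Groth.Agent.Dix.EtaleSieve
import Groth.Agent.CurvesA.Torsor

/-!
# Sheaves locally generated by one section

`IsGen F s Z n` : the compatible family of sections `s` generates the abelian étale sheaf `F` locally, vanishes
locally off `Z`, and has order `n` over the points of `Z`.
* `nonempty_iso` : `IsGen F s Z n` and `IsGen G t Z n` imply `F ≅ G`.
* `IsGen.mono`, `IsGen.quot` : passage from `n = 0` to `F / n`.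
-/

set_option autoImplicit false
universe u
open CategoryTheory CategoryTheory.Limits AlgebraicGeometry Opposite

namespace Groth.Agent.Sga4h.GenIso

open ConstCrit SecSupp

variable {X : Scheme.{u}}

/-- `s` generates `F` locally, vanishes locally off `Z`, and has order `n` along `Z`. -/
structure IsGen (F : EtCoh.Ab X) (s : ∀ V : X.Etale, EtCoh.sect F V) (Z : Set X) (n : ℕ) : Prop where
  res : ∀ {V V' : X.Etale} (a : V' ⟶ V), F.obj.map a.op (s V) = s V'
  gen : ∀ (V : X.Etale) (t : EtCoh.sect F V) (v : V.left), ∃ (V' : X.Etale) (a : V' ⟶ V),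
    (∃ v' : V'.left, a.left v' = v) ∧ ∃ m : ℤ, F.obj.map a.op t = m • s V'
  van : ∀ (V : X.Etale) (m : ℤ) (v : V.left), V.hom v ∈ Z → m • s V = 0 → (n : ℤ) ∣ m
  sup : ∀ (V : X.Etale) (v : V.left), V.hom v ∉ Z → ∃ (V' : X.Etale) (a : V' ⟶ V),
    (∃ v' : V'.left, a.left v' = v) ∧ s V' = 0
  tor : ∀ V, n • s V = 0

/-- No point of `V` lies over `Z`. -/
def Off (Z : Set X) (V : X.Etale) : Prop := ∀ v : V.left, V.hom v ∉ Z

theorem off_of_hom (Z : Set X) {W V : X.Etale} (a : W ⟶ V) (h : Off Z V) : Off Z W := by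
  intro w hw
  have e : a.left ≫ V.hom = W.hom := MorphismProperty.Over.w a
  have h1 : V.hom (a.left w) = W.hom w := congrArg (fun k : W.left ⟶ X => k w) e
  exact h (a.left w) (by rw [h1]; exact hw)

/-- The presheaf `V ↦ ℤ/n` if `V` meets `Z`, `0` otherwise. -/
noncomputable abbrev zQ (Z : Set X) (n : ℕ) : X.Etaleᵒᵖ ⥤ AddCommGrpCat.{u + 1} :=
  quotP (Off Z) (fun a h => off_of_hom Z a h) (constPre X n)

variable {F : EtCoh.Ab X} {s : ∀ V : X.Etale, EtCoh.sect F V} {Z : Set X} {n : ℕ}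

theorem IsGen.eq_zero_of_off (h : IsGen F s Z n) (V : X.Etale) (hV : Off Z V) : s V = 0 := by
  apply Etrest.Site0.eq_zero_of_local
  intro v
  obtain ⟨V', a, hv, h0⟩ := h.sup V v (hV v)
  exact ⟨V', a, hv, (h.res a).trans h0⟩

/-- The presheaf map to `F`. -/
noncomputable def psi (h : IsGen F s Z n) : zQ Z n ⟶ F.obj where
  app V := AddCommGrpCat.ofHom (QuotientAddGroup.lift _ (mulHom (s V.unop) (h.tor V.unop)) (by
    rintro a (ha | ha)
    · obtain ⟨k, rfl⟩ := exists_int a
      rw [AddMonoidHom.mem_ker, mulHom_apply, h.eq_zero_of_off V.unop ha, smul_zero]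
    · subst ha; exact map_zero _))
  naturality V W f := by
    ext a
    obtain ⟨a, rfl⟩ := QuotientAddGroup.mk_surjective a
    obtain ⟨k, rfl⟩ := exists_int a
    change mulHom.{u} (s W.unop) (h.tor W.unop) ⟨(k : ZMod n)⟩ =
      F.obj.map f (mulHom.{u} (s V.unop) (h.tor V.unop) ⟨(k : ZMod n)⟩)
    rw [mulHom_apply, mulHom_apply]
    have h1 := map_zsmul (F.obj.map f).hom k (s V.unop)
    refine Eq.trans ?_ h1.symm
    congr 1
    exact (h.res f.unop).symm

theorem psi_app (h : IsGen F s Z n) (V : X.Etale) (k : ℤ) :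
    (psi h).app (op V) (QuotientAddGroup.mk (⟨(k : ZMod n)⟩ : ULift.{u + 1} (ZMod n))) = k • s V :=
  mulHom_apply.{u + 1, u} (s V) (h.tor V) k

theorem isIso_sheafify_psi (h : IsGen F s Z n) :
    IsIso ((presheafToSheaf X.smallEtaleTopology AddCommGrpCat.{u + 1}).map (psi h)) := by
  have h1 : Presheaf.IsLocallyInjective X.smallEtaleTopology (psi h) := by
    refine ⟨fun {V} x y hxy => ?_⟩
    have hxy' : x = y := by
      rw [← sub_eq_zero]
      have hz : (psi h).app V (x - y) = 0 := by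
        have := map_sub ((psi h).app V).hom x y
        exact this.trans (sub_eq_zero.2 hxy)
      obtain ⟨a, ha⟩ := QuotientAddGroup.mk_surjective (x - y)
      obtain ⟨k, rfl⟩ := exists_int a
      rw [← ha] at hz ⊢
      have hz' : k • s V.unop = 0 := (psi_app h V.unop k).symm.trans hz
      refine (QuotientAddGroup.eq_zero_iff _).2 ?_
      by_cases hV : Off Z V.unop
      · exact Or.inl hV
      · right
        unfold Off at hV
        push Not at hV
        obtain ⟨v, hv⟩ := hV
        have hd := h.van V.unop k v hv hz'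
        have : (k : ZMod n) = 0 := (ZMod.intCast_zmod_eq_zero_iff_dvd k n).2 hd
        rw [this]
        rfl
    rw [hxy']
    rw [Etcore.Cover.mem_iff]
    intro w
    exact ⟨V.unop, 𝟙 _, w, rfl, rfl⟩
  have h2 : Presheaf.IsLocallySurjective X.smallEtaleTopology (psi h) := by
    refine ⟨fun {V} t => ?_⟩
    rw [Etcore.Cover.mem_iff]
    intro w
    obtain ⟨V', a, ⟨v', hv'⟩, m, hm⟩ := h.gen V t w
    exact ⟨V', a, v', ⟨QuotientAddGroup.mk (⟨(m : ZMod n)⟩ : ULift.{u + 1} (ZMod n)),
      (psi_app h V' m).trans hm.symm⟩, hv'⟩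
  have h3 : X.smallEtaleTopology.W (psi h) :=
    (GrothendieckTopology.W_iff_isLocallyBijective _ _).2 ⟨h1, h2⟩
  exact (GrothendieckTopology.W_iff _ _).1 h3

/-- `F` is the sheafification of the model. -/
theorem nonempty_iso_model (h : IsGen F s Z n) :
    Nonempty ((presheafToSheaf X.smallEtaleTopology AddCommGrpCat.{u + 1}).obj (zQ Z n) ≅ F) := by
  have := isIso_sheafify_psi h
  exact ⟨asIso ((presheafToSheaf X.smallEtaleTopology AddCommGrpCat.{u + 1}).map (psi h)) ≪≫
    asIso ((sheafificationAdjunction X.smallEtaleTopology AddCommGrpCat.{u + 1}).counit.app F)⟩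

/-- Uniqueness of sheaves locally generated by a section of given order and support. -/
theorem nonempty_iso {G : EtCoh.Ab X} {t : ∀ V : X.Etale, EtCoh.sect G V} (h : IsGen F s Z n)
    (h' : IsGen G t Z n) : Nonempty (F ≅ G) := by
  obtain ⟨e⟩ := nonempty_iso_model h
  obtain ⟨e'⟩ := nonempty_iso_model h'
  exact ⟨e.symm ≪≫ e'⟩

theorem nsmul_id_app (F : EtCoh.Ab X) (n : ℕ) (V : X.Etale) (x : EtCoh.sect F V) :
    (n • 𝟙 F : F ⟶ F).hom.app (op V) x = n • x := by
  induction n with
  | zero => rw [zero_smul, zero_smul]; rfl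
  | succ n ih =>
    rw [add_smul, add_smul, one_smul, one_smul]
    exact congrArg (fun z => z + x) ih

theorem mono_of_injective {F G : EtCoh.Ab X} (φ : F ⟶ G)
    (h : ∀ (V : X.Etale) (x : EtCoh.sect F V), φ.hom.app (op V) x = 0 → x = 0) : Mono φ := by
  have h1 : Mono φ.hom := by
    rw [NatTrans.mono_iff_mono_app]
    intro V
    rw [AddCommGrpCat.mono_iff_injective, injective_iff_map_eq_zero]
    intro x hx
    exact h V.unop x hx
  exact (sheafToPresheaf X.smallEtaleTopology AddCommGrpCat.{u + 1}).mono_of_mono_map h1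

/-- Multiplication by `n ≠ 0` is injective on a sheaf locally generated by a section of infinite order. -/
theorem IsGen.mono (h : IsGen F s Z 0) (n : ℕ) (hn : n ≠ 0) : Mono (n • 𝟙 F : F ⟶ F) := by
  apply mono_of_injective
  intro V x hx
  rw [nsmul_id_app] at hx
  apply Etrest.Site0.eq_zero_of_local
  intro v
  obtain ⟨V', a, ⟨v', hv'⟩, m, hm⟩ := h.gen V x v
  have h1 : (n * m : ℤ) • s V' = 0 := by
    have h2 : n • F.obj.map a.op x = 0 := by
      have := map_nsmul (F.obj.map a.op).hom n x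
      rw [hx] at this
      exact this.symm.trans (map_zero (F.obj.map a.op).hom)
    rw [hm] at h2
    rw [mul_smul, natCast_zsmul]
    exact h2
  have e : a.left ≫ V.hom = V'.hom := MorphismProperty.Over.w a
  have h3 : V.hom v = V'.hom v' := by
    rw [← hv']
    exact congrArg (fun k : V'.left ⟶ X => k v') e
  by_cases hv : V.hom v ∈ Z
  · have h2 := h.van V' (n * m) v' (by rw [← h3]; exact hv) h1
    have hm0 : m = 0 := by
      simp only [Nat.cast_zero, zero_dvd_iff, mul_eq_zero, Nat.cast_eq_zero] at h2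
      exact h2.resolve_left hn
    refine ⟨V', a, ⟨v', hv'⟩, ?_⟩
    rw [hm, hm0, zero_smul]
  · obtain ⟨V'', b, ⟨v'', hv''⟩, h0⟩ := h.sup V' v' (by rw [← h3]; exact hv)
    refine ⟨V'', b ≫ a, ⟨v'', ?_⟩, ?_⟩
    · rw [← hv', ← hv'']
      rfl
    · rw [← Etrest.Site0.map_map_apply, hm]
      have := map_zsmul (F.obj.map b.op).hom m (s V')
      refine this.trans ?_
      have h4 : F.obj.map b.op (s V') = 0 := (h.res b).trans h0
      rw [show (F.obj.map b.op).hom (s V') = 0 from h4, smul_zero]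

/-- The quotient by `n`. -/
theorem IsGen.quot (h : IsGen F s Z 0) (n : ℕ) (hn : n ≠ 0) :
    IsGen (cokernel (n • 𝟙 F : F ⟶ F)) (fun V => (cokernel.π (n • 𝟙 F : F ⟶ F)).hom.app (op V) (s V)) Z n := by
  have hm := h.mono n hn
  let S : ShortComplex (EtCoh.Ab X) := ShortComplex.mk (n • 𝟙 F : F ⟶ F) (cokernel.π _) (cokernel.condition _)
  have hS : S.ShortExact :=
    { exact := ShortComplex.exact_of_g_is_cokernel _ (cokernelIsCokernel _)
      mono_f := hm
      epi_g := inferInstanceAs (Epi (cokernel.π (n • 𝟙 F : F ⟶ F))) }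
  let π : F ⟶ cokernel (n • 𝟙 F : F ⟶ F) := cokernel.π _
  have nat : ∀ {V V' : X.Etale} (a : V' ⟶ V) (x : EtCoh.sect F V),
      (cokernel (n • 𝟙 F : F ⟶ F)).obj.map a.op (π.hom.app (op V) x) =
        π.hom.app (op V') (F.obj.map a.op x) := fun a x =>
    (ConcreteCategory.congr_hom (π.hom.naturality a.op) x).symm
  refine ⟨?_, ?_, ?_, ?_, ?_⟩
  · intro V V' a
    rw [nat, h.res]
  · intro V t v
    have hepi : Epi π := inferInstance
    rw [Dix.EtaleSieve.epi_iff] at hepi
    obtain ⟨V₁, a₁, ⟨v₁, hv₁⟩, t₁, ht₁⟩ := hepi V t v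
    obtain ⟨V₂, a₂, ⟨v₂, hv₂⟩, m, hm⟩ := h.gen V₁ t₁ v₁
    refine ⟨V₂, a₂ ≫ a₁, ⟨v₂, ?_⟩, m, ?_⟩
    · rw [← hv₁, ← hv₂]
      rfl
    · rw [← Etrest.Site0.map_map_apply, ← ht₁, nat, hm]
      exact map_zsmul (π.hom.app (op V₂)).hom m (s V₂)
  · intro V m v hv hmv
    have h1 : π.hom.app (op V) (m • s V) = 0 := (map_zsmul (π.hom.app (op V)).hom m (s V)).trans hmv
    obtain ⟨c, hc⟩ := CurvesA.Torsor.sections_exact hS V _ h1
    have hc' : n • c = m • s V := (nsmul_id_app F n V c).symm.trans hc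
    obtain ⟨V', a, ⟨v', hv'⟩, k, hk⟩ := h.gen V c v
    have h2 : (n * k : ℤ) • s V' = m • s V' := by
      rw [mul_smul, natCast_zsmul, ← hk]
      have h3 := congrArg (fun z => F.obj.map a.op z) hc'
      have h4 : F.obj.map a.op (n • c) = n • F.obj.map a.op c := map_nsmul (F.obj.map a.op).hom n c
      have h5 : F.obj.map a.op (m • s V) = m • s V' := by
        rw [← h.res a]
        exact map_zsmul (F.obj.map a.op).hom m (s V)
      exact h4.symm.trans (h3.trans h5)
    have h6 : (m - n * k : ℤ) • s V' = 0 := by rw [sub_smul, h2, sub_self]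
    have e : a.left ≫ V.hom = V'.hom := MorphismProperty.Over.w a
    have h3 : V.hom v = V'.hom v' := by
      rw [← hv']
      exact congrArg (fun k : V'.left ⟶ X => k v') e
    have h7 := h.van V' _ v' (by rw [← h3]; exact hv) h6
    simp only [Nat.cast_zero, zero_dvd_iff] at h7
    exact ⟨k, by linarith⟩
  · intro V v hv
    obtain ⟨V', a, hv', h0⟩ := h.sup V v hv
    refine ⟨V', a, hv', ?_⟩
    rw [h0]
    exact map_zero ((cokernel.π (n • 𝟙 F : F ⟶ F)).hom.app (op V')).hom
  · intro V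
    have h1 := map_nsmul (π.hom.app (op V)).hom n (s V)
    refine h1.symm.trans ?_
    have h2 : π.hom.app (op V) ((n • 𝟙 F : F ⟶ F).hom.app (op V) (s V)) = 0 :=
      congrArg (fun (z : F ⟶ cokernel (n • 𝟙 F : F ⟶ F)) => z.hom.app (op V) (s V))
        (cokernel.condition (n • 𝟙 F : F ⟶ F))
    rw [nsmul_id_app] at h2
    exact h2

end Groth.Agent.Sga4h.GenIso
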