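import Groth.Agent.Sga4h.DualEt
import Groth.Agent.Sga4h.ModDRHom
import Groth.Agent.Cohder.RDInt

/-!
# The dual of the prelude, computed on complexes

`EtModD.dual (Q J) E ≅ Q (A.D E)` for `J` K-injective (and termwise injective), `A = DualEt.dualData J`, for every
complex `E`; in particular `RHom(E, -)` exists for every complex `E`.
-/

set_option autoImplicit false

universe w w' v v' v₃ u u' u₃

open CategoryTheory CategoryTheory.Limits AlgebraicGeometry HomologicalComplex

namespace Groth.Agent.Sga4h.DualQ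

section Abstract

open Groth.Agent.Dcoh.DerAbs

variable {A : Type u} [Category.{v} A] [Abelian A] [HasDerivedCategory.{w} A]
  {B : Type u'} [Category.{v'} B] [Abelian B]
  {D : Type u₃} [Category.{v₃} D] [Abelian D] [HasDerivedCategory.{w'} D]
  (T : A ⥤ B ⥤ D) [T.Additive] [∀ X, (T.obj X).Additive]
  [∀ (K₁ : CochainComplex A ℤ) (K₂ : CochainComplex B ℤ), CochainComplex.HasMapBifunctor K₁ K₂ T]
  [HasColimitsOfShape ℕ B] [HasColimitsOfShape ℕ D] [HasExactColimitsOfShape ℕ D]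
  [∀ M : A, PreservesColimitsOfShape ℕ (T.obj M)]
  (P : ObjectProperty (CochainComplex A ℤ))
  (hcone : ∀ {K L : CochainComplex A ℤ} (f : K ⟶ L), P K → P L → P (CochainComplex.mappingCone f))
  (hres : ∀ K : CochainComplex A ℤ, ∃ (L : CochainComplex A ℤ) (f : L ⟶ K), P L ∧ QuasiIso f)
  (hac : ∀ K : CochainComplex A ℤ, P K → K.Acyclic → ∀ M : B,
    (((T.flip.obj M).mapHomologicalComplex (ComplexShape.up ℤ)).obj K).Acyclic)

include hcone hres hac in
/-- `- ⊗^L E` has a right adjoint, whose value on `Q J`, `J` K-injective, is `Q (H J)`. -/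
theorem rhomCx (hD : Dcoh.DerHo.HasKInj D) (E : CochainComplex B ℤ)
    {H : CochainComplex D ℤ ⥤ CochainComplex A ℤ} (adj : T.map₂CochainComplex.flip.obj E ⊣ H)
    (LT : DerivedCategory A ⥤ DerivedCategory D)
    (α : DerivedCategory.Q ⋙ LT ⟶ T.map₂CochainComplex.flip.obj E ⋙ DerivedCategory.Q)
    [LT.IsLeftDerivedFunctor α (HomologicalComplex.quasiIso A (ComplexShape.up ℤ))] :
    LT.IsLeftAdjoint ∧ ∀ (RT : DerivedCategory D ⥤ DerivedCategory A) (_ : LT ⊣ RT)
      (J : CochainComplex D ℤ) (_ : J.IsKInjective),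
      Nonempty (RT.obj (DerivedCategory.Q.obj J) ≅ DerivedCategory.Q.obj (H.obj J)) := by
  have hiso := fun K hK => TensRHom.isIso_counit T P hcone hres hac E LT α K hK
  refine ⟨PerfC.RHomAdjP.isLeftAdjoint _ _ adj LT α P hres hiso hD, ?_⟩
  intro RT dadj J hJ
  have := PerfC.RHomAdjP.isIso_toRightAdjoint _ _ adj LT α P hres hiso RT dadj J
  exact ⟨(asIso (PerfC.RHomAdjP.toRightAdjoint _ _ adj LT α RT dadj J)).symm⟩

end Abstract

section DEq

variable {C : Type u} [Category.{v} C] [Abelian C] {T : C ⥤ C ⥤ C} [T.Additive] [∀ X, (T.obj X).Additive]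
  [∀ (K₁ K₂ : CochainComplex C ℤ), CochainComplex.HasMapBifunctor K₁ K₂ T]
  [∀ E : CochainComplex C ℤ, (T.map₂CochainComplex.flip.obj E).IsLeftAdjoint]

theorem D_eq (A : Refl.DualData T) (E : CochainComplex C ℤ) :
    A.D E = (T.map₂CochainComplex.flip.obj E).rightAdjoint.obj A.J := rfl

/-- The dual of an object in degree zero. -/
noncomputable def DSingleIso (A : Refl.DualData T) {F : C} {H : C ⥤ C} [H.Additive] (adj : T.flip.obj F ⊣ H) :
    A.D ((CochainComplex.singleFunctor C 0).obj F) ≅ (H.mapHomologicalComplex (ComplexShape.up ℤ)).obj A.J :=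
  ((Adjunction.ofIsLeftAdjoint _).rightAdjointUniq (TensRHom.adjSingle T adj)).app A.J

/-- The cohomology of the dual of an object in degree zero. -/
noncomputable def homologyDSingle [HasInjectiveResolutions C] (A : Refl.DualData T) {F : C} {H : C ⥤ C} [H.Additive]
    (adj : T.flip.obj F ⊣ H) {X : C} (i : (CochainComplex.singleFunctor C 0).obj X ⟶ A.J) (hi : QuasiIso i) (n : ℕ)
    (m : ℤ) (hm : (n : ℤ) = m) :
    (A.D ((CochainComplex.singleFunctor C 0).obj F)).homology m ≅ (H.rightDerived n).obj X :=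
  have := A.kinj
  (homologyFunctor C (ComplexShape.up ℤ) m).mapIso (DSingleIso A adj) ≪≫ (Cohder.RDInt.isoH H i n m hm).symm

lemma exactAt_D_single [HasInjectiveResolutions C] (A : Refl.DualData T) {F : C} {H : C ⥤ C} [H.Additive]
    (adj : T.flip.obj F ⊣ H) {X : C} (i : (CochainComplex.singleFunctor C 0).obj X ⟶ A.J) (hi : QuasiIso i) (m : ℤ)
    (hm : m < 0) : (A.D ((CochainComplex.singleFunctor C 0).obj F)).ExactAt m := by
  have := A.kinj
  let R := injectiveResolution X
  have h1 : QuasiIso ((H.mapHomologicalComplex (ComplexShape.up ℤ)).map (Cohder.RDInt.lift R i)) :=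
    Cohder.RDInt.quasiIso_map H _
  have h2 : ((H.mapHomologicalComplex (ComplexShape.up ℤ)).obj R.cochainComplex).ExactAt m := by
    refine ExactAt.of_isZero ?_
    exact H.map_isZero (R.cochainComplex.isZero_of_isStrictlyGE 0 m hm)
  have h3 := (exactAt_iff_of_quasiIsoAt
    ((H.mapHomologicalComplex (ComplexShape.up ℤ)).map (Cohder.RDInt.lift R i)) m).1 h2
  exact h3.of_iso (DSingleIso A adj).symm

end DEq

section Concrete

open Groth.Agent.Sga4h.ModDGood Groth.Agent.Sga4h.ModDLTensor Groth.Agent.Sga4h.TensRHom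

attribute [local instance] HasDerivedCategory.standard

variable {Λ : Type (u + 1)} [CommRing Λ] {X : Scheme.{u}}

theorem dualCx (E : CochainComplex (EtModW.Mod Λ X) ℤ) [EtModD.HasLTensorCx E]
    {H : CochainComplex (EtModW.Mod Λ X) ℤ ⥤ CochainComplex (EtModW.Mod Λ X) ℤ}
    (adj : (EtModD.tensorCx Λ X).flip.obj E ⊣ H) :
    (EtModD.LTensorCx E).IsLeftAdjoint ∧ ∀ (RT : EtModD.D Λ X ⥤ EtModD.D Λ X) (_ : EtModD.LTensorCx E ⊣ RT)
      (J : CochainComplex (EtModW.Mod Λ X) ℤ) (_ : J.IsKInjective),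
      Nonempty (RT.obj (DerivedCategory.Q.obj J) ≅ DerivedCategory.Q.obj (H.obj J)) :=
  rhomCx (EtModD.tensorBi Λ X) good (fun f => good_mappingCone f)
    (fun K => by
      obtain ⟨P, f, _, hP, hf, _⟩ := exists_good K
      exact ⟨_, f, hP, hf⟩)
    (fun K hK hK' M => acyclic_tensor K hK hK' M) TensRHom.hasKInj E adj
    (EtModD.LTensorCx E)
    ((EtModD.tensorCxQ E).totalLeftDerivedCounit
      DerivedCategory.Q (HomologicalComplex.quasiIso (EtModW.Mod Λ X) (ComplexShape.up ℤ)))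

end Concrete

section Bridge

attribute [local instance] HasDerivedCategory.standard
attribute [local instance 5000] CategoryTheory.Abelian.toPreadditive
  CategoryTheory.Preadditive.preadditiveHasZeroMorphisms
open scoped Groth.Agent.Sga4h.ModInst

variable {Λ : Type (u + 1)} [CommRing Λ] {X : Scheme.{u}}

theorem bridge (G : CochainComplex (EtModW.Mod Λ X) ℤ ⥤ CochainComplex (EtModW.Mod Λ X) ℤ ⥤
      CochainComplex (EtModW.Mod Λ X) ℤ) (hG : G = (EtModD.tensorBi Λ X).map₂CochainComplex)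
    (E : CochainComplex (EtModW.Mod Λ X) ℤ)
    {P : (CochainComplex (EtModW.Mod Λ X) ℤ ⥤ CochainComplex (EtModW.Mod Λ X) ℤ) → Prop}
    (h : ∀ {H : CochainComplex (EtModW.Mod Λ X) ℤ ⥤ CochainComplex (EtModW.Mod Λ X) ℤ}, (G.flip.obj E ⊣ H) → P H) :
    P ((EtModD.tensorBi Λ X).map₂CochainComplex.flip.obj E).rightAdjoint := by
  subst hG
  exact h (Adjunction.ofIsLeftAdjoint _)

/-- `RHom(E, -)` exists for every complex, and is computed by the duality functor on complexes. -/
theorem main (E : CochainComplex (EtModW.Mod Λ X) ℤ) [EtModD.HasLTensorCx E] :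
    (EtModD.LTensorCx E).IsLeftAdjoint ∧ ∀ (RT : EtModD.D Λ X ⥤ EtModD.D Λ X) (_ : EtModD.LTensorCx E ⊣ RT)
      (J : CochainComplex (EtModW.Mod Λ X) ℤ) (_ : J.IsKInjective),
      Nonempty (RT.obj (DerivedCategory.Q.obj J) ≅ DerivedCategory.Q.obj
        (((EtModD.tensorBi Λ X).map₂CochainComplex.flip.obj E).rightAdjoint.obj J)) :=
  bridge (EtModD.tensorCx Λ X) ModInst.tensorCx_eq E
    (P := fun H => (EtModD.LTensorCx E).IsLeftAdjoint ∧ ∀ (RT : EtModD.D Λ X ⥤ EtModD.D Λ X)
      (_ : EtModD.LTensorCx E ⊣ RT) (J : CochainComplex (EtModW.Mod Λ X) ℤ) (_ : J.IsKInjective),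
      Nonempty (RT.obj (DerivedCategory.Q.obj J) ≅ DerivedCategory.Q.obj (H.obj J))) (fun adj => dualCx E adj)

instance hasRHom (E : CochainComplex (EtModW.Mod Λ X) ℤ) [EtModD.HasLTensorCx E] : EtModD.HasRHom E := (main E).1

theorem nonempty_dualIso (J : CochainComplex (EtModW.Mod Λ X) ℤ) (hJ : J.IsKInjective)
    (hJ' : ∀ n, Injective (J.X n)) (E : CochainComplex (EtModW.Mod Λ X) ℤ) [EtModD.HasLTensorCx E]
    [EtModD.HasRHom E] :
    Nonempty (EtModD.dual (DerivedCategory.Q.obj J) E ≅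
      DerivedCategory.Q.obj ((DualEt.dualData J hJ hJ').D E)) :=
  (D_eq (DualEt.dualData J hJ hJ') E).symm ▸ (main E).2 _ (EtModD.RHomAdj E) J hJ

/-- The cohomology of the dual of a sheaf: the local `Ext` sheaves. -/
theorem nonempty_homologyDSingle (J : CochainComplex (EtModW.Mod Λ X) ℤ) (hJ : J.IsKInjective)
    (hJ' : ∀ n, Injective (J.X n)) {M : EtModW.Mod Λ X}
    (i : (CochainComplex.singleFunctor (EtModW.Mod Λ X) 0).obj M ⟶ J) (hi : QuasiIso i)
    (F : EtModW.Mod Λ X) [EtModD.HasSheafHom F] (n : ℕ) (m : ℤ) (hm : (n : ℤ) = m) :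
    Nonempty (((DualEt.dualData J hJ hJ').D ((CochainComplex.singleFunctor (EtModW.Mod Λ X) 0).obj F)).homology m ≅
      (EtModD.extSheaf F n).obj M) :=
  ⟨homologyDSingle (DualEt.dualData J hJ hJ') (ModDRHom.flipAdj F) i hi n m hm⟩

theorem exactAt_dual_single (J : CochainComplex (EtModW.Mod Λ X) ℤ) (hJ : J.IsKInjective)
    (hJ' : ∀ n, Injective (J.X n)) {M : EtModW.Mod Λ X}
    (i : (CochainComplex.singleFunctor (EtModW.Mod Λ X) 0).obj M ⟶ J) (hi : QuasiIso i)
    (F : EtModW.Mod Λ X) (m : ℤ) (hm : m < 0) :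
    ((DualEt.dualData J hJ hJ').D ((CochainComplex.singleFunctor (EtModW.Mod Λ X) 0).obj F)).ExactAt m :=
  exactAt_D_single (DualEt.dualData J hJ hJ') (ModDRHom.flipAdj F) i hi m hm

end Bridge

end Groth.Agent.Sga4h.DualQ
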