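import Groth.Agent.Sga4h.DualCx
import Groth.Agent.PerfC.TensorSymm

/-!
# Self-adjointness of the duality functor on complexes, the evaluation map `K ⟶ D (D K)`

`T : C ⥤ C ⥤ C` symmetric bifunctor, `D = dualFun T J`.
-/

set_option autoImplicit false
set_option backward.defeqAttrib.useBackward true
set_option backward.isDefEq.respectTransparency false

universe w v₁ v₂ v₃ u₁ u₂ u₃

namespace Groth.Agent.Sga4h.DualSelf

open CategoryTheory Category Limits HomologicalComplex CochainComplex Opposite
open Groth.Agent.Dcoh.CxFun Groth.Agent.Sga4h.HomCx Groth.Agent.Sga4h.DualCx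

/-- Symmetry data for a bifunctor. -/
structure SymmData {C : Type u₁} [Category.{v₁} C] (T : C ⥤ C ⥤ C) where
  /-- the symmetry isomorphism -/
  σ : ∀ M N : C, (T.obj N).obj M ≅ (T.obj M).obj N
  nat₁ : ∀ {M M' : C} (f : M ⟶ M') (N : C), (T.obj N).map f ≫ (σ M' N).hom =
    (σ M N).hom ≫ (T.map f).app N
  nat₂ : ∀ (M : C) {N N' : C} (f : N ⟶ N'), (T.map f).app M ≫ (σ M N').hom =
    (σ M N).hom ≫ (T.obj M).map f
  symm : ∀ M N : C, (σ M N).hom ≫ (σ N M).hom = 𝟙 _

section Braid

variable {C : Type u₁} [Category.{v₁} C] [Preadditive C] {T : C ⥤ C ⥤ C} [T.Additive]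
  [∀ X, (T.obj X).Additive]
  [∀ (K₁ K₂ : CochainComplex C ℤ), CochainComplex.HasMapBifunctor K₁ K₂ T] (S : SymmData T)

/-- The braiding on complexes. -/
noncomputable def braid (K L : CochainComplex C ℤ) :
    (T.map₂CochainComplex.obj K).obj L ≅ (T.map₂CochainComplex.obj L).obj K :=
  Groth.Agent.PerfC.TensorSymm.symmCx T S.σ S.nat₁ S.nat₂ K L

@[reassoc]
lemma braid_naturality_left {K K' : CochainComplex C ℤ} (f : K ⟶ K') (L : CochainComplex C ℤ) :
    (T.map₂CochainComplex.map f).app L ≫ (braid S K' L).hom =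
      (braid S K L).hom ≫ (T.map₂CochainComplex.obj L).map f :=
  Groth.Agent.PerfC.TensorSymm.symmCx_naturality_left T S.σ S.nat₁ S.nat₂ f L

@[reassoc]
lemma braid_naturality_right (K : CochainComplex C ℤ) {L L' : CochainComplex C ℤ} (f : L ⟶ L') :
    (T.map₂CochainComplex.obj K).map f ≫ (braid S K L').hom =
      (braid S K L).hom ≫ (T.map₂CochainComplex.map f).app K :=
  Groth.Agent.PerfC.TensorSymm.symmCx_naturality_right T S.σ S.nat₁ S.nat₂ K f

lemma ι_braid (K L : CochainComplex C ℤ) (p q n : ℤ) (h : p + q = n) :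
    ιMapBifunctor K L T (ComplexShape.up ℤ) p q n h ≫ (braid S K L).hom.f n =
      (p * q).negOnePow • ((S.σ (L.X q) (K.X p)).hom ≫
        ιMapBifunctor L K T (ComplexShape.up ℤ) q p n (by dsimp; lia)) := by
  dsimp [braid, Groth.Agent.PerfC.TensorSymm.symmCx]
  rw [ι_mapBifunctorFlipIso_inv_assoc, Linear.units_smul_comp]
  congr 1
  erw [Groth.Agent.PerfC.TensorSymm.ι_bimapNat_f]
  rfl

lemma braid_braid (K L : CochainComplex C ℤ) : (braid S K L).hom ≫ (braid S L K).hom = 𝟙 _ := by
  ext n : 1
  refine mapBifunctor.hom_ext (fun p q h => ?_)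
  dsimp at h ⊢
  erw [← Category.assoc, ι_braid S K L p q n h, Linear.units_smul_comp, Category.assoc,
    ι_braid S L K q p n (by lia), Linear.comp_units_smul, smul_smul, mul_comm q p, ← Category.assoc, S.symm,
    Category.id_comp, Category.comp_id]
  simp

end Braid

section SelfAdj

variable {C : Type u₁} [Category.{v₁} C] [Abelian C] {T : C ⥤ C ⥤ C} [T.Additive] [∀ X, (T.obj X).Additive]
  [∀ (K₁ K₂ : CochainComplex C ℤ), CochainComplex.HasMapBifunctor K₁ K₂ T]
  [∀ E : CochainComplex C ℤ, (T.map₂CochainComplex.flip.obj E).IsLeftAdjoint] (S : SymmData T)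
  (J : CochainComplex C ℤ)

/-- `(K ⟶ D E) ≃ (E ⟶ D K)`. -/
noncomputable def selfEquiv (K E : CochainComplex C ℤ) :
    (K ⟶ (dualFun T J).obj (op E)) ≃ (E ⟶ (dualFun T J).obj (op K)) :=
  (dualEquiv T K E J).symm.trans (((braid S K E).homFromEquiv).trans (dualEquiv T E K J))

lemma selfEquiv_apply {K E : CochainComplex C ℤ} (f : K ⟶ (dualFun T J).obj (op E)) :
    selfEquiv S J K E f = dualEquiv T E K J ((braid S K E).inv ≫ (dualEquiv T K E J).symm f) := rfl

omit [∀ (E : CochainComplex C ℤ), (T.map₂CochainComplex.flip.obj E).IsLeftAdjoint] in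
lemma braid_inv (K L : CochainComplex C ℤ) : (braid S K L).inv = (braid S L K).hom := by
  rw [← cancel_epi (braid S K L).hom, Iso.hom_inv_id, braid_braid]

lemma selfEquiv_selfEquiv {K E : CochainComplex C ℤ} (f : K ⟶ (dualFun T J).obj (op E)) :
    selfEquiv S J E K (selfEquiv S J K E f) = f := by
  rw [selfEquiv_apply, selfEquiv_apply, Equiv.symm_apply_apply, braid_inv, braid_inv, ← Category.assoc,
    braid_braid, Category.id_comp, Equiv.apply_symm_apply]

lemma dualEquiv_symm_naturality_left {K K' E : CochainComplex C ℤ} (f : K ⟶ K')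
    (g : K' ⟶ (dualFun T J).obj (op E)) :
    (dualEquiv T K E J).symm (f ≫ g) = (T.map₂CochainComplex.map f).app E ≫ (dualEquiv T K' E J).symm g := by
  rw [Equiv.symm_apply_eq, dualEquiv_naturality_left, Equiv.apply_symm_apply]

lemma dualEquiv_symm_naturality_mid {K E E' : CochainComplex C ℤ} (f : E ⟶ E')
    (g : K ⟶ (dualFun T J).obj (op E')) :
    (dualEquiv T K E J).symm (g ≫ (dualFun T J).map f.op) =
      (T.map₂CochainComplex.obj K).map f ≫ (dualEquiv T K E' J).symm g := by
  rw [Equiv.symm_apply_eq, dualEquiv_naturality_mid, Equiv.apply_symm_apply]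

lemma selfEquiv_comp {K K' E : CochainComplex C ℤ} (f : K ⟶ K') (g : K' ⟶ (dualFun T J).obj (op E)) :
    selfEquiv S J K E (f ≫ g) = selfEquiv S J K' E g ≫ (dualFun T J).map f.op := by
  rw [selfEquiv_apply, selfEquiv_apply, dualEquiv_symm_naturality_left, ← dualEquiv_naturality_mid,
    braid_inv, braid_inv, braid_naturality_right_assoc]

lemma selfEquiv_comp_map {K E E' : CochainComplex C ℤ} (f : E ⟶ E') (g : K ⟶ (dualFun T J).obj (op E')) :
    selfEquiv S J K E (g ≫ (dualFun T J).map f.op) = f ≫ selfEquiv S J K E' g := by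
  have h := selfEquiv_comp S J f (selfEquiv S J K E' g)
  rw [selfEquiv_selfEquiv] at h
  rw [← h, selfEquiv_selfEquiv]

/-- The duality functor is adjoint to itself. -/
noncomputable def selfAdj : (dualFun T J).rightOp ⊣ dualFun T J :=
  Adjunction.mkOfHomEquiv
    { homEquiv := fun K E =>
        { toFun := fun f => selfEquiv S J E.unop K f.unop
          invFun := fun g => (selfEquiv S J K E.unop g).op
          left_inv := fun f => congr_arg Quiver.Hom.op (selfEquiv_selfEquiv S J f.unop)
          right_inv := fun g => selfEquiv_selfEquiv S J g }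
      homEquiv_naturality_left_symm := fun {K K' E} f g => by
        dsimp
        rw [selfEquiv_comp]
        rfl
      homEquiv_naturality_right := fun {K E E'} f g => by
        dsimp
        rw [selfEquiv_comp]
        rfl }

include S in
lemma isRightAdjoint_dualFun : (dualFun T J).IsRightAdjoint := (selfAdj S J).isRightAdjoint

/-- The evaluation map `K ⟶ D (D K)`. -/
noncomputable def ev (K : CochainComplex C ℤ) :
    K ⟶ (dualFun T J).obj (op ((dualFun T J).obj (op K))) :=
  selfEquiv S J ((dualFun T J).obj (op K)) K (𝟙 _)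

@[reassoc]
lemma ev_naturality {K L : CochainComplex C ℤ} (f : K ⟶ L) :
    f ≫ ev S J L = ev S J K ≫ (dualFun T J).map ((dualFun T J).map f.op).op := by
  dsimp only [ev]
  rw [← selfEquiv_comp_map, ← selfEquiv_comp, Category.id_comp, Category.comp_id]

@[reassoc (attr := simp)]
lemma ev_comp_map_ev (K : CochainComplex C ℤ) :
    ev S J ((dualFun T J).obj (op K)) ≫ (dualFun T J).map (ev S J K).op = 𝟙 _ := by
  rw [ev, ← selfEquiv_comp, Category.comp_id, ev, selfEquiv_selfEquiv]

/-- A map `K ⟶ D E` is determined by the evaluation: `f = ev K ≫ D (f')` where `f' : E ⟶ D K` is its transpose. -/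
lemma selfEquiv_eq {K E : CochainComplex C ℤ} (f : K ⟶ (dualFun T J).obj (op E)) :
    selfEquiv S J K E f = ev S J E ≫ (dualFun T J).map f.op := by
  rw [ev, ← selfEquiv_comp, Category.comp_id]

end SelfAdj

end Groth.Agent.Sga4h.DualSelf
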