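import Groth.Agent.EtpbcA.FLCExact
import Groth.Agent.Sga5.EtKilled
import Groth.Agent.S0657

/-!
# Devissage of finite locally constant sheaves

`flc_prime`: a property of finite locally constant sheaves killed by powers of `m`, stable under
isomorphisms and extensions, may be checked on sheaves killed by a prime divisor of `m`.

`devissage`: on a connected scheme, reduction to constant sheaves `Z/ℓ` on finite étale covers, given
stability under retracts and finite étale direct images.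
-/

set_option autoImplicit false
universe u
open CategoryTheory CategoryTheory.Limits AlgebraicGeometry Opposite

namespace Groth.Agent.Sga4h.FlcDev

open Groth.Agent.EtpbcA.FLCExact Groth.Agent.Sga5.EtKilled

variable {X : Scheme.{u}}

section split

variable {F : EtCoh.Ab X} (ℓ n' : ℕ)

/-- The extension of `F / F[ℓ]` by `F[ℓ]`. -/
theorem exists_ext (hF : EtCoh.IsFiniteLocallyConstant F) (hk : EtCoh.KilledBy (ℓ * n') F) :
    ∃ S : ShortComplex (EtCoh.Ab X), S.ShortExact ∧ S.X₂ = F ∧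
      EtCoh.IsFiniteLocallyConstant S.X₁ ∧ EtCoh.KilledBy ℓ S.X₁ ∧
      EtCoh.IsFiniteLocallyConstant S.X₃ ∧ EtCoh.KilledBy n' S.X₃ := by
  let a : F ⟶ F := ℓ • 𝟙 F
  have hK := flc_kernel a hF hF
  have hK1 : EtCoh.KilledBy ℓ (kernel a) := by
    rw [killedBy_iff, ← cancel_mono (kernel.ι a), zero_comp, Preadditive.nsmul_comp, Category.id_comp]
    have h1 := kernel.condition a
    simpa [a, Preadditive.comp_nsmul] using h1
  let S : ShortComplex (EtCoh.Ab X) := ShortComplex.mk (kernel.ι a) (cokernel.π (kernel.ι a))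
    (cokernel.condition _)
  have hS : S.ShortExact := ShortComplex.ShortExact.mk' (ShortComplex.exact_cokernel _) inferInstance
    inferInstance
  have hQ1 : EtCoh.KilledBy n' (cokernel (kernel.ι a)) := by
    -- the monomorphism to `F`
    let ι : cokernel (kernel.ι a) ⟶ F := cokernel.desc _ a (kernel.condition a)
    have hι : Mono ι := by
      have : ι = Abelian.factorThruCoimage a := by
        rw [← cancel_epi (cokernel.π (kernel.ι a)), cokernel.π_desc]
      rw [this]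
      infer_instance
    rw [killedBy_iff, ← cancel_mono ι, ← cancel_epi (cokernel.π (kernel.ι a)), zero_comp, comp_zero,
      Preadditive.nsmul_comp, Category.id_comp, Preadditive.comp_nsmul, cokernel.π_desc]
    rw [killedBy_iff, mul_comm, mul_smul] at hk
    exact hk
  exact ⟨S, hS, rfl, hK, hK1, flc_cokernel _ hK hF, hQ1⟩

end split

/-- Reduction to sheaves killed by a prime. -/
theorem flc_prime (m : ℕ) (hm0 : m ≠ 0) (P : EtCoh.Ab X → Prop)
    (h0 : ∀ F, IsZero F → P F)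
    (hext : ∀ S : ShortComplex (EtCoh.Ab X), S.ShortExact → P S.X₁ → P S.X₃ → P S.X₂)
    (hp : ∀ ℓ : ℕ, ℓ.Prime → ℓ ∣ m → ∀ F, EtCoh.IsFiniteLocallyConstant F → EtCoh.KilledBy ℓ F → P F)
    (N : ℕ) (F : EtCoh.Ab X) (hF : EtCoh.IsFiniteLocallyConstant F) (hk : EtCoh.KilledBy (m ^ N) F) :
    P F := by
  have key : ∀ d : ℕ, d ≠ 0 → (∀ p : ℕ, p.Prime → p ∣ d → p ∣ m) → ∀ F : EtCoh.Ab X,
      EtCoh.IsFiniteLocallyConstant F → EtCoh.KilledBy d F → P F := by
    intro d
    induction d using induction_on_primes with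
    | zero => exact fun h => absurd rfl h
    | one =>
      intro _ _ F _ hk
      apply h0
      rw [killedBy_iff, one_smul] at hk
      rw [IsZero.iff_id_eq_zero]
      exact hk
    | prime_mul p a hp' ih =>
      intro hne hd F hF hk
      obtain ⟨S, hS, rfl, h1, h1', h3, h3'⟩ := exists_ext p a hF hk
      exact hext S hS (hp p hp' (hd p hp' (Dvd.intro a rfl)) _ h1 h1')
        (ih (fun h => hne (by rw [h, mul_zero])) (fun q hq hqa => hd q hq (Dvd.dvd.mul_left hqa p)) _ h3 h3')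
  exact key (m ^ N) (pow_ne_zero N hm0) (fun p hp hpd => hp.dvd_of_dvd_pow hpd) F hF hk

/-- Reduction to constant sheaves on finite étale covers. -/
theorem devissage_aux {C : Scheme.{u}} [ConnectedSpace C] (m : ℕ) (hm0 : m ≠ 0)
    (P : ∀ ⦃C' : Scheme.{u}⦄ (_ : C' ⟶ C), EtCoh.Ab C' → Prop)
    (hiso : ∀ ⦃C' : Scheme.{u}⦄ (π : C' ⟶ C) (F G : EtCoh.Ab C'), (F ≅ G) → P π F → P π G)
    (h0 : ∀ ⦃C' : Scheme.{u}⦄ (π : C' ⟶ C) (F : EtCoh.Ab C'), IsZero F → P π F)
    (hext : ∀ ⦃C' : Scheme.{u}⦄ (π : C' ⟶ C) (S : ShortComplex (EtCoh.Ab C')), S.ShortExact →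
      P π S.X₁ → P π S.X₃ → P π S.X₂)
    (hret : ∀ F G : EtCoh.Ab C, Retract F G → P (𝟙 C) G → P (𝟙 C) F)
    (hpush : ∀ ⦃C' : Scheme.{u}⦄ (π : C' ⟶ C) [IsFinite π] [AlgebraicGeometry.Etale π] (F : EtCoh.Ab C),
      P π ((EtCoh.pull π).obj F) → P (𝟙 C) ((EtCoh.push π).obj ((EtCoh.pull π).obj F)))
    (hconst : ∀ ⦃C' : Scheme.{u}⦄ (π : C' ⟶ C) [IsFinite π] [AlgebraicGeometry.Etale π] (ℓ : ℕ),
      ℓ.Prime → ℓ ∣ m → P π (EtCoh.const C' (ZMod ℓ)))
    (htr : ∀ ⦃C' : Scheme.{u}⦄ (π : C' ⟶ C) [IsFinite π] [AlgebraicGeometry.Etale π] (d : ℕ),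
      (∀ (Ω : Type u) [Field Ω] [IsAlgClosed Ω] (η : Spec (CommRingCat.of Ω) ⟶ C),
        Nat.card {t : Spec (CommRingCat.of Ω) ⟶ C' // t ≫ π = η} = d) → ∀ (ℓ : ℕ), ℓ.Coprime d →
      ∀ (F : EtCoh.Ab C), EtCoh.KilledBy ℓ F →
        ∃ r : (EtCoh.push π).obj ((EtCoh.pull π).obj F) ⟶ F, (EtCoh.pullPushAdj π).unit.app F ≫ r = 𝟙 F)
    (N : ℕ) (F : EtCoh.Ab C) (hF : EtCoh.IsFiniteLocallyConstant F) (hk : EtCoh.KilledBy (m ^ N) F) :
    P (𝟙 C) F := by
  refine flc_prime m hm0 (fun F => P (𝟙 C) F) (h0 _) (hext _) (fun ℓ hℓ hℓm F hF hk => ?_) N F hF hk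
  have : Fact ℓ.Prime := ⟨hℓ⟩
  obtain ⟨C', π, hπ, hπ', d, hd, hdc, n, G, φ, hG0, ⟨e⟩, hG⟩ := S0657.result C ℓ F hF hk
  -- the filtration
  have h1 : ∀ i, i ≤ n → P π (G i) := by
    intro i
    induction i with
    | zero => exact fun _ => h0 _ _ hG0
    | succ i ih =>
      intro hi
      obtain ⟨hm', ⟨e'⟩⟩ := hG i hi
      refine hext π (ShortComplex.mk (φ i) (cokernel.π (φ i)) (cokernel.condition _))
        (ShortComplex.ShortExact.mk' (ShortComplex.exact_cokernel _) inferInstance inferInstance)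
        (ih (by omega)) ?_
      exact hiso π _ _ e'.symm (hconst π ℓ hℓ hℓm)
  have h2 : P π ((EtCoh.pull π).obj F) := hiso π _ _ e (h1 n le_rfl)
  obtain ⟨r, hr⟩ := htr π d hdc ℓ hd F hk
  exact hret F _ ⟨(EtCoh.pullPushAdj π).unit.app F, r, hr⟩ (hpush π F h2)

end Groth.Agent.Sga4h.FlcDev
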