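import Groth.Agent.S3106
import Groth.Agent.Etcore.FinEtPts
import Groth.Agent.Etbase.EtSections
import Groth.Agent.EtpbcB.TorsionBasic
import Groth.Agent.Sga4h.FlcDev

/-!
# The trace retraction of a finite etale morphism of constant degree

`π : T ⟶ S` finite etale with all geometric fibres of cardinality `d`, `F` an abelian sheaf on `S_et`
killed by `ℓ` prime to `d`: then `F ⟶ π_* π^* F` is a split monomorphism (`exists_retract`).
-/

set_option autoImplicit false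
universe u

open CategoryTheory CategoryTheory.Limits AlgebraicGeometry Opposite

namespace Groth.Agent.Sga4h.EtTrace764

variable {T S : Scheme.{u}}

/-- Geometric points of a fibre product. -/
theorem natCard_lifts (π : T ⟶ S) [IsFinite π] [Etale π] (Ω : Type u) [Field Ω] [IsAlgClosed Ω]
    (η : Spec (CommRingCat.of Ω) ⟶ S) (x : Spec (CommRingCat.of Ω)) :
    Nat.card {t : Spec (CommRingCat.of Ω) ⟶ T // t ≫ π = η} = π.finrank (η x) := by
  have h1 := Etcore.FinEtPts.card_sections (pullback.snd π η) x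
  rw [Scheme.Hom.finrank_pullback_snd] at h1
  rw [← h1]
  refine Nat.card_congr
    { toFun := fun t => ⟨pullback.lift t.1 (𝟙 _) (t.2.trans (Category.id_comp _).symm),
        pullback.lift_snd _ _ _⟩
      invFun := fun s => ⟨s.1 ≫ pullback.fst π η, by
        rw [Category.assoc, pullback.condition, reassoc_of% s.2]⟩
      left_inv := fun t => Subtype.ext (pullback.lift_fst _ _ _)
      right_inv := fun s => Subtype.ext (pullback.hom_ext ?_ ?_) }
  · exact pullback.lift_fst _ _ _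
  · exact (pullback.lift_snd _ _ _).trans s.2.symm

theorem finrank_eq (π : T ⟶ S) [IsFinite π] [Etale π] (d : ℕ)
    (hd : ∀ (Ω : Type u) [Field Ω] [IsAlgClosed Ω] (η : Spec (CommRingCat.of Ω) ⟶ S),
      Nat.card {t : Spec (CommRingCat.of Ω) ⟶ T // t ≫ π = η} = d) (s : S) : π.finrank s = d := by
  obtain ⟨Ω, _, _, η, hη⟩ := Etbase.EtSections.exists_geometricPoint s
  rw [← hη, ← natCard_lifts π Ω η default, hd Ω η]

/-- The trace splitting. -/
theorem exists_retract (π : T ⟶ S) [IsFinite π] [Etale π] (d : ℕ)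
    (hd : ∀ (Ω : Type u) [Field Ω] [IsAlgClosed Ω] (η : Spec (CommRingCat.of Ω) ⟶ S),
      Nat.card {t : Spec (CommRingCat.of Ω) ⟶ T // t ≫ π = η} = d) (ℓ : ℕ) (hℓ : ℓ.Coprime d)
    (F : EtCoh.Ab S) (hF : EtCoh.KilledBy ℓ F) :
    ∃ r : (EtCoh.push π).obj ((EtCoh.pull π).obj F) ⟶ F, (EtCoh.pullPushAdj π).unit.app F ≫ r = 𝟙 F := by
  have hb : EtCoh.BCCont π := EtCoh.bcCont π
  obtain ⟨Tr, hTr⟩ := S3106.result π d (finrank_eq π d hd)
  rw [EtpbcB.TorsionBasic.killedBy_iff] at hF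
  by_cases h1 : ℓ = 1
  · subst h1
    rw [one_smul] at hF
    exact ⟨0, by rw [comp_zero, hF]⟩
  -- an inverse of `d` modulo `ℓ`
  obtain ⟨e, k, he⟩ : ∃ e k : ℕ, e * d = k * ℓ + 1 := by
    by_cases h0 : ℓ = 0
    · subst h0
      rw [Nat.coprime_zero_left] at hℓ
      exact ⟨1, 0, by rw [hℓ]⟩
    · obtain ⟨e, -, he⟩ := Nat.exists_mul_mod_eq_one_of_coprime hℓ.symm (by omega)
      refine ⟨e, d * e / ℓ, ?_⟩
      rw [mul_comm e d, mul_comm _ ℓ]
      conv_lhs => rw [← Nat.div_add_mod (d * e) ℓ, he]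
  refine ⟨e • Tr.app F, ?_⟩
  rw [Preadditive.comp_nsmul, hTr, ← mul_smul, he, add_smul, mul_smul, hF, smul_zero, zero_add, one_smul]

/-- Devissage of finite locally constant sheaves on a connected scheme to the constant sheaves `Z/ℓ` on finite
etale coverings. -/
theorem devissage {C : Scheme.{u}} [ConnectedSpace C] (m : ℕ) (hm0 : m ≠ 0)
    (P : ∀ ⦃C' : Scheme.{u}⦄ (_ : C' ⟶ C), EtCoh.Ab C' → Prop)
    (hiso : ∀ ⦃C' : Scheme.{u}⦄ (π : C' ⟶ C) (F G : EtCoh.Ab C'), (F ≅ G) → P π F → P π G)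
    (h0 : ∀ ⦃C' : Scheme.{u}⦄ (π : C' ⟶ C) (F : EtCoh.Ab C'), IsZero F → P π F)
    (hext : ∀ ⦃C' : Scheme.{u}⦄ (π : C' ⟶ C) (S : ShortComplex (EtCoh.Ab C')), S.ShortExact →
      P π S.X₁ → P π S.X₃ → P π S.X₂)
    (hret : ∀ F G : EtCoh.Ab C, Retract F G → P (𝟙 C) G → P (𝟙 C) F)
    (hpush : ∀ ⦃C' : Scheme.{u}⦄ (π : C' ⟶ C) [IsFinite π] [AlgebraicGeometry.Etale π] (F : EtCoh.Ab C),
      P π ((EtCoh.pull π).obj F) → P (𝟙 C) ((EtCoh.push π).obj ((EtCoh.pull π).obj F)))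
    (hconst : ∀ ⦃C' : Scheme.{u}⦄ (π : C' ⟶ C) [IsFinite π] [AlgebraicGeometry.Etale π] (ℓ : ℕ),
      ℓ.Prime → ℓ ∣ m → P π (EtCoh.const C' (ZMod ℓ)))
    (N : ℕ) (F : EtCoh.Ab C) (hF : EtCoh.IsFiniteLocallyConstant F) (hk : EtCoh.KilledBy (m ^ N) F) :
    P (𝟙 C) F :=
  FlcDev.devissage_aux m hm0 P hiso h0 hext hret hpush hconst
    (fun _ π _ _ d hd ℓ hℓ F hF => exists_retract π d hd ℓ hℓ F hF) N F hF hk

end Groth.Agent.Sga4h.EtTrace764
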