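import Mathlib.GroupTheory.QuotientGroup.Basic
import Mathlib.GroupTheory.Index
import Mathlib.Algebra.Exact.Basic
import Mathlib.Tactic.Ring

/-!
# Counting in exact sequences of finite abelian groups
-/

set_option autoImplicit false

namespace Groth.Agent.Sga4h.EulerCount

/-- Counting with kernel and image. -/
theorem card_ker_mul_range {A B : Type*} [AddCommGroup A] [AddCommGroup B] (g : A →+ B) :
    Nat.card A = Nat.card g.ker * Nat.card g.range := by
  rw [AddSubgroup.card_eq_card_quotient_mul_card_addSubgroup g.ker,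
    Nat.card_congr (QuotientAddGroup.quotientKerEquivRange g).toEquiv, mul_comm]

theorem card_range_eq {A B : Type*} [AddCommGroup A] [AddCommGroup B] (g : A →+ B)
    (h : Function.Injective g) : Nat.card g.range = Nat.card A :=
  (Nat.card_congr (AddMonoidHom.ofInjective h).toEquiv).symm

theorem card_range_of_surjective {A B : Type*} [AddCommGroup A] [AddCommGroup B] (g : A →+ B)
    (h : Function.Surjective g) : Nat.card g.range = Nat.card B := by
  rw [AddMonoidHom.range_eq_top.2 h]
  exact Nat.card_congr (AddSubgroup.topEquiv (G := B)).toEquiv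

theorem ker_eq_range {A B C : Type*} [AddCommGroup A] [AddCommGroup B] [AddCommGroup C]
    (f : A →+ B) (g : B →+ C) (h : Function.Exact f g) : g.ker = f.range := by
  ext x
  exact h x

theorem finite_of_exact {A B C : Type*} [AddCommGroup A] [AddCommGroup B] [AddCommGroup C]
    (f : A →+ B) (g : B →+ C) (h : Function.Exact f g) [Finite A] [Finite C] : Finite B := by
  classical
  let r : C → B := fun c => if hc : ∃ b, g b = c then hc.choose else 0
  have hr : ∀ b, g (r (g b)) = g b := by
    intro b
    have hc : ∃ b', g b' = g b := ⟨b, rfl⟩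
    simp only [r, dif_pos hc]
    exact hc.choose_spec
  refine Finite.of_surjective (fun p : A × C => f p.1 + r p.2) fun b => ?_
  obtain ⟨a, ha⟩ := (h (b - r (g b))).1 (by rw [map_sub, hr, sub_self])
  exact ⟨(a, g b), by simp [ha]⟩

theorem card_short {A B C : Type*} [AddCommGroup A] [AddCommGroup B] [AddCommGroup C]
    (f : A →+ B) (g : B →+ C) (hf : Function.Injective f) (h : Function.Exact f g)
    (hg : Function.Surjective g) : Nat.card B = Nat.card A * Nat.card C := by
  rw [card_ker_mul_range g, ker_eq_range f g h, card_range_eq f hf, card_range_of_surjective g hg]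

/-- The count for a six term exact sequence. -/
theorem card_six {A₀ B₀ C₀ A₁ B₁ C₁ : Type*} [AddCommGroup A₀] [AddCommGroup B₀] [AddCommGroup C₀]
    [AddCommGroup A₁] [AddCommGroup B₁] [AddCommGroup C₁]
    (f₀ : A₀ →+ B₀) (g₀ : B₀ →+ C₀) (d : C₀ →+ A₁) (f₁ : A₁ →+ B₁) (g₁ : B₁ →+ C₁)
    (h1 : Function.Injective f₀) (h2 : Function.Exact f₀ g₀) (h3 : Function.Exact g₀ d)
    (h4 : Function.Exact d f₁) (h5 : Function.Exact f₁ g₁) (h6 : Function.Surjective g₁) :
    Nat.card A₀ * Nat.card C₀ * Nat.card B₁ = Nat.card B₀ * Nat.card A₁ * Nat.card C₁ := by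
  have e1 : Nat.card B₀ = Nat.card A₀ * Nat.card g₀.range := by
    rw [card_ker_mul_range g₀, ker_eq_range f₀ g₀ h2, card_range_eq f₀ h1]
  have e2 : Nat.card C₀ = Nat.card g₀.range * Nat.card d.range := by
    rw [card_ker_mul_range d, ker_eq_range g₀ d h3]
  have e3 : Nat.card A₁ = Nat.card d.range * Nat.card f₁.range := by
    rw [card_ker_mul_range f₁, ker_eq_range d f₁ h4]
  have e4 : Nat.card B₁ = Nat.card f₁.range * Nat.card C₁ := by
    rw [card_ker_mul_range g₁, ker_eq_range f₁ g₁ h5, card_range_of_surjective g₁ h6]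
  rw [e1, e2, e3, e4]
  ring

end Groth.Agent.Sga4h.EulerCount
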