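import Groth.Agent.EtpbcA.FLCExact
import Groth.Agent.Etcore.EtInst
import Groth.Agent.Etrest.ConstBasic
import Groth.Agent.Sga5.EtKilled
import Groth.Agent.Sga4h.ConstCrit
import Groth.Agent.Sga4h.EulerCount

/-!
# Finite locally constant sheaves on a scheme with one point

`euler_point`: let `X` be a scheme with exactly one point, `n > 0`.  If `H^q(X, A) = 0` for `q ≥ 2` and
`A` killed by `n`, if `#H^1(X, ℤ/m) = m` for `m ∣ n` and if `H^1(X, A)` is finite, and trivial
whenever `Hom(A, ℤ/n) = 0`, then `#H^1(X, A) = #H^0(X, A)` for every finite locally constant `A`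
killed by `n`.
-/

set_option autoImplicit false
universe u
open CategoryTheory CategoryTheory.Limits AlgebraicGeometry Opposite Abelian

namespace Groth.Agent.Sga4h.EulerPoint

open Groth.Agent.EtpbcA.Germ Groth.Agent.EtpbcA.FLC Groth.Agent.Etcore.EtInst
open scoped Groth.Agent.Etcore.EtInst

variable {X : Scheme.{u}}

section stalk

variable {Ω : Type u} [Field Ω] [IsSepClosed Ω] (ξ : Spec (CommRingCat.of Ω) ⟶ X)

theorem exists_fib_top : Nonempty (Fib ξ (EtCoh.top X)) := by
  obtain ⟨t, -⟩ := EtpbcA.FLCExact.exists_fib ξ (EtCoh.top X) (ξ default) rfl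
  exact ⟨t⟩

/-- A global section with vanishing germ vanishes. -/
theorem sect_eq_zero [Subsingleton X] (F : EtCoh.Ab X) (t : Fib ξ (EtCoh.top X))
    (s : EtCoh.sect F (EtCoh.top X)) (h : germ ξ F t s = 0) : s = 0 := by
  rw [← map_zero (germ ξ F t), germ_eq_iff] at h
  obtain ⟨V, g, v, -, e⟩ := h
  refine sect_ext F s 0 fun x => ⟨V, g, ⟨pt ξ v, ?_⟩, e⟩
  exact Subsingleton.elim (α := X) _ _

theorem sect_eq_zero_of_stalk [Subsingleton X] (F : EtCoh.Ab X)
    (h : Subsingleton ((EtCoh.stalk ξ).obj F)) {U : X.Etale} (s : EtCoh.sect F U) : s = 0 := by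
  refine sect_ext F s 0 fun x => ?_
  obtain ⟨t, rfl⟩ := EtpbcA.FLCExact.exists_fib ξ U x (Subsingleton.elim (α := X) _ _)
  obtain ⟨V, g, v, hv, e⟩ := (germ_eq_iff ξ F t s 0).1 (Subsingleton.elim _ _)
  exact ⟨V, g, ⟨pt ξ v, by rw [← pt_fmap, hv]⟩, e⟩

/-- A sheaf with vanishing stalk at one geometric point vanishes. -/
theorem isZero_of_stalk [Subsingleton X] (F : EtCoh.Ab X)
    (h : Subsingleton ((EtCoh.stalk ξ).obj F)) : IsZero F := by
  rw [IsZero.iff_id_eq_zero]
  apply Sheaf.hom_ext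
  apply NatTrans.ext
  funext U
  ext s
  exact (sect_eq_zero_of_stalk ξ F h s).trans (sect_eq_zero_of_stalk ξ F h _).symm

theorem nontrivial_stalk [Subsingleton X] (F : EtCoh.Ab X) (h : ¬ IsZero F) :
    Nontrivial ((EtCoh.stalk ξ).obj F) := by
  by_contra h'
  exact h (isZero_of_stalk ξ F (not_nontrivial_iff_subsingleton.1 h'))

theorem finite_stalk [Subsingleton X] {F : EtCoh.Ab X} (hF : EtCoh.IsFiniteLocallyConstant F) :
    Finite ((EtCoh.stalk ξ).obj F) := by
  rw [flc_iff] at hF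
  obtain ⟨U, u, M, _, _, φ, h1, h2⟩ := hF (ξ default)
  obtain ⟨t, -⟩ := EtpbcA.FLCExact.exists_fib ξ U u h1
  exact Finite.of_surjective _ (h2 Ω ξ t).2

/-- The order of the stalk is multiplicative. -/
theorem card_stalk {S : ShortComplex (EtCoh.Ab X)} (hS : S.ShortExact) :
    Nat.card ((EtCoh.stalk ξ).obj S.X₂) =
      Nat.card ((EtCoh.stalk ξ).obj S.X₁) * Nat.card ((EtCoh.stalk ξ).obj S.X₃) := by
  have := hS.mono_f
  have := hS.epi_g
  have h1 : Mono ((EtCoh.stalk ξ).map S.f) := inferInstance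
  have h2 : Epi ((EtCoh.stalk ξ).map S.g) := inferInstance
  rw [AddCommGrpCat.mono_iff_injective] at h1
  rw [AddCommGrpCat.epi_iff_surjective] at h2
  exact EulerCount.card_short (stalkMap S.f ξ) (stalkMap S.g ξ) h1
    (EtpbcA.FLCExact.stalkExact_of_exact hS.exact Ω ξ) h2

end stalk

section count

/-- The Euler characteristic in a short exact sequence. -/
theorem euler_middle {S : ShortComplex (EtCoh.Ab X)} (hS : S.ShortExact)
    (h2 : Subsingleton (HH X S.X₁ 2)) (f1 : Finite (HH X S.X₁ 0)) (f1' : Finite (HH X S.X₁ 1))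
    (f3 : Finite (HH X S.X₃ 0)) (f3' : Finite (HH X S.X₃ 1))
    (e1 : Nat.card (HH X S.X₁ 1) = Nat.card (HH X S.X₁ 0))
    (e3 : Nat.card (HH X S.X₃ 1) = Nat.card (HH X S.X₃ 0)) :
    Finite (HH X S.X₂ 0) ∧ Finite (HH X S.X₂ 1) ∧
      Nat.card (HH X S.X₂ 1) = Nat.card (HH X S.X₂ 0) := by
  have := hS.mono_f
  have a1 : Function.Injective ((Ext.mk₀ S.f).postcomp (EtCoh.const X ℤ) (add_zero 0)) :=
    Ext.postcomp_mk₀_injective_of_mono _ _
  have a2 := (ShortComplex.ab_exact_iff_function_exact _).1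
    (Ext.covariant_sequence_exact₂' (EtCoh.const X ℤ) hS 0)
  have a3 := (ShortComplex.ab_exact_iff_function_exact _).1
    (Ext.covariant_sequence_exact₃' (EtCoh.const X ℤ) hS 0 1 rfl)
  have a4 := (ShortComplex.ab_exact_iff_function_exact _).1
    (Ext.covariant_sequence_exact₁' (EtCoh.const X ℤ) hS 0 1 rfl)
  have a5 := (ShortComplex.ab_exact_iff_function_exact _).1
    (Ext.covariant_sequence_exact₂' (EtCoh.const X ℤ) hS 1)
  have a6 : Function.Surjective ((Ext.mk₀ S.g).postcomp (EtCoh.const X ℤ) (add_zero 1)) := by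
    intro x
    obtain ⟨y, hy⟩ := Ext.covariant_sequence_exact₃ (EtCoh.const X ℤ) hS x (n₁ := 2) rfl
      (@Subsingleton.elim _ h2 _ _)
    exact ⟨y, hy⟩
  have g1 : Finite (HH X S.X₂ 0) := EulerCount.finite_of_exact _ _ a2
  have g2 : Finite (HH X S.X₂ 1) := EulerCount.finite_of_exact _ _ a5
  refine ⟨g1, g2, ?_⟩
  have h := EulerCount.card_six _ _ _ _ _ a1 a2 a3 a4 a5 a6
  change Nat.card (HH X S.X₁ 0) * Nat.card (HH X S.X₃ 0) * Nat.card (HH X S.X₂ 1) =
    Nat.card (HH X S.X₂ 0) * Nat.card (HH X S.X₁ 1) * Nat.card (HH X S.X₃ 1) at h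
  rw [e1, e3] at h
  have p1 : 0 < Nat.card (HH X S.X₁ 0) := Nat.card_pos
  have p3 : 0 < Nat.card (HH X S.X₃ 0) := Nat.card_pos
  have p := Nat.mul_pos p1 p3
  have h' : (Nat.card (HH X S.X₁ 0) * Nat.card (HH X S.X₃ 0)) * Nat.card (HH X S.X₂ 1) =
    (Nat.card (HH X S.X₁ 0) * Nat.card (HH X S.X₃ 0)) * Nat.card (HH X S.X₂ 0) := by
    rw [h]; ring
  exact Nat.eq_of_mul_eq_mul_left p h'

/-- Degree zero cohomology is the group of global sections. -/
noncomputable def HHzero (X : Scheme.{u}) (F : EtCoh.Ab X) :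
    HH X F 0 ≃+ EtCoh.sect F (EtCoh.top X) :=
  Sheaf.H.equiv₀ F (Etrest.ConstBasic.isTerminalTop X)

end count

section constant

variable {Ω : Type u} [Field Ω] [IsSepClosed Ω] (ξ : Spec (CommRingCat.of Ω) ⟶ X)

/-- The constant sheaf is constant. -/
theorem exists_isConstVia (X : Scheme.{u}) (M : Type) [AddCommGroup M] :
    ∃ φ : M →+ EtCoh.sect (EtCoh.const X M) (EtCoh.top X),
      IsConstVia (EtCoh.const X M) (EtCoh.top X) φ :=
  (nonempty_iso_iff (EtCoh.const X M) (EtCoh.top X) (M := M)).1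
    ⟨(Etrest.ConstBasic.constOver (EtCoh.top X)).app _⟩

include ξ in
/-- Global sections of a constant sheaf on a point. -/
theorem bijective_of_isConstVia [Subsingleton X] {M : Type} [AddCommGroup M] (F : EtCoh.Ab X)
    (φ : M →+ EtCoh.sect F (EtCoh.top X)) (h : IsConstVia F (EtCoh.top X) φ) :
    Function.Bijective φ := by
  obtain ⟨t⟩ := exists_fib_top ξ
  constructor
  · intro m m' e
    exact (h Ω ξ t).1 (congrArg (germ ξ F t) e)
  · intro s
    obtain ⟨m, hm⟩ := (h Ω ξ t).2 (germ ξ F t s)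
    refine ⟨m, ?_⟩
    rw [← sub_eq_zero]
    refine sect_eq_zero ξ F t _ ?_
    rw [map_sub, sub_eq_zero]
    exact hm

include ξ in
theorem card_HHzero_const [Subsingleton X] (M : Type) [AddCommGroup M] :
    Nat.card (HH X (EtCoh.const X M) 0) = Nat.card M := by
  obtain ⟨φ, hφ⟩ := exists_isConstVia X M
  exact (Nat.card_congr (HHzero X (EtCoh.const X M)).toEquiv).trans
    (Nat.card_congr (Equiv.ofBijective φ (bijective_of_isConstVia ξ _ φ hφ))).symm

theorem card_stalk_const (M : Type) [AddCommGroup M] :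
    Nat.card ((EtCoh.stalk ξ).obj (EtCoh.const X M)) = Nat.card M := by
  obtain ⟨φ, hφ⟩ := exists_isConstVia X M
  obtain ⟨t⟩ := exists_fib_top ξ
  exact (Nat.card_congr (Equiv.ofBijective _ (hφ Ω ξ t))).symm

include ξ in
theorem HHzero_finite [Subsingleton X] {F : EtCoh.Ab X} (hF : EtCoh.IsFiniteLocallyConstant F) :
    Finite (HH X F 0) := by
  have := finite_stalk ξ hF
  obtain ⟨t⟩ := exists_fib_top ξ
  refine Finite.of_injective (fun x => germ ξ F t (HHzero X F x)) ?_
  intro x y e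
  apply (HHzero X F).injective
  rw [← sub_eq_zero]
  refine sect_eq_zero ξ F t _ ?_
  rw [map_sub, sub_eq_zero]
  exact e

/-- A nonzero global section of order `m` gives a monomorphism from `ℤ/m`. -/
theorem exists_mono [Subsingleton X] (F : EtCoh.Ab X) (s : EtCoh.sect F (EtCoh.top X)) :
    ∃ φ : EtCoh.const X (ZMod (addOrderOf s)) ⟶ F, Mono φ := by
  let m := addOrderOf s
  have hm : m • s = 0 := addOrderOf_nsmul_eq_zero s
  let μ := ConstCrit.mulMap F.obj s hm
  have hinj : Presheaf.IsLocallyInjective X.smallEtaleTopology μ := by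
    refine ConstCrit.isLocallyInjective_mulMap F.obj s hm ?_
    rintro W ⟨w⟩ k hk
    have h1 : res F (ConstCrit.toTop W) (k • s) = 0 := by
      rw [map_zsmul]
      exact hk
    obtain ⟨Ω, _, _, ξ, t, -⟩ := exists_geomPt w
    have h2 : k • s = 0 := by
      refine sect_eq_zero ξ F (fmap ξ (ConstCrit.toTop W) t) _ ?_
      rw [← germ_res', h1, map_zero]
    rw [ZMod.intCast_zmod_eq_zero_iff_dvd]
    exact addOrderOf_dvd_iff_zsmul_eq_zero.2 h2
  let ν : EtCoh.const X (ZMod m) ⟶ F :=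
    (presheafToSheaf X.smallEtaleTopology AddCommGrpCat.{u + 1}).map μ ≫
      (sheafificationAdjunction X.smallEtaleTopology AddCommGrpCat.{u + 1}).counit.app F
  refine ⟨ν, ?_⟩
  have h1 : Sheaf.IsLocallyInjective
      ((presheafToSheaf X.smallEtaleTopology AddCommGrpCat.{u + 1}).map μ) :=
    (Presheaf.isLocallyInjective_presheafToSheaf_map_iff _ μ).2 hinj
  have h2 : Mono ((presheafToSheaf X.smallEtaleTopology AddCommGrpCat.{u + 1}).map μ) :=
    Sheaf.mono_of_isLocallyInjective _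
  exact @mono_comp _ _ _ _ _ _ h2 _ inferInstance

end constant

section main

theorem HHzero_symm_map {F G : EtCoh.Ab X} (φ : F ⟶ G) (s : EtCoh.sect F (EtCoh.top X)) :
    HHmap φ 0 ((HHzero X F).symm s) = (HHzero X G).symm (φ.hom.app (op (EtCoh.top X)) s) :=
  Sheaf.H.equiv₀_symm_naturality (Etrest.ConstBasic.isTerminalTop X) φ s

theorem subsingleton_HHzero {F : EtCoh.Ab X}
    (h : ∀ s : EtCoh.sect F (EtCoh.top X), s = 0) : Subsingleton (HH X F 0) := by
  refine ⟨fun x y => (HHzero X F).injective ?_⟩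
  rw [h (HHzero X F x), h (HHzero X F y)]

/-- `A` cannot embed into a constant sheaf without having global sections. -/
theorem false_of_mono [Subsingleton X] {Ω : Type u} [Field Ω] [IsSepClosed Ω]
    (ξ : Spec (CommRingCat.of Ω) ⟶ X) {A : EtCoh.Ab X} (M : Type) [AddCommGroup M]
    (φ : A ⟶ EtCoh.const X M) [Mono φ] (hA : ¬ IsZero A)
    (h : ∀ s : EtCoh.sect A (EtCoh.top X), s = 0) : False := by
  obtain ⟨t⟩ := exists_fib_top ξ
  have := nontrivial_stalk ξ A hA
  obtain ⟨a, ha⟩ := exists_ne (0 : (EtCoh.stalk ξ).obj A)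
  obtain ⟨ψ, hψ⟩ := exists_isConstVia X M
  obtain ⟨m, hm⟩ := (hψ Ω ξ t).2 (stalkMap φ ξ a)
  have hS : (ShortComplex.mk φ (cokernel.π φ) (cokernel.condition φ)).ShortExact :=
    { exact := ShortComplex.exact_cokernel φ }
  have h1 : (cokernel.π φ).hom.app (op (EtCoh.top X)) (ψ m) = 0 := by
    refine sect_eq_zero ξ _ t _ ?_
    have h2 := stalkMap_germ (cokernel.π φ) ξ t (ψ m)
    refine h2.symm.trans ?_
    refine (congrArg (stalkMap (cokernel.π φ) ξ) hm).trans ?_
    exact (EtpbcA.FLCExact.stalkExact_of_exact hS.exact Ω ξ).apply_apply_eq_zero a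
  have h3 : HHmap (cokernel.π φ) 0 ((HHzero X _).symm (ψ m)) = 0 := by
    rw [HHzero_symm_map, h1, map_zero]
  obtain ⟨y, hy⟩ := Ext.covariant_sequence_exact₂ (EtCoh.const X ℤ) hS _ h3
  have := subsingleton_HHzero h
  have h4 : y = 0 := Subsingleton.elim _ _
  have h5 : (HHzero X _).symm (ψ m) = 0 := by
    rw [← hy, h4, Ext.zero_comp]
  have h6 : ψ m = 0 := by simpa using h5
  have h7 : stalkMap φ ξ a = 0 := by
    rw [← hm]
    exact (congrArg (germ ξ _ t) h6).trans (map_zero _)
  have h8 : Mono ((EtCoh.stalk ξ).map φ) := inferInstance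
  rw [AddCommGrpCat.mono_iff_injective] at h8
  exact ha (h8 (h7.trans (map_zero (stalkMap φ ξ)).symm))

theorem one_lt_card {Ω : Type u} [Field Ω] [IsSepClosed Ω] [Subsingleton X]
    (ξ : Spec (CommRingCat.of Ω) ⟶ X) {A : EtCoh.Ab X} (hF : EtCoh.IsFiniteLocallyConstant A)
    (hA : ¬ IsZero A) : 1 < Nat.card ((EtCoh.stalk ξ).obj A) := by
  have := finite_stalk ξ hF
  have := nontrivial_stalk ξ A hA
  exact Finite.one_lt_card

/-- The Euler characteristic of finite locally constant sheaves on a point with the cohomology of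
the fraction field of a strictly henselian discrete valuation ring is trivial. -/
theorem euler_point [Subsingleton X] {Ω : Type u} [Field Ω] [IsSepClosed Ω]
    (ξ : Spec (CommRingCat.of Ω) ⟶ X) (n : ℕ) (hn : 0 < n)
    (k1 : ∀ A : EtCoh.Ab X, EtCoh.KilledBy n A → Subsingleton (HH X A 2))
    (k2 : ∀ m, m ∣ n → Nat.card (HH X (EtCoh.const X (ZMod m)) 1) = m)
    (k5 : ∀ A : EtCoh.Ab X, EtCoh.KilledBy n A → EtCoh.IsFiniteLocallyConstant A →
      Finite (HH X A 1) ∧ Nat.card (HH X A 1) = Nat.card (A ⟶ EtCoh.const X (ZMod n)))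
    (A : EtCoh.Ab X) (hA : EtCoh.KilledBy n A) (hF : EtCoh.IsFiniteLocallyConstant A) :
    Finite (HH X A 0) ∧ Finite (HH X A 1) ∧ Nat.card (HH X A 1) = Nat.card (HH X A 0) := by
  suffices H : ∀ (N : ℕ) (A : EtCoh.Ab X), EtCoh.KilledBy n A → EtCoh.IsFiniteLocallyConstant A →
      Nat.card ((EtCoh.stalk ξ).obj A) ≤ N → Nat.card (HH X A 1) = Nat.card (HH X A 0) from
    ⟨HHzero_finite ξ hF, (k5 A hA hF).1, H _ A hA hF le_rfl⟩
  intro N
  induction N with
  | zero =>
    intro A hA hF hN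
    have := finite_stalk ξ hF
    have : 0 < Nat.card ((EtCoh.stalk ξ).obj A) := Nat.card_pos
    omega
  | succ N ih =>
    intro A hA hF hN
    -- reduction to an extension of smaller sheaves
    have key : ∀ S : ShortComplex (EtCoh.Ab X), S.ShortExact → S.X₂ = A →
        EtCoh.IsFiniteLocallyConstant S.X₁ → EtCoh.IsFiniteLocallyConstant S.X₃ →
        Nat.card (HH X S.X₁ 1) = Nat.card (HH X S.X₁ 0) →
        Nat.card (HH X S.X₃ 1) = Nat.card (HH X S.X₃ 0) →
        Nat.card (HH X A 1) = Nat.card (HH X A 0) := by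
      rintro S hS rfl f1 f3 e1 e3
      have := hS.mono_f
      have := hS.epi_g
      have a1 := Sga5.EtKilled.killedBy_of_mono S.f hA
      have a3 := Sga5.EtKilled.killedBy_of_epi S.g hA
      exact (euler_middle hS (k1 _ a1) (HHzero_finite ξ f1) (k5 _ a1 f1).1
        (HHzero_finite ξ f3) (k5 _ a3 f3).1 e1 e3).2.2
    by_cases h0 : ∀ s : EtCoh.sect A (EtCoh.top X), s = 0
    · by_cases h1 : ∀ φ : A ⟶ EtCoh.const X (ZMod n), φ = 0
      · have s1 : Subsingleton (A ⟶ EtCoh.const X (ZMod n)) := ⟨fun a b => by rw [h1 a, h1 b]⟩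
        have s2 := subsingleton_HHzero h0
        rw [(k5 A hA hF).2, Nat.card_unique, Nat.card_unique]
      · push Not at h1
        obtain ⟨φ, hφ⟩ := h1
        have : NeZero n := ⟨hn.ne'⟩
        have hc : EtCoh.IsFiniteLocallyConstant (EtCoh.const X (ZMod n)) :=
          Etrest.ConstBasic.isFiniteLocallyConstant_const X (ZMod n)
        have hAz : ¬ IsZero A := fun h => hφ (h.eq_of_src _ _)
        have hk : ¬ IsZero (kernel φ) := by
          intro hk
          have : Mono φ := Preadditive.mono_of_kernel_iso_zero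
            (hk.isoZero)
          exact false_of_mono ξ (ZMod n) φ hAz h0
        have f1 := EtpbcA.FLCExact.flc_kernel φ hF hc
        have f3 := EtpbcA.FLCExact.flc_cokernel (kernel.ι φ) f1 hF
        have hq : ¬ IsZero (cokernel (kernel.ι φ)) := by
          intro hq
          have : Epi (kernel.ι φ) := Preadditive.epi_of_cokernel_zero (hq.eq_of_tgt _ _)
          exact hφ (by rw [← cancel_epi (kernel.ι φ), kernel.condition, comp_zero])
        let S := ShortComplex.mk (kernel.ι φ) (cokernel.π (kernel.ι φ))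
          (cokernel.condition (kernel.ι φ))
        have hS : S.ShortExact := { exact := ShortComplex.exact_cokernel (kernel.ι φ) }
        have hcard := card_stalk ξ hS
        have c1 := one_lt_card ξ f1 hk
        have c3 := one_lt_card ξ f3 hq
        change Nat.card ((EtCoh.stalk ξ).obj A) = Nat.card ((EtCoh.stalk ξ).obj (kernel φ)) *
          Nat.card ((EtCoh.stalk ξ).obj (cokernel (kernel.ι φ))) at hcard
        refine key S hS rfl f1 f3 (ih _ (Sga5.EtKilled.killedBy_of_mono (kernel.ι φ) hA) f1 ?_)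
          (ih _ (Sga5.EtKilled.killedBy_of_epi (cokernel.π (kernel.ι φ)) hA) f3 ?_)
        · change Nat.card ((EtCoh.stalk ξ).obj (kernel φ)) ≤ N
          nlinarith
        · change Nat.card ((EtCoh.stalk ξ).obj (cokernel (kernel.ι φ))) ≤ N
          nlinarith
    · push Not at h0
      obtain ⟨s, hs⟩ := h0
      obtain ⟨φ, hφ⟩ := exists_mono A s
      have hm : addOrderOf s ∣ n := addOrderOf_dvd_of_nsmul_eq_zero (hA _ s)
      have hm0 : addOrderOf s ≠ 0 := fun h => hn.ne' (by rw [h] at hm; exact zero_dvd_iff.1 hm)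
      have hm1 : addOrderOf s ≠ 1 := fun h => hs (AddMonoid.addOrderOf_eq_one_iff.1 h)
      have : NeZero (addOrderOf s) := ⟨hm0⟩
      have hc : EtCoh.IsFiniteLocallyConstant (EtCoh.const X (ZMod (addOrderOf s))) :=
        Etrest.ConstBasic.isFiniteLocallyConstant_const X _
      have f3 := EtpbcA.FLCExact.flc_cokernel φ hc hF
      let S := ShortComplex.mk φ (cokernel.π φ) (cokernel.condition φ)
      have hS : S.ShortExact := { exact := ShortComplex.exact_cokernel φ }
      have hcard := card_stalk ξ hS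
      change Nat.card ((EtCoh.stalk ξ).obj A) =
        Nat.card ((EtCoh.stalk ξ).obj (EtCoh.const X (ZMod (addOrderOf s)))) *
        Nat.card ((EtCoh.stalk ξ).obj (cokernel φ)) at hcard
      rw [card_stalk_const, Nat.card_zmod] at hcard
      have : Finite ((EtCoh.stalk ξ).obj (cokernel φ)) := finite_stalk ξ f3
      have c3 : 0 < Nat.card ((EtCoh.stalk ξ).obj (cokernel φ)) := Nat.card_pos
      refine key S hS rfl hc f3 ?_
        (ih _ (Sga5.EtKilled.killedBy_of_epi (cokernel.π φ) hA) f3 ?_)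
      · change Nat.card (HH X (EtCoh.const X (ZMod (addOrderOf s))) 1) =
          Nat.card (HH X (EtCoh.const X (ZMod (addOrderOf s))) 0)
        rw [k2 _ hm, card_HHzero_const ξ, Nat.card_zmod]
      · change Nat.card ((EtCoh.stalk ξ).obj (cokernel φ)) ≤ N
        have : 2 ≤ addOrderOf s := by omega
        nlinarith

end main

end Groth.Agent.Sga4h.EulerPoint
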