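import Groth.Agent.Sga4h.EulerPoint
import Groth.Agent.Etrest.IsoInv
import Groth.Agent.Etrest.ModAbR
import Groth.Agent.Etrest.ModFT
import Groth.Agent.Etrest.ModStalk
import Groth.Agent.EtpbcA.PullFLC

/-!
# The Euler characteristic over a field, and its transport along isomorphisms
-/

set_option autoImplicit false
universe u
open CategoryTheory CategoryTheory.Limits AlgebraicGeometry Opposite

namespace Groth.Agent.Sga4h.EulerSpec

/-- `EulerPoint.euler_point` for the spectrum of a field. -/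
theorem euler_spec (K : Type u) [Field K] (n : ℕ) (hn : 0 < n)
    (k1 : ∀ A : EtCoh.Ab (Spec (.of K)), EtCoh.KilledBy n A →
      Subsingleton (EtCoh.H (Spec (.of K)) A 2))
    (k2 : ∀ m, m ∣ n →
      Nat.card (EtCoh.H (Spec (.of K)) (EtCoh.const (Spec (.of K)) (ZMod m)) 1) = m)
    (k5 : ∀ A : EtCoh.Ab (Spec (.of K)), EtCoh.KilledBy n A → EtCoh.IsFiniteLocallyConstant A →
      Finite (EtCoh.H (Spec (.of K)) A 1) ∧ Nat.card (EtCoh.H (Spec (.of K)) A 1) =
        Nat.card (A ⟶ EtCoh.const (Spec (.of K)) (ZMod n)))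
    (A : EtCoh.Ab (Spec (.of K))) (hA : EtCoh.KilledBy n A)
    (hF : EtCoh.IsFiniteLocallyConstant A) :
    Finite (EtCoh.H (Spec (.of K)) A 0) ∧ Finite (EtCoh.H (Spec (.of K)) A 1) ∧
      Nat.card (EtCoh.H (Spec (.of K)) A 1) = Nat.card (EtCoh.H (Spec (.of K)) A 0) := by
  have : Subsingleton (Spec (.of K) : Scheme.{u}) :=
    inferInstanceAs (Subsingleton (PrimeSpectrum K))
  exact EulerPoint.euler_point
    (Spec.map (CommRingCat.ofHom (algebraMap K (SeparableClosure K)))) n hn k1 k2 k5 A hA hF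

/-- Transport of `KilledBy` along an inverse image. -/
theorem killedBy_pull {X Y : Scheme.{u}} (f : X ⟶ Y) {n : ℕ} {F : EtCoh.Ab Y}
    (hF : EtCoh.KilledBy n F) : EtCoh.KilledBy n ((EtCoh.pull f).obj F) := by
  rw [Sga5.EtKilled.killedBy_iff] at hF ⊢
  rw [← CategoryTheory.Functor.map_id, ← Functor.map_nsmul, hF, Functor.map_zero]

section ft

variable (n : ℕ) {X : Scheme.{u}}

/-- The underlying abelian sheaf of a finite type locally constant sheaf of `ℤ/n`-modules, `n > 0`. -/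
theorem flc_ab [NeZero n] (B : EtModW.Mod (ULift.{u+1} (ZMod n)) X) (hB : EtModW.IsFTLocConst _ B) :
    EtCoh.IsFiniteLocallyConstant ((Etrest.ModAb.ab (ULift.{u+1} (ZMod n)) X).obj B) := by
  rw [Etrest.ModLoc.ftlc_iff] at hB
  refine EtpbcA.FLCExact.flc_of_exists.{u, u + 1} fun x => ?_
  obtain ⟨U, u, M, _, _, _, φ, h1, h2⟩ := hB x
  have : Finite (ULift.{u+1} (ZMod n)) := inferInstance
  have : Finite M := Module.finite_of_finite (ULift.{u+1} (ZMod n))
  exact ⟨U, u, M, inferInstance, inferInstance, Etrest.ModFT.toAb B U φ, h1,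
    (Etrest.ModFT.isConstVia_ab_iff B U φ).2 h2⟩

theorem killedBy_ab (B : EtModW.Mod (ULift.{u+1} (ZMod n)) X) :
    EtCoh.KilledBy n ((Etrest.ModAb.ab (ULift.{u+1} (ZMod n)) X).obj B) := by
  intro U s
  have h : ((n : ULift.{u+1} (ZMod n))) • (show EtModW.sect _ B U from s) = 0 := by
    have : (n : ULift.{u+1} (ZMod n)) = 0 := by
      apply ULift.down_injective
      exact (map_natCast (ULift.ringEquiv.{0, u+1} (R := ZMod n)) n).trans (ZMod.natCast_self n)
    rw [this, zero_smul]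
  rw [Nat.cast_smul_eq_nsmul] at h
  exact h

/-- The stalk of `R^q f_* B` and the stalk of `R^q f_*` of the underlying abelian sheaf. -/
noncomputable def stalkRpush (Λ : Type (u + 1)) [CommRing Λ] {X Y : Scheme.{u}} (f : X ⟶ Y) (q : ℕ)
    (B : EtModW.Mod Λ X) {Ω : Type u} [Field Ω] [IsSepClosed Ω]
    (ξ : Spec (CommRingCat.of Ω) ⟶ Y) :
    ((EtModW.stalk Λ ξ).obj ((EtModW.Rpush Λ f q).obj B) : Type (u + 1)) ≃+
      ((EtCoh.stalk ξ).obj ((EtCoh.Rpush f q).obj ((Etrest.ModAb.ab Λ X).obj B)) : Type (u + 1)) :=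
  (Etrest.ModStalk.stalkEquiv Λ ξ ((EtModW.Rpush Λ f q).obj B)).symm.trans
    ((EtCoh.stalk ξ).mapIso ((Etrest.ModAb.rpushIso Λ f q).app B)).addCommGroupIsoToAddEquiv

/-- The stalk of `f_* B` is the stalk of `R^0 f_* B`. -/
noncomputable def stalkPush (Λ : Type (u + 1)) [CommRing Λ] {X Y : Scheme.{u}} (f : X ⟶ Y)
    (B : EtModW.Mod Λ X) {Ω : Type u} [Field Ω] [IsSepClosed Ω]
    (ξ : Spec (CommRingCat.of Ω) ⟶ Y) :
    ((EtModW.stalk Λ ξ).obj ((EtModW.push Λ f).obj B) : Type (u + 1)) ≃+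
      ((EtModW.stalk Λ ξ).obj ((EtModW.Rpush Λ f 0).obj B) : Type (u + 1)) :=
  ((EtModW.stalk Λ ξ).mapIso
    ((EtModW.push Λ f).rightDerivedZeroIsoSelf.symm.app B)).toLinearEquiv.toAddEquiv

end ft

end Groth.Agent.Sga4h.EulerSpec
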