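import Groth.Agent.Dcoh.MapDer
import Groth.Agent.PerfB.DQAdj

/-!
# Coherence of the functors induced on derived categories by exact functors

* `natTrans_ext_Q`: natural transformations out of a derived category are determined on `Q.obj`;
* formulas for `Dcoh.MapDer.mapDerCompIso`, `mapDerId`, `mapDerIso`;
* associativity and unit coherence of `mapDerCompIso`;
* compatibility with shifts.
-/

set_option autoImplicit false

open CategoryTheory Category Limits DerivedCategory

universe w₁ w₂ w₃ w₄ v₁ v₂ v₃ v₄ u₁ u₂ u₃ u₄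

namespace Groth.Agent.Sga4h.ExMap

open Groth.Agent.Dcoh.MapDer

variable {A : Type u₁} [Category.{v₁} A] [Abelian A]
  {B : Type u₂} [Category.{v₂} B] [Abelian B]
  {C : Type u₃} [Category.{v₃} C] [Abelian C]
  {E : Type u₄} [Category.{v₄} E] [Abelian E]

/-- Termwise application of an additive functor to a cochain complex. -/
noncomputable abbrev cx (F : A ⥤ B) [F.Additive] : CochainComplex A ℤ ⥤ CochainComplex B ℤ :=
  F.mapHomologicalComplex (ComplexShape.up ℤ)

/-- Termwise application of a natural transformation. -/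
@[simps]
noncomputable def cxNat {F F' : A ⥤ B} [F.Additive] [F'.Additive] (α : F ⟶ F')
    (K : CochainComplex A ℤ) : (cx F).obj K ⟶ (cx F').obj K where
  f n := α.app (K.X n)
  comm' i j _ := (α.naturality (K.d i j)).symm

/-- Termwise application of an isomorphism `F ⋙ G ≅ H`. -/
noncomputable def cxComp {F : A ⥤ B} {G : B ⥤ C} {H : A ⥤ C} [F.Additive] [G.Additive]
    [H.Additive] (e : F ⋙ G ≅ H) (K : CochainComplex A ℤ) :
    (cx G).obj ((cx F).obj K) ≅ (cx H).obj K :=
  (Functor.mapHomologicalComplexCompIso e (ComplexShape.up ℤ)).app K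

@[simp]
lemma cxComp_hom_f {F : A ⥤ B} {G : B ⥤ C} {H : A ⥤ C} [F.Additive] [G.Additive]
    [H.Additive] (e : F ⋙ G ≅ H) (K : CochainComplex A ℤ) (n : ℤ) :
    (cxComp e K).hom.f n = e.hom.app (K.X n) := by
  simp [cxComp, Functor.mapHomologicalComplexCompIso]

@[simp]
lemma cxComp_inv_f {F : A ⥤ B} {G : B ⥤ C} {H : A ⥤ C} [F.Additive] [G.Additive]
    [H.Additive] (e : F ⋙ G ≅ H) (K : CochainComplex A ℤ) (n : ℤ) :
    (cxComp e K).inv.f n = e.inv.app (K.X n) := by
  simp [cxComp, Functor.mapHomologicalComplexCompIso]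

variable [HasDerivedCategory.{w₁} A] [HasDerivedCategory.{w₂} B] [HasDerivedCategory.{w₃} C]
  [HasDerivedCategory.{w₄} E]

/-- Natural transformations between functors out of a derived category are determined by their
values on complexes. -/
lemma natTrans_ext_Q {D : Type*} [Category* D] {G G' : DerivedCategory A ⥤ D} {α β : G ⟶ G'}
    (h : ∀ K : CochainComplex A ℤ, α.app (Q.obj K) = β.app (Q.obj K)) : α = β :=
  Localization.natTrans_ext Q (HomologicalComplex.quasiIso A (ComplexShape.up ℤ)) h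

/-- `F (Q K) ≅ Q (F K)`. -/
noncomputable abbrev fac (F : A ⥤ B) [F.Additive] [PreservesFiniteLimits F]
    [PreservesFiniteColimits F] (K : CochainComplex A ℤ) :
    F.mapDerivedCategory.obj (Q.obj K) ≅ Q.obj ((cx F).obj K) :=
  F.mapDerivedCategoryFactors.app K

section comp

variable {F : A ⥤ B} {G : B ⥤ C} {H : A ⥤ C}
    [F.Additive] [PreservesFiniteLimits F] [PreservesFiniteColimits F]
    [G.Additive] [PreservesFiniteLimits G] [PreservesFiniteColimits G]
    [H.Additive] [PreservesFiniteLimits H] [PreservesFiniteColimits H]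

@[reassoc]
lemma map_fac_hom {K L : CochainComplex A ℤ} (f : K ⟶ L) :
    F.mapDerivedCategory.map (Q.map f) ≫ (fac F L).hom =
      (fac F K).hom ≫ Q.map ((cx F).map f) :=
  F.mapDerivedCategoryFactors_hom_naturality f

@[reassoc]
lemma fac_inv_map {K L : CochainComplex A ℤ} (f : K ⟶ L) :
    (fac F K).inv ≫ F.mapDerivedCategory.map (Q.map f) =
      Q.map ((cx F).map f) ≫ (fac F L).inv := by
  rw [Iso.inv_comp_eq, ← assoc, Iso.eq_comp_inv, map_fac_hom]

lemma mapDerCompIso_hom_app_Q (e : F ⋙ G ≅ H) (K : CochainComplex A ℤ) :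
    (mapDerCompIso e).hom.app (Q.obj K) =
      G.mapDerivedCategory.map (fac F K).hom ≫ (fac G ((cx F).obj K)).hom ≫
        Q.map (cxComp e K).hom ≫ (fac H K).inv := by
  dsimp only [mapDerCompIso]
  rw [Localization.liftNatIso_hom, Localization.liftNatTrans_app]
  simp [cxComp, Localization.Lifting.iso]

lemma mapDerCompIso_inv_app_Q (e : F ⋙ G ≅ H) (K : CochainComplex A ℤ) :
    (mapDerCompIso e).inv.app (Q.obj K) =
      (fac H K).hom ≫ Q.map (cxComp e K).inv ≫ (fac G ((cx F).obj K)).inv ≫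
        G.mapDerivedCategory.map (fac F K).inv := by
  rw [← cancel_epi ((mapDerCompIso e).hom.app (Q.obj K)), Iso.hom_inv_id_app,
    mapDerCompIso_hom_app_Q]
  simp only [assoc, Iso.inv_hom_id_assoc]
  rw [← Q.map_comp_assoc, Iso.hom_inv_id, Q.map_id, id_comp, Iso.hom_inv_id_assoc,
    ← Functor.map_comp, Iso.hom_inv_id, CategoryTheory.Functor.map_id]
  rfl

end comp

section nat

variable {F F' F'' : A ⥤ B}
    [F.Additive] [PreservesFiniteLimits F] [PreservesFiniteColimits F]
    [F'.Additive] [PreservesFiniteLimits F'] [PreservesFiniteColimits F']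
    [F''.Additive] [PreservesFiniteLimits F''] [PreservesFiniteColimits F'']

lemma mapDerIso_hom_app_Q (e : F ≅ F') (K : CochainComplex A ℤ) :
    (mapDerIso e).hom.app (Q.obj K) =
      (fac F K).hom ≫ Q.map (cxNat e.hom K) ≫ (fac F' K).inv := by
  dsimp only [mapDerIso]
  rw [Localization.liftNatIso_hom, Localization.liftNatTrans_app]
  rfl

lemma mapDerIso_inv_app_Q (e : F ≅ F') (K : CochainComplex A ℤ) :
    (mapDerIso e).inv.app (Q.obj K) =
      (fac F' K).hom ≫ Q.map (cxNat e.inv K) ≫ (fac F K).inv := by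
  dsimp only [mapDerIso]
  rw [Localization.liftNatIso_inv, Localization.liftNatTrans_app]
  rfl

lemma mapDerId_hom_app_Q (K : CochainComplex A ℤ) :
    (mapDerId A).hom.app (Q.obj K) =
      (fac (𝟭 A) K).hom ≫ Q.map ((Functor.mapHomologicalComplexIdIso A (.up ℤ)).hom.app K) := by
  dsimp only [mapDerId]
  rw [Localization.liftNatIso_hom, Localization.liftNatTrans_app]
  simp [Localization.Lifting.iso]

end nat

section assoc

variable {F₁ : A ⥤ B} {F₂ : B ⥤ C} {F₃ : C ⥤ E} {F₁₂ : A ⥤ C} {F₂₃ : B ⥤ E} {H : A ⥤ E}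
    [F₁.Additive] [PreservesFiniteLimits F₁] [PreservesFiniteColimits F₁]
    [F₂.Additive] [PreservesFiniteLimits F₂] [PreservesFiniteColimits F₂]
    [F₃.Additive] [PreservesFiniteLimits F₃] [PreservesFiniteColimits F₃]
    [F₁₂.Additive] [PreservesFiniteLimits F₁₂] [PreservesFiniteColimits F₁₂]
    [F₂₃.Additive] [PreservesFiniteLimits F₂₃] [PreservesFiniteColimits F₂₃]
    [H.Additive] [PreservesFiniteLimits H] [PreservesFiniteColimits H]

/-- Associativity of the composition isomorphisms. -/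
lemma mapDerCompIso_assoc (e₁₂ : F₁ ⋙ F₂ ≅ F₁₂) (e₂₃ : F₂ ⋙ F₃ ≅ F₂₃) (e : F₁₂ ⋙ F₃ ≅ H)
    (e' : F₁ ⋙ F₂₃ ≅ H)
    (hcoh : ∀ X : A, F₃.map (e₁₂.hom.app X) ≫ e.hom.app X = e₂₃.hom.app (F₁.obj X) ≫ e'.hom.app X)
    (K : DerivedCategory A) :
    F₃.mapDerivedCategory.map ((mapDerCompIso e₁₂).hom.app K) ≫ (mapDerCompIso e).hom.app K =
      (mapDerCompIso e₂₃).hom.app (F₁.mapDerivedCategory.obj K) ≫ (mapDerCompIso e').hom.app K := by
  let α : F₁.mapDerivedCategory ⋙ F₂.mapDerivedCategory ⋙ F₃.mapDerivedCategory ⟶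
      H.mapDerivedCategory :=
    Functor.whiskerRight (mapDerCompIso e₁₂).hom F₃.mapDerivedCategory ≫ (mapDerCompIso e).hom
  let β : F₁.mapDerivedCategory ⋙ F₂.mapDerivedCategory ⋙ F₃.mapDerivedCategory ⟶
      H.mapDerivedCategory :=
    Functor.whiskerLeft F₁.mapDerivedCategory (mapDerCompIso e₂₃).hom ≫ (mapDerCompIso e').hom
  suffices h : α = β from congr_app h K
  apply natTrans_ext_Q
  intro K
  change F₃.mapDerivedCategory.map ((mapDerCompIso e₁₂).hom.app (Q.obj K)) ≫
      (mapDerCompIso e).hom.app (Q.obj K) =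
    (mapDerCompIso e₂₃).hom.app (F₁.mapDerivedCategory.obj (Q.obj K)) ≫
      (mapDerCompIso e').hom.app (Q.obj K)
  have nat := (mapDerCompIso e₂₃).hom.naturality (fac F₁ K).hom
  have h1 : (mapDerCompIso e₂₃).hom.app (F₁.mapDerivedCategory.obj (Q.obj K)) =
      F₃.mapDerivedCategory.map (F₂.mapDerivedCategory.map (fac F₁ K).hom) ≫
        (mapDerCompIso e₂₃).hom.app (Q.obj ((cx F₁).obj K)) ≫
          F₂₃.mapDerivedCategory.map (fac F₁ K).inv := by
    simp only [Functor.comp_map] at nat
    rw [reassoc_of% nat, ← Functor.map_comp, Iso.hom_inv_id,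
      CategoryTheory.Functor.map_id, comp_id]
  rw [h1]
  rw [mapDerCompIso_hom_app_Q, mapDerCompIso_hom_app_Q, mapDerCompIso_hom_app_Q,
    mapDerCompIso_hom_app_Q]
  simp only [assoc, Functor.map_comp]
  congr 1
  simp only [Iso.map_inv_hom_id_assoc, Iso.inv_hom_id_assoc]
  rw [map_fac_hom_assoc]
  congr 2
  rw [← Q.map_comp_assoc, ← Q.map_comp_assoc]
  congr 2
  ext n
  simp only [HomologicalComplex.comp_f, Functor.mapHomologicalComplex_map_f, cxComp_hom_f]
  exact hcoh (K.X n)

end assoc

section unit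

variable {F : A ⥤ A} {G : A ⥤ B} {F' : B ⥤ B}
    [F.Additive] [PreservesFiniteLimits F] [PreservesFiniteColimits F]
    [F'.Additive] [PreservesFiniteLimits F'] [PreservesFiniteColimits F']
    [G.Additive] [PreservesFiniteLimits G] [PreservesFiniteColimits G]

/-- The functor induced by a functor isomorphic to the identity is isomorphic to the identity. -/
noncomputable def mapDerIdIso (e : F ≅ 𝟭 A) : F.mapDerivedCategory ≅ 𝟭 (DerivedCategory A) :=
  mapDerIso e ≪≫ mapDerId A

omit [HasDerivedCategory A] [PreservesFiniteLimits F] [PreservesFiniteColimits F] in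
/-- termwise application of a natural transformation `F ⟶ 𝟭` -/
@[simps]
noncomputable def cxToId (e : F ⟶ 𝟭 A) (K : CochainComplex A ℤ) : (cx F).obj K ⟶ K where
  f n := e.app (K.X n)
  comm' i j _ := (e.naturality (K.d i j)).symm

lemma mapDerIdIso_hom_app_Q (e : F ≅ 𝟭 A) (K : CochainComplex A ℤ) :
    (mapDerIdIso e).hom.app (Q.obj K) = (fac F K).hom ≫ Q.map (cxToId e.hom K) := by
  dsimp only [mapDerIdIso, Iso.trans_hom, NatTrans.comp_app]
  rw [mapDerIso_hom_app_Q, mapDerId_hom_app_Q]
  simp only [assoc, Iso.inv_hom_id_assoc, ← Q.map_comp]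
  congr 2
  ext n
  simp only [Functor.mapHomologicalComplexIdIso, HomologicalComplex.comp_f, cxNat_f,
    NatIso.ofComponents_hom_app, HomologicalComplex.Hom.isoOfComponents_hom_f, Iso.refl_hom,
    cxToId_f]
  exact comp_id _

/-- Right unit: `G ⋙ F' ≅ G` for `F' ≅ 𝟭`. -/
lemma mapDerCompIso_comp_id (e : F' ≅ 𝟭 B) (c : G ⋙ F' ≅ G)
    (hc : ∀ X : A, c.hom.app X = e.hom.app (G.obj X)) (K : DerivedCategory A) :
    (mapDerCompIso c).hom.app K = (mapDerIdIso e).hom.app (G.mapDerivedCategory.obj K) := by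
  let α : G.mapDerivedCategory ⋙ F'.mapDerivedCategory ⟶ G.mapDerivedCategory :=
    (mapDerCompIso c).hom
  let β : G.mapDerivedCategory ⋙ F'.mapDerivedCategory ⟶ G.mapDerivedCategory :=
    Functor.whiskerLeft G.mapDerivedCategory (mapDerIdIso e).hom ≫ (Functor.rightUnitor _).hom
  suffices h : α = β by
    have := congr_app h K
    simpa [α, β] using this
  apply natTrans_ext_Q
  intro K
  have hβ : β.app (Q.obj K) = (mapDerIdIso e).hom.app (G.mapDerivedCategory.obj (Q.obj K)) :=
    comp_id _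
  rw [hβ]
  dsimp only [α]
  have nat := (mapDerIdIso e).hom.naturality (fac G K).hom
  simp only [Functor.id_map] at nat
  rw [← cancel_mono (fac G K).hom, ← nat, mapDerCompIso_hom_app_Q, mapDerIdIso_hom_app_Q]
  simp only [assoc, Iso.inv_hom_id, comp_id]
  congr 3
  ext n
  simp only [cxComp_hom_f, cxToId_f, hc]
  rfl

/-- Left unit: `F ⋙ G ≅ G` for `F ≅ 𝟭`. -/
lemma mapDerCompIso_id_comp (e : F ≅ 𝟭 A) (c : F ⋙ G ≅ G)
    (hc : ∀ X : A, c.hom.app X = G.map (e.hom.app X)) (K : DerivedCategory A) :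
    (mapDerCompIso c).hom.app K = G.mapDerivedCategory.map ((mapDerIdIso e).hom.app K) := by
  let α : F.mapDerivedCategory ⋙ G.mapDerivedCategory ⟶ G.mapDerivedCategory :=
    (mapDerCompIso c).hom
  let β : F.mapDerivedCategory ⋙ G.mapDerivedCategory ⟶ G.mapDerivedCategory :=
    Functor.whiskerRight (mapDerIdIso e).hom G.mapDerivedCategory ≫ (Functor.leftUnitor _).hom
  suffices h : α = β by
    have := congr_app h K
    simpa [α, β] using this
  apply natTrans_ext_Q
  intro K
  have hβ : β.app (Q.obj K) = G.mapDerivedCategory.map ((mapDerIdIso e).hom.app (Q.obj K)) :=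
    comp_id _
  rw [hβ]
  dsimp only [α]
  rw [mapDerCompIso_hom_app_Q, mapDerIdIso_hom_app_Q, ← cancel_mono (fac G K).hom]
  simp only [assoc, Iso.inv_hom_id, comp_id, Functor.map_comp]
  rw [map_fac_hom]
  congr 3
  ext n
  simp only [cxComp_hom_f, Functor.mapHomologicalComplex_map_f, cxToId_f, hc]
  rfl

end unit

section shift

variable {D : Type*} [Category* D] [HasShift D ℤ]

/-- A natural transformation out of a derived category commutes with shifts if it does so on
complexes. -/
lemma commShift_of_Q {F G : DerivedCategory A ⥤ D} [F.CommShift ℤ] [G.CommShift ℤ] (τ : F ⟶ G)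
    [h : NatTrans.CommShift (Functor.whiskerLeft Q τ) ℤ] : NatTrans.CommShift τ ℤ := by
  constructor
  intro a
  apply natTrans_ext_Q
  intro K
  have := NatTrans.shift_app_comm (Functor.whiskerLeft Q τ) a K
  simp only [Functor.commShiftIso_comp_hom_app, Functor.whiskerLeft_app, assoc] at this
  have nat := τ.naturality ((Q.commShiftIso a).hom.app K)
  simp only [Functor.comp_obj] at nat this ⊢
  rw [← reassoc_of% nat] at this
  simpa using (cancel_epi _).1 this

variable {F : A ⥤ B} {G : B ⥤ C} {H : A ⥤ C}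
    [F.Additive] [PreservesFiniteLimits F] [PreservesFiniteColimits F]
    [G.Additive] [PreservesFiniteLimits G] [PreservesFiniteColimits G]
    [H.Additive] [PreservesFiniteLimits H] [PreservesFiniteColimits H]

/-- `cxComp` as a natural isomorphism. -/
noncomputable def cxCompIso (e : F ⋙ G ≅ H) : cx F ⋙ cx G ≅ cx H :=
  NatIso.ofComponents (fun K => cxComp e K) (fun f => by
    ext n
    simp only [HomologicalComplex.comp_f, cxComp_hom_f, Functor.comp_map,
      Functor.mapHomologicalComplex_map_f]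
    exact e.hom.naturality (f.f n))

instance (e : F ⋙ G ≅ H) : NatTrans.CommShift (cxCompIso e).hom ℤ := by
  constructor
  intro a
  ext K n
  have h1 : ((shiftFunctor (CochainComplex C ℤ) a).map (cxComp e K).hom).f n =
      e.hom.app (K.X (n + a)) := cxComp_hom_f e K (n + a)
  have h2 : (cxComp e ((shiftFunctor (CochainComplex A ℤ) a).obj K)).hom.f n =
      e.hom.app (K.X (n + a)) := cxComp_hom_f e _ n
  simp only [cxCompIso, NatTrans.comp_app, Functor.whiskerRight_app, Functor.whiskerLeft_app,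
    HomologicalComplex.comp_f, NatIso.ofComponents_hom_app, Functor.commShiftIso_comp_hom_app,
    Functor.mapHomologicalComplex_commShiftIso_hom_app_f, Functor.mapHomologicalComplex_map_f,
    h1, h2]
  refine Eq.trans ?_ (comp_id _).symm
  refine Eq.trans (congrArg (· ≫ e.hom.app (K.X (n + a))) (?_ : _ = 𝟙 (G.obj (F.obj (K.X (n + a))))))
    (id_comp _)
  exact (comp_id _).trans (G.map_id _)

/-- the isomorphism of functors `Q ⋙ F' ⋙ G' ≅ Q ⋙ H'` -/
noncomputable def qComp (e : F ⋙ G ≅ H) :
    Q ⋙ (F.mapDerivedCategory ⋙ G.mapDerivedCategory) ≅ Q ⋙ H.mapDerivedCategory :=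
  (Functor.associator _ _ _).symm ≪≫
    Functor.isoWhiskerRight F.mapDerivedCategoryFactors G.mapDerivedCategory ≪≫
      Functor.associator _ _ _ ≪≫
      Functor.isoWhiskerLeft _ G.mapDerivedCategoryFactors ≪≫ (Functor.associator _ _ _).symm ≪≫
      Functor.isoWhiskerRight (cxCompIso e) Q ≪≫ H.mapDerivedCategoryFactors.symm

instance (e : F ⋙ G ≅ H) : NatTrans.CommShift (qComp e).hom ℤ := by
  dsimp only [qComp, Iso.trans_hom, Functor.isoWhiskerRight_hom, Functor.isoWhiskerLeft_hom]
  infer_instance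

instance commShift_mapDerCompIso (e : F ⋙ G ≅ H) :
    NatTrans.CommShift (mapDerCompIso e).hom ℤ := by
  have : NatTrans.CommShift (Functor.whiskerLeft Q (mapDerCompIso e).hom) ℤ := by
    have h : Functor.whiskerLeft Q (mapDerCompIso e).hom = (qComp e).hom := by
      ext K
      rw [Functor.whiskerLeft_app, mapDerCompIso_hom_app_Q]
      simp [qComp, cxCompIso]
    rw [h]
    infer_instance
  exact commShift_of_Q _

end shift

end Groth.Agent.Sga4h.ExMap
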