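import Groth.Agent.Sga4h.ExtLES
import Groth.Agent.Sga4h.ExtFree
import Groth.Agent.Sga4h.ContraDev
import Groth.Agent.Etrest.ModCons

/-!
# Constructibility of local Ext sheaves, abstract form

`G` a sheaf of `Λ`-modules on a Noetherian scheme `X`, `j : X₀ ⟶ X` a morphism.  The property
"`j^* Ext^q(F, G)` is constructible for all `q`" is reduced, for all constructible `F`, to
"`j^* R^q h_* h^* G` is constructible" for `h : U ⟶ X` étale of finite type.
-/

set_option autoImplicit false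
universe u

open CategoryTheory CategoryTheory.Limits AlgebraicGeometry Opposite TopologicalSpace
open scoped ZeroObject

namespace Groth.Agent.Sga4h.ExtCons

open Groth.Agent.Etcore.LFree Groth.Agent.Sga4h.GalDatum Groth.Agent.Sga4h.GalClass
  Groth.Agent.Sga4h.GalQ Groth.Agent.Sga4h.GalSyz Groth.Agent.Sga4h.ContraDev
  Groth.Agent.Sga4h.LamDev Groth.Agent.Sga4h.ExtLES

variable {Λ : Type (u + 1)} [CommRing Λ] {X X₀ : Scheme.{u}}

variable (Λ X) in
/-- Constructible sheaves of `Λ`-modules are closed under subobjects, quotients and extensions. -/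
structure SerreCons : Prop where
  sub : ∀ ⦃F G : EtModW.Mod Λ X⦄ (i : F ⟶ G) [Mono i], EtModW.IsConstructible Λ G →
    EtModW.IsConstructible Λ F
  quot : ∀ ⦃F G : EtModW.Mod Λ X⦄ (p : F ⟶ G) [Epi p], EtModW.IsConstructible Λ F →
    EtModW.IsConstructible Λ G
  ext : ∀ S : ShortComplex (EtModW.Mod Λ X), S.ShortExact → EtModW.IsConstructible Λ S.X₁ →
    EtModW.IsConstructible Λ S.X₃ → EtModW.IsConstructible Λ S.X₂

theorem SerreCons.mid (h : SerreCons Λ X) {S : ShortComplex (EtModW.Mod Λ X)} (hS : S.Exact)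
    (h₁ : EtModW.IsConstructible Λ S.X₁) (h₃ : EtModW.IsConstructible Λ S.X₃) :
    EtModW.IsConstructible Λ S.X₂ := by
  let K := ShortComplex.mk (kernel.ι S.g) (Limits.factorThruImage S.g) (by
    rw [← cancel_mono (Limits.image.ι S.g), Category.assoc, Limits.image.fac, kernel.condition,
      zero_comp])
  have hK : K.ShortExact :=
    { exact := by
        have h1 : (ShortComplex.mk (kernel.ι S.g) S.g (kernel.condition S.g)).Exact :=
          ShortComplex.exact_of_f_is_kernel _ (kernelIsKernel S.g)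
        let φ : K ⟶ ShortComplex.mk (kernel.ι S.g) S.g (kernel.condition S.g) :=
          { τ₁ := 𝟙 _
            τ₂ := 𝟙 _
            τ₃ := Limits.image.ι S.g
            comm₁₂ := by simp [K]
            comm₂₃ := by simp [K] }
        have hφ1 : Epi φ.τ₁ := inferInstanceAs (Epi (𝟙 _))
        have hφ2 : IsIso φ.τ₂ := inferInstanceAs (IsIso (𝟙 _))
        have hφ3 : Mono φ.τ₃ := inferInstanceAs (Mono (Limits.image.ι S.g))
        exact (ShortComplex.exact_iff_of_epi_of_isIso_of_mono φ).2 h1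
      mono_f := inferInstanceAs (Mono (kernel.ι S.g))
      epi_g := inferInstanceAs (Epi (Limits.factorThruImage S.g)) }
  have h2 : Epi (kernel.lift S.g S.f S.zero) := (S.exact_iff_epi_kernel_lift).1 hS
  exact h.ext K hK (h.quot (kernel.lift S.g S.f S.zero) h₁) (h.sub (Limits.image.ι S.g) h₃)

/-- The graded property. -/
def PExt (G : EtModW.Mod Λ X) (j : X₀ ⟶ X) (q : ℕ) (F : EtModW.Mod Λ X) : Prop :=
  EtModW.IsConstructible Λ ((EtModW.pull Λ j).obj ((EtModD.extSheaf F q).obj G))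

theorem isZero_extSheaf {F : EtModW.Mod Λ X} (hF : IsZero F) (G : EtModW.Mod Λ X) (q : ℕ) :
    IsZero ((EtModD.extSheaf F q).obj G) := by
  have h1 : ∀ q, (extMap (0 : F ⟶ F) q).app G = 𝟙 _ := by
    intro q
    rw [← hF.eq_of_src (𝟙 F) 0, extMap_id]
    rfl
  let S : ShortComplex (EtModW.Mod Λ X) := ShortComplex.mk (0 : F ⟶ F) (0 : F ⟶ F) (by simp)
  have hS : S.ShortExact :=
    { exact := ShortComplex.exact_of_isZero_X₂ S hF
      mono_f := ⟨fun a b _ => hF.eq_of_tgt a b⟩
      epi_g := ⟨fun a b _ => hF.eq_of_src a b⟩ }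
  obtain ⟨d, -, h2, -, -⟩ := exists_les' S hS G
  obtain ⟨w, h3⟩ := h2 q
  rw [IsZero.iff_id_eq_zero]
  have h4 : (extMap (0 : F ⟶ F) q).app G ≫ (extMap (0 : F ⟶ F) q).app G = 0 := w
  rw [h1, Category.comp_id] at h4
  exact h4

theorem isConstructible_of_isZero {F : EtModW.Mod Λ X} (hF : IsZero F) :
    EtModW.IsConstructible Λ F := by
  have h0 : ∀ (T : X.Etale) (s : EtModW.sect Λ F T), s = 0 := fun T s => by
    have h1 : Groth.Agent.Etcore.LVan.ev (𝟙 F) T s = Groth.Agent.Etcore.LVan.ev (0 : F ⟶ F) T s := by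
      rw [hF.eq_of_src (𝟙 F) 0]
    exact h1
  refine Groth.Agent.Etcore.LCrit.isConstructible_of_good _ fun x => ?_
  refine ⟨EtCoh.top X, x, rfl, PUnit, inferInstance, inferInstance, inferInstance, 0, Set.univ,
    ?_, trivial, fun c _ => ⟨fun m _ => rfl, fun V g v _ t => ⟨0, ?_⟩⟩⟩
  · exact Topology.IsLocallyConstructible.univ
  · exact Groth.Agent.Etcore.LVan.van_zero_of_eq (h0 _ _) _

theorem cdev (h : SerreCons Λ X₀) (G : EtModW.Mod Λ X) (j : X₀ ⟶ X) : CDev (PExt G j) where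
  zero q F hF := by
    refine isConstructible_of_isZero ?_
    exact (EtModW.pull Λ j).map_isZero (isZero_extSheaf hF G q)
  mid q S hS h₁ h₃ := by
    obtain ⟨a, b, d, -, h2, -, -⟩ := exists_les S hS G
    obtain ⟨w, h4⟩ := h2 q
    exact h.mid (Groth.Agent.Etrest.ModCons.exact_pull j h4) h₃ h₁
  right₀ S hS h₂ := by
    obtain ⟨a, b, d, h1, -, -, -⟩ := exists_les S hS G
    have h3 : Mono ((EtModW.pull Λ j).map (a 0)) := inferInstance
    exact h.sub ((EtModW.pull Λ j).map (a 0)) h₂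
  right q S hS h₁ h₂ := by
    obtain ⟨a, b, d, -, -, -, h2⟩ := exists_les S hS G
    obtain ⟨w, h4⟩ := h2 q
    exact h.mid (Groth.Agent.Etrest.ModCons.exact_pull j h4) h₁ h₂

/-- The property for `Λ[U]`. -/
theorem PExt_LM (G : EtModW.Mod Λ X) (j : X₀ ⟶ X) (U : X.Etale) (q : ℕ)
    (h : EtModW.IsConstructible Λ ((EtModW.pull Λ j).obj
      ((EtModW.Rpush Λ U.hom q).obj ((EtModW.pull Λ U.hom).obj G)))) : PExt G j q (LM Λ U) := by
  obtain ⟨e⟩ := ExtFree.nonempty_extSheaf_iso U (LM Λ U) (gen Λ U) (ExtFree.represents_LM U) q G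
  exact Groth.Agent.Etrest.ModCons.isConstructible_of_iso ((EtModW.pull Λ j).mapIso e.symm) h

end Groth.Agent.Sga4h.ExtCons
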