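import Groth.Agent.Sga4h.DualEt
import Groth.Agent.Sga4h.ModDRHom
import Groth.Agent.Cohder.RDInt

/-!
# The dual of a sheaf placed in degree zero

`A.D (G[0]) ≅ (sheafHom G)(J)`; if `H[0] ⟶ J` is a quasi-isomorphism then the dual of `G[0]` is exact in negative
degrees and its homology in degree `m` is `Ext^m(G, H)`.
-/

set_option autoImplicit false
set_option backward.defeqAttrib.useBackward true
set_option backward.isDefEq.respectTransparency false

universe u v₁ u₁

open CategoryTheory CategoryTheory.Limits AlgebraicGeometry Opposite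

namespace Groth.Agent.Sga4h.ExtD843

open Groth.Agent.Sga4h.DualCx

section Abstract

variable {C : Type u₁} [Category.{v₁} C] [Abelian C] (T : C ⥤ C ⥤ C) [T.Additive] [∀ X, (T.obj X).Additive]
  [∀ (K₁ K₂ : CochainComplex C ℤ), CochainComplex.HasMapBifunctor K₁ K₂ T]
  [∀ E : CochainComplex C ℤ, (T.map₂CochainComplex.flip.obj E).IsLeftAdjoint]

/-- The dual of `F[0]` is computed termwise by the right adjoint of `- ⊗ F`. -/
noncomputable def dSingleIso (J : CochainComplex C ℤ) {F : C} {H : C ⥤ C} [H.Additive]
    (adj : T.flip.obj F ⊣ H) :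
    (dualFun T J).obj (op ((CochainComplex.singleFunctor C 0).obj F)) ≅
      (H.mapHomologicalComplex (ComplexShape.up ℤ)).obj J :=
  ((Adjunction.ofIsLeftAdjoint _).rightAdjointUniq (TensRHom.adjSingle T adj)).app J

/-- Exactness in negative degrees of an additive functor applied to a K-injective resolution of an object. -/
lemma exactAt_of_neg [HasInjectiveResolutions C] {D : Type*} [Category* D] [Abelian D] (F : C ⥤ D) [F.Additive]
    {X : C} {I : CochainComplex C ℤ} [I.IsKInjective]
    (i : (CochainComplex.singleFunctor C 0).obj X ⟶ I) [QuasiIso i] (m : ℤ) (hm : m < 0) :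
    ((F.mapHomologicalComplex (ComplexShape.up ℤ)).obj I).ExactAt m := by
  have h := Cohder.RDInt.isIso_homologyMap_lift F i (injectiveResolution X) m
  rw [HomologicalComplex.exactAt_iff_isZero_homology]
  refine IsZero.of_iso ?_ (asIso (HomologicalComplex.homologyMap ((F.mapHomologicalComplex (ComplexShape.up ℤ)).map
    (Cohder.RDInt.lift (injectiveResolution X) i)) m)).symm
  rw [← HomologicalComplex.exactAt_iff_isZero_homology, HomologicalComplex.exactAt_iff]
  apply ShortComplex.exact_of_isZero_X₂
  exact F.map_isZero ((injectiveResolution X).cochainComplex.isZero_of_isStrictlyGE 0 m hm)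

end Abstract

section Etale

attribute [local instance 5000] CategoryTheory.Abelian.toPreadditive
  CategoryTheory.Preadditive.preadditiveHasZeroMorphisms

open scoped Groth.Agent.Sga4h.ModInst

variable {Λ : Type (u + 1)} [CommRing Λ] {X : Scheme.{u}}

scoped instance (priority := 5000) additive_sheafHom' (G : EtModW.Mod Λ X) [EtModD.HasSheafHom G] :
    (EtModD.sheafHom G).Additive :=
  (EtModD.sheafHomAdj G).right_adjoint_additive

/-- `A.D (G[0]) ≅ Hom(G, J)` termwise. (A theorem and not a definition: proofs nested in definitions are abstracted,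
which makes the kernel very slow here.) -/
theorem nonempty_dIso (J : CochainComplex (EtModW.Mod Λ X) ℤ) (hJ : J.IsKInjective)
    (hJ' : ∀ n, Injective (J.X n)) (G : EtModW.Mod Λ X) [EtModD.HasSheafHom G] :
    Nonempty ((DualEt.dualData J hJ hJ').D ((CochainComplex.singleFunctor (EtModW.Mod Λ X) 0).obj G) ≅
      ((EtModD.sheafHom G).mapHomologicalComplex (ComplexShape.up ℤ)).obj J) :=
  ⟨dSingleIso (EtModD.tensorBi Λ X) J (ModDRHom.flipAdj G)⟩

variable {J : CochainComplex (EtModW.Mod Λ X) ℤ} (hJ : J.IsKInjective) (hJ' : ∀ n, Injective (J.X n))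
  {H : EtModW.Mod Λ X} (i : (CochainComplex.singleFunctor (EtModW.Mod Λ X) 0).obj H ⟶ J) [QuasiIso i]
  (G : EtModW.Mod Λ X)

include i in
/-- The dual of `G[0]` is exact in negative degrees. -/
theorem exactAt_of_neg_D (m : ℤ) (hm : m < 0) :
    ((DualEt.dualData J hJ hJ').D ((CochainComplex.singleFunctor (EtModW.Mod Λ X) 0).obj G)).ExactAt m := by
  have : EtModD.HasSheafHom G := ModDTensor.hasSheafHom G
  have := hJ
  obtain ⟨e⟩ := nonempty_dIso J hJ hJ' G
  exact (exactAt_of_neg (EtModD.sheafHom G) i m hm).of_iso e.symm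

include i in
/-- The homology of the dual of `G[0]` in degree `n ≥ 0` is `Ext^n(G, H)`. -/
theorem nonempty_homology_D [EtModD.HasSheafHom G] (n : ℕ) (m : ℤ) (hm : (n : ℤ) = m) :
    Nonempty (((DualEt.dualData J hJ hJ').D
      ((CochainComplex.singleFunctor (EtModW.Mod Λ X) 0).obj G)).homology m ≅ (EtModD.extSheaf G n).obj H) := by
  have := hJ
  obtain ⟨e⟩ := nonempty_dIso J hJ hJ' G
  exact ⟨(HomologicalComplex.homologyMapIso e m) ≪≫
    (Cohder.RDInt.isoH (EtModD.sheafHom G) i n m hm).symm⟩

include i in
/-- The homology of the dual of `G[0]` in degree `0` is `Hom(G, H)`. -/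
theorem nonempty_homology_D_zero [EtModD.HasSheafHom G] :
    Nonempty (((DualEt.dualData J hJ hJ').D
      ((CochainComplex.singleFunctor (EtModW.Mod Λ X) 0).obj G)).homology 0 ≅ (EtModD.sheafHom G).obj H) := by
  have := hJ
  have : PreservesFiniteLimits (EtModD.sheafHom G) :=
    have := (EtModD.sheafHomAdj G).rightAdjoint_preservesLimits.{0, 0}
    PreservesLimitsOfSize.preservesFiniteLimits.{0, 0} _
  exact ⟨(nonempty_homology_D hJ hJ' i G 0 0 rfl).some ≪≫
    (EtModD.sheafHom G).rightDerivedZeroIsoSelf.app H⟩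

end Etale

end Groth.Agent.Sga4h.ExtD843
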