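import Groth.Agent.Sga4h.HomRes
import Groth.Agent.Sga4h.FunLES
import Groth.Agent.Sga4h.RDExact

/-!
# Long exact sequence of the local Ext sheaves in the first variable

For a short exact sequence `0 → X₁ → X₂ → X₃ → 0` of sheaves of `Λ`-modules on the small etale site and a
sheaf `G`:
`0 → Hom(X₃,G) → Hom(X₂,G) → Hom(X₁,G) → Ext¹(X₃,G) → …`

* `shortExact_homShF`: for `I` injective `0 → Hom(X₃,I) → Hom(X₂,I) → Hom(X₁,I) → 0` is exact;
* `exists_les`: `Ext^n(X₁,G) → Ext^{n+1}(X₃,G) → Ext^{n+1}(X₂,G)` is exact and `Ext^0(X₃,G) → Ext^0(X₂,G)` is mono;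
* `isZero`/`prop` forms.
-/

set_option autoImplicit false

universe u

open CategoryTheory CategoryTheory.Limits MonoidalCategory Opposite TensorProduct AlgebraicGeometry

namespace Groth.Agent.Sga4h.ExtLES91

open HomPre HomSh HomRes

section General

universe v₁ v₂ u₁ u₂

variable {J : Type u₁} [Category.{v₁} J] {D : Type u₂} [Category.{v₂} D] [Abelian D]

lemma exact_of_evaluation (S : ShortComplex (J ⥤ D)) (h : ∀ j, (S.map ((evaluation J D).obj j)).Exact) :
    S.Exact := by
  rw [ShortComplex.exact_iff_isZero_homology, Functor.isZero_iff]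
  intro j
  have h' := (ShortComplex.exact_iff_isZero_homology _).1 (h j)
  exact h'.of_iso (S.mapHomologyIso ((evaluation J D).obj j)).symm

lemma shortExact_of_evaluation (S : ShortComplex (J ⥤ D))
    (h : ∀ j, (S.map ((evaluation J D).obj j)).ShortExact) : S.ShortExact where
  exact := exact_of_evaluation S (fun j => (h j).exact)
  mono_f := by
    have : ∀ j, Mono (S.f.app j) := fun j => (h j).mono_f
    exact NatTrans.mono_of_mono_app _
  epi_g := by
    have : ∀ j, Epi (S.g.app j) := fun j => (h j).epi_g
    exact NatTrans.epi_of_epi_app _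

end General

variable {Λ : Type (u + 1)} [CommRing Λ] {X : Scheme.{u}}

/-- A short complex of sheaves which is short exact on sections is short exact. -/
theorem shortExact_of_sections (S : ShortComplex (EtModW.Mod Λ X))
    (h1 : ∀ W : X.Etale, Function.Injective (S.f.hom.app (op W)))
    (h2 : ∀ (W : X.Etale) (s : S.X₂.obj.obj (op W)), S.g.hom.app (op W) s = 0 →
      ∃ t : S.X₁.obj.obj (op W), S.f.hom.app (op W) t = s)
    (h3 : ∀ W : X.Etale, Function.Surjective (S.g.hom.app (op W))) : S.ShortExact := by
  let i := sheafToPresheaf X.smallEtaleTopology (ModuleCat.{u + 1} Λ)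
  let a := presheafToSheaf X.smallEtaleTopology (ModuleCat.{u + 1} Λ)
  have : i.PreservesZeroMorphisms := inferInstance
  have hp : (S.map i).ShortExact := by
    refine shortExact_of_evaluation _ (fun W => ?_)
    have hmono : Mono ((S.map i).map ((evaluation _ _).obj W)).f :=
      (ModuleCat.mono_iff_injective _).2 (h1 W.unop)
    have hepi : Epi ((S.map i).map ((evaluation _ _).obj W)).g :=
      (ModuleCat.epi_iff_surjective _).2 (h3 W.unop)
    refine ShortComplex.ShortExact.mk ?_
    rw [ShortComplex.moduleCat_exact_iff]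
    exact fun s hs => h2 W.unop s hs
  have ha := hp.map_of_exact a
  let e : i ⋙ a ≅ 𝟭 _ := asIso (sheafificationAdjunction X.smallEtaleTopology (ModuleCat.{u + 1} Λ)).counit
  exact ShortComplex.shortExact_of_iso (ShortComplex.mapNatIso S e) ha

/-- `Hom(-, I)` is exact for `I` injective. -/
theorem shortExact_homShF (S : ShortComplex (EtModW.Mod Λ X)) (hS : S.ShortExact)
    (w : ∀ M, (homShFMap S.g).app M ≫ (homShFMap S.f).app M = 0) (I : EtModW.Mod Λ X) [Injective I] :
    (ShortComplex.mk ((homShFMap S.g).app I) ((homShFMap S.f).app I) (w I)).ShortExact := by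
  have := hS.mono_f
  have := hS.epi_g
  exact shortExact_of_sections _ (fun W => injective_of_epi S.g W)
    (fun W φ hφ => exact_of_epi S hS.exact W φ hφ) (fun W => surjective_of_mono S.f W)

end Groth.Agent.Sga4h.ExtLES91
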