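import Groth.Agent.Sga4h.GalDatumExGeo

/-!
# Existence of Galois data: the open pieces
-/

set_option autoImplicit false
universe u

open CategoryTheory CategoryTheory.Limits AlgebraicGeometry Topology

namespace Groth.Agent.Sga4h.GalDatum

theorem exists_open_data {X U : Scheme.{u}} [IsNoetherian X] [IsNoetherian U] (h : U ⟶ X) [Etale h] (u : U)
    (hgal : IsGal h u) (huniq : ∀ v, h v = h u → v = u) :
    ∃ (d : ℕ) (G : Fin d → (pullback h h).Opens) (W : X.Opens), h u ∈ W ∧ (W : Set X) ⊆ Set.range h ∧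
      (∀ e : ↑(pullback h h), h (pullback.fst h h e) ∈ W → h u ⤳ h (pullback.fst h h e) →
        ∃ i, e ∈ G i) ∧
      (∀ i j, i ≠ j → ∀ e : ↑(pullback h h), h (pullback.fst h h e) ∈ W →
        h u ⤳ h (pullback.fst h h e) → ¬ (e ∈ G i ∧ e ∈ G j)) ∧
      (∀ (i : Fin d) (z : ↑(pullback (pullback.fst h h) (pullback.fst h h))),
        h (pullback.fst h h (pullback.fst (pullback.fst h h) (pullback.fst h h) z)) ∈ W →
        h u ⤳ h (pullback.fst h h (pullback.fst (pullback.fst h h) (pullback.fst h h) z)) →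
        pullback.fst (pullback.fst h h) (pullback.fst h h) z ∈ G i →
        pullback.snd (pullback.fst h h) (pullback.fst h h) z ∈ G i →
        z ∈ Set.range (pullback.diagonal (pullback.fst h h))) ∧
      (∀ (i : Fin d) (v : U), h v ∈ W → h u ⤳ h v → ∃ e ∈ G i, pullback.fst h h e = v) := by
  let p₁ := pullback.fst h h
  let p₂ := pullback.snd h h
  let Q := pullback p₁ p₁
  have hp₁ : Etale p₁ := inferInstance
  have hE : IsLocallyNoetherian (pullback h h) := LocallyOfFiniteType.isLocallyNoetherian p₁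
  have hEc : CompactSpace ↑(pullback h h) := QuasiCompact.compactSpace_of_compactSpace p₁
  have hEN : IsNoetherian (pullback h h) := { __ := hE, __ := hEc }
  have hQ : IsLocallyNoetherian Q := LocallyOfFiniteType.isLocallyNoetherian (pullback.fst p₁ p₁)
  have hQc : CompactSpace ↑Q := QuasiCompact.compactSpace_of_compactSpace (pullback.fst p₁ p₁)
  have hQN : IsNoetherian Q := { __ := hQ, __ := hQc }
  have hlqf : LocallyQuasiFinite (p₁ ≫ h) := Groth.Agent.Desc.LQF.of_etale _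
  let F : Set ↑(pullback h h) := (p₁ ≫ h) ⁻¹' {h u}
  have hF : F.Finite := (p₁ ≫ h).finite_preimage_singleton _
  have hFd : _root_.IsDiscrete F := (p₁ ≫ h).isDiscrete_preimage_singleton _
  have hFmem : ∀ e : ↑(pullback h h), h (p₁ e) = h u → e ∈ F := fun e he => he
  have hF' : Finite F := hF
  let ε : F ≃ Fin (Nat.card F) := Finite.equivFin F
  have hG : ∀ e : F, ∃ G : (pullback h h).Opens, (G : Set ↑(pullback h h)) ∩ F = {e.1} := by
    intro e
    obtain ⟨G, hG, hG'⟩ := isDiscrete_iff_forall_mem_exists_isOpen.mp hFd e.1 e.2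
    exact ⟨⟨G, hG⟩, hG'⟩
  choose G₀ hG₀ using hG
  let G : Fin (Nat.card F) → (pullback h h).Opens := fun i => G₀ (ε.symm i)
  have hGmem : ∀ i, (ε.symm i).1 ∈ G i := by
    intro i
    have : (ε.symm i).1 ∈ (G i : Set ↑(pullback h h)) ∩ F := by rw [hG₀]; rfl
    exact this.1
  have hGuniq : ∀ i (e : ↑(pullback h h)), e ∈ G i → h (p₁ e) = h u → e = (ε.symm i).1 := by
    intro i e he he'
    have : e ∈ (G i : Set ↑(pullback h h)) ∩ F := ⟨he, hFmem e he'⟩
    rw [hG₀] at this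
    exact this
  -- points over `ξ`
  have hover₁ : ∀ e : ↑(pullback h h), h (p₁ e) = h u → p₁ e = u := fun e he => huniq _ he
  have hover₂ : ∀ e : ↑(pullback h h), h (p₁ e) = h u → p₂ e = u := by
    intro e he
    apply huniq
    rw [← he, ← Scheme.Hom.comp_apply, ← Scheme.Hom.comp_apply, pullback.condition]
  -- the conditions
  obtain ⟨W₀, hW₀, hW₀'⟩ : ∃ W : X.Opens, h u ∈ W ∧ (W : Set X) ⊆ Set.range h := by
    refine ⟨⟨Set.range h, h.isOpenMap.isOpen_range⟩, ⟨u, rfl⟩, le_rfl⟩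
  obtain ⟨W₁, hW₁, hW₁'⟩ := exists_open_avoid (p₁ ≫ h) (S := (⋃ i, (G i : Set ↑(pullback h h)))ᶜ)
    (isConstructible_of_isOpen (isOpen_iUnion fun i => (G i).isOpen)).compl (h u) (by
      intro e he he'
      apply he
      refine Set.mem_iUnion.mpr ⟨ε ⟨e, he'⟩, ?_⟩
      have := hGmem (ε ⟨e, he'⟩)
      rwa [ε.symm_apply_apply] at this)
  obtain ⟨W₂, hW₂, hW₂'⟩ := exists_open_forall (h u) (ι := { p : Fin (Nat.card F) × Fin (Nat.card F) // p.1 ≠ p.2 })
    (P := fun p x => h u ⤳ x → ∀ e : ↑(pullback h h), h (p₁ e) = x → ¬ (e ∈ G p.1.1 ∧ e ∈ G p.1.2)) (by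
      rintro ⟨⟨i, j⟩, hij⟩
      obtain ⟨W, hW, hW'⟩ := exists_open_avoid (p₁ ≫ h)
        (S := (G i : Set ↑(pullback h h)) ∩ (G j : Set ↑(pullback h h)))
        ((isConstructible_of_isOpen (G i).isOpen).inter (isConstructible_of_isOpen (G j).isOpen)) (h u) (by
          rintro e ⟨he, he'⟩ heu
          have h1 := hGuniq i e he heu
          have h2 := hGuniq j e he' heu
          exact hij (ε.symm.injective (Subtype.ext (h1.symm.trans h2))))
      refine ⟨W, hW, fun x hx hs e he he' => ?_⟩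
      subst he
      exact hW' e hx hs he')
  obtain ⟨W₃, hW₃, hW₃'⟩ := exists_open_forall (h u) (ι := Fin (Nat.card F))
    (P := fun i x => h u ⤳ x → ∀ z : ↑(pullback p₁ p₁), h (p₁ (pullback.fst p₁ p₁ z)) = x →
      pullback.fst p₁ p₁ z ∈ G i → pullback.snd p₁ p₁ z ∈ G i → z ∈ Set.range (pullback.diagonal p₁)) (by
      intro i
      have hD : IsOpen (Set.range (pullback.diagonal p₁)) := (pullback.diagonal p₁).isOpenEmbedding.isOpen_range
      obtain ⟨W, hW, hW'⟩ := exists_open_avoid (pullback.fst p₁ p₁ ≫ p₁ ≫ h)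
        (S := (((pullback.fst p₁ p₁) ⁻¹' (G i : Set ↑(pullback h h))) ∩
          ((pullback.snd p₁ p₁) ⁻¹' (G i : Set ↑(pullback h h)))) ∩ (Set.range (pullback.diagonal p₁))ᶜ)
        (((isConstructible_of_isOpen ((G i).isOpen.preimage (pullback.fst p₁ p₁).continuous)).inter
          (isConstructible_of_isOpen ((G i).isOpen.preimage (pullback.snd p₁ p₁).continuous))).inter
            (isConstructible_of_isOpen hD).compl) (h u) (by
          rintro z ⟨⟨hz₁, hz₂⟩, hz₃⟩ hz
          apply hz₃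
          have hz' : h (p₁ (pullback.snd p₁ p₁ z)) = h u := by
            rw [← hz, ← Scheme.Hom.comp_apply, ← Scheme.Hom.comp_apply, ← pullback.condition_assoc]
          have h1 := hGuniq i _ hz₁ hz
          have h2 := hGuniq i _ hz₂ hz'
          have h3 : h (p₁ (ε.symm i).1) = h u := (ε.symm i).2
          exact mem_range_diagonal p₁ (ε.symm i).1
            (residueFieldMap_fst_surjective h u hgal _ (hover₁ _ h3) (hover₂ _ h3)) z h1 h2)
      refine ⟨W, hW, fun x hx hs z hz hz₁ hz₂ => ?_⟩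
      subst hz
      by_contra hcon
      exact hW' z hx hs ⟨⟨hz₁, hz₂⟩, hcon⟩)
  obtain ⟨W₄, hW₄, hW₄'⟩ := exists_open_forall (h u) (ι := Fin (Nat.card F))
    (P := fun i x => h u ⤳ x → ∀ v : U, h v = x → ∃ e ∈ G i, p₁ e = v) (by
      intro i
      obtain ⟨W, hW, hW'⟩ := exists_open_avoid h (S := (p₁ '' (G i : Set ↑(pullback h h)))ᶜ)
        (isConstructible_of_isOpen (p₁.isOpenMap _ (G i).isOpen)).compl (h u) (by
          intro v hv hv'
          apply hv
          refine ⟨(ε.symm i).1, hGmem i, ?_⟩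
          rw [huniq v hv']
          exact hover₁ _ (ε.symm i).2)
      refine ⟨W, hW, fun x hx hs v hv => ?_⟩
      subst hv
      by_contra hcon
      apply hW' v hx hs
      rintro ⟨e, he, he'⟩
      exact hcon ⟨e, he, he'⟩)
  refine ⟨Nat.card F, G, W₀ ⊓ W₁ ⊓ W₂ ⊓ W₃ ⊓ W₄, ⟨⟨⟨⟨hW₀, hW₁⟩, hW₂⟩, hW₃⟩, hW₄⟩, ?_, ?_, ?_, ?_, ?_⟩
  · exact fun x hx => hW₀' hx.1.1.1.1
  · intro e he hs
    have := hW₁' e he.1.1.1.2 hs
    rw [Set.mem_compl_iff, not_not] at this
    exact Set.mem_iUnion.mp this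
  · intro i j hij e he hs
    exact hW₂' _ he.1.1.2 ⟨⟨i, j⟩, hij⟩ hs e rfl
  · intro i z hz hs hz₁ hz₂
    exact hW₃' _ hz.1.2 i hs z rfl hz₁ hz₂
  · intro i v hv hs
    exact hW₄' _ hv.2 i hs v rfl

end Groth.Agent.Sga4h.GalDatum
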