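import Groth.Agent.Sga4h.GalDatum
import Groth.Agent.Sga4h.GalDatumExOpen

/-!
# Existence of Galois data

`exists_datum`: on a Noetherian scheme `X`, every étale neighbourhood `(U₁, u₁)` of a point `ξ`, with a locally
constructible set `C ∋ u₁`, is refined by a Galois datum `D`, over an open neighbourhood `W` of `ξ`: `D.V` maps onto
`W ∩ closure {ξ}` and its image in `U₁` is contained in `C`.
-/

set_option autoImplicit false
set_option backward.isDefEq.respectTransparency false
universe u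

open CategoryTheory CategoryTheory.Limits AlgebraicGeometry Topology

namespace Groth.Agent.Sga4h.GalDatum

section Sub

variable {X : Scheme.{u}}

/-- An open subscheme of an étale `X`-scheme, as an object of the small étale site. -/
noncomputable abbrev subMk {U : Scheme.{u}} (h : U ⟶ X) [Etale h] (G : U.Opens) : X.Etale :=
  Scheme.Etale.mk (G.ι ≫ h)

/-- The composition with the inclusion. -/
noncomputable def proj {U : Scheme.{u}} {h : U ⟶ X} [Etale h] {G : U.Opens} {T : X.Etale} (k : T ⟶ subMk h G) :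
    T.left ⟶ U := k.left ≫ G.ι

/-- The lift of a morphism to an open subobject. -/
noncomputable def liftTo {U : Scheme.{u}} (h : U ⟶ X) [Etale h] (G : U.Opens) {T : X.Etale} (f : T.left ⟶ U)
    (w : f ≫ h = T.hom) (hf : ∀ t, f t ∈ G) : T ⟶ subMk h G :=
  MorphismProperty.Over.homMk (IsOpenImmersion.lift G.ι f (by
    rintro _ ⟨s, rfl⟩
    exact (Set.ext_iff.mp G.range_ι _).mpr (hf s))) (by
    change IsOpenImmersion.lift G.ι f _ ≫ G.ι ≫ h = _
    rw [IsOpenImmersion.lift_fac_assoc, w])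

section

variable {U : Scheme.{u}} {h : U ⟶ X} [Etale h] {G : U.Opens}

theorem proj_w {T : X.Etale} (k : T ⟶ subMk h G) : proj k ≫ h = T.hom := by
  have := MorphismProperty.Over.w k
  rw [proj, Category.assoc]
  exact this

theorem proj_apply {T : X.Etale} (k : T ⟶ subMk h G) (t : T.left) : proj k t = G.ι (k.left t) := rfl

theorem proj_mem {T : X.Etale} (k : T ⟶ subMk h G) (t : T.left) : proj k t ∈ G := (k.left t).2

theorem proj_ext {T : X.Etale} {k k' : T ⟶ subMk h G} (hk : proj k = proj k') : k = k' := by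
  apply MorphismProperty.Over.Hom.ext
  exact (cancel_mono G.ι).mp hk

theorem proj_comp {T T' : X.Etale} (j : T' ⟶ T) (k : T ⟶ subMk h G) : proj (j ≫ k) = j.left ≫ proj k :=
  Category.assoc j.left k.left G.ι

theorem proj_liftTo {T : X.Etale} (f : T.left ⟶ U) (w : f ≫ h = T.hom) (hf : ∀ t, f t ∈ G) :
    proj (liftTo h G f w hf) = f :=
  IsOpenImmersion.lift_fac _ _ _

end

/-- The map of open subobjects induced by a morphism. -/
noncomputable def mapTo {U E : Scheme.{u}} (h : U ⟶ X) [Etale h] (e : E ⟶ X) [Etale e] (G : U.Opens)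
    (G' : E.Opens) (p : E ⟶ U) (w : p ≫ h = e) (hp : ∀ x ∈ G', p x ∈ G) : subMk e G' ⟶ subMk h G :=
  liftTo h G (T := subMk e G') (G'.ι ≫ p) (by rw [Category.assoc, w]; rfl) (fun t => hp _ t.2)

theorem proj_comp_mapTo {U E : Scheme.{u}} {h : U ⟶ X} [Etale h] {e : E ⟶ X} [Etale e] {G : U.Opens}
    {G' : E.Opens} (p : E ⟶ U) (w : p ≫ h = e) (hp : ∀ x ∈ G', p x ∈ G) {T : X.Etale} (k : T ⟶ subMk e G') :
    proj (k ≫ mapTo h e G G' p w hp) = proj k ≫ p := by
  rw [proj_comp]
  have : proj (mapTo h e G G' p w hp) = G'.ι ≫ p := proj_liftTo _ _ _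
  rw [this, proj, Category.assoc]

theorem ι_mapTo {U E : Scheme.{u}} {h : U ⟶ X} [Etale h] {e : E ⟶ X} [Etale e] {G : U.Opens}
    {G' : E.Opens} (p : E ⟶ U) (w : p ≫ h = e) (hp : ∀ x ∈ G', p x ∈ G) (t : (subMk e G').left) :
    G.ι ((mapTo h e G G' p w hp).left t) = p (G'.ι t) := by
  have : (mapTo h e G G' p w hp).left ≫ G.ι = G'.ι ≫ p := proj_liftTo _ _ _
  have h2 := congr($this t)
  exact h2

/-- The inclusion of an open subobject. -/
noncomputable def incl (T : X.Etale) (G : T.left.Opens) : subMk T.hom G ⟶ T :=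
  MorphismProperty.Over.homMk G.ι rfl

theorem incl_left (T : X.Etale) (G : T.left.Opens) : (incl T G).left = G.ι := rfl

end Sub

/-- The Galois datum attached to the open pieces. -/
theorem exists_datum_of_open {X U : Scheme.{u}} [IsNoetherian X] [IsNoetherian U] (h : U ⟶ X) [Etale h] (u : U)
    (hgal : IsGal h u) (huniq : ∀ v, h v = h u → v = u) (O : X.Opens) (hO : h u ∈ O) :
    ∃ (D : Datum X) (π : D.U.left ⟶ U) (W : X.Opens), π ≫ h = D.U.hom ∧ W ≤ O ∧ h u ∈ W ∧
      Set.range D.U.hom ⊆ (W : Set X) ∧ D.U.hom '' D.V = (W : Set X) ∩ closure {h u} ∧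
      (∀ v ∈ D.V, u ⤳ π v) ∧ CompactSpace D.U.left := by
  obtain ⟨d, G, W₀, hW₀, hrange, hcov, hdisj, huq, hsurj⟩ := exists_open_data h u hgal huniq
  let W : X.Opens := W₀ ⊓ O
  let p₁ := pullback.fst h h
  let p₂ := pullback.snd h h
  let UW : U.Opens := h ⁻¹ᵁ W
  let EW : Fin d → (pullback h h).Opens := fun i => G i ⊓ (p₁ ≫ h) ⁻¹ᵁ W
  have hp₁ : ∀ i, ∀ e ∈ EW i, p₁ e ∈ UW := fun i e he => he.2
  have hp₂ : ∀ i, ∀ e ∈ EW i, p₂ e ∈ UW := by
    intro i e he
    have h1 : (p₁ ≫ h) e ∈ W := he.2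
    have h2 : (p₂ ≫ h) e ∈ W := by rwa [← pullback.condition]
    exact h2
  let a := fun i => mapTo h (p₁ ≫ h) UW (EW i) p₁ rfl (hp₁ i)
  let b := fun i => mapTo h (p₁ ≫ h) UW (EW i) p₂ pullback.condition.symm (hp₂ i)
  let V : Set (subMk h UW).left := { v | h u ⤳ h (UW.ι v) }
  have hV : ∀ v : (subMk h UW).left, v ∈ V ↔ u ⤳ UW.ι v := by
    intro v
    refine ⟨fun hv => ?_, fun hv => hv.map h.continuous⟩
    obtain ⟨u', hu', hu''⟩ := Flat.generalizingMap h hv
    rw [huniq u' hu''] at hu'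
    exact hu'
  have hWmem : ∀ {x : X}, x ∈ W → x ∈ W₀ := fun hx => hx.1
  have hUW : ∀ v : (subMk h UW).left, h (UW.ι v) ∈ W := fun v => v.2
  have hEW : ∀ i (e : (subMk (p₁ ≫ h) (EW i)).left), h (p₁ ((EW i).ι e)) ∈ W := fun i e => e.2.2
  -- the key translation
  have haV : ∀ i {T : X.Etale} (k : T ⟶ subMk (p₁ ≫ h) (EW i)) (t : T.left),
      (a i).left (k.left t) ∈ V → h u ⤳ h (p₁ (proj k t)) := by
    intro i T k t ht
    have h1 : UW.ι ((a i).left (k.left t)) = p₁ ((EW i).ι (k.left t)) := ι_mapTo _ _ _ _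
    change h u ⤳ h (UW.ι ((a i).left (k.left t))) at ht
    rw [h1] at ht
    exact ht
  have hprojW : ∀ i {T : X.Etale} (k : T ⟶ subMk (p₁ ≫ h) (EW i)) (t : T.left),
      h (p₁ (proj k t)) ∈ W := fun i T k t => (proj_mem k t).2
  have hprojG : ∀ i {T : X.Etale} (k : T ⟶ subMk (p₁ ≫ h) (EW i)) (t : T.left),
      proj k t ∈ G i := fun i T k t => (proj_mem k t).1
  let D : Datum X :=
    { U := subMk h UW
      V := V
      isClosed := by
        have : V = (UW.ι ≫ h) ⁻¹' closure {h u} := by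
          ext v
          exact specializes_iff_mem_closure
        rw [this]
        exact isClosed_closure.preimage (UW.ι ≫ h).continuous
      irr := by
        have hu : u ∈ UW := ⟨hW₀, hO⟩
        have : V = closure {(⟨u, hu⟩ : (subMk h UW).left)} := by
          ext v
          rw [hV, ← specializes_iff_mem_closure]
          exact UW.ι.isOpenEmbedding.toIsInducing.specializes_iff (x := (⟨u, hu⟩ : (subMk h UW).left)) (y := v)
        rw [this]
        exact isIrreducible_singleton.closure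
      pre := by
        rintro p ⟨v, hv, hvp⟩
        change h u ⤳ h (UW.ι p)
        have : h (UW.ι v) = h (UW.ι p) := hvp
        rw [← this]
        exact hv
      d := d
      E := fun i => subMk (p₁ ≫ h) (EW i)
      a := a
      b := b
      surj := by
        intro i v hv
        obtain ⟨e, he, he'⟩ := hsurj i (UW.ι v) (hWmem (hUW v)) hv
        have heW : e ∈ EW i := by
          refine ⟨he, ?_⟩
          change h (p₁ e) ∈ W
          have : p₁ e = UW.ι v := he'
          rw [this]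
          exact hUW v
        refine ⟨⟨e, heW⟩, ?_⟩
        apply UW.ι.isOpenEmbedding.injective
        refine (ι_mapTo _ _ _ _).trans ?_
        exact he'
      uniq := by
        intro i T k k' t ht hkk
        have h1 : proj k ≫ p₁ = proj k' ≫ p₁ := by
          rw [← proj_comp_mapTo p₁ rfl (hp₁ i) k, ← proj_comp_mapTo p₁ rfl (hp₁ i) k']
          exact congrArg proj hkk
        let z : T.left ⟶ pullback p₁ p₁ := pullback.lift (proj k) (proj k') h1
        have hz₁ : z ≫ pullback.fst p₁ p₁ = proj k := pullback.lift_fst _ _ _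
        have hz₂ : z ≫ pullback.snd p₁ p₁ = proj k' := pullback.lift_snd _ _ _
        have hz₁' : pullback.fst p₁ p₁ (z t) = proj k t := congr($hz₁ t)
        have hz₂' : pullback.snd p₁ p₁ (z t) = proj k' t := congr($hz₂ t)
        let T₀ : T.left.Opens := z ⁻¹ᵁ (pullback.diagonal p₁).opensRange
        have ht₀ : t ∈ T₀ := by
          refine huq i (z t) ?_ ?_ ?_ ?_
          · change h (p₁ (pullback.fst p₁ p₁ (z t))) ∈ W₀
            rw [hz₁']; exact (hprojW i k t).1
          · change h u ⤳ h (p₁ (pullback.fst p₁ p₁ (z t)))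
            rw [hz₁']; exact haV i k t ht
          · change pullback.fst p₁ p₁ (z t) ∈ G i
            rw [hz₁']; exact hprojG i k t
          · change pullback.snd p₁ p₁ (z t) ∈ G i
            rw [hz₂']; exact hprojG i k' t
        refine ⟨subMk T.hom T₀, incl T T₀, ⟨t, ht₀⟩, rfl, ?_⟩
        apply proj_ext
        rw [proj_comp, proj_comp, ← hz₁, ← hz₂]
        have h2 : Set.range (T₀.ι ≫ z) ⊆ Set.range (pullback.diagonal p₁) := by
          rintro _ ⟨s, rfl⟩
          exact s.2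
        have h3 := IsOpenImmersion.lift_fac (pullback.diagonal p₁) (T₀.ι ≫ z) h2
        have h4 : T₀.ι ≫ z ≫ pullback.fst p₁ p₁ = T₀.ι ≫ z ≫ pullback.snd p₁ p₁ := by
          rw [← Category.assoc, ← Category.assoc, ← h3, Category.assoc, Category.assoc,
            pullback.diagonal_fst, pullback.diagonal_snd]
        exact h4
      cover := by
        intro T c g t hct
        have h1 : proj c ≫ h = proj g ≫ h := by rw [proj_w, proj_w]
        let w : T.left ⟶ pullback h h := pullback.lift (proj c) (proj g) h1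
        have hw₁ : w ≫ p₁ = proj c := pullback.lift_fst _ _ _
        have hw₂ : w ≫ p₂ = proj g := pullback.lift_snd _ _ _
        have hw₁' : ∀ s, p₁ (w s) = proj c s := fun s => congr($hw₁ s)
        have hww : w ≫ p₁ ≫ h = T.hom := by rw [← Category.assoc, hw₁, proj_w]
        obtain ⟨i, hi⟩ := hcov (w t) (by
          change h (p₁ (w t)) ∈ W₀
          rw [hw₁']; exact hWmem (hUW (c.left t))) (by
          change h u ⤳ h (p₁ (w t))
          rw [hw₁']; exact hct)
        let T₀ : T.left.Opens := w ⁻¹ᵁ (EW i)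
        have ht₀ : t ∈ T₀ := by
          refine ⟨hi, ?_⟩
          change h (p₁ (w t)) ∈ W
          rw [hw₁']; exact hUW (c.left t)
        refine ⟨i, subMk T.hom T₀, incl T T₀, ⟨t, ht₀⟩,
          liftTo (p₁ ≫ h) (EW i) (T := subMk T.hom T₀) (T₀.ι ≫ w) ?_ (fun s => s.2), rfl, ?_, ?_⟩
        · rw [Category.assoc, hww]; rfl
        · apply proj_ext
          rw [proj_comp_mapTo, proj_liftTo, proj_comp, Category.assoc, hw₁]
          rfl
        · apply proj_ext
          rw [proj_comp_mapTo, proj_liftTo, proj_comp, Category.assoc, hw₂]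
          rfl
      disj := by
        intro i i' T k k' t ht ha hb
        have h1 : proj k ≫ p₁ = proj k' ≫ p₁ := by
          rw [← proj_comp_mapTo p₁ rfl (hp₁ i) k, ← proj_comp_mapTo p₁ rfl (hp₁ i') k']
          exact congrArg proj ha
        have h2 : proj k ≫ p₂ = proj k' ≫ p₂ := by
          rw [← proj_comp_mapTo p₂ pullback.condition.symm (hp₂ i) k,
            ← proj_comp_mapTo p₂ pullback.condition.symm (hp₂ i') k']
          exact congrArg proj hb
        have h3 : proj k = proj k' := pullback.hom_ext h1 h2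
        by_contra hne
        refine hdisj i i' hne (proj k t) (hprojW i k t).1 (haV i k t ht) ⟨hprojG i k t, ?_⟩
        rw [h3]
        exact hprojG i' k' t }
  refine ⟨D, UW.ι, W, rfl, inf_le_right, ⟨hW₀, hO⟩, ?_, ?_, ?_, ?_⟩
  · rintro _ ⟨v, rfl⟩
    exact hUW v
  · ext x
    constructor
    · rintro ⟨v, hv, rfl⟩
      exact ⟨hUW v, specializes_iff_mem_closure.mp hv⟩
    · rintro ⟨hxW, hx⟩
      obtain ⟨v, rfl⟩ := hrange hxW.1
      exact ⟨⟨v, hxW⟩, specializes_iff_mem_closure.mpr hx, rfl⟩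
  · intro v hv
    exact (hV v).mp hv
  · exact isCompact_iff_compactSpace.mp (TopologicalSpace.NoetherianSpace.isCompact (UW : Set U))

theorem exists_datum_aux {X : Scheme.{u}} [IsNoetherian X] (O : X.Opens) {U₁ : Scheme.{u}} (f : U₁ ⟶ X) [Etale f]
    (u₁ : U₁) (hO : f u₁ ∈ O) (C : Set U₁) (hC : IsLocallyConstructible C) (hu₁ : u₁ ∈ C) :
    ∃ (D : Datum X) (g : D.U.left ⟶ U₁) (W : X.Opens), g ≫ f = D.U.hom ∧ W ≤ O ∧ f u₁ ∈ W ∧
      Set.range D.U.hom ⊆ (W : Set X) ∧ D.U.hom '' D.V = (W : Set X) ∩ closure {f u₁} ∧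
      (∀ v ∈ D.V, g v ∈ C) ∧ CompactSpace D.U.left := by
  obtain ⟨(W₁ : U₁.Opens), hW₁, hW₁'⟩ := exists_open_iff_mem hC u₁
  -- replace `U₁` by a neighbourhood of `u₁`
  obtain ⟨U, g, u, hg, hUN, hu, hgal, huniq⟩ := exists_single (W₁.ι ≫ f) ⟨u₁, hW₁⟩
  have hu' : (g ≫ W₁.ι ≫ f) u = f u₁ := by
    rw [Scheme.Hom.comp_apply, hu]
    rfl
  obtain ⟨D, π, W, hπ, hWO, huW, hrange, him, hV, hc⟩ := exists_datum_of_open (g ≫ W₁.ι ≫ f) u hgal
    (fun v hv => huniq v (hv.trans hu')) O (by rw [hu']; exact hO)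
  rw [hu'] at huW him
  refine ⟨D, π ≫ g ≫ W₁.ι, W, ?_, hWO, huW, hrange, him, ?_, hc⟩
  · rw [← hπ, Category.assoc, Category.assoc]
  · intro v hv
    have h1 : (g ≫ W₁.ι) u ⤳ (g ≫ W₁.ι) (π v) := (hV v hv).map (g ≫ W₁.ι).continuous
    have h2 : (g ≫ W₁.ι) u = u₁ := by
      rw [Scheme.Hom.comp_apply, hu]
      rfl
    rw [h2] at h1
    have h3 : (g ≫ W₁.ι) (π v) ∈ W₁ := (g (π v)).2
    exact (hW₁' _ h3 h1).mpr hu₁

/-- **Existence of Galois data.**  On a Noetherian scheme, every étale neighbourhood `(U₁, u₁)` of a point `ξ` with a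
locally constructible set `C ∋ u₁` is refined by a Galois datum over an open neighbourhood `W` of `ξ`. -/
theorem exists_datum {X : Scheme.{u}} [IsNoetherian X] (ξ : X) (O : X.Opens) (hO : ξ ∈ O) (U₁ : X.Etale)
    (u₁ : U₁.left) (h₁ : U₁.hom u₁ = ξ) (C : Set U₁.left) (hC : IsLocallyConstructible C) (hu₁ : u₁ ∈ C) :
    ∃ (D : Datum X) (g : D.U ⟶ U₁) (W : X.Opens), W ≤ O ∧ ξ ∈ W ∧ Set.range D.U.hom ⊆ (W : Set X) ∧
      D.U.hom '' D.V = (W : Set X) ∩ closure {ξ} ∧ (∀ v ∈ D.V, g.left v ∈ C) ∧ CompactSpace D.U.left := by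
  subst h₁
  have : Etale U₁.hom := U₁.prop
  obtain ⟨D, g, W, hg, h⟩ := exists_datum_aux (X := X) O (U₁ := U₁.left) U₁.hom u₁ hO C hC hu₁
  exact ⟨D, MorphismProperty.Over.homMk g hg, W, h⟩

end Groth.Agent.Sga4h.GalDatum
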