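import Groth.Agent.Sga4h.ExtCons
import Groth.Agent.Sga4h.GalDatumEx
import Groth.Agent.Sga4h.LamSerreFin
import Groth.Agent.Sga4h.TensorConst
import Groth.Agent.Etrest.ConstBasic

/-!
# Constructibility of local Ext sheaves: final dévissage
-/

set_option autoImplicit false
universe u

open CategoryTheory CategoryTheory.Limits AlgebraicGeometry Opposite TopologicalSpace

namespace Groth.Agent.Sga4h.ExtMain

open Groth.Agent.Etcore.LFree Groth.Agent.Sga4h.GalDatum Groth.Agent.Sga4h.GalClass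
  Groth.Agent.Sga4h.GalQ Groth.Agent.Sga4h.GalSyz Groth.Agent.Sga4h.ContraDev
  Groth.Agent.Sga4h.LamDev Groth.Agent.Sga4h.ExtCons

variable {Λ : Type (u + 1)} [CommRing Λ] {X X₀ : Scheme.{u}}

theorem serreCons [IsNoetherianRing Λ] [IsLocallyNoetherian X] : SerreCons Λ X :=
  ⟨fun _ _ i _ h => LamSerre.isConstructible_of_mono i h,
    fun _ _ p _ h => LamSerre.isConstructible_of_epi p h,
    fun S hS h₁ h₃ => LamSerre.isConstructible_of_shortExact S hS h₁ h₃⟩

theorem hasData [IsNoetherian X] : HasData X :=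
  fun ξ O hO U₁ u₁ h₁ C hC hu₁ => exists_datum ξ O hO U₁ u₁ h₁ C hC hu₁

theorem isNoetherian_left [IsNoetherian X] (T : X.Etale) [CompactSpace T.left] :
    IsNoetherian T.left := by
  let f : T.left ⟶ X := T.hom
  have : Etale f := T.prop
  exact { __ := LocallyOfFiniteType.isLocallyNoetherian f }

theorem quasiCompact_hom [IsNoetherian X] (T : X.Etale) [CompactSpace T.left] :
    QuasiCompact T.hom := by
  let f : T.left ⟶ X := T.hom
  exact inferInstanceAs (QuasiCompact f)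

instance compactSpace_U₀ [IsNoetherian X] (D : Datum X) [CompactSpace D.U.left] :
    CompactSpace (U₀ D).left := by
  have h1 := isNoetherian_left D.U
  have h2 : NoetherianSpace D.U.left := inferInstance
  change CompactSpace (opn D)
  exact isCompact_iff_compactSpace.1 (NoetherianSpace.isCompact _)

/-- Restriction to a smaller open subset. -/
theorem isConstructible_pull_of_le {F : EtModW.Mod Λ X} {U V : X.Opens} (h : U ≤ V)
    (hF : EtModW.IsConstructible Λ ((EtModW.pull Λ V.ι).obj F)) :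
    EtModW.IsConstructible Λ ((EtModW.pull Λ U.ι).obj F) := by
  have h1 := Groth.Agent.Etcore.LCrit.isConstructible_pull (X.homOfLE h) _ hF
  exact Groth.Agent.Etcore.LCrit.isConstructible_of_iso
    ((Groth.Agent.Etcore.LPullComp.pullComp Λ (X.homOfLE h) V.ι).app F ≪≫
      (Groth.Agent.Etcore.LPullComp.pullCongr Λ (X.homOfLE_ι h)).app F) h1

theorem isConstructible_pull_of_le_ab {F : EtCoh.Ab X} {U V : X.Opens} (h : U ≤ V)
    (hF : EtPBC.IsConstructible ((EtCoh.pull V.ι).obj F)) :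
    EtPBC.IsConstructible ((EtCoh.pull U.ι).obj F) := by
  have h1 := Groth.Agent.EtpbcA.StrataGlob.isConstructible_pull_openImmersion (X.homOfLE h) _ hF
  exact Groth.Agent.EtpbcA.StrataGlob.isConstructible_of_iso
    ((EtCore.pullComp (X.homOfLE h) V.ι).symm.app F ≪≫ (EtCore.pullCongr (X.homOfLE_ι h)).app F) h1

/-- Fixed open version. -/
theorem main_fixed [IsNoetherian X] [IsNoetherianRing Λ] [IsLocallyNoetherian X₀] (j : X₀ ⟶ X)
    (G : EtModW.Mod Λ X)
    (hG : ∀ (T : X.Etale) [CompactSpace T.left] (q : ℕ), EtModW.IsConstructible Λ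
      ((EtModW.pull Λ j).obj ((EtModW.Rpush Λ T.hom q).obj ((EtModW.pull Λ T.hom).obj G))))
    (F : EtModW.Mod Λ X) (hF : EtModW.IsConstructible Λ F) (q : ℕ) : PExt G j q F := by
  have hc : CDev (PExt G j) := cdev serreCons G j
  refine devissage hasData serreCons.quot (fun F => PExt G j q F) (hc.zero q) (hc.mid q)
    (fun D hD F hF => ?_) F hF
  exact hc.mem D (hc.gen D (fun q => PExt_LM G j _ q (hG _ q)) (fun q => PExt_LM G j _ q (hG _ q)))
    q F hF

theorem isEmpty_of_zero_eq_one {S : Scheme.{u}} (h : (0 : Γ(S, ⊤)) = 1) : IsEmpty S := by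
  refine ⟨fun s => ?_⟩
  have h1 : (S.presheaf.germ ⊤ s trivial) (0 : Γ(S, ⊤)) = (S.presheaf.germ ⊤ s trivial) 1 := by
    rw [h]
  rw [map_zero, map_one] at h1
  exact zero_ne_one h1

theorem killedBy_const_of_dvd {Z : Scheme.{u}} {l n : ℕ} (h : l ∣ n) :
    EtCoh.KilledBy n (EtCoh.const Z (ZMod l)) := by
  obtain ⟨k, rfl⟩ := h
  intro V s
  rw [mul_comm, mul_smul, TensorConst.killedBy_const l V s, smul_zero]

/-- Intersection of finitely many dense open subsets attached to pairs (index, prime divisor). -/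
theorem exists_dense_of_forall {S : Scheme.{u}} {m : ℕ} (n : ℕ) (hn : 0 < n)
    (P : Fin m → ℕ → S.Opens → Prop) (hP : ∀ i l U V, U ≤ V → P i l V → P i l U)
    (h : ∀ (i : Fin m) (l : ℕ), l.Prime → l ∣ n → ∃ U : S.Opens, Dense (U : Set S) ∧ P i l U) :
    ∃ U : S.Opens, Dense (U : Set S) ∧ ∀ (i : Fin m) (l : ℕ), l.Prime → l ∣ n → P i l U := by
  classical
  have key : ∀ s : Finset (Fin m × ℕ), (∀ p ∈ s, p.2.Prime ∧ p.2 ∣ n) →
      ∃ U : S.Opens, Dense (U : Set S) ∧ ∀ p ∈ s, P p.1 p.2 U := by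
    intro s
    induction s using Finset.induction_on with
    | empty => exact fun _ => ⟨⊤, dense_univ, fun p hp => absurd hp (by simp)⟩
    | @insert p s hp ih =>
      intro hs
      obtain ⟨U, hU, h1⟩ := ih fun q hq => hs q (Finset.mem_insert_of_mem hq)
      obtain ⟨V, hV, h2⟩ := h p.1 p.2 (hs p (Finset.mem_insert_self _ _)).1
        (hs p (Finset.mem_insert_self _ _)).2
      refine ⟨U ⊓ V, hU.inter_of_isOpen_left hV U.isOpen, fun q hq => ?_⟩
      rcases Finset.mem_insert.1 hq with rfl | hq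
      · exact hP _ _ _ _ inf_le_right h2
      · exact hP _ _ _ _ inf_le_left (h1 q hq)
  obtain ⟨U, hU, h1⟩ := key (Finset.univ ×ˢ n.primeFactors) (by
    rintro ⟨i, l⟩ hp
    have h2 := (Finset.mem_product.1 hp).2
    exact ⟨Nat.prime_of_mem_primeFactors h2, Nat.dvd_of_mem_primeFactors h2⟩)
  exact ⟨U, hU, fun i l hl hln => h1 (i, l) (Finset.mem_product.2 ⟨Finset.mem_univ _,
    Nat.mem_primeFactors.2 ⟨hl, hln, hn.ne'⟩⟩)⟩

/-- Generic version: one dense open subset of the base for all degrees. -/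
theorem main_generic [IsNoetherian X] [IsNoetherianRing Λ] {S : Scheme.{u}} (a : X ⟶ S)
    (G : EtModW.Mod Λ X)
    (hG : ∀ (T : X.Etale) [CompactSpace T.left], ∃ U : S.Opens, Dense (U : Set S) ∧
      ∀ q : ℕ, EtModW.IsConstructible Λ
        ((EtModW.pull Λ (a ⁻¹ᵁ U).ι).obj ((EtModW.Rpush Λ (T.hom : T.left ⟶ X) q).obj
          ((EtModW.pull Λ (T.hom : T.left ⟶ X)).obj G))))
    (F : EtModW.Mod Λ X) (hF : EtModW.IsConstructible Λ F) :
    ∃ U : S.Opens, Dense (U : Set S) ∧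
      ∀ q : ℕ, EtModW.IsConstructible Λ ((EtModW.pull Λ (a ⁻¹ᵁ U).ι).obj
        ((EtModD.extSheaf F q).obj G)) := by
  have hN : ∀ U : S.Opens, IsLocallyNoetherian (a ⁻¹ᵁ U).toScheme := fun U =>
    isLocallyNoetherian_of_isOpenImmersion (a ⁻¹ᵁ U).ι
  have hc : ∀ U : S.Opens, CDev (PExt G (a ⁻¹ᵁ U).ι) := fun U => cdev serreCons G _
  have hle : ∀ (U V : S.Opens), U ≤ V → ∀ (q : ℕ) (F : EtModW.Mod Λ X),
      PExt G (a ⁻¹ᵁ V).ι q F → PExt G (a ⁻¹ᵁ U).ι q F := fun U V hUV q F h =>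
    isConstructible_pull_of_le (fun x hx => hUV hx) h
  refine devissage hasData serreCons.quot (fun F => ∃ U : S.Opens, Dense (U : Set S) ∧
    ∀ q : ℕ, PExt G (a ⁻¹ᵁ U).ι q F) (fun F hF => ⟨⊤, dense_univ, fun q => (hc ⊤).zero q F hF⟩)
    ?_ ?_ F hF
  · rintro T hT ⟨U, hU, h1⟩ ⟨V, hV, h2⟩
    refine ⟨U ⊓ V, hU.inter_of_isOpen_left hV U.isOpen, fun q => (hc _).mid q T hT ?_ ?_⟩
    · exact hle _ _ inf_le_left q _ (h1 q)
    · exact hle _ _ inf_le_right q _ (h2 q)
  · intro D hD F hF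
    obtain ⟨U, hU, h1⟩ := hG D.U
    obtain ⟨V, hV, h2⟩ := hG (U₀ D)
    refine ⟨U ⊓ V, hU.inter_of_isOpen_left hV U.isOpen, fun q => (hc _).mem D ((hc _).gen D
      (fun q => ?_) (fun q => ?_)) q F hF⟩
    · exact hle _ _ inf_le_right q _ (PExt_LM G _ _ q (h2 q))
    · exact hle _ _ inf_le_left q _ (PExt_LM G _ _ q (h1 q))

end Groth.Agent.Sga4h.ExtMain
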