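import Groth.Agent.EtpbcB.BigFam
import Groth.Agent.Etcore.Stalks
import Groth.Agent.Sga4h.MuConst

/-!
# Additive structure on local families and the sheaf `c_* c^* F` in terms of local families

For `F : EtCoh.Ab X` and `q : Z ⟶ X` : `Fam F q` is an additive group, `Fam.res` is additive, `IsLoc` is
closed under addition, `val` is additive.

* `exists_sect` : local families on an étale `X`-scheme come from sections of `F`;
* `tau d h : c_* c^* F ⟶ c'_* c'^* F` for `d : Z' ⟶ Z` over `X`, `val_tau`;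
* `epi_of_loc`, `exact_of_loc`.
-/

set_option autoImplicit false
set_option backward.isDefEq.respectTransparency.types false
universe u

open CategoryTheory CategoryTheory.Limits AlgebraicGeometry Opposite

namespace Groth.Agent.Sga4h.FamAdd

open Groth.Agent.EtpbcB.Big

section Add

variable {X : Scheme.{u}} {F : EtCoh.Ab X}

noncomputable instance instAddCommGroup {Z : Scheme.{u}} (q : Z ⟶ X) : AddCommGroup (Fam F q) where
  add v w := fun Ω _ _ l ξ h => v Ω l ξ h + w Ω l ξ h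
  zero := fun _ _ _ _ _ _ => 0
  neg v := fun Ω _ _ l ξ h => - v Ω l ξ h
  sub v w := fun Ω _ _ l ξ h => v Ω l ξ h - w Ω l ξ h
  nsmul n v := fun Ω _ _ l ξ h => n • v Ω l ξ h
  zsmul n v := fun Ω _ _ l ξ h => n • v Ω l ξ h
  add_assoc u v w := Fam.ext fun Ω _ _ l ξ h => add_assoc (u Ω l ξ h) (v Ω l ξ h) (w Ω l ξ h)
  zero_add v := Fam.ext fun Ω _ _ l ξ h => zero_add (v Ω l ξ h)
  add_zero v := Fam.ext fun Ω _ _ l ξ h => add_zero (v Ω l ξ h)
  add_comm v w := Fam.ext fun Ω _ _ l ξ h => add_comm (v Ω l ξ h) (w Ω l ξ h)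
  neg_add_cancel v := Fam.ext fun Ω _ _ l ξ h => neg_add_cancel (v Ω l ξ h)
  sub_eq_add_neg v w := Fam.ext fun Ω _ _ l ξ h => sub_eq_add_neg (v Ω l ξ h) (w Ω l ξ h)
  nsmul_zero v := Fam.ext fun Ω _ _ l ξ h => zero_nsmul (v Ω l ξ h)
  nsmul_succ n v := Fam.ext fun Ω _ _ l ξ h => succ_nsmul (v Ω l ξ h) n
  zsmul_zero' v := Fam.ext fun Ω _ _ l ξ h => zero_zsmul (v Ω l ξ h)
  zsmul_succ' n v := Fam.ext fun Ω _ _ l ξ h => SubNegMonoid.zsmul_succ' n (v Ω l ξ h)
  zsmul_neg' n v := Fam.ext fun Ω _ _ l ξ h => SubNegMonoid.zsmul_neg' n (v Ω l ξ h)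

variable {Z Z' : Scheme.{u}} {q : Z ⟶ X} {q' : Z' ⟶ X}

theorem add_apply (v w : Fam F q) {Ω : Type u} [Field Ω] [IsSepClosed Ω] (l : Spec (.of Ω) ⟶ Z)
    (ξ : Spec (.of Ω) ⟶ X) (h : l ≫ q = ξ) : (v + w) Ω l ξ h = v Ω l ξ h + w Ω l ξ h := rfl

theorem sub_apply (v w : Fam F q) {Ω : Type u} [Field Ω] [IsSepClosed Ω] (l : Spec (.of Ω) ⟶ Z)
    (ξ : Spec (.of Ω) ⟶ X) (h : l ≫ q = ξ) : (v - w) Ω l ξ h = v Ω l ξ h - w Ω l ξ h := rfl

theorem zero_apply {Ω : Type u} [Field Ω] [IsSepClosed Ω] (l : Spec (.of Ω) ⟶ Z)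
    (ξ : Spec (.of Ω) ⟶ X) (h : l ≫ q = ξ) : (0 : Fam F q) Ω l ξ h = 0 := rfl

/-- Restriction as an additive map. -/
noncomputable def resHom (r : Z' ⟶ Z) (h : r ≫ q = q') : Fam F q →+ Fam F q' where
  toFun v := v.res r h
  map_zero' := rfl
  map_add' _ _ := rfl

theorem res_add (v w : Fam F q) (r : Z' ⟶ Z) (h : r ≫ q = q') :
    (v + w).res r h = v.res r h + w.res r h := rfl

theorem res_sub (v w : Fam F q) (r : Z' ⟶ Z) (h : r ≫ q = q') :
    (v - w).res r h = v.res r h - w.res r h := rfl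

theorem res_zero (r : Z' ⟶ Z) (h : r ≫ q = q') : (0 : Fam F q).res r h = 0 := rfl

/-- Restriction is injective if geometric points lift. -/
theorem res_injective (r : Z' ⟶ Z) (h : r ≫ q = q')
    (hr : ∀ (Ω : Type u) [Field Ω] [IsSepClosed Ω] (l : Spec (.of Ω) ⟶ Z),
      ∃ m : Spec (.of Ω) ⟶ Z', m ≫ r = l) :
    Function.Injective (fun v : Fam F q => v.res r h) := by
  intro v w hvw
  ext Ω _ _ l ξ hl
  obtain ⟨m, rfl⟩ := hr Ω l
  exact Fam.congr_fun hvw m (by rw [← h, ← Category.assoc, hl])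

theorem castStk_add {Ω : Type u} [Field Ω] [IsSepClosed Ω] {ξ ξ' : Spec (.of Ω) ⟶ X} (h : ξ = ξ')
    (a b : Stk F ξ) : castStk F h (a + b) = castStk F h a + castStk F h b := by
  subst h; rfl

end Add

section Val

variable {X Z : Scheme.{u}} (q : Z ⟶ X) (F : EtCoh.Ab X)

theorem val_add {U : Z.Etale} (s t : EtCoh.sect ((EtCoh.pull q).obj F) U) :
    val q F (s + t) = val q F s + val q F t := by
  ext Ω _ _ l ξ hl
  have h1 : germ ((EtCoh.pull q).obj F) l rfl (s + t) =
      germ ((EtCoh.pull q).obj F) l rfl s + germ ((EtCoh.pull q).obj F) l rfl t := map_add _ _ _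
  have h2 : (pullStk q F (l ≫ U.hom)).inv (germ ((EtCoh.pull q).obj F) l rfl (s + t)) =
      (pullStk q F (l ≫ U.hom)).inv (germ ((EtCoh.pull q).obj F) l rfl s) +
      (pullStk q F (l ≫ U.hom)).inv (germ ((EtCoh.pull q).obj F) l rfl t) := by
    rw [h1]
    exact map_add (pullStk q F (l ≫ U.hom)).inv.hom _ _
  refine (congrArg (castStk F ((Category.assoc _ _ _).trans hl)) h2).trans ?_
  exact castStk_add _ _ _

theorem val_zero {U : Z.Etale} : val q F (0 : EtCoh.sect ((EtCoh.pull q).obj F) U) = 0 := by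
  have h := val_add q F (0 : EtCoh.sect ((EtCoh.pull q).obj F) U) 0
  rw [add_zero] at h
  exact left_eq_add.1 h

/-- `val` as an additive map. -/
noncomputable def valHom (U : Z.Etale) : EtCoh.sect ((EtCoh.pull q).obj F) U →+ Fam F (U.hom ≫ q) where
  toFun s := val q F s
  map_zero' := val_zero q F
  map_add' s t := val_add q F s t

theorem val_sub {U : Z.Etale} (s t : EtCoh.sect ((EtCoh.pull q).obj F) U) :
    val q F (s - t) = val q F s - val q F t := map_sub (valHom q F U) s t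

variable {F} {q}

/-- Every local family is the family of a global section of `q⁻¹F`. -/
theorem exists_global {v : Fam F q} (hv : IsLoc v) :
    ∃ s : EtCoh.sect ((EtCoh.pull q).obj F) (EtCoh.top Z), (val q F s) = v.res (𝟙 Z) rfl :=
  exists_of_isLoc q F (U := EtCoh.top Z) (v.res (𝟙 Z) rfl) (hv.res _ _)

theorem res_id (v : Fam F q) : v.res (𝟙 Z) (Category.id_comp q) = v := by
  ext Ω _ _ l ξ hl
  exact v.congr (Category.comp_id l) _

theorem res_id_inj {v w : Fam F q} (h : v.res (𝟙 Z) (rfl : 𝟙 Z ≫ q = _) = w.res (𝟙 Z) rfl) : v = w := by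
  have h2 := congrArg (fun x => x.res (𝟙 Z) (show 𝟙 Z ≫ (𝟙 Z ≫ q) = q by simp)) h
  simp only [Fam.res_res] at h2
  rw [Fam.res_congr v _ (Category.id_comp (𝟙 Z)), Fam.res_congr w _ (Category.id_comp (𝟙 Z)), res_id,
    res_id] at h2
  exact h2

theorem isLoc_of_res_id {v : Fam F q} (h : IsLoc (v.res (𝟙 Z) rfl)) : IsLoc v := by
  have h2 := h.res (𝟙 Z) (show 𝟙 Z ≫ (𝟙 Z ≫ q) = q by simp)
  rw [Fam.res_res, Fam.res_congr v _ (Category.id_comp (𝟙 Z)), res_id] at h2
  exact h2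

theorem isLoc_add {v w : Fam F q} (hv : IsLoc v) (hw : IsLoc w) : IsLoc (v + w) := by
  obtain ⟨s, hs⟩ := exists_global hv
  obtain ⟨t, ht⟩ := exists_global hw
  apply isLoc_of_res_id
  have h : (v + w).res (𝟙 Z) rfl = val q F (s + t) := by
    rw [val_add, hs, ht]
    rfl
  rw [h]
  exact val_isLoc q F (s + t)

theorem isLoc_sub {v w : Fam F q} (hv : IsLoc v) (hw : IsLoc w) : IsLoc (v - w) := by
  obtain ⟨s, hs⟩ := exists_global hv
  obtain ⟨t, ht⟩ := exists_global hw
  apply isLoc_of_res_id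
  have h : (v - w).res (𝟙 Z) rfl = val q F (s - t) := by
    rw [val_sub, hs, ht]
    rfl
  rw [h]
  exact val_isLoc q F (s - t)

theorem isLoc_zero : IsLoc (0 : Fam F q) := by
  apply isLoc_of_res_id
  have h : (0 : Fam F q).res (𝟙 Z) rfl = val q F (0 : EtCoh.sect ((EtCoh.pull q).obj F) (EtCoh.top Z)) := by
    rw [val_zero]
    rfl
  rw [h]
  exact val_isLoc q F 0

theorem isLoc_sum {ι : Type*} (s : Finset ι) (v : ι → Fam F q) (hv : ∀ i ∈ s, IsLoc (v i)) :
    IsLoc (∑ i ∈ s, v i) := by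
  classical
  induction s using Finset.induction_on with
  | empty => simpa using isLoc_zero
  | insert a s ha ih =>
    rw [Finset.sum_insert ha]
    exact isLoc_add (hv a (Finset.mem_insert_self a s)) (ih fun i hi => hv i (Finset.mem_insert_of_mem hi))

/-- Locality can be checked étale locally on the source. -/
theorem isLoc_of_etale {v : Fam F q} (h : ∀ z : Z, ∃ (W : Scheme.{u}) (a : W ⟶ Z) (_ : Etale a) (w : W),
    a w = z ∧ IsLoc (v.res a rfl)) : IsLoc v := by
  intro z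
  obtain ⟨W, a, ha, w, hw, hl⟩ := h z
  obtain ⟨W', a', ha', w', V, b, hb, σ, hw', hσ⟩ := hl w
  refine ⟨W', a' ≫ a, inferInstance, w', V, b, by rw [hb, Category.assoc], σ, ?_, ?_⟩
  · rw [Scheme.Hom.comp_apply, hw', hw]
  · have h2 := congrArg (fun x => x.res (𝟙 W') (show 𝟙 W' ≫ (a' ≫ a ≫ q) = (a' ≫ a) ≫ q by simp)) hσ
    simp only [Fam.res_res] at h2
    rw [Fam.res_congr _ _ (Category.id_comp b)] at h2
    rw [← h2]
    exact Fam.res_congr _ _ (by simp)

end Val

section Sect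

variable {X : Scheme.{u}} {F : EtCoh.Ab X}

theorem fam_injective {V : X.Etale} {s t : EtCoh.sect F V} (h : fam s = fam t) : s = t := by
  refine Etcore.Stalks.sect_ext s t fun x => ?_
  obtain ⟨Ω, _, _, ξ, hξ⟩ := Etcore.Stalks.exists_geom x
  refine ⟨Ω, inferInstance, inferInstance, ξ, hξ, fun u => ?_⟩
  exact Fam.congr_fun h u.left (Over.w u)

/-- Local families on an étale `X`-scheme come from sections of `F`. -/
theorem exists_sect {V : X.Etale} (v : Fam F V.hom) (hv : IsLoc v) : ∃ s : EtCoh.sect F V, fam s = v := by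
  have key : ∀ x : V.left, ∃ (W : X.Etale) (g : W ⟶ V) (w : W.left) (s : EtCoh.sect F W),
      g.left w = x ∧ fam s = v.res g.left (et_w g) := by
    intro x
    obtain ⟨W, a, ha, w, V', b, hb, σ, hw, hσ⟩ := hv x
    let W' : X.Etale := Scheme.Etale.mk (a ≫ V.hom)
    let g : W' ⟶ V := etHom a rfl
    let b' : W' ⟶ V' := etHom b hb
    refine ⟨W', g, w, F.obj.map b'.op σ, hw, ?_⟩
    rw [fam_map]
    exact hσ.symm
  choose W g w s hw hs using key
  obtain ⟨t, ht, -⟩ := Etbase.EtGlue.existsUnique_glue F g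
    (by
      ext x
      simp only [Set.mem_iUnion, Set.mem_univ, iff_true]
      exact ⟨x, w x, hw x⟩) s
    (fun i j T gi gj e => by
      apply fam_injective
      rw [fam_map, fam_map, hs, hs, Fam.res_res, Fam.res_res]
      apply Fam.res_congr
      exact congrArg (fun f => f.left) e)
  refine ⟨t, Fam.ext_of_etale fun x => ⟨(W x).left, (g x).left, inferInstance, w x, hw x, ?_⟩⟩
  have h1 := congrArg fam (ht x)
  rw [fam_map, hs] at h1
  have h2 := congrArg (fun v => Fam.res v (𝟙 (W x).left)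
    (show 𝟙 _ ≫ (W x).hom = (g x).left ≫ V.hom by rw [Category.id_comp, et_w])) h1
  simp only [Fam.res_res] at h2
  rw [Fam.res_congr _ _ (Category.id_comp _), Fam.res_congr v _ (Category.id_comp _)] at h2
  exact h2

end Sect

end Groth.Agent.Sga4h.FamAdd
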