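import Groth.Agent.Sga4h.FamAdd

/-!
# The sheaf `c_* c^* F` in terms of local families, functoriality in `c`

* `AA c F = c_* c^* F`, `vv : AA c F (V) →+ Fam F (V ×_X Z → X)` (injective, image = local families);
* `tau d h : AA c F ⟶ AA c' F` for `d : Z' ⟶ Z` over `X`, `vv_tau`; `vv_unit`;
* `epi_of_loc`, `mono_of_inj`, `exact_of_loc`.
-/

set_option autoImplicit false
set_option backward.isDefEq.respectTransparency.types false
universe u

open CategoryTheory CategoryTheory.Limits AlgebraicGeometry Opposite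

namespace Groth.Agent.Sga4h.FamTau

open Groth.Agent.EtpbcB.Big Groth.Agent.Sga4h.FamAdd

section AA

variable {X Z Z' : Scheme.{u}} (c : Z ⟶ X) (F : EtCoh.Ab X)

/-- `c_* c^* F`. -/
noncomputable abbrev AA : EtCoh.Ab X := (EtCoh.push c).obj ((EtCoh.pull c).obj F)

/-- The structure morphism `V ×_X Z ⟶ X`. -/
noncomputable abbrev pc (V : X.Etale) : ((EtCoh.bc c).obj V).left ⟶ X := ((EtCoh.bc c).obj V).hom ≫ c

/-- The family of a section of `c_* c^* F`. -/
noncomputable def vv (V : X.Etale) : EtCoh.sect (AA c F) V →+ Fam F (pc c V) :=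
  valHom c F ((EtCoh.bc c).obj V)

theorem vv_apply {V : X.Etale} (s : EtCoh.sect (AA c F) V) :
    vv c F V s = val c F (U := (EtCoh.bc c).obj V) s := rfl

theorem vv_injective (V : X.Etale) : Function.Injective (vv c F V) := fun _ _ h => val_ext c F h

theorem vv_isLoc {V : X.Etale} (s : EtCoh.sect (AA c F) V) : IsLoc (vv c F V s) :=
  val_isLoc c F (U := (EtCoh.bc c).obj V) s

theorem exists_vv {V : X.Etale} (v : Fam F (pc c V)) (hv : IsLoc v) : ∃ s : EtCoh.sect (AA c F) V,
    vv c F V s = v := exists_of_isLoc c F (U := (EtCoh.bc c).obj V) v hv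

theorem bcmap_w {V W : X.Etale} (g : W ⟶ V) : ((EtCoh.bc c).map g).left ≫ pc c V = pc c W := by
  rw [pc, ← Category.assoc, et_w]

theorem vv_map {V W : X.Etale} (g : W ⟶ V) (s : EtCoh.sect (AA c F) V) :
    vv c F W ((AA c F).obj.map g.op s) = (vv c F V s).res ((EtCoh.bc c).map g).left (bcmap_w c g) :=
  val_res c F ((EtCoh.bc c).map g) s

theorem fst_hom (V : X.Etale) : bcFst c V ≫ V.hom = pc c V := bc_condition c V

/-- The unit `F ⟶ c_* c^* F` on sections. -/
theorem vv_unit {V : X.Etale} (s : EtCoh.sect F V) :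
    vv c F V (((EtCoh.pullPushAdj c).unit.app F).hom.app (op V) s) =
      (fam s).res (bcFst c V) (fst_hom c V) := val_unit c F s

variable {c} {c' : Z' ⟶ X} (d : Z' ⟶ Z) (h : d ≫ c = c')

/-- The morphism `V ×_X Z' ⟶ V ×_X Z`. -/
noncomputable def mV (V : X.Etale) : ((EtCoh.bc c').obj V).left ⟶ ((EtCoh.bc c).obj V).left :=
  pullback.lift (bcFst c' V) (((EtCoh.bc c').obj V).hom ≫ d)
    (by rw [Category.assoc, h]; exact bc_condition c' V)

@[reassoc (attr := simp)]
theorem mV_fst (V : X.Etale) : mV d h V ≫ bcFst c V = bcFst c' V := pullback.lift_fst _ _ _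

@[reassoc (attr := simp)]
theorem mV_hom (V : X.Etale) : mV d h V ≫ ((EtCoh.bc c).obj V).hom = ((EtCoh.bc c').obj V).hom ≫ d :=
  pullback.lift_snd _ _ _

theorem mV_w (V : X.Etale) : mV d h V ≫ pc c V = pc c' V := by
  rw [pc, mV_hom_assoc, h]

theorem mV_bcmap {V W : X.Etale} (g : W ⟶ V) :
    mV d h W ≫ ((EtCoh.bc c).map g).left = ((EtCoh.bc c').map g).left ≫ mV d h V := by
  apply hom_ext_bc
  · rw [Category.assoc, bc_map_fst, mV_fst_assoc, Category.assoc, mV_fst, bc_map_fst]
  · rw [Category.assoc, bc_map_hom, mV_hom, Category.assoc, mV_hom, bc_map_hom_assoc]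

/-- `tau` on sections. -/
noncomputable def tauFun (V : X.Etale) (s : EtCoh.sect (AA c F) V) : EtCoh.sect (AA c' F) V :=
  (exists_vv c' F ((vv c F V s).res (mV d h V) (mV_w d h V)) ((vv_isLoc c F s).res _ _)).choose

theorem vv_tauFun (V : X.Etale) (s : EtCoh.sect (AA c F) V) :
    vv c' F V (tauFun F d h V s) = (vv c F V s).res (mV d h V) (mV_w d h V) :=
  (exists_vv c' F ((vv c F V s).res (mV d h V) (mV_w d h V)) ((vv_isLoc c F s).res _ _)).choose_spec

/-- The functoriality morphism `c_* c^* F ⟶ c'_* c'^* F`. -/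
noncomputable def tau : AA c F ⟶ AA c' F where
  hom :=
    { app := fun V => AddCommGrpCat.ofHom
        { toFun := fun s => tauFun F d h V.unop s
          map_zero' := by
            apply vv_injective
            exact (vv_tauFun F d h V.unop 0).trans
              (((resHom (F := F) (mV d h V.unop) (mV_w d h V.unop)).comp (vv c F V.unop)).map_zero.trans
                (vv c' F V.unop).map_zero.symm)
          map_add' := fun s t => by
            apply vv_injective
            refine (vv_tauFun F d h V.unop (s + t)).trans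
              ((((resHom (F := F) (mV d h V.unop) (mV_w d h V.unop)).comp (vv c F V.unop)).map_add s t).trans
                (Eq.trans ?_ ((vv c' F V.unop).map_add _ _).symm))
            rw [vv_tauFun, vv_tauFun]
            rfl }
      naturality := fun V W g => by
        ext s
        apply vv_injective
        change vv c' F W.unop (tauFun F d h W.unop ((AA c F).obj.map g s)) =
          vv c' F W.unop ((AA c' F).obj.map g (tauFun F d h V.unop s))
        have h1 := vv_map c' F g.unop (tauFun F d h V.unop s)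
        have h2 := vv_map c F g.unop s
        rw [vv_tauFun]
        refine Eq.trans ?_ h1.symm
        rw [vv_tauFun, Fam.res_res]
        refine (congrArg (fun v => v.res (mV d h W.unop) (mV_w d h W.unop)) h2).trans ?_
        simp only [Fam.res_res]
        exact Fam.res_congr _ _ (mV_bcmap d h g.unop) }

theorem vv_tau {V : X.Etale} (s : EtCoh.sect (AA c F) V) :
    vv c' F V ((tau F d h).hom.app (op V) s) = (vv c F V s).res (mV d h V) (mV_w d h V) :=
  vv_tauFun F d h V s

/-- `tau` is compatible with the units. -/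
theorem unit_tau : (EtCoh.pullPushAdj c).unit.app F ≫ tau F d h = (EtCoh.pullPushAdj c').unit.app F := by
  apply Sheaf.hom_ext
  ext V s
  apply vv_injective
  change vv c' F V.unop ((tau F d h).hom.app (op V.unop)
    (((EtCoh.pullPushAdj c).unit.app F).hom.app (op V.unop) s)) = vv c' F V.unop
      (((EtCoh.pullPushAdj c').unit.app F).hom.app (op V.unop) s)
  rw [vv_tau, vv_unit, vv_unit, Fam.res_res]
  exact Fam.res_congr _ _ (mV_fst d h V.unop)

end AA

section Exact

variable {X : Scheme.{u}} {F G H : EtCoh.Ab X}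

theorem epi_of_loc (f : F ⟶ G) (h : ∀ (V : X.Etale) (s : EtCoh.sect G V) (x : V.left),
    ∃ (V' : X.Etale) (a : V' ⟶ V) (v : V'.left) (t : EtCoh.sect F V'), a.left v = x ∧
      f.hom.app (op V') t = G.obj.map a.op s) : Epi f := by
  have h1 : Presheaf.IsLocallySurjective X.smallEtaleTopology f.hom := by
    refine ⟨fun {U} t => ?_⟩
    rw [Etbase.EtSite.mem_iff]
    intro x
    obtain ⟨V, a, v, s, hv, ha⟩ := h U t x
    exact ⟨V, a, v, ⟨s, ha⟩, hv⟩
  have : Sheaf.IsLocallySurjective f := h1
  infer_instance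

theorem mono_of_inj (f : F ⟶ G) (h : ∀ (V : X.Etale) (s : EtCoh.sect F V), f.hom.app (op V) s = 0 →
    s = 0) : Mono f := by
  have hp : Mono ((sheafToPresheaf X.smallEtaleTopology AddCommGrpCat.{u + 1}).map f) := by
    rw [NatTrans.mono_iff_mono_app]
    intro V
    rw [AddCommGrpCat.mono_iff_injective]
    rw [injective_iff_map_eq_zero]
    intro s hs
    exact h V.unop s hs
  exact (sheafToPresheaf X.smallEtaleTopology AddCommGrpCat.{u + 1}).mono_of_mono_map hp

theorem exact_of_loc (f : F ⟶ G) (g : G ⟶ H) (w : f ≫ g = 0)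
    (h : ∀ (V : X.Etale) (s : EtCoh.sect G V), g.hom.app (op V) s = 0 → ∀ x : V.left,
      ∃ (V' : X.Etale) (a : V' ⟶ V) (v : V'.left) (t : EtCoh.sect F V'), a.left v = x ∧
        f.hom.app (op V') t = G.obj.map a.op s) : (ShortComplex.mk f g w).Exact := by
  rw [ShortComplex.exact_iff_epi_kernel_lift]
  refine epi_of_loc _ fun V s x => ?_
  obtain ⟨V', a, v, t, hv, ht⟩ := h V ((kernel.ι g).hom.app (op V) s) (by
    have h1 := congrArg (fun k => k.hom.app (op V)) (kernel.condition g)
    exact ConcreteCategory.congr_hom h1 s) x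
  refine ⟨V', a, v, t, hv, (MuConst.kernel_sections g V').1 ?_⟩
  have h2 : (kernel.lift g f w ≫ kernel.ι g).hom.app (op V') t = f.hom.app (op V') t := by
    rw [kernel.lift_ι]
  refine Eq.trans h2 (ht.trans ?_)
  exact (ConcreteCategory.congr_hom ((kernel.ι g).hom.naturality a.op) s).symm

end Exact

end Groth.Agent.Sga4h.FamTau
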