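import Groth.Agent.Sga4h.FinS
import Groth.Agent.Sga4h.FinTop
import Groth.Agent.S3123

/-!
# Deligne's finiteness theorem over a regular base of dimension at most one, from the field case and
the case of `j : X_K ⟶ X` over strictly henselian discrete valuation rings
-/

set_option autoImplicit false
universe u
open CategoryTheory CategoryTheory.Limits AlgebraicGeometry Opposite

namespace Groth.Agent.Sga4h.FinMain

open Groth.Agent.EtpbcB.StrictLoc Groth.Agent.Sga4h.ConsWO Groth.Agent.Sga4h.FinDVR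
open Groth.Agent.EtpbcA

theorem isUnit_pow_Γ {S : Scheme.{u}} {n : ℕ} (hn : IsUnit (n : Γ(S, ⊤))) (k : ℕ) :
    IsUnit ((n ^ k : ℕ) : Γ(S, ⊤)) := by
  rw [Nat.cast_pow]
  exact hn.pow k

/-- The case of a base field. -/
theorem fin_field {n : ℕ} (k : Type u) [Field k]
    (hn : IsUnit (n : Γ(Spec (CommRingCat.of k), ⊤))) : Fin n (Spec (CommRingCat.of k)) := by
  intro X Y a b _ _ _ _ f w F hF q
  obtain ⟨hc, m, hm⟩ := hF
  obtain ⟨U, hU, h1, -⟩ := Groth.Agent.S3123.result (n ^ m) (isUnit_pow_Γ hn m) a b f w F hc hm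
  refine ⟨?_, m, killedBy_rpush f hm q⟩
  have hUt : U = ⊤ := by
    obtain ⟨x, hx⟩ := hU.nonempty
    ext y
    have : y = x := Subsingleton.elim (α := PrimeSpectrum k) _ _
    rw [this]
    exact ⟨fun _ => trivial, fun _ => hx⟩
  subst hUt
  have h2 := h1 q
  refine StrataGlob.isConstructible_of_open_cover _ (ι := Unit) (fun _ => b ⁻¹ᵁ ⊤) ?_ (fun _ => h2)
  simp

/-- SGA 4½ [Th. finitude] 1.1, from the case of `X_K ⟶ X`. -/
theorem main (hJ : ∀ (R K : Type u) [CommRing R] [IsDomain R] [IsDiscreteValuationRing R] [Field K]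
      [Algebra R K] [IsFractionRing R K], EtCoh.IsStrictlyHenselianLocalRing R →
      ∀ n : ℕ, IsUnit (n : R) → JFin n R K)
    {X Y S : Scheme.{u}} [IsNoetherian S]
    (hreg : ∀ s : S, IsRegularLocalRing (S.presheaf.stalk s)) (hdim : topologicalKrullDim S ≤ 1)
    (n : ℕ) (hn : IsUnit (n : Γ(S, ⊤))) (a : X ⟶ S) (b : Y ⟶ S) [LocallyOfFiniteType a] [QuasiCompact a]
    [LocallyOfFiniteType b] [QuasiCompact b] (f : X ⟶ Y) (w : f ≫ b = a)
    (F : EtCoh.Ab X) (hF : EtPBC.IsConstructible F) (hFn : EtCoh.KilledBy n F) (i : ℕ) :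
    EtPBC.IsConstructible ((EtCoh.Rpush f i).obj F) := by
  obtain ⟨U, hU, h1, -⟩ := Groth.Agent.S3123.result n hn a b f w F hF hFn
  refine FinS.isConstructible_rpush hn a b f w F hF hFn i U (FinTop.finite_compl hreg hdim U hU)
    (h1 i) (fun s hs => ?_)
  obtain ⟨Ω, i1, i2, ξ, hξ⟩ := Groth.Agent.Etcore.Stalks.exists_geom s
  have hξ' : ξ default = s := hξ
  refine ⟨Ω, i1, i2, ξ, hξ', ?_⟩
  obtain ⟨hdom, hdvr⟩ := FinTop.osh_dvr s (hreg s)
    ((Groth.Agent.CurvesB.DimPts.ringKrullDim_stalk_le s).trans hdim)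
    (FinTop.dim_stalk hreg U hU s hs) ξ hξ'
  have hnR : IsUnit (n : Osh ξ) := by
    have h2 := FinS.isUnit_of_hom (toBase ξ) hn
    have h3 := h2.map (Scheme.ΓSpecIso (Osh ξ)).hom.hom
    rwa [map_natCast] at h3
  have hnS : IsUnit (n : Γ(Spec (Osh ξ), ⊤)) := FinS.isUnit_of_hom (toBase ξ) hn
  have key : Fin n (Spec (CommRingCat.of (Osh ξ))) := by
    refine fin_dvr (Osh ξ) (FractionRing (Osh ξ)) (fin_field _ ?_) (fin_field _ ?_)
      (hJ (Osh ξ) (FractionRing (Osh ξ)) ⟨inferInstance, inferInstance⟩ n hnR)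
    · exact FinS.isUnit_of_hom (Spec.map (CommRingCat.ofHom (algebraMap (Osh ξ) (FractionRing (Osh ξ)))))
        hnS
    · exact FinS.isUnit_of_hom (Spec.map (CommRingCat.ofHom (IsLocalRing.residue (Osh ξ)))) hnS
  exact key

end Groth.Agent.Sga4h.FinMain
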