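import Groth.Agent.Etrest.FinComp
import Groth.Agent.Etrest.FinCons
import Groth.Agent.Etcore.OpenClosed
import Groth.Agent.Etcore.ShriekBasic
import Groth.Agent.EtpbcA.ClosedPushExact
import Groth.Agent.EtpbcA.FinPush
import Groth.Agent.EtpbcB.TorsionBasic
import Groth.Agent.Etbase.StalkPull
import Groth.Agent.Sga4h.PushDer
import Mathlib.AlgebraicGeometry.Noetherian

/-!
# Finiteness of higher direct images: the open/closed dévissage (SGA 4½, Th. finitude, 1.1)

`Fin S n` : for all morphisms `f` of finite type `S`-schemes and all constructible sheaves `F` killed by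
`n`, the sheaves `R^i f_* F` are constructible.

`fin_of_open_closed`: `j₀ : U ⟶ S` open, `i₀ : Z ⟶ S` closed complementary, `S` Noetherian; if `Fin U n`,
`Fin Z n` hold and the sheaves `R^q j_* G` are constructible for the base changes `j` of `j₀` to
finite type `S`-schemes, then `Fin S n`.
-/

set_option autoImplicit false
universe u
open CategoryTheory CategoryTheory.Limits AlgebraicGeometry Opposite

namespace Groth.Agent.Sga4h.FinRed

open Groth.Agent.Etrest Groth.Agent.Etrest.FinCons Groth.Agent.EtpbcA Groth.Agent.EtpbcA.StrataGlob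
open Groth.Agent.Sga4h.PushDer

/-- Finiteness theorem over `S` for sheaves killed by `n`. -/
def Fin (S : Scheme.{u}) (n : ℕ) : Prop :=
  ∀ ⦃X Y : Scheme.{u}⦄ (a : X ⟶ S) (b : Y ⟶ S) [LocallyOfFiniteType a] [QuasiCompact a]
    [LocallyOfFiniteType b] [QuasiCompact b] (f : X ⟶ Y), f ≫ b = a →
    ∀ F : EtCoh.Ab X, EtPBC.IsConstructible F → EtCoh.KilledBy n F →
      ∀ q : ℕ, EtPBC.IsConstructible ((EtCoh.Rpush f q).obj F)

/-- Finiteness of `R^q j_*` for base changes of `j₀ : U ⟶ S` to finite type `S`-schemes. -/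
def FinOpen {U S : Scheme.{u}} (j₀ : U ⟶ S) (n : ℕ) : Prop :=
  ∀ ⦃X : Scheme.{u}⦄ (a : X ⟶ S) [LocallyOfFiniteType a] [QuasiCompact a]
    (G : EtCoh.Ab (pullback a j₀)), EtPBC.IsConstructible G → EtCoh.KilledBy n G →
      ∀ q : ℕ, EtPBC.IsConstructible ((EtCoh.Rpush (pullback.fst a j₀) q).obj G)

section open_

variable {U X : Scheme.{u}} (j : U ⟶ X) [IsOpenImmersion j]

/-- `j^{-1} R^q j_* G = 0` for `q > 0`, `j` an open immersion. -/
theorem isZero_pull_Rpush (G : EtCoh.Ab U) (q : ℕ) :
    IsZero ((EtCoh.pull j).obj ((EtCoh.Rpush j (q + 1)).obj G)) := by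
  have e1 : (EtCoh.push j ⋙ EtCoh.pull j) ≅ 𝟭 (EtCoh.Ab U) := asIso (EtCoh.pullPushAdj j).counit
  refine IsZero.of_iso ?_ (LerayAcyc.rightDerivedExactIso (EtCoh.push j) (EtCoh.pull j) G (q + 1)).symm
  refine IsZero.of_iso ?_ ((LerayAcyc.rightDerivedCongr e1 (q + 1)).app G)
  exact Etbase.PushExact.isZero_rightDerived_of_exact (𝟭 (EtCoh.Ab U)) G q

/-- the unit `F ⟶ j_* j^{-1} F` becomes an isomorphism over `U`. -/
instance isIso_pull_unit (F : EtCoh.Ab X) :
    IsIso ((EtCoh.pull j).map ((EtCoh.pullPushAdj j).unit.app F)) := by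
  have h := (EtCoh.pullPushAdj j).left_triangle_components F
  have : IsIso ((EtCoh.pullPushAdj j).counit.app ((EtCoh.pull j).obj F)) := inferInstance
  exact isIso_of_comp_hom_eq_id _ h

end open_

section openClosed

variable {U X Z : Scheme.{u}} (j : U ⟶ X) [IsOpenImmersion j] (i : Z ⟶ X) [IsClosedImmersion i]

/-- A sheaf vanishing on the complement of `Z` comes from `Z`. -/
theorem isIso_unit_of_isZero (hd : IsCompl (Set.range i) (Set.range j)) (G : EtCoh.Ab X)
    (hG : IsZero ((EtCoh.pull j).obj G)) : IsIso ((EtCoh.pullPushAdj i).unit.app G) := by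
  refine Etcore.Stalks.isIso_of_stalks _ fun x => ?_
  by_cases hx : x ∈ Set.range i
  · obtain ⟨Ω, _, _, ξ, hξ⟩ := Etcore.Stalks.exists_geom x
    exact ⟨Ω, inferInstance, inferInstance, ξ, hξ,
      Etcore.OpenClosed.isIso_stalk_unit i ξ (by rw [hξ]; exact hx) G⟩
  · have hx' : x ∈ Set.range j := by
      have := hd.codisjoint.top_le (Set.mem_univ x)
      exact this.resolve_left hx
    obtain ⟨u, rfl⟩ := hx'
    obtain ⟨Ω, _, _, ξ, rfl⟩ := Etcore.Stalks.exists_geom u
    refine ⟨Ω, inferInstance, inferInstance, ξ ≫ j, rfl, ?_⟩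
    have h1 : IsZero ((EtCoh.stalk (ξ ≫ j)).obj G) :=
      ((EtCoh.stalk ξ).map_isZero hG).of_iso ((Etbase.StalkPull.stalkPullIso j ξ).app G)
    have h2 : IsZero ((EtCoh.stalk (ξ ≫ j)).obj ((EtCoh.push i).obj ((EtCoh.pull i).obj G))) :=
      Etcore.OpenClosed.isZero_stalk_push i j hd.disjoint (ξ ≫ j) ⟨ξ default, rfl⟩ _
    exact h1.isIso h2 _

end openClosed

section killed

variable {X : Scheme.{u}} {F G : EtCoh.Ab X} (f : F ⟶ G) {n : ℕ}

theorem killedBy_of_mono [Mono f] (h : EtCoh.KilledBy n G) : EtCoh.KilledBy n F := by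
  rw [EtpbcB.TorsionBasic.killedBy_iff] at h ⊢
  rw [← cancel_mono f, zero_comp, Preadditive.nsmul_comp, Category.id_comp,
    ← Category.comp_id f, ← Preadditive.comp_nsmul, h, comp_zero]

theorem killedBy_of_epi [Epi f] (h : EtCoh.KilledBy n F) : EtCoh.KilledBy n G := by
  rw [EtpbcB.TorsionBasic.killedBy_iff] at h ⊢
  rw [← cancel_epi f, comp_zero, Preadditive.comp_nsmul, Category.comp_id,
    ← Category.id_comp f, ← Preadditive.nsmul_comp, h, zero_comp]

end killed

section image

variable {C : Type*} [Category* C] [Abelian C] {A B : C} (u : A ⟶ B)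

theorem kernel_ι_factorThruImage : kernel.ι u ≫ Abelian.factorThruImage u = 0 := by
  rw [← cancel_mono (Abelian.image.ι u), Category.assoc, Abelian.image.fac, kernel.condition,
    zero_comp]

theorem shortExact_kernel_image :
    (ShortComplex.mk (kernel.ι u) (Abelian.factorThruImage u) (kernel_ι_factorThruImage u)).ShortExact := by
  refine ShortComplex.ShortExact.mk' ?_ inferInstance inferInstance
  let φ : ShortComplex.mk (kernel.ι u) (Abelian.factorThruImage u) (kernel_ι_factorThruImage u) ⟶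
      ShortComplex.mk (kernel.ι u) u (kernel.condition u) :=
    { τ₁ := 𝟙 _, τ₂ := 𝟙 _, τ₃ := Abelian.image.ι u }
  have : Epi φ.τ₁ := by dsimp [φ]; infer_instance
  have : IsIso φ.τ₂ := by dsimp [φ]; infer_instance
  have : Mono φ.τ₃ := by dsimp [φ]; infer_instance
  exact (ShortComplex.exact_iff_of_epi_of_isIso_of_mono φ).2 (ShortComplex.exact_kernel u)

theorem shortExact_image_cokernel :
    (ShortComplex.mk (Abelian.image.ι u) (cokernel.π u) (kernel.condition _)).ShortExact :=
  ShortComplex.ShortExact.mk' (ShortComplex.exact_kernel _) inferInstance inferInstance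

end image

section main

theorem isNoetherian_of_finiteType {X S : Scheme.{u}} (f : X ⟶ S) [LocallyOfFiniteType f] [QuasiCompact f]
    [IsNoetherian S] : IsNoetherian X := by
  have : IsLocallyNoetherian X := LocallyOfFiniteType.isLocallyNoetherian f
  have : CompactSpace X := QuasiCompact.compactSpace_of_compactSpace f
  exact {}

variable {S U Z X Y : Scheme.{u}} [IsNoetherian S] (j₀ : U ⟶ S) [IsOpenImmersion j₀]
  (i₀ : Z ⟶ S) [IsClosedImmersion i₀] {n : ℕ}

include i₀ in
/-- Higher direct images of sheaves coming from the closed part. -/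
theorem cons_Rpush_push (hZ : Fin Z n) (a : X ⟶ S) (b : Y ⟶ S) [LocallyOfFiniteType a]
    [QuasiCompact a] [LocallyOfFiniteType b] [QuasiCompact b] (f : X ⟶ Y) (w : f ≫ b = a)
    (N : EtCoh.Ab (pullback a i₀)) (hN : EtPBC.IsConstructible N) (hNn : EtCoh.KilledBy n N) (q : ℕ) :
    EtPBC.IsConstructible ((EtCoh.Rpush f q).obj ((EtCoh.push (pullback.fst a i₀)).obj N)) := by
  have hY : IsNoetherian Y := isNoetherian_of_finiteType b
  let g : pullback a i₀ ⟶ pullback b i₀ :=
    pullback.lift (pullback.fst a i₀ ≫ f) (pullback.snd a i₀) (by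
      rw [Category.assoc, w, pullback.condition])
  have hg1 : g ≫ pullback.fst b i₀ = pullback.fst a i₀ ≫ f := pullback.lift_fst _ _ _
  have hg2 : g ≫ pullback.snd b i₀ = pullback.snd a i₀ := pullback.lift_snd _ _ _
  have h1 := hZ (pullback.snd a i₀) (pullback.snd b i₀) g hg2 N hN hNn q
  have hfp : LocallyOfFinitePresentation (pullback.fst b i₀) :=
    LocallyOfFinitePresentation.iff_locallyOfFiniteType.2 inferInstance
  have h2 := FinPush.isConstructible_push (pullback.fst b i₀) _ h1
  have := ClosedPushExact.push_preservesFiniteColimits (pullback.fst b i₀)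
  refine isConstructible_of_iso ?_ h2
  exact (rpushExactIso g (pullback.fst b i₀) N q).symm ≪≫ (rpushCongr hg1 q).app N ≪≫
    (rpushCompIso (pullback.fst a i₀) f N
      (fun p hp => ClosedPushExact.isZero_Rpush (pullback.fst a i₀) N p hp) q).symm

omit [AlgebraicGeometry.IsNoetherian S] [IsOpenImmersion j₀] [IsClosedImmersion i₀] in
theorem isCompl_range_pullback (hd : IsCompl (Set.range i₀) (Set.range j₀)) (a : X ⟶ S) :
    IsCompl (Set.range (pullback.fst a i₀)) (Set.range (pullback.fst a j₀)) := by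
  have h1 : Set.range (pullback.fst a i₀) = a ⁻¹' (Set.range i₀) := by
    rw [Scheme.Pullback.range_fst]
  have h2 : Set.range (pullback.fst a j₀) = a ⁻¹' (Set.range j₀) := by
    rw [Scheme.Pullback.range_fst]
  rw [h1, h2]
  constructor
  · exact hd.disjoint.preimage a
  · rw [codisjoint_iff]
    have := hd.codisjoint.eq_top
    change a ⁻¹' (Set.range i₀) ∪ a ⁻¹' (Set.range j₀) = Set.univ
    rw [← Set.preimage_union]
    change Set.range i₀ ∪ Set.range j₀ = Set.univ at this
    rw [this, Set.preimage_univ]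

include i₀ in
/-- Higher direct images of sheaves vanishing on the open part. -/
theorem cons_Rpush_of_isZero (hd : IsCompl (Set.range i₀) (Set.range j₀)) (hZ : Fin Z n)
    (a : X ⟶ S) (b : Y ⟶ S) [LocallyOfFiniteType a]
    [QuasiCompact a] [LocallyOfFiniteType b] [QuasiCompact b] (f : X ⟶ Y) (w : f ≫ b = a)
    (G : EtCoh.Ab X) (hG : EtPBC.IsConstructible G) (hGn : EtCoh.KilledBy n G)
    (h0 : IsZero ((EtCoh.pull (pullback.fst a j₀)).obj G)) (q : ℕ) :
    EtPBC.IsConstructible ((EtCoh.Rpush f q).obj G) := by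
  have := isIso_unit_of_isZero (pullback.fst a j₀) (pullback.fst a i₀)
    (isCompl_range_pullback j₀ i₀ hd a) G h0
  have h1 := cons_Rpush_push i₀ hZ a b f w ((EtCoh.pull (pullback.fst a i₀)).obj G)
    (cons_pull _ hG) (EtpbcB.TorsionBasic.killedBy_map _ n G hGn) q
  exact isConstructible_of_iso
    ((EtCoh.Rpush f q).mapIso (asIso ((EtCoh.pullPushAdj (pullback.fst a i₀)).unit.app G)).symm) h1

include i₀ in
/-- Higher direct images of `j_* G`. -/
theorem cons_Rpush_push_open (hd : IsCompl (Set.range i₀) (Set.range j₀)) (hU : Fin U n)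
    (hZ : Fin Z n) (hJ : FinOpen j₀ n) (a : X ⟶ S) (b : Y ⟶ S) [LocallyOfFiniteType a]
    [QuasiCompact a] [LocallyOfFiniteType b] [QuasiCompact b] (f : X ⟶ Y) (w : f ≫ b = a)
    (G : EtCoh.Ab (pullback a j₀)) (hG : EtPBC.IsConstructible G) (hGn : EtCoh.KilledBy n G) (q : ℕ) :
    EtPBC.IsConstructible ((EtCoh.Rpush f q).obj ((EtCoh.push (pullback.fst a j₀)).obj G)) := by
  have hX : IsNoetherian X := isNoetherian_of_finiteType a
  have hY : IsNoetherian Y := isNoetherian_of_finiteType b
  let g : pullback a j₀ ⟶ pullback b j₀ :=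
    pullback.lift (pullback.fst a j₀ ≫ f) (pullback.snd a j₀) (by
      rw [Category.assoc, w, pullback.condition])
  have hg1 : g ≫ pullback.fst b j₀ = pullback.fst a j₀ ≫ f := pullback.lift_fst _ _ _
  have hg2 : g ≫ pullback.snd b j₀ = pullback.snd a j₀ := pullback.lift_snd _ _ _
  have hqc : QuasiCompact j₀ := inferInstance
  refine FinComp.edge (pullback.fst a j₀) f G (cons Y) q ?_ ?_
  · -- the composite through `Y_U`
    have h1 : (cons Y) ((EtCoh.Rpush (g ≫ pullback.fst b j₀) q).obj G) := by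
      refine FinComp.composite g (pullback.fst b j₀) G (cons Y) q fun c d _ => ?_
      exact hJ b _ (hU (pullback.snd a j₀) (pullback.snd b j₀) g hg2 G hG hGn d)
        (EtpbcB.TorsionBasic.killedBy_map _ n G hGn) c
    exact isConstructible_of_iso ((rpushCongr hg1 q).app G) h1
  · intro c d _ hd1
    obtain ⟨d, rfl⟩ : ∃ e, d = e + 1 := ⟨d - 1, by omega⟩
    exact cons_Rpush_of_isZero j₀ i₀ hd hZ a b f w _ (hJ a G hG hGn _)
      (EtpbcB.TorsionBasic.killedBy_map _ n G hGn) (isZero_pull_Rpush (pullback.fst a j₀) G d) c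

include i₀ in
/-- **Open/closed dévissage for finiteness.** -/
theorem fin_of_open_closed (hd : IsCompl (Set.range i₀) (Set.range j₀)) (hU : Fin U n)
    (hZ : Fin Z n) (hJ : FinOpen j₀ n) : Fin S n := by
  intro X Y a b _ _ _ _ f w F hF hFn q
  have hX : IsNoetherian X := isNoetherian_of_finiteType a
  have hY : IsNoetherian Y := isNoetherian_of_finiteType b
  let j := pullback.fst a j₀
  let u : F ⟶ (EtCoh.push j).obj ((EtCoh.pull j).obj F) := (EtCoh.pullPushAdj j).unit.app F
  have hju : IsIso ((EtCoh.pull j).map u) := isIso_pull_unit j F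
  have hjF : EtPBC.IsConstructible ((EtCoh.pull j).obj F) := cons_pull j hF
  have hjFn : EtCoh.KilledBy n ((EtCoh.pull j).obj F) := EtpbcB.TorsionBasic.killedBy_map _ n F hFn
  have hJF : EtPBC.IsConstructible ((EtCoh.push j).obj ((EtCoh.pull j).obj F)) :=
    isConstructible_of_iso ((rpushZeroIso j).app _) (hJ a _ hjF hjFn 0)
  have hJFn : EtCoh.KilledBy n ((EtCoh.push j).obj ((EtCoh.pull j).obj F)) :=
    EtpbcB.TorsionBasic.killedBy_map (EtCoh.push j) n _ hjFn
  have hmid := cons_Rpush_push_open j₀ i₀ hd hU hZ hJ a b f w _ hjF hjFn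
  -- kernel and cokernel
  have hK0 : IsZero ((EtCoh.pull j).obj (kernel u)) :=
    IsZero.of_iso (isZero_kernel_of_mono ((EtCoh.pull j).map u)) (PreservesKernel.iso (EtCoh.pull j) u)
  have hQ0 : IsZero ((EtCoh.pull j).obj (cokernel u)) :=
    IsZero.of_iso (isZero_cokernel_of_epi ((EtCoh.pull j).map u)) (PreservesCokernel.iso (EtCoh.pull j) u)
  have hKc : EtPBC.IsConstructible (kernel u) := (cons X).prop_of_mono (kernel.ι u) hF
  have hQc : EtPBC.IsConstructible (cokernel u) := (cons X).prop_of_epi (cokernel.π u) hJF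
  have hKn : EtCoh.KilledBy n (kernel u) := killedBy_of_mono (kernel.ι u) hFn
  have hQn : EtCoh.KilledBy n (cokernel u) := killedBy_of_epi (cokernel.π u) hJFn
  have hK := cons_Rpush_of_isZero j₀ i₀ hd hZ a b f w (kernel u) hKc hKn hK0
  have hQ := cons_Rpush_of_isZero j₀ i₀ hd hZ a b f w (cokernel u) hQc hQn hQ0
  -- the image
  have hI : EtPBC.IsConstructible ((EtCoh.Rpush f q).obj (Abelian.image u)) := by
    cases q with
    | zero => exact FinDev.prop_zero_X₁ (FinComp.hasLES f) (cons Y) (shortExact_image_cokernel u) (hmid 0)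
    | succ q =>
      exact FinDev.prop_succ_X₁ (FinComp.hasLES f) (cons Y) (shortExact_image_cokernel u) q
        (hQ q) (hmid (q + 1))
  exact FinDev.prop_X₂ (FinComp.hasLES f) (cons Y) (shortExact_kernel_image u) q (hK q) hI

end main

end Groth.Agent.Sga4h.FinRed
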