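import Groth.Agent.Sga4h.FinBC
import Groth.Agent.Sga4h.FinDVR
import Groth.Agent.Sga4h.ConsFam

/-!
# Finiteness of direct images: from strict localizations of the base to the base
-/

set_option autoImplicit false
universe u
open CategoryTheory CategoryTheory.Limits AlgebraicGeometry Opposite

namespace Groth.Agent.Sga4h.FinS

open Groth.Agent.EtpbcB.StrictLoc Groth.Agent.Sga4h.ConsWO Groth.Agent.Sga4h.FinDVR
open Groth.Agent.EtpbcA

theorem isUnit_of_hom {X S : Scheme.{u}} (f : X ⟶ S) {n : ℕ} (hn : IsUnit (n : Γ(S, ⊤))) :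
    IsUnit (n : Γ(X, ⊤)) := by
  have := hn.map f.appTop.hom
  rwa [map_natCast] at this

/-- The cartesian square obtained from two base changes. -/
theorem isPullback_map {X Y S T : Scheme.{u}} (a : X ⟶ S) (b : Y ⟶ S) (f : X ⟶ Y) (w : f ≫ b = a)
    (t : T ⟶ S) : IsPullback (pullback.fst a t) (pullback.map a t b t f (𝟙 _) (𝟙 _)
      (by rw [w, Category.comp_id]) (by rw [Category.comp_id, Category.id_comp])) f
      (pullback.fst b t) := by
  have h1 : IsPullback (pullback.snd b t) (pullback.fst b t) t b := (IsPullback.of_hasPullback b t).flip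
  have h2 : IsPullback (pullback.snd a t) (pullback.fst a t) t a := (IsPullback.of_hasPullback a t).flip
  subst w
  refine (IsPullback.of_right (h₁₁ := pullback.map _ t b t f (𝟙 _) (𝟙 _) (by simp) (by simp))
    (h₁₂ := pullback.snd b t) (v₁₁ := pullback.fst _ t) (v₁₂ := pullback.fst b t) (v₁₃ := t)
    (h₂₁ := f) (h₂₂ := b) ?_ ?_ h1).flip
  · have : pullback.map (f ≫ b) t b t f (𝟙 _) (𝟙 _) (by simp) (by simp) ≫ pullback.snd b t =
        pullback.snd (f ≫ b) t := (pullback.lift_snd _ _ _).trans (Category.comp_id _)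
    rw [this]
    exact h2
  · exact pullback.lift_fst _ _ _

theorem isConstructible_rpush {X Y S : Scheme.{u}} [IsNoetherian S] {n : ℕ}
    (hn : IsUnit (n : Γ(S, ⊤))) (a : X ⟶ S) (b : Y ⟶ S) [LocallyOfFiniteType a] [QuasiCompact a]
    [LocallyOfFiniteType b] [QuasiCompact b] (f : X ⟶ Y) (w : f ≫ b = a)
    (F : EtCoh.Ab X) (hF : EtPBC.IsConstructible F) (hFn : EtCoh.KilledBy n F) (q : ℕ)
    (U : S.Opens) (hfin : Set.Finite (U : Set S)ᶜ)
    (hU : EtPBC.IsConstructible ((EtCoh.pull (b ⁻¹ᵁ U).ι).obj ((EtCoh.Rpush f q).obj F)))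
    (hloc : ∀ s : S, s ∉ U → ∃ (Ω : Type u) (_ : Field Ω) (_ : IsSepClosed Ω)
      (ξ : Spec (CommRingCat.of Ω) ⟶ S), ξ default = s ∧ Fin n (Spec (Osh ξ))) :
    EtPBC.IsConstructible ((EtCoh.Rpush f q).obj F) := by
  have hYN : IsLocallyNoetherian Y := LocallyOfFiniteType.isLocallyNoetherian b
  have hXN : IsLocallyNoetherian X := LocallyOfFiniteType.isLocallyNoetherian a
  have hYc : CompactSpace Y := QuasiCompact.compactSpace_of_compactSpace b
  have hXc : CompactSpace X := QuasiCompact.compactSpace_of_compactSpace a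
  have hf1 : QuasiCompact f := inferInstance
  have hf2 : QuasiSeparated f := inferInstance
  choose Ω i1 i2 ξ hξ hF' using hloc
  have : Finite {s : S // s ∉ U} := hfin
  let K := Option {s : S // s ∉ U}
  let Z : K → Scheme.{u} := fun k => match k with
    | none => (b ⁻¹ᵁ U).toScheme
    | some s => pullback b (toBase (ξ s.1 s.2))
  let g : ∀ k : K, Z k ⟶ Y := fun k => match k with
    | none => (b ⁻¹ᵁ U).ι
    | some s => pullback.fst b (toBase (ξ s.1 s.2))
  have hZ : ∀ k, CompactSpace (Z k) := by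
    rintro (_ | s)
    · have : IsNoetherian Y := {}
      have : CompactSpace (b ⁻¹ᵁ U).toScheme :=
        isCompact_iff_compactSpace.1 (TopologicalSpace.NoetherianSpace.isCompact _)
      exact this
    · exact QuasiCompact.compactSpace_of_compactSpace (pullback.snd b (toBase (ξ s.1 s.2)))
  refine ConsFam.isConstructible_of_family _ Z g (fun y => ?_) ?_
  · by_cases hy : b y ∈ U
    · refine ⟨none, ?_⟩
      change y ∈ Set.range (b ⁻¹ᵁ U).ι
      rw [Scheme.Opens.range_ι]
      exact hy
    · refine ⟨some ⟨b y, hy⟩, ?_⟩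
      change y ∈ Set.range (pullback.fst b (toBase (ξ (b y) hy)))
      rw [Scheme.Pullback.range_fst]
      refine ⟨pt (ξ (b y) hy) default, ?_⟩
      rw [← Scheme.Hom.comp_apply, pt_toBase, hξ]
  · rintro (_ | s)
    · exact hU
    · let t := toBase (ξ s.1 s.2)
      have hX := isPullback_map a b f w t
      let f' : pullback a t ⟶ pullback b t := pullback.map a t b t f (𝟙 _) (𝟙 _)
        (by rw [w, Category.comp_id]) (by rw [Category.comp_id, Category.id_comp])
      obtain ⟨e⟩ := FinBC.nonempty_iso (ξ s.1 s.2) b f (pullback.fst b t) (pullback.snd b t)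
        (IsPullback.of_hasPullback b t) f' (pullback.fst a t) hX F
        (FinBC.isTorsionInvertibleOn_of_killedBy (isUnit_of_hom b hn) hFn) q
      refine StrataGlob.isConstructible_of_iso e.symm ?_
      refine (hF' s.1 s.2 (pullback.snd a t) (pullback.snd b t) f' ?_ _ ⟨Groth.Agent.S0127.result _ _ hF, 1, ?_⟩ q).1
      · exact (pullback.lift_snd _ _ _).trans (Category.comp_id _)
      · rw [pow_one]
        exact killedBy_pull _ hFn

end Groth.Agent.Sga4h.FinS
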