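import Groth.Agent.Etrest.DEtMate

/-!
# Abelian coherence of the canonical comparisons `pull g ⋙ pull f' ≅ pull f ⋙ pull g'`

`cmp_hcoh`, `cmp_vcoh`: compatibility of `DEtMate.cmp` with horizontal and vertical pasting.
-/

set_option autoImplicit false
universe u

open CategoryTheory CategoryTheory.Limits Opposite AlgebraicGeometry

noncomputable section
namespace Groth.Agent.Sga4h.GSqCoh

open Groth.Agent.EtpbcB Groth.Agent.Etrest.DEtMate

section generic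

universe v₁ v₂ v₃ v₄ v₅ v₆ u₁ u₂ u₃ u₄ u₅ u₆

section basic

variable {A : Type u₁} [Category.{v₁} A] {B : Type u₂} [Category.{v₂} B]
  {L L' : A ⥤ B} {R R' : B ⥤ A} (adj : L ⊣ R) (adj' : L' ⊣ R')

lemma conj_leftIso (γ : R ≅ R') :
    conjugateEquiv adj' adj (MateCalc.leftIso adj adj' γ).hom = γ.inv := by
  have : (MateCalc.leftIso adj adj' γ).hom = (conjugateEquiv adj' adj).symm γ.inv := rfl
  rw [this, Equiv.apply_symm_apply]

lemma conjugateEquiv_associator_inv {A B C D : Type*} [Category* A] [Category* B] [Category* C] [Category* D]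
    {L₀₁ : A ⥤ B} {R₁₀ : B ⥤ A} {L₁₂ : B ⥤ C} {R₂₁ : C ⥤ B}
    {L₂₃ : C ⥤ D} {R₃₂ : D ⥤ C} (adj₀₁ : L₀₁ ⊣ R₁₀) (adj₁₂ : L₁₂ ⊣ R₂₁)
    (adj₂₃ : L₂₃ ⊣ R₃₂) :
    conjugateEquiv ((adj₀₁.comp adj₁₂).comp adj₂₃) (adj₀₁.comp (adj₁₂.comp adj₂₃))
      (Functor.associator _ _ _).inv = (Functor.associator _ _ _).inv := by
  have h := conjugateEquiv_comm (adj₁ := (adj₀₁.comp adj₁₂).comp adj₂₃) (adj₂ := adj₀₁.comp (adj₁₂.comp adj₂₃))
    (α := (Functor.associator L₀₁ L₁₂ L₂₃).inv) (β := (Functor.associator L₀₁ L₁₂ L₂₃).hom) (by simp)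
  rw [conjugateEquiv_associator_hom] at h
  rw [← cancel_mono (Functor.associator R₃₂ R₂₁ R₁₀).hom, h, Iso.inv_hom_id]

end basic

section horizontal

variable {A : Type u₁} [Category.{v₁} A] {B : Type u₂} [Category.{v₂} B]
  {A' : Type u₃} [Category.{v₃} A'] {B' : Type u₄} [Category.{v₄} B']
  {A'' : Type u₅} [Category.{v₅} A''] {B'' : Type u₆} [Category.{v₆} B'']
  {Rf : A ⥤ B} {Rf' : A' ⥤ B'} {Rf'' : A'' ⥤ B''}
  {Lf : B ⥤ A} {Lf' : B' ⥤ A'} {Lf'' : B'' ⥤ A''}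
  {Lg : B ⥤ B'} {Rg : B' ⥤ B} {Lg' : A ⥤ A'} {Rg' : A' ⥤ A}
  {Lh : B' ⥤ B''} {Rh : B'' ⥤ B'} {Lh' : A' ⥤ A''} {Rh' : A'' ⥤ A'}
  {Lgh : B ⥤ B''} {Rgh : B'' ⥤ B} {Lgh' : A ⥤ A''} {Rgh' : A'' ⥤ A}
  (adjf : Lf ⊣ Rf) (adjf' : Lf' ⊣ Rf') (adjf'' : Lf'' ⊣ Rf'')
  (adjg : Lg ⊣ Rg) (adjg' : Lg' ⊣ Rg') (α : Rg' ⋙ Rf ≅ Rf' ⋙ Rg)
  (adjh : Lh ⊣ Rh) (adjh' : Lh' ⊣ Rh') (β : Rh' ⋙ Rf' ≅ Rf'' ⋙ Rh)
  (adjgh : Lgh ⊣ Rgh) (adjgh' : Lgh' ⊣ Rgh') (γ : Rgh' ⋙ Rf ≅ Rf'' ⋙ Rgh)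
  (c : Rh ⋙ Rg ≅ Rgh) (c' : Rh' ⋙ Rg' ≅ Rgh')

lemma hcoh
    (hcoh : ∀ G : A'', Rf.map (c'.hom.app G) ≫ γ.hom.app G =
      α.hom.app (Rh'.obj G) ≫ Rg.map (β.hom.app G) ≫ c.hom.app (Rf''.obj G)) (M : B) :
    Lf''.map ((MateCalc.leftIso (adjg.comp adjh) adjgh c).hom.app M) ≫
      (MateCalc.leftIso (adjgh.comp adjf'') (adjf.comp adjgh') γ.symm).hom.app M =
    (MateCalc.leftIso (adjh.comp adjf'') (adjf'.comp adjh') β.symm).hom.app (Lg.obj M) ≫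
      Lh'.map ((MateCalc.leftIso (adjg.comp adjf') (adjf.comp adjg') α.symm).hom.app M) ≫
        (MateCalc.leftIso (adjg'.comp adjh') adjgh' c').hom.app (Lf.obj M) := by
  let τ₁ : (Lg ⋙ Lh) ⋙ Lf'' ⟶ Lf ⋙ Lgh' :=
    Functor.whiskerRight (MateCalc.leftIso (adjg.comp adjh) adjgh c).hom Lf'' ≫
      (MateCalc.leftIso (adjgh.comp adjf'') (adjf.comp adjgh') γ.symm).hom
  let τ₂ : (Lg ⋙ Lh) ⋙ Lf'' ⟶ Lf ⋙ Lgh' :=
    (Functor.associator _ _ _).hom ≫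
    Functor.whiskerLeft Lg (MateCalc.leftIso (adjh.comp adjf'') (adjf'.comp adjh') β.symm).hom ≫
    (Functor.associator _ _ _).inv ≫
    Functor.whiskerRight (MateCalc.leftIso (adjg.comp adjf') (adjf.comp adjg') α.symm).hom Lh' ≫
    (Functor.associator _ _ _).hom ≫
    Functor.whiskerLeft Lf (MateCalc.leftIso (adjg'.comp adjh') adjgh' c').hom
  have key : τ₁ = τ₂ := by
    apply (conjugateEquiv (adjf.comp adjgh') ((adjg.comp adjh).comp adjf'')).injective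
    have e1 : conjugateEquiv (adjf.comp adjgh') ((adjg.comp adjh).comp adjf'') τ₁ =
        γ.hom ≫ Functor.whiskerLeft Rf'' c.inv := by
      dsimp only [τ₁]
      rw [← conjugateEquiv_comp _ (adjgh.comp adjf'') _, conj_leftIso, conjugateEquiv_whiskerRight,
        conj_leftIso]
      rfl
    have e2 : conjugateEquiv (adjf.comp adjgh') ((adjg.comp adjh).comp adjf'') τ₂ =
        Functor.whiskerRight c'.inv Rf ≫ (Functor.associator _ _ _).hom ≫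
          Functor.whiskerLeft Rh' α.hom ≫ (Functor.associator _ _ _).inv ≫
          Functor.whiskerRight β.hom Rg ≫ (Functor.associator _ _ _).hom := by
      dsimp only [τ₂]
      rw [← conjugateEquiv_comp _ (adjg.comp (adjh.comp adjf'')) _,
        ← conjugateEquiv_comp _ (adjg.comp (adjf'.comp adjh')) _,
        ← conjugateEquiv_comp _ ((adjg.comp adjf').comp adjh') _,
        ← conjugateEquiv_comp _ ((adjf.comp adjg').comp adjh') _,
        ← conjugateEquiv_comp _ (adjf.comp (adjg'.comp adjh')) _,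
        conjugateEquiv_whiskerLeft, conjugateEquiv_whiskerLeft, conjugateEquiv_whiskerRight,
        conj_leftIso, conj_leftIso, conj_leftIso, conjugateEquiv_associator_hom,
        conjugateEquiv_associator_hom, conjugateEquiv_associator_inv]
      simp only [Category.assoc]
      rfl
    rw [e1, e2]
    ext G
    have h1 := hcoh G
    simp only [NatTrans.comp_app, Functor.whiskerLeft_app, Functor.whiskerRight_app,
      Functor.associator_hom_app, Functor.associator_inv_app, Category.id_comp]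
    erw [Category.comp_id]
    rw [← cancel_epi (Rf.map (c'.hom.app G)), ← cancel_mono (c.hom.app (Rf''.obj G))]
    have h2 : Rf.map (c'.hom.app G) ≫ Rf.map (c'.inv.app G) = 𝟙 _ := by
      rw [← Functor.map_comp, Iso.hom_inv_id_app, CategoryTheory.Functor.map_id]
    have h3 : c.inv.app (Rf''.obj G) ≫ c.hom.app (Rf''.obj G) = 𝟙 _ := Iso.inv_hom_id_app _ _
    simp only [Category.assoc]
    erw [h3, reassoc_of% h2]
    exact (congrArg _ (Category.comp_id _)).trans h1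
  have := NatTrans.congr_app key M
  simpa [τ₁, τ₂] using this

end horizontal

section vertical

variable {A : Type u₁} [Category.{v₁} A] {B : Type u₂} [Category.{v₂} B]
  {A' : Type u₃} [Category.{v₃} A'] {B' : Type u₄} [Category.{v₄} B']
  {C : Type u₅} [Category.{v₅} C] {C' : Type u₆} [Category.{v₆} C']
  {Rf : A ⥤ B} {Rf' : A' ⥤ B'} {Re : C ⥤ A} {Re' : C' ⥤ A'} {Ref : C ⥤ B} {Ref' : C' ⥤ B'}
  {Lf : B ⥤ A} {Lf' : B' ⥤ A'} {Le : A ⥤ C} {Le' : A' ⥤ C'} {Lef : B ⥤ C} {Lef' : B' ⥤ C'}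
  {Lg : B ⥤ B'} {Rg : B' ⥤ B} {Lg' : A ⥤ A'} {Rg' : A' ⥤ A} {Lk : C ⥤ C'} {Rk : C' ⥤ C}
  (adjf : Lf ⊣ Rf) (adjf' : Lf' ⊣ Rf') (adje : Le ⊣ Re) (adje' : Le' ⊣ Re')
  (adjef : Lef ⊣ Ref) (adjef' : Lef' ⊣ Ref')
  (adjg : Lg ⊣ Rg) (adjg' : Lg' ⊣ Rg') (adjk : Lk ⊣ Rk)
  (α : Rg' ⋙ Rf ≅ Rf' ⋙ Rg) (β : Rk ⋙ Re ≅ Re' ⋙ Rg')
  (γ : Rk ⋙ Ref ≅ Ref' ⋙ Rg)
  (c : Re ⋙ Rf ≅ Ref) (c' : Re' ⋙ Rf' ≅ Ref')

lemma vcoh
    (hcoh : ∀ G : C', c.hom.app (Rk.obj G) ≫ γ.hom.app G =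
      Rf.map (β.hom.app G) ≫ α.hom.app (Re'.obj G) ≫ Rg.map (c'.hom.app G)) (M : B) :
    (MateCalc.leftIso (adjf'.comp adje') adjef' c').hom.app (Lg.obj M) ≫
      (MateCalc.leftIso (adjg.comp adjef') (adjef.comp adjk) γ.symm).hom.app M =
    Le'.map ((MateCalc.leftIso (adjg.comp adjf') (adjf.comp adjg') α.symm).hom.app M) ≫
      (MateCalc.leftIso (adjg'.comp adje') (adje.comp adjk) β.symm).hom.app (Lf.obj M) ≫
        Lk.map ((MateCalc.leftIso (adjf.comp adje) adjef c).hom.app M) := by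
  let τ₁ : Lg ⋙ (Lf' ⋙ Le') ⟶ Lef ⋙ Lk :=
    Functor.whiskerLeft Lg (MateCalc.leftIso (adjf'.comp adje') adjef' c').hom ≫
      (MateCalc.leftIso (adjg.comp adjef') (adjef.comp adjk) γ.symm).hom
  let τ₂ : Lg ⋙ (Lf' ⋙ Le') ⟶ Lef ⋙ Lk :=
    (Functor.associator _ _ _).inv ≫
    Functor.whiskerRight (MateCalc.leftIso (adjg.comp adjf') (adjf.comp adjg') α.symm).hom Le' ≫
    (Functor.associator _ _ _).hom ≫
    Functor.whiskerLeft Lf (MateCalc.leftIso (adjg'.comp adje') (adje.comp adjk) β.symm).hom ≫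
    (Functor.associator _ _ _).inv ≫
    Functor.whiskerRight (MateCalc.leftIso (adjf.comp adje) adjef c).hom Lk
  have key : τ₁ = τ₂ := by
    apply (conjugateEquiv (adjef.comp adjk) (adjg.comp (adjf'.comp adje'))).injective
    have e1 : conjugateEquiv (adjef.comp adjk) (adjg.comp (adjf'.comp adje')) τ₁ =
        γ.hom ≫ Functor.whiskerRight c'.inv Rg := by
      dsimp only [τ₁]
      rw [← conjugateEquiv_comp _ (adjg.comp adjef') _, conj_leftIso, conjugateEquiv_whiskerLeft,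
        conj_leftIso]
      rfl
    have e2 : conjugateEquiv (adjef.comp adjk) (adjg.comp (adjf'.comp adje')) τ₂ =
        Functor.whiskerLeft Rk c.inv ≫ (Functor.associator _ _ _).inv ≫
          Functor.whiskerRight β.hom Rf ≫ (Functor.associator _ _ _).hom ≫
          Functor.whiskerLeft Re' α.hom ≫ (Functor.associator _ _ _).inv := by
      dsimp only [τ₂]
      rw [← conjugateEquiv_comp _ ((adjg.comp adjf').comp adje') _,
        ← conjugateEquiv_comp _ ((adjf.comp adjg').comp adje') _,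
        ← conjugateEquiv_comp _ (adjf.comp (adjg'.comp adje')) _,
        ← conjugateEquiv_comp _ (adjf.comp (adje.comp adjk)) _,
        ← conjugateEquiv_comp _ ((adjf.comp adje).comp adjk) _,
        conjugateEquiv_whiskerLeft, conjugateEquiv_whiskerRight, conjugateEquiv_whiskerRight,
        conj_leftIso, conj_leftIso, conj_leftIso, conjugateEquiv_associator_hom,
        conjugateEquiv_associator_inv, conjugateEquiv_associator_inv]
      simp only [Category.assoc]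
      rfl
    rw [e1, e2]
    ext G
    have h1 := hcoh G
    simp only [NatTrans.comp_app, Functor.whiskerLeft_app, Functor.whiskerRight_app,
      Functor.associator_hom_app, Functor.associator_inv_app, Category.id_comp]
    erw [Category.comp_id]
    rw [← cancel_epi (c.hom.app (Rk.obj G)), ← cancel_mono (Rg.map (c'.hom.app G))]
    have h2 : c.hom.app (Rk.obj G) ≫ c.inv.app (Rk.obj G) = 𝟙 _ := Iso.hom_inv_id_app _ _
    have h3 : Rg.map (c'.inv.app G) ≫ Rg.map (c'.hom.app G) = 𝟙 _ := by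
      rw [← Functor.map_comp, Iso.inv_hom_id_app, CategoryTheory.Functor.map_id]
    simp only [Category.assoc]
    erw [h3, reassoc_of% h2]
    exact (congrArg _ (Category.comp_id _)).trans h1
  have := NatTrans.congr_app key M
  simpa [τ₁, τ₂] using this

end vertical

end generic

section scheme

variable {X Y Z X' Y' X'' Y'' Z' : Scheme.{u}}

theorem cmp_hcoh {f : X ⟶ Y} {g : Y' ⟶ Y} {f' : X' ⟶ Y'} {g' : X' ⟶ X}
    {f'' : X'' ⟶ Y''} {h : Y'' ⟶ Y'} {h' : X'' ⟶ X'}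
    (w₁ : g' ≫ f = f' ≫ g) (w₂ : h' ≫ f' = f'' ≫ h)
    (w : (h' ≫ g') ≫ f = f'' ≫ (h ≫ g)) (M : EtCoh.Ab Y) :
    (EtCoh.pull f'').map ((BCCalc.pullComp g h).hom.app M) ≫ (cmp w).hom.app M =
      (cmp w₂).hom.app ((EtCoh.pull g).obj M) ≫ (EtCoh.pull h').map ((cmp w₁).hom.app M) ≫
        (BCCalc.pullComp g' h').hom.app ((EtCoh.pull f).obj M) :=
  hcoh (EtCoh.pullPushAdj f) (EtCoh.pullPushAdj f') (EtCoh.pullPushAdj f'') (EtCoh.pullPushAdj g)
    (EtCoh.pullPushAdj g') (BCCalc.sq w₁) (EtCoh.pullPushAdj h) (EtCoh.pullPushAdj h') (BCCalc.sq w₂)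
    (EtCoh.pullPushAdj (h ≫ g)) (EtCoh.pullPushAdj (h' ≫ g')) (BCCalc.sq w) (EtCoh.pushComp g h)
    (EtCoh.pushComp g' h') (BCCalc.sq_hcoh w₁ w₂ w) M

theorem cmp_vcoh {f : X ⟶ Y} {g : Y' ⟶ Y} {f' : X' ⟶ Y'} {g' : X' ⟶ X}
    {e : Z ⟶ X} {e' : Z' ⟶ X'} {k : Z' ⟶ Z}
    (w₁ : g' ≫ f = f' ≫ g) (w₂ : k ≫ e = e' ≫ g')
    (w : k ≫ (e ≫ f) = (e' ≫ f') ≫ g) (M : EtCoh.Ab Y) :
    (BCCalc.pullComp f' e').hom.app ((EtCoh.pull g).obj M) ≫ (cmp w).hom.app M =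
      (EtCoh.pull e').map ((cmp w₁).hom.app M) ≫ (cmp w₂).hom.app ((EtCoh.pull f).obj M) ≫
        (EtCoh.pull k).map ((BCCalc.pullComp f e).hom.app M) :=
  vcoh (EtCoh.pullPushAdj f) (EtCoh.pullPushAdj f') (EtCoh.pullPushAdj e) (EtCoh.pullPushAdj e')
    (EtCoh.pullPushAdj (e ≫ f)) (EtCoh.pullPushAdj (e' ≫ f')) (EtCoh.pullPushAdj g)
    (EtCoh.pullPushAdj g') (EtCoh.pullPushAdj k) (BCCalc.sq w₁) (BCCalc.sq w₂) (BCCalc.sq w)
    (EtCoh.pushComp f e) (EtCoh.pushComp f' e') (BCCalc.sq_vcoh w₁ w₂ w) M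

end scheme

end Groth.Agent.Sga4h.GSqCoh
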