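import Groth.Agent.Sga4h.GalDatum
import Groth.Agent.Sga4h.LVanExact

/-!
# The class of sheaves of modules attached to a Galois datum

For a Galois datum `D` on `X` (étale `U`, closed irreducible `V ⊆ U`, image `Z ⊆ X`), `Mem D F`
means that `F` vanishes outside `Z` and is constant, with finitely generated value, along `V`.
-/

set_option autoImplicit false
universe u

open CategoryTheory CategoryTheory.Limits AlgebraicGeometry Opposite

namespace Groth.Agent.Sga4h.GalClass

open Groth.Agent.Etcore.LVan Groth.Agent.Sga4h.LVanExact Groth.Agent.Sga4h.GalDatum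

variable {Λ : Type (u + 1)} [CommRing Λ] {X : Scheme.{u}}

/-- `F` vanishes at all points not over `Z`. -/
def VanOff (F : EtModW.Mod Λ X) (Z : Set X) : Prop :=
  ∀ (T : X.Etale) (s : EtModW.sect Λ F T) (t : T.left), T.hom t ∉ Z → Van F s t

/-- The image in `X` of the closed subset of a Galois datum. -/
def img (D : Datum X) : Set X := D.U.hom '' D.V

theorem mem_V_iff (D : Datum X) (p : D.U.left) : p ∈ D.V ↔ D.U.hom p ∈ img D :=
  ⟨fun h => ⟨p, h, rfl⟩, D.pre p⟩

/-- `φ : M → F(U)` is a constant structure along `V`. -/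
def IsConstOn {M : Type (u + 1)} [AddCommGroup M] [Module Λ M] (D : Datum X) (F : EtModW.Mod Λ X)
    (φ : M →ₗ[Λ] EtModW.sect Λ F D.U) : Prop :=
  ∀ v ∈ D.V, InjAt F φ v ∧ SurjAt F φ v

/-- The class of sheaves attached to a Galois datum. -/
def Mem (D : Datum X) (F : EtModW.Mod Λ X) : Prop :=
  VanOff F (img D) ∧ ∃ (M : Type (u + 1)) (_ : AddCommGroup M) (_ : Module Λ M)
    (_ : Module.Finite Λ M) (φ : M →ₗ[Λ] EtModW.sect Λ F D.U), IsConstOn D F φ

variable {F G H : EtModW.Mod Λ X}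

theorem VanOff.of_mono {Z : Set X} (h : VanOff G Z) (α : F ⟶ G) [Mono α] : VanOff F Z :=
  fun T s t ht => van_of_mono α (h T _ t ht)

theorem VanOff.of_epi {Z : Set X} (h : VanOff F Z) (α : F ⟶ G) [Epi α] : VanOff G Z := by
  intro T s t ht
  obtain ⟨V, g, v, s', hv, hs⟩ := exists_local_lift α s t
  have h1 : V.hom v ∉ Z := by
    have h2 : T.hom (g.left v) = V.hom v := by
      rw [← Scheme.Hom.comp_apply]
      exact congrArg (fun f : V.left ⟶ X => f v) (Over.w g.hom)
    rw [← h2, hv]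
    exact ht
  have h2 := Van.map α (h V s' v h1)
  rw [hs, van_res_iff, hv] at h2
  exact h2

theorem hom_apply {V T : X.Etale} (g : V ⟶ T) (v : V.left) : T.hom (g.left v) = V.hom v := by
  rw [← Scheme.Hom.comp_apply]
  exact congrArg (fun f : V.left ⟶ X => f v) (Over.w g.hom)

theorem VanOff.eq_zero {Z : Set X} (h : VanOff F Z) {T : X.Etale} (s : EtModW.sect Λ F T)
    (hs : ∀ t : T.left, T.hom t ∈ Z → Van F s t) : s = 0 :=
  eq_zero_of_van s fun t => by
    by_cases ht : T.hom t ∈ Z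
    · exact hs t ht
    · exact h T s t ht

section

variable {D : Datum X} {M : Type (u + 1)} [AddCommGroup M] [Module Λ M]
  {N : Type (u + 1)} [AddCommGroup N] [Module Λ N]
  {φ : M →ₗ[Λ] EtModW.sect Λ F D.U} {ψ : N →ₗ[Λ] EtModW.sect Λ G D.U}

/-- A section over `U` of a sheaf constant along `V` comes from the constants. -/
theorem IsConstOn.exists_eq (hG : VanOff G (img D)) (hψ : IsConstOn D G ψ)
    (s : EtModW.sect Λ G D.U) : ∃ n, ψ n = s := by
  have key : ∀ v ∈ D.V, ∃ n, Van G (s - ψ n) v := by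
    intro v hv
    obtain ⟨n, hn⟩ := (hψ v hv).2 D.U (𝟙 _) v rfl s
    refine ⟨n, ?_⟩
    rwa [res_id] at hn
  obtain ⟨v₀, hv₀⟩ := D.irr.1
  obtain ⟨n, hn⟩ := key v₀ hv₀
  refine ⟨n, (eq_of_van fun w => ?_).symm⟩
  by_cases hw : w ∈ D.V
  · obtain ⟨n', hn'⟩ := key w hw
    obtain ⟨w', hw', h1, h2⟩ := D.irr.2 _ _ (isOpen_van (F := G) (s - ψ n)) (isOpen_van (F := G) (s - ψ n'))
      ⟨v₀, hv₀, hn⟩ ⟨w, hw, hn'⟩
    have h3 : Van G (ψ (n' - n)) w' := by
      have h4 := Van.sub h1 h2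
      have h5 : s - ψ n - (s - ψ n') = ψ (n' - n) := by rw [map_sub]; abel
      rwa [h5] at h4
    have h4 : n' = n := sub_eq_zero.1 ((hψ w' hw').1 _ h3)
    rw [← h4]
    exact hn'
  · exact hG _ _ _ fun h => hw ((mem_V_iff D w).2 h)

theorem IsConstOn.injective (hψ : IsConstOn D G ψ) : Function.Injective ψ := by
  obtain ⟨v₀, hv₀⟩ := D.irr.1
  refine (injective_iff_map_eq_zero _).2 fun n hn => (hψ v₀ hv₀).1 n ?_
  rw [hn]
  exact Van.zero _

/-- A morphism between sheaves in the class is given by a linear map on the constants. -/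
theorem IsConstOn.exists_linearMap (hG : VanOff G (img D)) (hψ : IsConstOn D G ψ)
    (φ : M →ₗ[Λ] EtModW.sect Λ F D.U) (α : F ⟶ G) :
    ∃ A : M →ₗ[Λ] N, ∀ m, ψ (A m) = ev α D.U (φ m) := by
  choose A hA using fun m => hψ.exists_eq hG (ev α D.U (φ m))
  refine ⟨⟨⟨A, fun x y => ?_⟩, fun r x => ?_⟩, hA⟩
  · apply hψ.injective
    rw [hA, map_add, map_add, map_add, hA, hA]
  · apply hψ.injective
    rw [hA, map_smul, map_smul, map_smul, hA]
    rfl

end

/-- The class is stable by kernels of epimorphisms (`Λ` Noetherian). -/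
theorem Mem.of_shortExact_left [IsNoetherianRing Λ] {D : Datum X}
    {S : ShortComplex (EtModW.Mod Λ X)} (hS : S.Exact) [Mono S.f] (h₂ : Mem D S.X₂)
    (h₃ : Mem D S.X₃) : Mem D S.X₁ := by
  obtain ⟨v₂, M, _, _, _, φ, hφ⟩ := h₂
  obtain ⟨v₃, N, _, _, _, ψ, hψ⟩ := h₃
  refine ⟨v₂.of_mono S.f, ?_⟩
  obtain ⟨A, hA⟩ := hψ.exists_linearMap v₃ φ S.g
  have hker : ∀ m : LinearMap.ker A, ∃ s : EtModW.sect Λ S.X₁ D.U, ev S.f D.U s = φ m := by
    intro m
    refine exists_lift_of_exact hS D.U (φ m) ?_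
    rw [← hA, LinearMap.mem_ker.1 m.2, map_zero]
  choose B hB using hker
  let φ' : LinearMap.ker A →ₗ[Λ] EtModW.sect Λ S.X₁ D.U :=
    { toFun := B
      map_add' := fun x y => injective_ev S.f _ (by
        rw [hB, map_add, hB, hB, Submodule.coe_add, map_add])
      map_smul' := fun r x => injective_ev S.f _ (by
        rw [hB, Submodule.coe_smul, map_smul, RingHom.id_apply, map_smul, hB]) }
  refine ⟨LinearMap.ker A, inferInstance, inferInstance, inferInstance, φ', fun v hv => ⟨?_, ?_⟩⟩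
  · intro m hm
    have h1 := Van.map S.f hm
    have h2 : ev S.f D.U (φ' m) = φ m := hB m
    rw [h2] at h1
    exact Subtype.ext ((hφ v hv).1 _ h1)
  · intro T g t ht s
    obtain ⟨m, hm⟩ := (hφ v hv).2 T g t ht (ev S.f T s)
    have h1 : A m = 0 := by
      refine (hψ v hv).1 _ ?_
      rw [hA, ← ht, ← van_res_iff, res_ev]
      have h2 := Van.map S.g hm
      rw [map_sub, ← ev_comp, S.zero] at h2
      have h3 : ev (0 : S.X₁ ⟶ S.X₃) T s - ev S.g T (res S.X₂ g (φ m)) =
        -ev S.g T (res S.X₂ g (φ m)) := zero_sub _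
      rw [h3] at h2
      have h4 := h2.neg
      rwa [neg_neg] at h4
    refine ⟨⟨m, h1⟩, ?_⟩
    refine van_of_mono S.f ?_
    rw [map_sub, ← res_ev]
    have h2 : ev S.f D.U (φ' ⟨m, h1⟩) = φ m := hB _
    rw [h2]
    exact hm

end Groth.Agent.Sga4h.GalClass
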