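import Groth.Prelude.Def_EtModD2
import Mathlib.Topology.Constructible

/-!
# Galois data on a Noetherian scheme

A `GalDatum.Datum X` is an étale `X`-scheme `U` with an irreducible closed subset `V` which is the full
inverse image of its image `Z` in `X`, and such that `V → Z` is "Galois": there are finitely many
étale `U`-schemes `a i : E i ⟶ U`, which are isomorphisms over `V`, with second maps
`b i : E i ⟶ U`, such that over `V` the fibre product `U ×[X] U` is the disjoint union of the `E i`.
All conditions are stated in terms of points and étale neighbourhoods.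
-/

set_option autoImplicit false
universe u

open CategoryTheory CategoryTheory.Limits AlgebraicGeometry Opposite

namespace Groth.Agent.Sga4h.GalDatum

/-- A Galois datum on `X`. -/
structure Datum (X : Scheme.{u}) where
  /-- the étale `X`-scheme -/
  U : X.Etale
  /-- the closed subset -/
  V : Set U.left
  isClosed : IsClosed V
  irr : IsIrreducible V
  pre : ∀ p : U.left, U.hom p ∈ U.hom '' V → p ∈ V
  /-- the degree -/
  d : ℕ
  /-- the components of `U ×[X] U` over `V` -/
  E : Fin d → X.Etale
  /-- first projection -/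
  a : ∀ i, E i ⟶ U
  /-- second projection -/
  b : ∀ i, E i ⟶ U
  surj : ∀ i, ∀ v ∈ V, ∃ e : (E i).left, (a i).left e = v
  uniq : ∀ (i : Fin d) (T : X.Etale) (k k' : T ⟶ E i) (t : T.left),
    (a i).left (k.left t) ∈ V → k ≫ a i = k' ≫ a i →
      ∃ (T' : X.Etale) (j : T' ⟶ T) (t' : T'.left), j.left t' = t ∧ j ≫ k = j ≫ k'
  cover : ∀ (T : X.Etale) (c g : T ⟶ U) (t : T.left), c.left t ∈ V →
    ∃ (i : Fin d) (T' : X.Etale) (j : T' ⟶ T) (t' : T'.left) (k : T' ⟶ E i),
      j.left t' = t ∧ k ≫ a i = j ≫ c ∧ k ≫ b i = j ≫ g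
  disj : ∀ (i i' : Fin d) (T : X.Etale) (k : T ⟶ E i) (k' : T ⟶ E i') (t : T.left),
    (a i).left (k.left t) ∈ V → k ≫ a i = k' ≫ a i' → k ≫ b i = k' ≫ b i' → i = i'

end Groth.Agent.Sga4h.GalDatum
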