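import Groth.Agent.Flat2E.EtaleResField
import Mathlib.RingTheory.Unramified.LocalRing
import Mathlib.FieldTheory.Galois.Basic
import Mathlib.FieldTheory.IsSepClosed
import Mathlib.Topology.Constructible

/-!
# Étale neighbourhoods with normal residue field extension, and two topological facts

* `exists_etale_normal`: `A → B` étale, `q` a prime of `B`; there are `B → R'` étale and a prime `P` of `R'`
  over `q` such that any two embeddings of `κ(P)` in a field which agree on `A` have the same image.
* `exists_open_iff_mem`: a locally constructible set is "constant" on the trace of a neighbourhood of a point on the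
  closure of the point.
-/

set_option autoImplicit false
universe u

namespace Groth.Agent.Sga4h.GalDatum

section Alg

/-- Two embeddings of a normal extension in a field which agree on the base have the same image. -/
theorem exists_eq_of_normal {F N Ω : Type*} [Field F] [Field N] [Field Ω] [Algebra F N] [Normal F N]
    (α β : N →+* Ω) (h : ∀ a : F, α (algebraMap F N a) = β (algebraMap F N a)) (x : N) :
    ∃ y, α y = β x := by
  let _ : Algebra F Ω := (α.comp (algebraMap F N)).toAlgebra
  let α' : N →ₐ[F] Ω := { α with commutes' := fun a => rfl }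
  let β' : N →ₐ[F] Ω := { β with commutes' := fun a => (h a).symm }
  let e : N ≃ₐ[F] α'.fieldRange := AlgEquiv.ofInjectiveField α'
  have : Normal F α'.fieldRange := Normal.of_algEquiv e
  have h1 := AlgHom.fieldRange_of_normal (β'.comp e.symm.toAlgHom : α'.fieldRange →ₐ[F] Ω)
  have h2 : β' x ∈ α'.fieldRange := by
    rw [← h1]
    exact ⟨e x, by simp⟩
  obtain ⟨y, hy⟩ := h2
  exact ⟨y, hy⟩

/-- `A → B` étale and `q` a prime of `B`: there is an étale neighbourhood `(R', P)` of `(B, q)` such that any two
embeddings of `κ(P)` in a field which agree on `A` have the same image. -/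
theorem exists_etale_normal {A B : Type u} [CommRing A] [CommRing B] [Algebra A B] [Algebra.Etale A B]
    (q : Ideal B) [q.IsPrime] :
    ∃ (R' : Type u) (_ : CommRing R') (_ : Algebra B R') (_ : Algebra.Etale B R') (P : Ideal R')
      (_ : P.IsPrime) (_ : P.LiesOver q),
      ∀ (Ω : Type u) [Field Ω] (α β : P.ResidueField →+* Ω),
        (∀ a : A, α (algebraMap R' _ (algebraMap B R' (algebraMap A B a))) =
          β (algebraMap R' _ (algebraMap B R' (algebraMap A B a)))) → ∀ x, ∃ y, α y = β x := by
  let p : Ideal A := q.comap (algebraMap A B)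
  have hlies : q.LiesOver p := ⟨rfl⟩
  let _ := Localization.AtPrime.algebraOfLiesOver p q
  have : Algebra.IsUnramifiedAt A q := inferInstance
  have : Algebra.IsSeparable p.ResidueField q.ResidueField := inferInstance
  have : Module.Finite p.ResidueField q.ResidueField := inferInstance
  let L := SeparableClosure p.ResidueField
  let f : q.ResidueField →ₐ[p.ResidueField] L := IsSepClosed.lift
  let _ : Algebra q.ResidueField L := f.toRingHom.toAlgebra
  have : IsScalarTower p.ResidueField q.ResidueField L :=
    IsScalarTower.of_algebraMap_eq (fun a => (f.commutes a).symm)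
  let N := IntermediateField.normalClosure p.ResidueField q.ResidueField L
  have : IsGalois p.ResidueField N := IsGalois.normalClosure _ _ _
  have : FiniteDimensional p.ResidueField N := inferInstance
  have : FiniteDimensional q.ResidueField N := Module.Finite.of_restrictScalars_finite p.ResidueField _ _
  have : Algebra.IsSeparable q.ResidueField N :=
    Algebra.isSeparable_tower_top_of_isSeparable p.ResidueField q.ResidueField N
  obtain ⟨R', _, _, hR', P, hP, hPq, e, he⟩ :=
    Groth.Agent.Flat2E.EtaleResField.exists_etale_residueField_equiv q N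
  refine ⟨R', inferInstance, inferInstance, hR', P, hP, hPq, ?_⟩
  intro Ω _ α β hαβ x
  have key : ((α.comp (e : N →+* P.ResidueField)).comp (algebraMap p.ResidueField N)) =
      ((β.comp (e : N →+* P.ResidueField)).comp (algebraMap p.ResidueField N)) := by
    refine Ideal.ResidueField.ringHom_ext ?_
    ext a
    have h1 : e (algebraMap p.ResidueField N (algebraMap A p.ResidueField a)) =
        algebraMap R' _ (algebraMap B R' (algebraMap A B a)) := by
      rw [IsScalarTower.algebraMap_apply p.ResidueField q.ResidueField N, he,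
        ← IsScalarTower.algebraMap_apply A p.ResidueField q.ResidueField,
        IsScalarTower.algebraMap_apply A B q.ResidueField, AlgHom.commutes,
        IsScalarTower.algebraMap_apply B R' P.ResidueField]
    change α (e (algebraMap p.ResidueField N (algebraMap A p.ResidueField a))) =
      β (e (algebraMap p.ResidueField N (algebraMap A p.ResidueField a)))
    rw [h1]
    exact hαβ a
  obtain ⟨y, hy⟩ := exists_eq_of_normal (α.comp (e : N →+* P.ResidueField))
    (β.comp (e : N →+* P.ResidueField)) (fun a => congr($key a)) (e.symm x)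
  refine ⟨e y, ?_⟩
  simpa using hy

end Alg

section Top

open Topology TopologicalSpace

variable {X : Type*} [TopologicalSpace X]

/-- A constructible set is constant on the trace of a neighbourhood of a point on its closure. -/
theorem exists_open_iff_mem_of_isConstructible {S : Set X} (hS : IsConstructible S) (ξ : X) :
    ∃ W : Opens X, ξ ∈ W ∧ ∀ x ∈ W, ξ ⤳ x → (x ∈ S ↔ ξ ∈ S) := by
  induction hS using IsConstructible.empty_union_induction with
  | open_retrocompact U hU hU' =>
    by_cases h : ξ ∈ U
    · exact ⟨⟨U, hU⟩, h, fun x hx _ => ⟨fun _ => h, fun _ => hx⟩⟩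
    · exact ⟨⊤, trivial, fun x _ hx => ⟨fun hxU => hx.mem_open hU hxU, fun h' => absurd h' h⟩⟩
  | union s hs t ht ihs iht =>
    obtain ⟨W₁, hW₁, h₁⟩ := ihs
    obtain ⟨W₂, hW₂, h₂⟩ := iht
    exact ⟨W₁ ⊓ W₂, ⟨hW₁, hW₂⟩, fun x hx hξ => or_congr (h₁ x hx.1 hξ) (h₂ x hx.2 hξ)⟩
  | compl s hs ihs =>
    obtain ⟨W, hW, h⟩ := ihs
    exact ⟨W, hW, fun x hx hξ => not_congr (h x hx hξ)⟩

/-- A locally constructible set is constant on the trace of a neighbourhood of a point on its closure. -/
theorem exists_open_iff_mem {S : Set X} (hS : IsLocallyConstructible S) (ξ : X) :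
    ∃ W : Opens X, ξ ∈ W ∧ ∀ x ∈ W, ξ ⤳ x → (x ∈ S ↔ ξ ∈ S) := by
  obtain ⟨U, hU, hUo, hS'⟩ := hS ξ
  have hξ : ξ ∈ U := mem_of_mem_nhds hU
  obtain ⟨W, hW, h⟩ := exists_open_iff_mem_of_isConstructible hS' ⟨ξ, hξ⟩
  obtain ⟨W', hW', hWW'⟩ := isOpen_induced_iff.mp W.isOpen
  refine ⟨⟨U ∩ W', hUo.inter hW'⟩, ⟨hξ, ?_⟩, ?_⟩
  · have : (⟨ξ, hξ⟩ : U) ∈ Subtype.val ⁻¹' W' := by rw [hWW']; exact hW
    exact this
  · intro x hx hs
    have hxW : (⟨x, hx.1⟩ : U) ∈ W := by
      have : (⟨x, hx.1⟩ : U) ∈ Subtype.val ⁻¹' W' := hx.2
      rwa [hWW'] at this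
    exact h ⟨x, hx.1⟩ hxW ((IsInducing.subtypeVal (t := U)).specializes_iff.mp hs)

end Top

end Groth.Agent.Sga4h.GalDatum
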