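import Groth.Agent.Sga4h.GalDatumExAlg
import Mathlib.AlgebraicGeometry.Morphisms.Etale
import Mathlib.AlgebraicGeometry.ResidueField

/-!
# Étale neighbourhoods with normal residue field extension (schemes)
-/

set_option autoImplicit false
universe u

open CategoryTheory CategoryTheory.Limits AlgebraicGeometry

namespace Groth.Agent.Sga4h.GalDatum

/-- Any two embeddings of `κ(u)` in a field which agree on the base have the same image. -/
def IsGal {X U : Scheme.{u}} (h : U ⟶ X) (u : U) : Prop :=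
  ∀ (Ω : Type u) [Field Ω] (α β : U.residueField u ⟶ CommRingCat.of Ω),
    Spec.map α ≫ U.fromSpecResidueField u ≫ h = Spec.map β ≫ U.fromSpecResidueField u ≫ h →
      ∀ x : U.residueField u, ∃ y : U.residueField u, α y = β x

theorem IsGal.of_isOpenImmersion {X U U' : Scheme.{u}} {h : U ⟶ X} (j : U' ⟶ U) [IsOpenImmersion j]
    (u' : U') (hu : IsGal h (j u')) : IsGal (j ≫ h) u' := by
  intro Ω _ α β hαβ x
  have e1 := j.SpecMap_residueFieldMap_fromSpecResidueField u'
  have key : Spec.map (j.residueFieldMap u' ≫ α) ≫ U.fromSpecResidueField (j u') ≫ h =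
      Spec.map (j.residueFieldMap u' ≫ β) ≫ U.fromSpecResidueField (j u') ≫ h := by
    rw [Spec.map_comp, Spec.map_comp, Category.assoc, Category.assoc,
      reassoc_of% e1]
    exact hαβ
  obtain ⟨y, hy⟩ := hu Ω _ _ key ((inv (j.residueFieldMap u')) x)
  refine ⟨j.residueFieldMap u' y, ?_⟩
  have e2 : (inv (j.residueFieldMap u') ≫ j.residueFieldMap u') x = x := by
    rw [IsIso.inv_hom_id]; rfl
  have e3 : (j.residueFieldMap u' ≫ β) (inv (j.residueFieldMap u') x) = β x := by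
    change β ((inv (j.residueFieldMap u') ≫ j.residueFieldMap u') x) = β x
    rw [e2]
  rw [← e3, ← hy]
  rfl

theorem exists_isGal {X U₁ : Scheme.{u}} (f : U₁ ⟶ X) [Etale f] (u₁ : U₁) :
    ∃ (U : Scheme.{u}) (g : U ⟶ U₁) (u : U), Etale g ∧ IsAffine U ∧ g u = u₁ ∧ IsGal (g ≫ f) u := by
  obtain ⟨N, hN, hyN, -⟩ := exists_isAffineOpen_mem_and_subset (X := X) (U := ⊤) (x := f u₁) trivial
  obtain ⟨M, hM, hyM, hMN⟩ := exists_isAffineOpen_mem_and_subset (X := U₁) (U := f ⁻¹ᵁ N) (x := u₁) hyN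
  replace hMN : M ≤ f ⁻¹ᵁ N := hMN
  let _ : Algebra Γ(X, N) Γ(U₁, M) := (f.appLE N M hMN).hom.toAlgebra
  have het : (f.appLE N M hMN).hom.Etale :=
    HasRingHomProperty.appLE @Etale f inferInstance ⟨N, hN⟩ ⟨M, hM⟩ hMN
  have : Algebra.Etale Γ(X, N) Γ(U₁, M) := het
  let q : Spec Γ(U₁, M) := hM.primeIdealOf ⟨u₁, hyM⟩
  have hqy : hM.fromSpec q = u₁ := hM.fromSpec_primeIdealOf ⟨u₁, hyM⟩
  obtain ⟨R', _, _, hR', P, hP, hPq, hgal⟩ := exists_etale_normal (A := Γ(X, N)) (B := Γ(U₁, M)) q.asIdeal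
  let φ : Γ(U₁, M) ⟶ CommRingCat.of R' := CommRingCat.ofHom (algebraMap _ R')
  let u : Spec (CommRingCat.of R') := ⟨P, hP⟩
  have hφ : Etale (Spec.map φ) := by
    rw [HasRingHomProperty.Spec_iff (P := @Etale)]
    exact (RingHom.etale_algebraMap).mpr hR'
  have hu : Spec.map φ u = q := PrimeSpectrum.ext hPq.over.symm
  refine ⟨Spec (CommRingCat.of R'), Spec.map φ ≫ hM.fromSpec, u, inferInstance, inferInstance, ?_, ?_⟩
  · rw [Scheme.Hom.comp_apply, hu, hqy]
  · intro Ω _ α β hαβ x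
    let ρ := (Scheme.Spec.residueFieldIso (CommRingCat.of R') u).inv
    have hρ : Spec.map ρ ≫ Spec.map (CommRingCat.ofHom (algebraMap R' P.ResidueField)) =
      (Spec (CommRingCat.of R')).fromSpecResidueField u :=
      Scheme.Spec.map_residueFieldIso_inv_eq_fromSpecResidueField _ _
    have hfac : ∀ γ : (Spec (CommRingCat.of R')).residueField u ⟶ CommRingCat.of Ω,
        Spec.map γ ≫ (Spec (CommRingCat.of R')).fromSpecResidueField u ≫ (Spec.map φ ≫ hM.fromSpec) ≫ f =
          Spec.map (f.appLE N M hMN ≫ φ ≫ CommRingCat.ofHom (algebraMap R' P.ResidueField) ≫ ρ ≫ γ) ≫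
            hN.fromSpec := by
      intro γ
      rw [← hρ]
      simp only [Spec.map_comp, Category.assoc]
      rw [IsAffineOpen.SpecMap_appLE_fromSpec _ hN hM hMN]
    rw [hfac, hfac, cancel_mono] at hαβ
    have h1 := Spec.map_injective hαβ
    obtain ⟨y, hy⟩ := hgal Ω (ρ ≫ α).hom (ρ ≫ β).hom (fun a => congr($h1 a))
      ((Scheme.Spec.residueFieldIso (CommRingCat.of R') u).hom x)
    refine ⟨ρ y, ?_⟩
    change (ρ ≫ α).hom y = _
    rw [hy]
    change β (((Scheme.Spec.residueFieldIso (CommRingCat.of R') u).hom ≫ ρ) x) = _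
    rw [Iso.hom_inv_id]
    rfl

end Groth.Agent.Sga4h.GalDatum
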