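import Groth.Agent.Sga4h.GalDatumExGal
import Groth.Agent.Desc.LQF
import Mathlib.AlgebraicGeometry.Noetherian
import Mathlib.AlgebraicGeometry.Morphisms.FinitePresentation
import Mathlib.AlgebraicGeometry.Morphisms.UniversallyOpen
import Mathlib.AlgebraicGeometry.Morphisms.Flat

/-!
# Existence of Galois data: the geometric facts
-/

set_option autoImplicit false
universe u

open CategoryTheory CategoryTheory.Limits AlgebraicGeometry Topology

namespace Groth.Agent.Sga4h.GalDatum

/-- A constructible set with no point over `ξ` has no point over `closure {ξ}`, near `ξ`. -/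
theorem exists_open_avoid {X Y : Scheme.{u}} (f : Y ⟶ X) [LocallyOfFinitePresentation f] [QuasiCompact f]
    {S : Set Y} (hS : IsConstructible S) (ξ : X) (h : ∀ y ∈ S, f y ≠ ξ) :
    ∃ W : X.Opens, ξ ∈ W ∧ ∀ y : Y, f y ∈ W → ξ ⤳ f y → y ∉ S := by
  obtain ⟨W, hW, hW'⟩ := exists_open_iff_mem (f.isLocallyConstructible_image hS.isLocallyConstructible) ξ
  refine ⟨W, hW, fun y hy hξ hyS => ?_⟩
  obtain ⟨z, hz, hz'⟩ := (hW' (f y) hy hξ).mp ⟨y, hyS, rfl⟩
  exact h z hz hz'

/-- Finite intersection of neighbourhoods. -/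
theorem exists_open_forall {X : Scheme.{u}} (ξ : X) {ι : Type*} [Finite ι] {P : ι → X → Prop}
    (h : ∀ i, ∃ W : X.Opens, ξ ∈ W ∧ ∀ x ∈ W, P i x) : ∃ W : X.Opens, ξ ∈ W ∧ ∀ x ∈ W, ∀ i, P i x := by
  choose W hW hP using h
  refine ⟨⟨⋂ i, (W i : Set X), isOpen_iInter_of_finite fun i => (W i).isOpen⟩, ?_, ?_⟩
  · exact Set.mem_iInter.mpr hW
  · intro x hx i
    exact hP i x (Set.mem_iInter.mp hx i)

theorem isNoetherian_opens {U : Scheme.{u}} [IsNoetherian U] (G : U.Opens) : IsNoetherian (G : Scheme.{u}) := by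
  have h1 : CompactSpace (G : Scheme.{u}) :=
    isCompact_iff_compactSpace.mp (TopologicalSpace.NoetherianSpace.isCompact (G : Set U))
  exact { __ := (inferInstance : IsLocallyNoetherian (G : Scheme.{u})), __ := h1 }

theorem isConstructible_of_isOpen {U : Type*} [TopologicalSpace U] [TopologicalSpace.NoetherianSpace U]
    {S : Set U} (hS : IsOpen S) : IsConstructible S :=
  IsRetrocompact.isConstructible hS (fun _ _ _ => TopologicalSpace.NoetherianSpace.isCompact _)

/-- An étale neighbourhood with normal residue field extension, and a single point over the given one. -/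
theorem exists_single {X : Scheme.{u}} [IsNoetherian X] {U₁ : Scheme.{u}} (f : U₁ ⟶ X) [Etale f]
    (u₁ : U₁) :
    ∃ (U : Scheme.{u}) (g : U ⟶ U₁) (u : U), Etale g ∧ IsNoetherian U ∧ g u = u₁ ∧ IsGal (g ≫ f) u ∧
      ∀ v : U, (g ≫ f) v = f u₁ → v = u := by
  obtain ⟨U₂, g₂, u₂, _, _, hu₂, hgal⟩ := exists_isGal f u₁
  have hN : IsLocallyNoetherian U₂ := LocallyOfFiniteType.isLocallyNoetherian (g₂ ≫ f)
  have : IsNoetherian U₂ := { __ := hN, __ := (inferInstance : CompactSpace U₂) }
  have hlqf : LocallyQuasiFinite (g₂ ≫ f) := Groth.Agent.Desc.LQF.of_etale _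
  have hmem : u₂ ∈ (g₂ ≫ f) ⁻¹' {f u₁} := by
    change (g₂ ≫ f) u₂ = f u₁
    rw [Scheme.Hom.comp_apply, hu₂]
  obtain ⟨G, hG, hG'⟩ := isDiscrete_iff_forall_mem_exists_isOpen.mp
    ((g₂ ≫ f).isDiscrete_preimage_singleton (f u₁)) u₂ hmem
  let G' : U₂.Opens := ⟨G, hG⟩
  have huG : u₂ ∈ G' := by
    have : u₂ ∈ G ∩ (g₂ ≫ f) ⁻¹' {f u₁} := by rw [hG']; rfl
    exact this.1
  refine ⟨G', G'.ι ≫ g₂, ⟨u₂, huG⟩, inferInstance, isNoetherian_opens G', ?_, ?_, ?_⟩
  · rw [Scheme.Hom.comp_apply]
    exact hu₂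
  · rw [Category.assoc]
    exact hgal.of_isOpenImmersion G'.ι ⟨u₂, huG⟩
  · intro v hv
    have h1 : G'.ι v ∈ G ∩ (g₂ ≫ f) ⁻¹' {f u₁} := by
      refine ⟨v.2, ?_⟩
      rw [Category.assoc] at hv
      exact hv
    rw [hG'] at h1
    exact G'.ι.isOpenEmbedding.injective h1

theorem exists_fac {K : Type u} [Field K] {E : Scheme.{u}} (m : Spec (CommRingCat.of K) ⟶ E) (e : E)
    (hm : m (IsLocalRing.closedPoint K) = e) :
    ∃ γ : E.residueField e ⟶ CommRingCat.of K, Spec.map γ ≫ E.fromSpecResidueField e = m := by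
  subst hm
  exact ⟨_, Scheme.descResidueField_stalkClosedPointTo_fromSpecResidueField K E m⟩

theorem exists_fac' {Q E : Scheme.{u}} (z : Q) (m : Spec (Q.residueField z) ⟶ E) (e : E)
    (hm : ∀ s, m s = e) :
    ∃ γ : E.residueField e ⟶ Q.residueField z, Spec.map γ ≫ E.fromSpecResidueField e = m :=
  exists_fac (K := IsLocalRing.ResidueField (Q.presheaf.stalk z)) m e (hm _)

/-- If the residue field extension at `e` is trivial, the only point of `E ×[U] E` over `(e, e)` is on the diagonal. -/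
theorem mem_range_diagonal {U E : Scheme.{u}} (p : E ⟶ U) (e : E)
    (hp : Function.Surjective (p.residueFieldMap e)) (z : ↑(pullback p p))
    (h₁ : pullback.fst p p z = e) (h₂ : pullback.snd p p z = e) :
    z ∈ Set.range (pullback.diagonal p) := by
  let c := (pullback p p).fromSpecResidueField z
  have hc : ∀ s, c s = z := fun s => Scheme.fromSpecResidueField_apply z s
  obtain ⟨γ₁, hγ₁⟩ := exists_fac' z (c ≫ pullback.fst p p) e
    (fun s => by rw [Scheme.Hom.comp_apply, hc, h₁])
  obtain ⟨γ₂, hγ₂⟩ := exists_fac' z (c ≫ pullback.snd p p) e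
    (fun s => by rw [Scheme.Hom.comp_apply, hc, h₂])
  have h3 : Spec.map γ₁ ≫ E.fromSpecResidueField e ≫ p = Spec.map γ₂ ≫ E.fromSpecResidueField e ≫ p := by
    rw [reassoc_of% hγ₁, reassoc_of% hγ₂, pullback.condition]
  have h4 : Spec.map (p.residueFieldMap e ≫ γ₁) ≫ U.fromSpecResidueField (p e) =
      Spec.map (p.residueFieldMap e ≫ γ₂) ≫ U.fromSpecResidueField (p e) := by
    rw [Spec.map_comp, Spec.map_comp, Category.assoc, Category.assoc,
      p.SpecMap_residueFieldMap_fromSpecResidueField, h3]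
  rw [cancel_mono] at h4
  have h5 := Spec.map_injective h4
  have h6 : γ₁ = γ₂ := by
    ext x
    obtain ⟨y, rfl⟩ := hp x
    exact congr($h5 y)
  have h7 : c ≫ pullback.fst p p = c ≫ pullback.snd p p := by rw [← hγ₁, ← hγ₂, h6]
  have h8 : c = (c ≫ pullback.fst p p) ≫ pullback.diagonal p := by
    apply pullback.hom_ext
    · simp
    · simp [h7]
  let s₀ : Spec ((pullback p p).residueField z) := default
  refine ⟨(c ≫ pullback.fst p p) s₀, ?_⟩
  rw [← Scheme.Hom.comp_apply, ← h8]
  exact hc _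

theorem exists_comp_eq {A B C : CommRingCat.{u}} (α : A ⟶ C) (β : B ⟶ C) (hα : Function.Injective α)
    (h : ∀ x : B, ∃ y : A, α y = β x) : ∃ σ : B ⟶ A, σ ≫ α = β := by
  choose σ₀ hσ₀ using h
  let σ₁ : B →+* A :=
    { toFun := σ₀
      map_one' := hα (by rw [hσ₀, map_one, map_one])
      map_mul' := fun x y => hα (by rw [hσ₀, map_mul, map_mul, hσ₀, hσ₀])
      map_zero' := hα (by rw [hσ₀, map_zero, map_zero])
      map_add' := fun x y => hα (by rw [hσ₀, map_add, map_add, hσ₀, hσ₀]) }
  refine ⟨CommRingCat.ofHom σ₁, ?_⟩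
  ext x
  exact hσ₀ x

/-- In `U ×[X] U`, with `U` Galois at `u`, the residue field extensions at the points over `(u, u)` are trivial. -/
theorem residueFieldMap_fst_surjective {X U : Scheme.{u}} (h : U ⟶ X) (u : U) (hu : IsGal h u)
    (e : ↑(pullback h h)) (h₁ : pullback.fst h h e = u) (h₂ : pullback.snd h h e = u) :
    Function.Surjective ((pullback.fst h h).residueFieldMap e) := by
  subst h₁
  let c := (pullback h h).fromSpecResidueField e
  have hc : ∀ s, c s = e := fun s => Scheme.fromSpecResidueField_apply e s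
  let α := (pullback.fst h h).residueFieldMap e
  have hα : Spec.map α ≫ U.fromSpecResidueField (pullback.fst h h e) = c ≫ pullback.fst h h :=
    (pullback.fst h h).SpecMap_residueFieldMap_fromSpecResidueField e
  obtain ⟨β, hβ⟩ := exists_fac' e (c ≫ pullback.snd h h) (pullback.fst h h e)
    (fun s => by rw [Scheme.Hom.comp_apply, hc, h₂])
  have key : Spec.map α ≫ U.fromSpecResidueField (pullback.fst h h e) ≫ h =
      Spec.map β ≫ U.fromSpecResidueField (pullback.fst h h e) ≫ h := by
    rw [reassoc_of% hα, reassoc_of% hβ, pullback.condition]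
  have hσ' := hu (IsLocalRing.ResidueField ((pullback h h).presheaf.stalk e)) α β key
  have hinj : Function.Injective α := α.hom.injective
  obtain ⟨σ, hσ⟩ := exists_comp_eq α β hinj hσ'
  -- `fromSpecResidueField u ≫ h` is invariant under `σ`
  let ξ := h (pullback.fst h h e)
  let i := h.residueFieldMap (pullback.fst h h e)
  have hi : Spec.map i ≫ X.fromSpecResidueField ξ = U.fromSpecResidueField (pullback.fst h h e) ≫ h :=
    h.SpecMap_residueFieldMap_fromSpecResidueField _
  have hinv : U.fromSpecResidueField (pullback.fst h h e) ≫ h =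
      (Spec.map σ ≫ U.fromSpecResidueField (pullback.fst h h e)) ≫ h := by
    rw [← hσ, Spec.map_comp, Category.assoc] at key
    rw [← hi, ← Category.assoc, ← Category.assoc, ← Category.assoc, cancel_mono, ← Spec.map_comp,
      ← Spec.map_comp, ← Spec.map_comp] at key
    have key' := Spec.map_injective key
    have h5 : i = i ≫ σ := by
      ext x
      apply hinj
      exact congr($key' x)
    rw [Category.assoc, ← hi, ← Category.assoc, ← Spec.map_comp, ← h5]
  let m := pullback.lift _ _ hinv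
  have hm₁ : m ≫ pullback.fst h h = U.fromSpecResidueField (pullback.fst h h e) := pullback.lift_fst _ _ _
  have hm₂ : m ≫ pullback.snd h h = Spec.map σ ≫ U.fromSpecResidueField (pullback.fst h h e) :=
    pullback.lift_snd _ _ _
  have hm : Spec.map α ≫ m = c := by
    apply pullback.hom_ext
    · rw [Category.assoc, hm₁, hα]
    · rw [Category.assoc, hm₂, ← Category.assoc, ← Spec.map_comp, hσ, hβ]
  have hme : ∀ s, m s = e := by
    intro s
    let s₀ : Spec ((pullback h h).residueField e) := default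
    have h1 : s = Spec.map α s₀ := Subsingleton.elim _ _
    rw [h1, ← Scheme.Hom.comp_apply, hm, hc]
  obtain ⟨γ, hγ⟩ := exists_fac' (pullback.fst h h e) m e hme
  have h8 : Spec.map (γ ≫ α) = 𝟙 _ := by
    rw [← cancel_mono ((pullback h h).fromSpecResidueField e), Spec.map_comp, Category.assoc, hγ, hm,
      Category.id_comp]
  rw [← Spec.map_id] at h8
  have h9 := Spec.map_injective h8
  intro x
  refine ⟨γ x, ?_⟩
  exact congr($h9 x)

end Groth.Agent.Sga4h.GalDatum
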