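import Groth.Agent.Sga4h.GalClass
import Groth.Agent.Etcore.LFree

/-!
# The generator `Q = Λ[U] / Λ[U ∖ V]` of the class attached to a Galois datum
-/

set_option autoImplicit false
universe u

open CategoryTheory CategoryTheory.Limits AlgebraicGeometry Opposite

namespace Groth.Agent.Sga4h.GalQ

open Groth.Agent.Etcore.LVan Groth.Agent.Etcore.LFree Groth.Agent.Sga4h.LVanExact
  Groth.Agent.Sga4h.GalDatum Groth.Agent.Sga4h.GalClass

variable {Λ : Type (u + 1)} [CommRing Λ] {X : Scheme.{u}} (D : Datum X)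

/-- The open complement of `V` in `U`. -/
noncomputable def opn : D.U.left.Opens := ⟨D.Vᶜ, D.isClosed.isOpen_compl⟩

instance : Etale D.U.hom := D.U.prop

/-- The open complement of `V` in `U`, as étale `X`-scheme. -/
noncomputable def U₀ : X.Etale := Scheme.Etale.mk ((opn D).ι ≫ D.U.hom)

/-- The open immersion `U ∖ V ⟶ U`. -/
noncomputable def inc : U₀ D ⟶ D.U := MorphismProperty.Over.homMk (opn D).ι rfl trivial

theorem inc_not_mem {T : X.Etale} (k : T ⟶ U₀ D) (t : T.left) : (k ≫ inc D).left t ∉ D.V := by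
  have h : (inc D).left (k.left t) ∈ opn D := by
    have h1 := Scheme.Opens.range_ι (opn D)
    have h2 : (opn D).ι (k.left t) ∈ Set.range (opn D).ι := ⟨_, rfl⟩
    rw [h1] at h2
    exact h2
  exact h

theorem exists_factor {T : X.Etale} (h : T ⟶ D.U) (t : T.left) (ht : h.left t ∉ D.V) :
    ∃ (W : X.Etale) (g : W ⟶ T) (w : W.left) (k : W ⟶ U₀ D), g.left w = t ∧ k ≫ inc D = g ≫ h := by
  have h1 : h.left t ∈ Set.range (opn D).ι := by
    rw [Scheme.Opens.range_ι]
    exact ht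
  obtain ⟨u, hu⟩ := h1
  obtain ⟨P, a, b, p, h2, h3, h4⟩ := exists_common h (inc D) t u hu.symm
  exact ⟨P, a, p, b, h3, h2.symm⟩

variable (Λ) in
/-- The generator of the class attached to `D`. -/
noncomputable def Q : EtModW.Mod Λ X := cokernel (map (Λ := Λ) (inc D))

variable (Λ) in
/-- The projection `Λ[U] ⟶ Q`. -/
noncomputable def q : LM Λ D.U ⟶ Q Λ D := cokernel.π _

instance : Epi (q Λ D) := inferInstanceAs (Epi (cokernel.π (map (Λ := Λ) (inc D))))

theorem map_q : map (inc D) ≫ q Λ D = 0 := cokernel.condition _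

variable (Λ) in
/-- The class of a morphism `T ⟶ U` in `Q(T)`. -/
noncomputable def cl {T : X.Etale} (h : T ⟶ D.U) : EtModW.sect Λ (Q Λ D) T :=
  ev (q Λ D) T (res (LM Λ D.U) h (gen Λ D.U))

theorem res_cl {T W : X.Etale} (g : W ⟶ T) (h : T ⟶ D.U) :
    res (Q Λ D) g (cl Λ D h) = cl Λ D (g ≫ h) := by
  rw [cl, cl, res_comp, res_ev]

theorem cl_inc {T : X.Etale} (k : T ⟶ U₀ D) : cl Λ D (k ≫ inc D) = 0 := by
  have h1 : ev (q Λ D) (U₀ D) (res (LM Λ D.U) (inc D) (gen Λ D.U)) = 0 := by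
    rw [← map_gen, ← ev_comp, map_q]
    rfl
  rw [cl, res_comp, ← res_ev, h1, map_zero]

theorem ev_q_sec {T : X.Etale} (c : (T ⟶ D.U) →₀ Λ) :
    ev (q Λ D) T (sec Λ D.U c) = c.sum fun h a => a • cl Λ D h := by
  rw [sec_eq_sum, Finsupp.sum, Finsupp.sum, map_sum]
  exact Finset.sum_congr rfl fun h _ => by rw [map_smul]; rfl

theorem van_cl_of_not_mem {T : X.Etale} (h : T ⟶ D.U) (t : T.left) (ht : h.left t ∉ D.V) :
    Van (Q Λ D) (cl Λ D h) t := by
  obtain ⟨W, g, w, k, hw, hk⟩ := exists_factor D h t ht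
  exact ⟨W, g, w, hw, by rw [res_cl, ← hk, cl_inc]⟩

/-- Sections of `Q` are locally combinations of classes of morphisms to `U`. -/
theorem exists_sum {T : X.Etale} (s : EtModW.sect Λ (Q Λ D) T) (t : T.left) :
    ∃ (W : X.Etale) (g : W ⟶ T) (w : W.left) (c : (W ⟶ D.U) →₀ Λ), g.left w = t ∧
      res (Q Λ D) g s = c.sum fun h a => a • cl Λ D h := by
  obtain ⟨V, g, v, s', hv, hs⟩ := exists_local_lift (q Λ D) s t
  obtain ⟨W, k, w, c, hw, hc⟩ := exists_sec D.U s' v
  refine ⟨W, k ≫ g, w, c, ?_, ?_⟩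
  · change (k.left ≫ g.left) w = t
    rw [Scheme.Hom.comp_apply, hw, hv]
  · rw [res_comp, ← hs, res_ev, hc, ev_q_sec]

theorem vanOff_Q : VanOff (Q Λ D) (img D) := by
  intro T s t ht
  obtain ⟨W, g, w, c, hw, hs⟩ := exists_sum D s t
  rw [← hw, ← van_res_iff, hs]
  refine Van.sum _ _ fun h _ => Van.smul _ (van_cl_of_not_mem D h w ?_)
  rw [mem_V_iff, hom_apply, ← hom_apply g, hw]
  exact ht

/-- Vanishing of a combination of classes. -/
theorem van_sum_imp {T : X.Etale} (c : (T ⟶ D.U) →₀ Λ) (t : T.left)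
    (h : Van (Q Λ D) (ev (q Λ D) T (sec Λ D.U c)) t) :
    ∃ (W : X.Etale) (g : W ⟶ T) (w : W.left) (c' : (W ⟶ U₀ D) →₀ Λ), g.left w = t ∧
      Finsupp.mapDomain (fun h => g ≫ h) c = Finsupp.mapDomain (fun k => k ≫ inc D) c' := by
  obtain ⟨V, g, v, hv, h1⟩ := h
  rw [res_ev] at h1
  -- lift to the image of `Λ[U₀]`
  let S : ShortComplex (EtModW.Mod Λ X) := ShortComplex.mk (map (inc D)) (q Λ D) (map_q D)
  have hS : S.Exact := ShortComplex.exact_of_g_is_cokernel S (cokernelIsCokernel (map (Λ := Λ) (inc D)))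
  have h2 : Epi (kernel.lift S.g S.f S.zero) := (S.exact_iff_epi_kernel_lift).1 hS
  obtain ⟨y, hy⟩ := exists_lift_of_exact
    (S := ShortComplex.mk (kernel.ι S.g) S.g (kernel.condition S.g))
    (ShortComplex.exact_of_f_is_kernel _ (kernelIsKernel S.g)) V
    (res (LM Λ D.U) g (sec Λ D.U c)) h1
  obtain ⟨V', g', v', y', hv', hy'⟩ := exists_local_lift (kernel.lift S.g S.f S.zero) y v
  obtain ⟨V'', g'', v'', c', hv'', hc'⟩ := exists_sec (U₀ D) y' v'
  have h3 : res (LM Λ D.U) (g'' ≫ g' ≫ g) (sec Λ D.U c) =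
      ev (map (inc D)) V'' (sec Λ (U₀ D) c') := by
    rw [res_comp, res_comp, ← hc', ← res_ev]
    have h4 : res (LM Λ D.U) g (sec Λ D.U c) = ev (kernel.ι S.g) V y := hy.symm
    rw [h4, res_ev, ← hy', ← ev_comp, kernel.lift_ι]
  rw [map_sec, res_sec] at h3
  have h5 : Van (LM Λ D.U) (sec Λ D.U (Finsupp.mapDomain (fun h => (g'' ≫ g' ≫ g) ≫ h) c -
      Finsupp.mapDomain (fun h => h ≫ inc D) c')) v'' := by
    refine van_zero_of_eq ?_ _
    rw [map_sub, h3, sub_self]
  obtain ⟨W, k, w, hw, h6⟩ := (van_sec_iff _ _ _).1 h5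
  refine ⟨W, k ≫ g'' ≫ g' ≫ g, w, Finsupp.mapDomain (fun h => k ≫ h) c', ?_, ?_⟩
  · change (k.left ≫ g''.left ≫ g'.left ≫ g.left) w = t
    rw [Scheme.Hom.comp_apply, hw, Scheme.Hom.comp_apply, hv'', Scheme.Hom.comp_apply, hv', hv]
  · have h7 : Finsupp.mapDomain (fun h => k ≫ h)
        (Finsupp.mapDomain (fun h => (g'' ≫ g' ≫ g) ≫ h) c) =
        Finsupp.mapDomain (fun h => k ≫ h) (Finsupp.mapDomain (fun h => h ≫ inc D) c') := by
      rw [← sub_eq_zero]
      have h8 := (Finsupp.lmapDomain Λ Λ (fun h : V'' ⟶ D.U => k ≫ h)).map_sub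
        (Finsupp.mapDomain (fun h => (g'' ≫ g' ≫ g) ≫ h) c)
        (Finsupp.mapDomain (fun h => h ≫ inc D) c')
      exact h8.symm.trans h6
    rw [← Finsupp.mapDomain_comp, ← Finsupp.mapDomain_comp] at h7
    rw [← Finsupp.mapDomain_comp]
    exact h7

/-- Excision: sections of `Q`-like sheaves over an étale neighbourhood of `V`. -/
theorem excision {F : EtModW.Mod Λ X} (hF : VanOff F (img D)) {E : X.Etale} (a : E ⟶ D.U)
    (hsurj : ∀ v ∈ D.V, ∃ e : E.left, a.left e = v) (x : EtModW.sect Λ F E)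
    (hx : ∀ (T : X.Etale) (k k' : T ⟶ E) (t : T.left), k ≫ a = k' ≫ a → a.left (k.left t) ∈ D.V →
      Van F (res F k x - res F k' x) t) :
    ∃ s : EtModW.sect Λ F D.U, res F a s = x := by
  have hoff : ∀ (T : X.Etale) (y : EtModW.sect Λ F T) (k : T ⟶ D.U) (t : T.left),
      k.left t ∉ D.V → Van F y t := by
    intro T y k t ht
    refine hF T y t ?_
    rw [mem_V_iff, hom_apply] at ht
    exact ht
  have hcov : ∀ w : D.U.left, ∃ (i : Bool) (z : (cond i E (U₀ D)).left),
      ((Bool.rec (inc D) a i : cond i E (U₀ D) ⟶ D.U)).left z = w := by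
    intro w
    by_cases hw : w ∈ D.V
    · obtain ⟨e, he⟩ := hsurj w hw
      exact ⟨true, e, he⟩
    · have h1 : w ∈ Set.range (opn D).ι := by
        rw [Scheme.Opens.range_ι]
        exact hw
      obtain ⟨z, hz⟩ := h1
      exact ⟨false, z, hz⟩
  obtain ⟨s, hs⟩ := glue F (fun i : Bool => cond i E (U₀ D))
    (fun i => (Bool.rec (inc D) a i : cond i E (U₀ D) ⟶ D.U)) hcov
    (fun i => (Bool.rec (0 : EtModW.sect Λ F (U₀ D)) x i : EtModW.sect Λ F (cond i E (U₀ D)))) (by
      intro i j W k k' hk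
      cases i <;> cases j
      · change res F k 0 = res F k' 0
        rw [map_zero, map_zero]
      · change res F k 0 = res F k' x
        rw [map_zero]
        refine (eq_zero_of_van _ fun w => hoff W _ (k' ≫ a) w ?_).symm
        have h2 : (k' ≫ a).left w = (k ≫ inc D).left w := by
          change k ≫ inc D = k' ≫ a at hk
          rw [hk]
        rw [h2]
        exact inc_not_mem D k w
      · change res F k x = res F k' 0
        rw [map_zero]
        refine eq_zero_of_van _ fun w => hoff W _ (k ≫ a) w ?_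
        have h2 : (k ≫ a).left w = (k' ≫ inc D).left w := by
          change k ≫ a = k' ≫ inc D at hk
          rw [hk]
        rw [h2]
        exact inc_not_mem D k' w
      · change res F k x = res F k' x
        change k ≫ a = k' ≫ a at hk
        refine eq_of_van fun w => ?_
        by_cases hw : a.left (k.left w) ∈ D.V
        · exact hx W k k' w hk hw
        · exact hoff W _ (k ≫ a) w hw)
  exact ⟨s, hs true⟩

/-- The section of `Q` over `U` attached to a component of `U ×[X] U` over `V`. -/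
theorem exists_s (i : Fin D.d) :
    ∃ s : EtModW.sect Λ (Q Λ D) D.U, res (Q Λ D) (D.a i) s = cl Λ D (D.b i) := by
  refine excision D (vanOff_Q D) (D.a i) (D.surj i) _ fun T k k' t hk ht => ?_
  rw [res_cl, res_cl]
  obtain ⟨T', j, t', hj, h⟩ := D.uniq i T k k' t ht hk
  refine ⟨T', j, t', hj, ?_⟩
  rw [map_sub, res_cl, res_cl, ← Category.assoc, ← Category.assoc, h, sub_self]

variable (Λ) in
/-- The section of `Q` over `U` attached to a component of `U ×[X] U` over `V`. -/
noncomputable def s (i : Fin D.d) : EtModW.sect Λ (Q Λ D) D.U := (exists_s (Λ := Λ) D i).choose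

theorem res_s (i : Fin D.d) : res (Q Λ D) (D.a i) (s Λ D i) = cl Λ D (D.b i) :=
  (exists_s (Λ := Λ) D i).choose_spec

variable (Λ) in
/-- The constant structure of `Q` along `V`. -/
noncomputable def Φ : (Fin D.d →₀ Λ) →ₗ[Λ] EtModW.sect Λ (Q Λ D) D.U :=
  Finsupp.linearCombination Λ (s Λ D)

/-- Simultaneous lifts to all components near a point of `V`. -/
theorem exists_lifts (v : D.U.left) (hv : v ∈ D.V) (S : Finset (Fin D.d)) :
    ∃ (T : X.Etale) (c : T ⟶ D.U) (t : T.left) (k : ∀ i : Fin D.d, i ∈ S → (T ⟶ D.E i)),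
      c.left t = v ∧ ∀ i (hi : i ∈ S), k i hi ≫ D.a i = c := by
  classical
  induction S using Finset.induction_on with
  | empty => exact ⟨D.U, 𝟙 _, v, fun i hi => absurd hi (by simp), rfl, fun i hi => absurd hi (by simp)⟩
  | @insert i S hi ih =>
    obtain ⟨T, c, t, k, hct, hk⟩ := ih
    obtain ⟨e, he⟩ := D.surj i v hv
    obtain ⟨P, p₁, p₂, p, h1, h2, h3⟩ := exists_common c (D.a i) t e (hct.trans he.symm)
    refine ⟨P, p₁ ≫ c, p, fun j hj => if h : j = i then h ▸ p₂ else
      p₁ ≫ k j (Finset.mem_of_mem_insert_of_ne hj h), ?_, fun j hj => ?_⟩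
    · change (p₁.left ≫ c.left) p = v
      rw [Scheme.Hom.comp_apply, h2, hct]
    · by_cases h : j = i
      · subst h
        simp only [dif_pos]
        exact h1.symm
      · simp only [dif_neg h]
        rw [Category.assoc, hk]

theorem comp_left_apply {A B C : X.Etale} (f : A ⟶ B) (g : B ⟶ C) (x : A.left) :
    (f ≫ g).left x = g.left (f.left x) := by
  change (f.left ≫ g.left) x = _
  rw [Scheme.Hom.comp_apply]

theorem injAt_Φ (v : D.U.left) (hv : v ∈ D.V) : InjAt (Q Λ D) (Φ Λ D) v := by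
  classical
  intro l hl
  obtain ⟨T, c, t, k, hct, hk⟩ := exists_lifts D v hv Finset.univ
  rw [← hct, ← van_res_iff] at hl
  have h1 : res (Q Λ D) c (Φ Λ D l) = ev (q Λ D) T (sec Λ D.U
      (Finsupp.mapDomain (fun i => k i (Finset.mem_univ i) ≫ D.b i) l)) := by
    rw [ev_q_sec]
    change res (Q Λ D) c (Finsupp.linearCombination Λ (s Λ D) l) = _
    rw [Finsupp.linearCombination_apply, Finsupp.sum, map_sum, Finsupp.sum_mapDomain_index
      (h := fun h a => a • cl Λ D h) (fun h => zero_smul _ _) (fun h a b => add_smul _ _ _),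
      Finsupp.sum]
    refine Finset.sum_congr rfl fun i _ => ?_
    rw [map_smul, ← hk i (Finset.mem_univ i), res_comp, res_s, res_cl]
  rw [h1] at hl
  obtain ⟨W, g, w, c', hw, hc'⟩ := van_sum_imp D _ t hl
  rw [← Finsupp.mapDomain_comp] at hc'
  have hinj : Function.Injective ((fun h : T ⟶ D.U => g ≫ h) ∘
      (fun i => k i (Finset.mem_univ i) ≫ D.b i)) := by
    intro i i' hii'
    change g ≫ k i _ ≫ D.b i = g ≫ k i' _ ≫ D.b i' at hii'
    refine D.disj i i' W (g ≫ k i (Finset.mem_univ i)) (g ≫ k i' (Finset.mem_univ i')) w ?_ ?_ ?_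
    · rw [← comp_left_apply, Category.assoc, hk, comp_left_apply, hw, hct]
      exact hv
    · rw [Category.assoc, Category.assoc, hk, hk]
    · rw [Category.assoc, Category.assoc, hii']
  ext i
  have h2 := DFunLike.congr_fun hc' (((fun h : T ⟶ D.U => g ≫ h) ∘
      (fun i => k i (Finset.mem_univ i) ≫ D.b i)) i)
  rw [Finsupp.mapDomain_apply hinj] at h2
  rw [h2, Finsupp.mapDomain_of_notMem_range]
  · rfl
  · rintro ⟨k', hk'⟩
    have h3 : (g ≫ k i (Finset.mem_univ i) ≫ D.b i).left w ∉ D.V := by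
      have h4 : k' ≫ inc D = g ≫ k i (Finset.mem_univ i) ≫ D.b i := hk'
      rw [← h4]
      exact inc_not_mem D k' w
    refine h3 ?_
    rw [mem_V_iff, hom_apply, ← hom_apply g, ← hom_apply c, hw, hct]
    exact ⟨v, hv, rfl⟩

theorem surjAt_Φ (v : D.U.left) (hv : v ∈ D.V) : SurjAt (Q Λ D) (Φ Λ D) v := by
  classical
  intro T g t ht z
  obtain ⟨W, k, w, c, hw, hc⟩ := exists_sum D z t
  have key : ∀ h : W ⟶ D.U, ∃ m : Fin D.d →₀ Λ,
      Van (Q Λ D) (cl Λ D h - res (Q Λ D) (k ≫ g) (Φ Λ D m)) w := by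
    intro h
    by_cases hV : h.left w ∈ D.V
    · have h1 : (k ≫ g).left w ∈ D.V := by
        rw [comp_left_apply, hw, ht]
        exact hv
      obtain ⟨i, W', j, w', k', hj, h2, h3⟩ := D.cover W (k ≫ g) h w h1
      refine ⟨Finsupp.single i 1, W', j, w', hj, ?_⟩
      change res (Q Λ D) j (cl Λ D h - res (Q Λ D) (k ≫ g)
        (Finsupp.linearCombination Λ (s Λ D) (Finsupp.single i 1))) = 0
      rw [Finsupp.linearCombination_single, one_smul, map_sub, res_cl, ← res_comp, ← h2, ← h3,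
        res_comp, res_s, res_cl, sub_self]
    · refine ⟨0, ?_⟩
      rw [map_zero, map_zero, sub_zero]
      exact van_cl_of_not_mem D h w hV
  choose m hm using key
  refine ⟨c.sum fun h a => a • m h, ?_⟩
  rw [← hw, ← van_res_iff, map_sub, hc, ← res_comp]
  have h1 : (c.sum fun h a => a • cl Λ D h) -
      res (Q Λ D) (k ≫ g) (Φ Λ D (c.sum fun h a => a • m h)) =
      c.sum fun h a => a • (cl Λ D h - res (Q Λ D) (k ≫ g) (Φ Λ D (m h))) := by
    rw [Finsupp.sum, Finsupp.sum, Finsupp.sum, map_sum, map_sum, ← Finset.sum_sub_distrib]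
    refine Finset.sum_congr rfl fun h _ => ?_
    rw [map_smul, map_smul, smul_sub]
  rw [h1]
  exact Van.sum _ _ fun h _ => Van.smul _ (hm h)

/-- The generator belongs to the class. -/
theorem mem_Q : Mem D (Q Λ D) :=
  ⟨vanOff_Q D, (Fin D.d →₀ Λ), inferInstance, inferInstance, inferInstance, Φ Λ D,
    fun v hv => ⟨injAt_Φ D v hv, surjAt_Φ D v hv⟩⟩

end Groth.Agent.Sga4h.GalQ
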