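import Groth.Agent.Sga4h.GalQ

/-!
# Syzygies in the class attached to a Galois datum

Every sheaf `F` in the class `Mem D` is a quotient of a finite power of `Q = Λ[U] / Λ[U ∖ V]`, with
kernel again in the class (`Λ` Noetherian).
-/

set_option autoImplicit false
universe u

open CategoryTheory CategoryTheory.Limits AlgebraicGeometry Opposite
open scoped ZeroObject

namespace Groth.Agent.Sga4h.GalSyz

open Groth.Agent.Etcore.LVan Groth.Agent.Etcore.LFree Groth.Agent.Sga4h.LVanExact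
  Groth.Agent.Sga4h.GalDatum Groth.Agent.Sga4h.GalClass Groth.Agent.Sga4h.GalQ

variable {Λ : Type (u + 1)} [CommRing Λ] {X : Scheme.{u}} {D : Datum X}
variable {F G : EtModW.Mod Λ X}

theorem ev_biprod (T : X.Etale) (s : EtModW.sect Λ (F ⊞ G) T) :
    ev (biprod.inl : F ⟶ F ⊞ G) T (ev (biprod.fst : F ⊞ G ⟶ F) T s) +
      ev (biprod.inr : G ⟶ F ⊞ G) T (ev (biprod.snd : F ⊞ G ⟶ G) T s) = s := by
  rw [← ev_comp, ← ev_comp, ← ev_add, biprod.total]
  rfl

theorem VanOff.biprod {Z : Set X} (hF : VanOff F Z) (hG : VanOff G Z) : VanOff (F ⊞ G) Z := by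
  intro T s t ht
  rw [← ev_biprod T s]
  exact (Van.map _ (hF T _ t ht)).add (Van.map _ (hG T _ t ht))

theorem van_biprod_iff {T : X.Etale} (a : EtModW.sect Λ F T) (b : EtModW.sect Λ G T) (t : T.left) :
    Van (F ⊞ G) (ev (biprod.inl : F ⟶ F ⊞ G) T a + ev (biprod.inr : G ⟶ F ⊞ G) T b) t ↔
      Van F a t ∧ Van G b t := by
  constructor
  · intro h
    constructor
    · have h1 := Van.map (biprod.fst : F ⊞ G ⟶ F) h
      rw [map_add, ← ev_comp, ← ev_comp, biprod.inl_fst, biprod.inr_fst] at h1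
      have h2 : ev (𝟙 F) T a + ev (0 : G ⟶ F) T b = a := add_zero a
      rwa [h2] at h1
    · have h1 := Van.map (biprod.snd : F ⊞ G ⟶ G) h
      rw [map_add, ← ev_comp, ← ev_comp, biprod.inl_snd, biprod.inr_snd] at h1
      have h2 : ev (0 : F ⟶ G) T a + ev (𝟙 G) T b = b := zero_add b
      rwa [h2] at h1
  · rintro ⟨h1, h2⟩
    exact (Van.map _ h1).add (Van.map _ h2)

theorem Mem.biprod (hF : Mem D F) (hG : Mem D G) : Mem D (F ⊞ G) := by
  obtain ⟨v₁, M, _, _, _, φ, hφ⟩ := hF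
  obtain ⟨v₂, N, _, _, _, ψ, hψ⟩ := hG
  refine ⟨VanOff.biprod v₁ v₂, M × N, inferInstance, inferInstance, inferInstance,
    ((ev (biprod.inl : F ⟶ F ⊞ G) D.U).comp φ).coprod ((ev (biprod.inr : G ⟶ F ⊞ G) D.U).comp ψ),
    fun v hv => ⟨?_, ?_⟩⟩
  · rintro ⟨m, n⟩ h
    have h1 := (van_biprod_iff (φ m) (ψ n) v).1 h
    exact Prod.ext ((hφ v hv).1 m h1.1) ((hψ v hv).1 n h1.2)
  · intro T g t ht s
    obtain ⟨m, hm⟩ := (hφ v hv).2 T g t ht (ev biprod.fst T s)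
    obtain ⟨n, hn⟩ := (hψ v hv).2 T g t ht (ev biprod.snd T s)
    refine ⟨(m, n), ?_⟩
    have h1 : s - res (F ⊞ G) g (((ev (biprod.inl : F ⟶ F ⊞ G) D.U).comp φ).coprod
        ((ev (biprod.inr : G ⟶ F ⊞ G) D.U).comp ψ) (m, n)) =
        ev (biprod.inl : F ⟶ F ⊞ G) T (ev biprod.fst T s - res F g (φ m)) +
        ev (biprod.inr : G ⟶ F ⊞ G) T (ev biprod.snd T s - res G g (ψ n)) := by
      have h2 : ((ev (biprod.inl : F ⟶ F ⊞ G) D.U).comp φ).coprod
        ((ev (biprod.inr : G ⟶ F ⊞ G) D.U).comp ψ) (m, n) =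
        ev (biprod.inl : F ⟶ F ⊞ G) D.U (φ m) + ev (biprod.inr : G ⟶ F ⊞ G) D.U (ψ n) := rfl
      rw [h2, map_add, res_ev, res_ev, map_sub, map_sub]
      conv_lhs => rw [← ev_biprod T s]
      abel
    rw [h1]
    exact (van_biprod_iff _ _ _).2 ⟨hm, hn⟩

theorem mem_of_isZero (hF : IsZero F) : Mem D F := by
  have h0 : ∀ (T : X.Etale) (s : EtModW.sect Λ F T), s = 0 := fun T s => by
    have h1 : ev (𝟙 F) T s = ev (0 : F ⟶ F) T s := by rw [hF.eq_of_src (𝟙 F) 0]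
    exact h1
  refine ⟨fun T s t _ => van_zero_of_eq (h0 T s) t, PUnit, inferInstance, inferInstance,
    inferInstance, 0, fun v _ => ⟨fun m _ => rfl, fun T g t _ s => ⟨0, van_zero_of_eq (h0 T _) t⟩⟩⟩

variable (D) (Λ) in
/-- The powers of `Q`. -/
noncomputable def pow : ℕ → EtModW.Mod Λ X
  | 0 => 0
  | r + 1 => Q Λ D ⊞ pow r

variable (D) in
theorem mem_pow (r : ℕ) : Mem D (pow Λ D r) := by
  induction r with
  | zero => exact mem_of_isZero (isZero_zero _)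
  | succ r ih => exact Mem.biprod (mem_Q D) ih

/-- A section over `U` of a sheaf vanishing outside `Z` defines a morphism from `Q`. -/
theorem exists_desc (hF : VanOff F (img D)) (x : EtModW.sect Λ F D.U) :
    ∃ (p : Q Λ D ⟶ F) (y : EtModW.sect Λ (Q Λ D) D.U), ev p D.U y = x := by
  have h : map (inc D) ≫ desc x = 0 := by
    rw [map_desc]
    apply Groth.Agent.Etcore.LFree.hom_ext
    rw [desc_gen]
    change res F (inc D) x = 0
    refine eq_zero_of_van _ fun w => hF _ _ w ?_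
    rw [← hom_apply (inc D), ← mem_V_iff]
    exact inc_not_mem D (𝟙 _) w
  have h1 : ∃ p : Q Λ D ⟶ F, q Λ D ≫ p = desc x :=
    ⟨cokernel.desc _ (desc x) h, cokernel.π_desc _ _ _⟩
  obtain ⟨p, hp⟩ := h1
  refine ⟨p, ev (q Λ D) D.U (gen Λ D.U), ?_⟩
  rw [← ev_comp, hp, desc_gen]

theorem exists_descPow (hF : VanOff F (img D)) (l : List (EtModW.sect Λ F D.U)) :
    ∃ (r : ℕ) (p : pow Λ D r ⟶ F), ∀ x ∈ l, ∃ y : EtModW.sect Λ (pow Λ D r) D.U, ev p D.U y = x := by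
  induction l with
  | nil => exact ⟨0, 0, fun x hx => absurd hx (by simp)⟩
  | cons x l ih =>
    obtain ⟨r, p, hp⟩ := ih
    obtain ⟨p', y', hy'⟩ := exists_desc hF x
    refine ⟨r + 1, biprod.desc p' p, fun z hz => ?_⟩
    rcases List.mem_cons.1 hz with rfl | hz
    · refine ⟨ev (biprod.inl : Q Λ D ⟶ Q Λ D ⊞ pow Λ D r) D.U y', ?_⟩
      have h1 : ev (biprod.inl ≫ biprod.desc p' p) D.U y' = ev p' D.U y' := by
        rw [biprod.inl_desc]
      exact h1.trans hy'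
    · obtain ⟨y, hy⟩ := hp z hz
      refine ⟨ev (biprod.inr : pow Λ D r ⟶ Q Λ D ⊞ pow Λ D r) D.U y, ?_⟩
      have h1 : ev (biprod.inr ≫ biprod.desc p' p) D.U y = ev p D.U y := by
        rw [biprod.inr_desc]
      exact h1.trans hy

/-- Sheaves in the class are quotients of powers of `Q`. -/
theorem exists_epi (hF : Mem D F) : ∃ (r : ℕ) (p : pow Λ D r ⟶ F), Epi p := by
  obtain ⟨v, M, _, _, hM, φ, hφ⟩ := hF
  obtain ⟨S, hS⟩ := hM.fg_top
  obtain ⟨r, p, hp⟩ := exists_descPow v (S.toList.map φ)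
  have h1 : ∀ m : M, ∃ y, ev p D.U y = φ m := by
    intro m
    have h2 : LinearMap.range φ ≤ LinearMap.range (ev p D.U) := by
      rw [LinearMap.range_eq_map, ← hS, Submodule.map_span, Submodule.span_le]
      rintro _ ⟨x, hx, rfl⟩
      exact hp (φ x) (List.mem_map.2 ⟨x, Finset.mem_toList.2 hx, rfl⟩)
    exact h2 ⟨m, rfl⟩
  refine ⟨r, p, epi_of_local p fun T s t => ?_⟩
  by_cases ht : T.hom t ∈ img D
  · obtain ⟨v₀, hv₀, hv₁⟩ := ht
    obtain ⟨m, W, a, b, w, h2, h3, h4⟩ := SurjAt.exists_of_sect (hφ v₀ hv₀).2 s t hv₁.symm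
    obtain ⟨y, hy⟩ := h1 m
    refine ⟨W, a, w, res _ b y, h2, van_zero_of_eq ?_ _⟩
    rw [← res_ev, hy, h4, sub_self]
  · refine ⟨T, 𝟙 T, t, 0, rfl, ?_⟩
    exact v T _ t ht

/-- The syzygy sequence. -/
theorem exists_syzygy [IsNoetherianRing Λ] (hF : Mem D F) :
    ∃ (r : ℕ) (S : ShortComplex (EtModW.Mod Λ X)), S.ShortExact ∧ Mem D S.X₁ ∧
      S.X₂ = pow Λ D r ∧ S.X₃ = F := by
  obtain ⟨r, p, hp⟩ := exists_epi hF
  let S := ShortComplex.mk (kernel.ι p) p (kernel.condition p)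
  have hS : S.ShortExact :=
    { exact := ShortComplex.exact_of_f_is_kernel S (kernelIsKernel p)
      mono_f := inferInstanceAs (Mono (kernel.ι p))
      epi_g := hp }
  exact ⟨r, S, hS, Mem.of_shortExact_left hS.exact (mem_pow D r) hF, rfl, rfl⟩

end Groth.Agent.Sga4h.GalSyz
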