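import Groth.Agent.FlatA.CompactifBasic

/-!
# Compactification of a morphism of affine finite type schemes
-/

set_option autoImplicit false

universe u

open CategoryTheory CategoryTheory.Limits AlgebraicGeometry

namespace Groth.Agent.Sga4h.GeoProj

open Groth.Agent.FlatA.CompactifBasic

/-- Relative compactification of a morphism `f : V ⟶ Y` of affine schemes locally of finite type
over `S` : open immersions `j : Y ⟶ Yb`, `k : V ⟶ P`, proper `fb : P ⟶ Yb`, `qb : Yb ⟶ S`. -/
theorem exists_relative_compactification {V Y S : Scheme.{u}} (f : V ⟶ Y) (q : Y ⟶ S)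
    [IsAffine V] [IsAffine Y] [QuasiSeparatedSpace S] [LocallyOfFiniteType f]
    [LocallyOfFiniteType q] :
    ∃ (Yb P : Scheme.{u}) (j : Y ⟶ Yb) (k : V ⟶ P) (fb : P ⟶ Yb) (qb : Yb ⟶ S),
      IsOpenImmersion j ∧ QuasiCompact j ∧ IsOpenImmersion k ∧ QuasiCompact k ∧ IsProper fb ∧
      IsProper qb ∧ j ≫ qb = q ∧ k ≫ fb = f ≫ j := by
  obtain ⟨Yb, j, qb, hj, hj', hqb, rfl⟩ := HasCompactification.of_isAffine q
  have : QuasiSeparatedSpace Yb := quasiSeparatedSpace_of_quasiSeparated qb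
  obtain ⟨P, k, fb, hk, hk', hfb, h⟩ := HasCompactification.of_isAffine (f ≫ j)
  exact ⟨Yb, P, j, k, fb, qb, hj, hj', hk, hk', hfb, hqb, rfl, h⟩

end Groth.Agent.Sga4h.GeoProj
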