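import Groth.Agent.Sga4h.GeoDim3
import Groth.Agent.Sga4h.GeoProj
import Mathlib.AlgebraicGeometry.ZariskisMainTheorem

/-!
# Generically finite morphisms; coordinates and the bad locus in Deligne's induction
-/

set_option autoImplicit false

universe u

open CategoryTheory CategoryTheory.Limits AlgebraicGeometry

namespace Groth.Agent.Sga4h.GeoFinite

open Groth.Agent.CycB Groth.Agent.CycB.RelDim Groth.Agent.CycB.TrdegAlg
open Groth.Agent.CycA.GenProd GeoDim

variable {X Y Z S : Scheme.{u}}

/-- A quasi-sober noetherian `T₀` space without nontrivial specializations is finite. -/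
theorem finite_of_no_specializes (α : Type*) [TopologicalSpace α]
    [TopologicalSpace.NoetherianSpace α] [QuasiSober α] [T0Space α]
    (h : ∀ x y : α, x ⤳ y → x = y) : Finite α := by
  have hfin := TopologicalSpace.NoetherianSpace.finite_irreducibleComponents (α := α)
  have hmem : ∀ x : α, closure {x} ∈ irreducibleComponents α := by
    intro x
    obtain ⟨T, hT, hxT⟩ := exists_mem_irreducibleComponents_subset_of_isIrreducible
      ({x} : Set α) isIrreducible_singleton
    obtain ⟨w, hw⟩ := QuasiSober.sober hT.1 (isClosed_of_mem_irreducibleComponents _ hT)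
    have : w = x := h w x (hw.specializes (hxT rfl))
    subst this
    rwa [hw.def]
  have : Finite (irreducibleComponents α) := hfin
  refine Finite.of_injective (fun x : α => (⟨closure {x}, hmem x⟩ : irreducibleComponents α)) ?_
  intro x y hxy
  have h1 : closure ({x} : Set α) = closure {y} := congrArg Subtype.val hxy
  apply h
  rw [specializes_iff_mem_closure, h1]
  exact subset_closure rfl

/-- Finiteness of the generic fibre of a morphism of generic relative dimension zero. -/
theorem finite_preimage_genericPoint [IrreducibleSpace S] (f : X ⟶ S) [LocallyOfFiniteType f]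
    [QuasiCompact f] (h : GDimLE f 0) : (f ⁻¹' {genericPoint S}).Finite := by
  let F := f.fiber (genericPoint S)
  have h1 : LocallyOfFiniteType (f.fiberToSpecResidueField (genericPoint S)) :=
    inferInstanceAs (LocallyOfFiniteType (Limits.pullback.snd f _))
  have h2 : QuasiCompact (f.fiberToSpecResidueField (genericPoint S)) :=
    inferInstanceAs (QuasiCompact (Limits.pullback.snd f _))
  have h3 : IsLocallyNoetherian F := LocallyOfFiniteType.isLocallyNoetherian
    (f.fiberToSpecResidueField (genericPoint S))
  have h4 : CompactSpace F := HasAffineProperty.iff_of_isAffine (P := @QuasiCompact).mp h2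
  have h5 : IsNoetherian F := {}
  have h6 : Finite F := by
    have hN : TopologicalSpace.NoetherianSpace F := inferInstance
    refine finite_of_no_specializes F fun x y hxy => ?_
    have hx : f (f.fiberι _ x) = genericPoint S := by
      have : f.fiberι _ x ∈ Set.range (f.fiberι (genericPoint S)) := ⟨x, rfl⟩
      rw [Scheme.Hom.range_fiberι] at this
      exact this
    have hy : f (f.fiberι _ y) = genericPoint S := by
      have : f.fiberι _ y ∈ Set.range (f.fiberι (genericPoint S)) := ⟨y, rfl⟩
      rw [Scheme.Hom.range_fiberι] at this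
      exact this
    by_contra hne
    have h7 := trdegAt_lt_of_specializes f (hxy.map (f.fiberι _).continuous)
      (fun h => hne ((f.fiberι _).isEmbedding.injective h)) (hx.trans hy.symm)
    have h8 := h _ hx
    have := h7.trans_le h8
    simp at this
  have h7 := (f.fiberHomeo (genericPoint S)).toEquiv.finite_iff.mp h6
  exact Set.toFinite _

/-- A proper morphism with finite generic fibre is finite over a nonempty open. -/
theorem exists_isFinite_morphismRestrict [IrreducibleSpace S] (f : X ⟶ S) [IsProper f]
    (h : GDimLE f 0) : ∃ U : S.Opens, genericPoint S ∈ U ∧ IsFinite (f ∣_ U) :=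
  exists_isFinite_morphismRestrict_of_finite_preimage_singleton _ _
    (finite_preimage_genericPoint f h)

theorem isFinite_morphismRestrict_of_le (f : X ⟶ S) {U V : S.Opens} (h : V ≤ U)
    [hf : IsFinite (f ∣_ U)] : IsFinite (f ∣_ V) := by
  have hU := isPullback_morphismRestrict f U
  have hV := isPullback_morphismRestrict f V
  have h1 : (f ⁻¹ᵁ V) ≤ f ⁻¹ᵁ U := fun x hx => h hx
  have hsq : IsPullback (X.homOfLE h1) (f ∣_ V) (f ∣_ U) (S.homOfLE h) := by
    refine IsPullback.of_right (t := hU.flip) (by simpa using hV.flip) ?_
    rw [← cancel_mono U.ι]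
    simp
  exact MorphismProperty.of_isPullback hsq hf

theorem isIso_morphismRestrict_of_le_opensRange (j : X ⟶ Y) [IsOpenImmersion j] (O : Y.Opens)
    (h : O ≤ j.opensRange) : IsIso (j ∣_ O) := by
  rw [isIso_iff_isOpenImmersion_and_surjective]
  refine ⟨inferInstance, ⟨fun y => ?_⟩⟩
  obtain ⟨x, hx⟩ := h y.2
  refine ⟨⟨x, by change j x ∈ O; rw [hx]; exact y.2⟩, ?_⟩
  apply Subtype.ext
  rw [morphismRestrict_base_coe]
  exact hx

open Groth.Agent.FlatA.CompactifBasic in
/-- A compactifiable morphism with finite generic fibre is finite over a nonempty open of the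
base. -/
theorem exists_isFinite_of_hasCompactification [IrreducibleSpace S] [IsLocallyNoetherian S]
    (f : X ⟶ S) (hf : HasCompactification f) (h : GDimLE f 0) :
    ∃ U : S.Opens, genericPoint S ∈ U ∧ IsFinite (f ∣_ U) := by
  obtain ⟨P', j', p', hj', hqj', hp', rfl⟩ := hf
  -- replace `P'` by the scheme-theoretic image of `X`
  let P := j'.image
  let j : X ⟶ P := j'.toImage
  let p : P ⟶ S := j'.imageι ≫ p'
  have hj : IsOpenImmersion j := inferInstance
  have hfac : j ≫ p = j' ≫ p' := by
    simp only [j, p, ← Category.assoc]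
    rw [Scheme.Hom.toImage_imageι]
  rw [← hfac] at h ⊢
  have hp : IsProper p := inferInstance
  have hN : IsLocallyNoetherian P := LocallyOfFiniteType.isLocallyNoetherian p
  have hdense : Dense (j.opensRange : Set P) := by
    have : IsDominant j := inferInstance
    exact this.1
  -- points over the generic point lie in `X`
  have key : ∀ x : P, p x = genericPoint S → x ∈ j.opensRange := by
    intro x hx
    by_contra hxU
    obtain ⟨ξ, hξU, hξ⟩ := exists_mem_specializes_of_dense j.opensRange hdense x
    have hne : ξ ≠ x := fun h => hxU (h ▸ hξU)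
    have hfξ : p ξ = genericPoint S := by
      have h1 : p ξ ⤳ genericPoint S := hx ▸ hξ.map p.continuous
      exact (h1.antisymm ((genericPoint_spec S).specializes trivial)).eq
    have h2 := trdegAt_lt_of_specializes p hξ hne (hfξ.trans hx.symm)
    obtain ⟨y, rfl⟩ := hξU
    have h3 := h y (by rw [Scheme.Hom.comp_apply]; exact hfξ)
    rw [trdegAt_comp, trdegAt_eq_zero_of_isPreimmersion j, add_zero] at h3
    have := h2.trans_le h3
    simp at this
  have hP : GDimLE p 0 := by
    intro x hx
    obtain ⟨y, rfl⟩ := key x hx
    have h3 := h y (by rw [Scheme.Hom.comp_apply]; exact hx)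
    rwa [trdegAt_comp, trdegAt_eq_zero_of_isPreimmersion j, add_zero] at h3
  obtain ⟨U, hU, hfin⟩ := exists_isFinite_morphismRestrict p hP
  -- remove the image of the boundary
  let W : S.Opens := ⟨_, (p.isClosedMap _ j.opensRange.isOpen.isClosed_compl).isOpen_compl⟩
  have hW : genericPoint S ∈ W := by
    rintro ⟨x, hx, hx'⟩
    exact hx (key x hx')
  refine ⟨U ⊓ W, ⟨hU, hW⟩, ?_⟩
  have h1 : IsFinite (p ∣_ (U ⊓ W)) := isFinite_morphismRestrict_of_le p inf_le_left
  have h2 : IsIso (j ∣_ (p ⁻¹ᵁ (U ⊓ W))) := by
    refine isIso_morphismRestrict_of_le_opensRange j _ fun x hx => ?_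
    by_contra hxj
    exact hx.2 ⟨x, hxj, rfl⟩
  rw [morphismRestrict_comp]
  have h3 : IsFinite (j ∣_ (p ⁻¹ᵁ (U ⊓ W))) := inferInstance
  exact MorphismProperty.comp_mem _ _ _ h3 h1

/-- An affine generically finite scheme is finite over a nonempty open of the base. -/
theorem exists_isFinite_of_isAffine [IrreducibleSpace S] [IsLocallyNoetherian S]
    (f : X ⟶ S) [IsAffine X] [LocallyOfFiniteType f] (h : GDimLE f 0) :
    ∃ U : S.Opens, genericPoint S ∈ U ∧ IsFinite (f ∣_ U) :=
  exists_isFinite_of_hasCompactification f
    (Groth.Agent.FlatA.CompactifBasic.HasCompactification.of_isAffine f) h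

end Groth.Agent.Sga4h.GeoFinite
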