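import Groth.Agent.Sga4h.GeoNoether
import Groth.Agent.Sga4h.GeoFinite
import Groth.Agent.FlatB.AffSpaceSmooth
import Groth.Agent.Desc.LQF

/-!
# Generic fibration by curves of a dominant finite type integral scheme over an integral base
-/

set_option autoImplicit false
set_option linter.style.haveILetI false

universe u

open CategoryTheory CategoryTheory.Limits AlgebraicGeometry

namespace Groth.Agent.Sga4h.GcGeo641

open GeoDim

theorem smooth_polynomial (A : Type u) [CommRing A] :
    SmoothOfRelativeDimension 1 (Spec.map (CommRingCat.ofHom (Polynomial.C : A →+* Polynomial A))) := by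
  let e : MvPolynomial (Fin 1) A ≃ₐ[A] Polynomial A :=
    MvPolynomial.uniqueAlgEquiv A (Fin 1)
  have h0 := Groth.Agent.FlatB.AffSpaceSmooth.isStandardSmoothOfRelativeDimension A 1
  have h1 : Algebra.IsStandardSmoothOfRelativeDimension 1 A (Polynomial A) :=
    Algebra.IsStandardSmoothOfRelativeDimension.of_algEquiv 1 e
  have h : (algebraMap A (Polynomial A)).IsStandardSmoothOfRelativeDimension 1 := by
    rw [RingHom.isStandardSmoothOfRelativeDimension_algebraMap]
    exact h1
  change SmoothOfRelativeDimension 1 (Spec.map (CommRingCat.ofHom (algebraMap A (Polynomial A))))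
  rw [HasRingHomProperty.Spec_iff (P := @SmoothOfRelativeDimension 1)]
  exact RingHom.locally_of RingHom.isStandardSmoothOfRelativeDimension_respectsIso _ h

/-- `𝔸^{e+1}_S` is a smooth relative curve over `𝔸^e_S`, for `S` affine. -/
theorem exists_projection (e : ℕ) (S : Scheme.{u}) [IsAffine S] :
    ∃ c : 𝔸(ULift.{u} (Fin (e + 1)); S) ⟶ 𝔸(ULift.{u} (Fin e); S),
      SmoothOfRelativeDimension 1 c ∧
      c ≫ (𝔸(ULift.{u} (Fin e); S) ↘ S) = 𝔸(ULift.{u} (Fin (e + 1)); S) ↘ S := by
  let R : Type u := Γ(S, ⊤)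
  let ε : ULift.{u} (Fin (e + 1)) ≃ Option (ULift.{u} (Fin e)) :=
    Equiv.ulift.trans ((finSuccEquiv e).trans (Equiv.optionCongr Equiv.ulift.symm))
  let E : Polynomial (MvPolynomial (ULift.{u} (Fin e)) R) ≃ₐ[R] MvPolynomial (ULift.{u} (Fin (e + 1))) R :=
    (MvPolynomial.optionEquivLeft R (ULift.{u} (Fin e))).symm.trans (MvPolynomial.renameEquiv R ε.symm)
  let φ : MvPolynomial (ULift.{u} (Fin e)) R →+* MvPolynomial (ULift.{u} (Fin (e + 1))) R :=
    (E : Polynomial (MvPolynomial (ULift.{u} (Fin e)) R) →+* _).comp Polynomial.C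
  have hφ : φ.comp MvPolynomial.C = MvPolynomial.C := by
    refine RingHom.ext fun r => ?_
    change E (Polynomial.C (MvPolynomial.C r)) = _
    exact E.commutes r
  let q := Spec.map (CommRingCat.ofHom φ)
  have hq : SmoothOfRelativeDimension 1 q := by
    have h1 : q = Spec.map E.toRingEquiv.toCommRingCatIso.hom ≫
        Spec.map (CommRingCat.ofHom (Polynomial.C : MvPolynomial (ULift.{u} (Fin e)) R →+* _)) := by
      rw [← Spec.map_comp]
      rfl
    rw [h1]
    exact (MorphismProperty.cancel_left_of_respectsIso (@SmoothOfRelativeDimension 1) _ _).mpr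
      (smooth_polynomial _)
  refine ⟨(AffineSpace.isoOfIsAffine _ S).hom ≫ q ≫ (AffineSpace.isoOfIsAffine _ S).inv, ?_, ?_⟩
  · refine (MorphismProperty.cancel_left_of_respectsIso (@SmoothOfRelativeDimension 1) _ _).mpr ?_
    exact (MorphismProperty.cancel_right_of_respectsIso (@SmoothOfRelativeDimension 1) _ _).mpr hq
  · have h1 := AffineSpace.isoOfIsAffine_inv_over (n := ULift.{u} (Fin e)) S
    have h2 := AffineSpace.isoOfIsAffine_inv_over (n := ULift.{u} (Fin (e + 1))) S
    rw [Category.assoc, Category.assoc, h1, ← cancel_epi (AffineSpace.isoOfIsAffine _ S).inv,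
      Iso.inv_hom_id_assoc, h2, ← Category.assoc]
    congr 1
    rw [← Spec.map_comp, ← CommRingCat.ofHom_comp, hφ]

/-- An open and closed map onto a connected space, from a nonempty space, is surjective. -/
theorem surjective_of_isFinite_of_etale {X Y : Scheme.{u}} (f : X ⟶ Y) [IsFinite f] [Etale f]
    [PreconnectedSpace Y] [Nonempty X] : Surjective f := by
  refine ⟨?_⟩
  have h1 : IsOpen (Set.range f) := f.isOpenMap.isOpen_range
  have h2 : IsClosed (Set.range f) := f.isClosedMap.isClosed_range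
  have h3 : Set.range f = Set.univ := IsClopen.eq_univ ⟨h2, h1⟩ (Set.range_nonempty f)
  exact Set.range_eq_univ.mp h3

/-- Generic fibration by curves: a dominant finite type `X → S` of integral schemes, `S` affine noetherian. Some
nonempty affine open `V` inside a given open `O` is finite surjective over `O'`, with `O'` open in `S` or a smooth
relative curve over an `S'` of smaller relative dimension. -/
theorem exists_fibration {X S : Scheme.{u}} [IsAffine S] [IsIntegral S] [IsNoetherian S] (f : X ⟶ S)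
    [LocallyOfFiniteType f] [IsIntegral X] [IsDominant f] (O : X.Opens) (hO : (O : Set X).Nonempty) :
    ∃ (V : X.Opens) (_ : V ≤ O) (_ : (V : Set X).Nonempty) (_ : IsAffineOpen V) (O' : Scheme.{u})
      (g : V.toScheme ⟶ O') (o : O' ⟶ S), IsAffine O' ∧ IsIntegral O' ∧ IsFinite g ∧ Surjective g ∧
      g ≫ o = V.ι ≫ f ∧
      ((trdegAt f (genericPoint X) = 0 ∧ IsOpenImmersion o) ∨
        ∃ (S' : Scheme.{u}) (c : O' ⟶ S') (s : S' ⟶ S) (e : ℕ), IsAffine S' ∧ IsIntegral S' ∧
          LocallyOfFiniteType s ∧ SmoothOfRelativeDimension 1 c ∧ c ≫ s = o ∧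
          trdegAt f (genericPoint X) = ((e + 1 : ℕ) : Cardinal.{u}) ∧ GDimLE s e) := by
  haveI : Nonempty O := hO.to_subtype
  haveI : IsIntegral O.toScheme := inferInstance
  haveI hdom : IsDominant (O.ι ≫ f) := by
    haveI : IsDominant O.ι := ⟨by
      have h1 : Dense (O : Set X) := O.isOpen.dense hO
      change Dense (Set.range O.ι)
      rwa [Scheme.Opens.range_ι]⟩
    infer_instance
  obtain ⟨n, V', hV'ne, hV'aff, W, h, w, htr, hWint, hWaff, hfin, huinj, hsurj, het, hcomm⟩ :=
    GeoNoether.exists_noether (O.ι ≫ f)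
  have htr' : trdegAt f (genericPoint X) = (n : Cardinal.{u}) := by
    rw [trdegAt_comp, trdegAt_eq_zero_of_isPreimmersion O.ι, add_zero,
      genericPoint_eq_of_isOpenImmersion O.ι] at htr
    exact htr
  let A : Scheme.{u} := 𝔸(ULift.{u} (Fin n); S)
  haveI hAnoeth : IsLocallyNoetherian A :=
    LocallyOfFiniteType.isLocallyNoetherian (𝔸(ULift.{u} (Fin n); S) ↘ S)
  haveI : IsIntegral A := inferInstance
  -- `w` is generically finite
  haveI : LocallyQuasiFinite w := Groth.Agent.Desc.LQF.of_etale w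
  have hw0 : GDimLE w 0 := fun x _ => by
    rw [trdegAt_eq_zero_of_locallyQuasiFinite w x]
    exact le_of_eq (by simp)
  obtain ⟨U₀, hU₀, hfin₀⟩ := GeoFinite.exists_isFinite_of_isAffine w hw0
  obtain ⟨U₁, hU₁aff, hU₁, hU₁le⟩ := exists_isAffineOpen_mem_and_subset (X := A) hU₀
  haveI hfin₁ : IsFinite (w ∣_ U₁) := GeoFinite.isFinite_morphismRestrict_of_le w (V := U₁) hU₁le
  let W₁ : W.Opens := w ⁻¹ᵁ U₁
  obtain ⟨y₀, hy₀⟩ : ∃ y : W, w y = genericPoint A := by
    have h1 : IsOpen (Set.range w) := w.isOpenMap.isOpen_range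
    exact ((genericPoint_spec A).mem_open_set_iff h1).mpr (by simpa using Set.range_nonempty w)
  have hW₁ne : Nonempty W₁ := ⟨⟨y₀, by change w y₀ ∈ U₁; rw [hy₀]; exact hU₁⟩⟩
  haveI : Nonempty U₁ := ⟨⟨_, hU₁⟩⟩
  haveI : IsIntegral U₁.toScheme := inferInstance
  haveI hsw : Surjective (w ∣_ U₁) := surjective_of_isFinite_of_etale _
  let V₁ : V'.toScheme.Opens := h ⁻¹ᵁ W₁
  let g₁ : V₁.toScheme ⟶ U₁.toScheme := (h ∣_ W₁) ≫ (w ∣_ U₁)
  haveI : IsFinite g₁ := inferInstance
  haveI : Surjective (h ∣_ W₁) := IsZariskiLocalAtTarget.restrict (P := @Surjective) hsurj W₁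
  haveI : Surjective g₁ := inferInstance
  haveI : IsAffine U₁.toScheme := hU₁aff
  haveI : IsAffine V₁.toScheme := isAffine_of_isAffineHom g₁
  let j : V₁.toScheme ⟶ X := V₁.ι ≫ V'.ι ≫ O.ι
  let e := j.isoOpensRange
  have hej : e.hom ≫ j.opensRange.ι = j := j.isoOpensRange_hom_ι
  haveI hne₁ : Nonempty V₁ := by
    obtain ⟨x, -⟩ := (inferInstance : Surjective g₁).surj ⟨_, hU₁⟩
    exact ⟨x⟩
  have hgf : (e.inv ≫ g₁) ≫ U₁.ι ≫ (𝔸(ULift.{u} (Fin n); S) ↘ S) = j.opensRange.ι ≫ f := by
    rw [← cancel_epi e.hom, ← Category.assoc e.hom (e.inv ≫ g₁), e.hom_inv_id_assoc,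
      ← Category.assoc e.hom, hej]
    change ((h ∣_ W₁) ≫ (w ∣_ U₁)) ≫ U₁.ι ≫ _ = _
    rw [Category.assoc, morphismRestrict_ι_assoc, morphismRestrict_ι_assoc, hcomm]
    simp only [j, Category.assoc]
    rfl
  refine ⟨j.opensRange, ?_, ⟨_, (Classical.arbitrary V₁), rfl⟩, isAffineOpen_opensRange j, U₁.toScheme,
    e.inv ≫ g₁, U₁.ι ≫ (𝔸(ULift.{u} (Fin n); S) ↘ S), hU₁aff, inferInstance, inferInstance, inferInstance,
    hgf, ?_⟩
  · rintro _ ⟨x, rfl⟩
    exact (V'.ι (V₁.ι x)).2
  obtain _ | e' := n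
  · left
    exact ⟨by rw [htr']; simp, inferInstance⟩
  · right
    obtain ⟨c, hc, hcs⟩ := exists_projection e' S
    refine ⟨𝔸(ULift.{u} (Fin e'); S), U₁.ι ≫ c, 𝔸(ULift.{u} (Fin e'); S) ↘ S, e', inferInstance,
      inferInstance, inferInstance, ?_, ?_, htr', gDimLE_affineSpace e' S⟩
    · exact (inferInstance : SmoothOfRelativeDimension (0 + 1) (U₁.ι ≫ c))
    · rw [Category.assoc, hcs]

end Groth.Agent.Sga4h.GcGeo641
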