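import Groth.Agent.Sga4h.GeoFinite

/-!
# Coordinates: points whose coordinates avoid dense opens of the affine line are generically
algebraic
-/

set_option autoImplicit false

universe u

open CategoryTheory CategoryTheory.Limits AlgebraicGeometry

namespace Groth.Agent.Sga4h.GeoCoord

open Groth.Agent.CycB Groth.Agent.CycB.RelDim Groth.Agent.CycB.TrdegAlg
open Groth.Agent.CycA.GenProd GeoDim GeoFinite

variable {X Y Z S : Scheme.{u}}

theorem trd_eq_zero_of_generators {A B K L : Type u} [CommRing A] [CommRing B] [Field K] [Field L]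
    (φ : A →+* B) (ψA : A →+* K) (ψB : B →+* L) (θ : K →+* L)
    (comm : θ.comp ψA = ψB.comp φ) (hB : FracGen ψB) (s : Set B)
    (hs : ∀ T : Subring B, φ.range ≤ T → s ⊆ T → T = ⊤)
    (halg : ∀ b ∈ s, @IsAlgebraic K L _ _ θ.toAlgebra (ψB b)) :
    trd θ = 0 := by
  let _ : Algebra K L := θ.toAlgebra
  have hmem : ∀ b : B, ψB b ∈ algebraicClosure K L := by
    intro b
    have h1 : (algebraicClosure K L).toSubring.comap ψB = ⊤ := by
      apply hs
      · rintro b ⟨a, rfl⟩
        change ψB (φ a) ∈ algebraicClosure K L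
        have := RingHom.congr_fun comm a
        simp only [RingHom.comp_apply] at this
        rw [← this]
        exact (algebraicClosure K L).algebraMap_mem (ψA a)
      · intro b hb
        exact mem_algebraicClosure_iff.mpr (halg b hb)
    have h2 : b ∈ (algebraicClosure K L).toSubring.comap ψB := by rw [h1]; trivial
    exact h2
  have : Algebra.IsAlgebraic K L := ⟨fun z => by
    obtain ⟨a, b, hb, hab⟩ := hB z
    have hz : z = ψB a / ψB b := by rw [eq_div_iff hb, hab]
    rw [hz, ← mem_algebraicClosure_iff]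
    exact div_mem (hmem a) (hmem b)⟩
  exact trdeg_eq_zero

/-- Values of a function coming from an algebraic point are algebraic. -/
theorem isAlgebraic_evaluation {B : Scheme.{u}} (x : X ⟶ B) (p : B ⟶ S) (f : X ⟶ S)
    (h : x ≫ p = f) (t : X) (ht : trdegAt p (x t) = 0) (c : Γ(B, ⊤)) :
    @IsAlgebraic (S.residueField (f t)) (X.residueField t) _ _ (f.residueFieldMap t).hom.toAlgebra
      ((X.evaluation ⊤ t trivial).hom (x.appTop.hom c)) := by
  subst h
  let _ : Algebra (S.residueField ((x ≫ p) t)) (X.residueField t) :=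
    ((x ≫ p).residueFieldMap t).hom.toAlgebra
  let _ : Algebra (S.residueField ((x ≫ p) t)) (B.residueField (x t)) :=
    (p.residueFieldMap (x t)).hom.toAlgebra
  let _ : Algebra (B.residueField (x t)) (X.residueField t) := (x.residueFieldMap t).hom.toAlgebra
  have : IsScalarTower (S.residueField ((x ≫ p) t)) (B.residueField (x t)) (X.residueField t) := by
    refine IsScalarTower.of_algebraMap_eq fun r => ?_
    change ((x ≫ p).residueFieldMap t).hom r =
      (x.residueFieldMap t).hom ((p.residueFieldMap (x t)).hom r)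
    rw [Scheme.residueFieldMap_comp]
    rfl
  have h1 : Algebra.IsAlgebraic (S.residueField ((x ≫ p) t)) (B.residueField (x t)) :=
    trdeg_eq_zero_iff.mp ht
  have h2 := h1.isAlgebraic ((B.evaluation ⊤ (x t) trivial).hom c)
  have h3 := h2.algebraMap (A := X.residueField t)
  convert h3 using 1
  have h4 := congrArg CommRingCat.Hom.hom
    (evaluation_comp_residueFieldMap x ⊤ ⊤ le_top t trivial trivial)
  have h5 := RingHom.congr_fun h4 c
  have h6 : x.appLE ⊤ ⊤ le_top = x.appTop := Scheme.Hom.appLE_eq_app _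
  rw [h6] at h5
  exact h5.symm

theorem trdegAt_affineLine_eq_zero [IsIntegral S] (b : 𝔸(ULift.{u} (Fin 1); S))
    (hb : (𝔸(ULift.{u} (Fin 1); S) ↘ S) b = genericPoint S) (hne : b ≠ genericPoint 𝔸(ULift.{u} (Fin 1); S)) :
    trdegAt (𝔸(ULift.{u} (Fin 1); S) ↘ S) b = 0 := by
  have h1 : trdegAt (𝔸(ULift.{u} (Fin 1); S) ↘ S) b < trdegAt (𝔸(ULift.{u} (Fin 1); S) ↘ S) (genericPoint 𝔸(ULift.{u} (Fin 1); S)) :=
    trdegAt_lt_of_specializes _ (genericPoint_specializes b) hne.symm
      ((affineSpace_genericPoint _ _).trans hb.symm)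
  rw [trdegAt_affineSpace_genericPoint 1 S] at h1
  obtain ⟨n, hn⟩ := exists_nat_trdegAt (𝔸(ULift.{u} (Fin 1); S) ↘ S) b
  rw [hn] at h1 ⊢
  norm_cast at h1 ⊢
  omega

/-- **Coordinates.** An affine finite type scheme over an affine integral `S` has finitely many
`S`-morphisms to the affine line such that a point of the generic fibre, none of whose coordinates
lie in given nonempty opens of the affine line, is algebraic over the generic point. -/
theorem exists_coords [IsAffine X] [IsAffine S] [IsIntegral S] (f : X ⟶ S)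
    [LocallyOfFiniteType f] :
    ∃ (N : ℕ) (x : Fin N → (X ⟶ 𝔸(ULift.{u} (Fin 1); S))), (∀ i, x i ≫ (𝔸(ULift.{u} (Fin 1); S) ↘ S) = f) ∧
      ∀ (D : Fin N → (𝔸(ULift.{u} (Fin 1); S)).Opens), (∀ i, (D i : Set 𝔸(ULift.{u} (Fin 1); S)).Nonempty) →
        ∀ t : X, f t = genericPoint S → (∀ i, x i t ∉ D i) → trdegAt f t = 0 := by
  have hft : (f.appLE ⊤ ⊤ le_top).hom.FiniteType :=
    f.finiteType_appLE (isAffineOpen_top S) (isAffineOpen_top X) le_top
  obtain ⟨s, hs⟩ := hft
  obtain ⟨N, ⟨e⟩⟩ : ∃ N, Nonempty (Fin N ≃ s) := ⟨s.card, ⟨s.equivFin.symm⟩⟩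
  let x : Fin N → (X ⟶ 𝔸(ULift.{u} (Fin 1); S)) := fun i => AffineSpace.homOfVector f fun _ => (e i : Γ(X, ⊤))
  have hx : ∀ i, x i ≫ (𝔸(ULift.{u} (Fin 1); S) ↘ S) = f := fun i => AffineSpace.homOfVector_over _ _
  refine ⟨N, x, hx, fun D hD t ht hxt => ?_⟩
  have hzero : ∀ i, trdegAt (𝔸(ULift.{u} (Fin 1); S) ↘ S) (x i t) = 0 := by
    intro i
    refine trdegAt_affineLine_eq_zero _ ?_ ?_
    · rw [← Scheme.Hom.comp_apply, hx, ht]
    · intro h
      exact hxt i (h ▸ ((genericPoint_spec _).mem_open_set_iff (D i).2).mpr (by simpa using hD i))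
  rw [trdegAt_eq_rtd]
  refine trd_eq_zero_of_generators (f.appLE ⊤ ⊤ le_top).hom (S.evaluation ⊤ (f t) trivial).hom
    (X.evaluation ⊤ t trivial).hom (f.residueFieldMap t).hom ?_
    (fracGen_evaluation (isAffineOpen_top X) _ _) (s : Set Γ(X, ⊤)) ?_ ?_
  · rw [← CommRingCat.hom_comp, ← CommRingCat.hom_comp]
    congr 1
    exact evaluation_comp_residueFieldMap f ⊤ ⊤ le_top t trivial trivial
  · intro T hT hsT
    let _ := (f.appLE ⊤ ⊤ le_top).hom.toAlgebra
    rw [_root_.eq_top_iff]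
    intro b _
    let T' : Subalgebra Γ(S, ⊤) Γ(X, ⊤) := { T with
      algebraMap_mem' := fun r => hT ⟨r, rfl⟩ }
    have h1 : Algebra.adjoin Γ(S, ⊤) (s : Set Γ(X, ⊤)) ≤ T' := Algebra.adjoin_le hsT
    have h2 : b ∈ Algebra.adjoin Γ(S, ⊤) (s : Set Γ(X, ⊤)) := by
      have : Algebra.adjoin Γ(S, ⊤) (s : Set Γ(X, ⊤)) = ⊤ := hs
      rw [this]; trivial
    exact h1 h2
  · intro b hb
    obtain ⟨i, hi⟩ := e.surjective ⟨b, hb⟩
    have h1 := isAlgebraic_evaluation (x i) (𝔸(ULift.{u} (Fin 1); S) ↘ S) f (hx i) t (hzero i)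
      (AffineSpace.coord S ⟨0⟩)
    have h2 : (x i).appTop.hom (AffineSpace.coord S ⟨0⟩) = b := by
      have := AffineSpace.homOfVector_appTop_coord f (fun _ => (e i : Γ(X, ⊤)))
        (⟨0⟩ : ULift.{u} (Fin 1))
      exact this.trans (congrArg Subtype.val hi)
    rw [h2] at h1
    exact h1

/-- **Deligne's coordinate trick.** For a proper `p : P ⟶ S` over an affine integral scheme there
are finitely many affine opens `V a` with `S`-morphisms to the affine line such that, whatever the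
nonempty opens `D a` of the affine line are, any closed subscheme of `P` contained in the complement
of the union of the preimages of the `D a` is finite over a nonempty open of `S`. -/
theorem exists_coordinate_cover [IsAffine S] [IsIntegral S] (p : X ⟶ S) [IsProper p] :
    ∃ (ι : Type) (_ : Finite ι) (V : ι → X.Opens)
      (x : ∀ a, (V a).toScheme ⟶ 𝔸(ULift.{u} (Fin 1); S)),
      (∀ a, IsAffineOpen (V a)) ∧
      (∀ a, x a ≫ (𝔸(ULift.{u} (Fin 1); S) ↘ S) = (V a).ι ≫ p) ∧
      ∀ (D : ι → (𝔸(ULift.{u} (Fin 1); S)).Opens),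
        (∀ a, (D a : Set 𝔸(ULift.{u} (Fin 1); S)).Nonempty) →
        ∀ (T : Scheme.{u}) (t : T ⟶ X), IsClosedImmersion t →
          (∀ (a : ι) (y : V a), x a y ∈ D a → (y : X) ∉ Set.range t) →
          ∃ U : S.Opens, genericPoint S ∈ U ∧ IsFinite ((t ≫ p) ∣_ U) := by
  have hX : CompactSpace X := HasAffineProperty.iff_of_isAffine (P := @QuasiCompact).mp
    (inferInstance : QuasiCompact p)
  choose W hW hxW _ using fun x : X => exists_isAffineOpen_mem_and_subset (X := X) (x := x)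
    (U := ⊤) trivial
  obtain ⟨F, hF⟩ := isCompact_univ.elim_finite_subcover (fun x : X => (W x : Set X))
    (fun x => (W x).2) (fun x _ => Set.mem_iUnion.mpr ⟨x, hxW x⟩)
  obtain ⟨m, ⟨e⟩⟩ : ∃ m, Nonempty (Fin m ≃ F) := ⟨F.card, ⟨F.equivFin.symm⟩⟩
  have hcov : ∀ y : X, ∃ j : Fin m, y ∈ W (e j) := by
    intro y
    obtain ⟨x, hx⟩ := Set.mem_iUnion.mp (hF (Set.mem_univ y))
    obtain ⟨hx, hy⟩ := Set.mem_iUnion.mp hx
    obtain ⟨j, hj⟩ := e.surjective ⟨x, hx⟩
    exact ⟨j, by rw [hj]; exact hy⟩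
  have hco : ∀ j : Fin m, _ := fun j =>
    have : IsAffine (W (e j)).toScheme := hW (e j)
    exists_coords ((W (e j)).ι ≫ p)
  choose N x hx hD using hco
  refine ⟨Σ j : Fin m, Fin (N j), inferInstance, fun a => W (e a.1), fun a => x a.1 a.2,
    fun a => hW _, fun a => hx a.1 a.2, fun D hDne T t ht hT => ?_⟩
  apply exists_isFinite_morphismRestrict
  intro τ hτ
  obtain ⟨j, hj⟩ := hcov (t τ)
  have h1 := hD j (fun i => D ⟨j, i⟩) (fun i => hDne ⟨j, i⟩) ⟨t τ, hj⟩ hτ
    (fun i hi => hT ⟨j, i⟩ ⟨t τ, hj⟩ hi ⟨τ, rfl⟩)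
  rw [trdegAt_comp, trdegAt_eq_zero_of_isPreimmersion (W (e j)).ι, add_zero] at h1
  rw [trdegAt_comp, trdegAt_eq_zero_of_isPreimmersion t, add_zero]
  exact h1.le

end Groth.Agent.Sga4h.GeoCoord
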