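import Groth.Agent.Sga4h.TotImm

/-!
# Locality on the target, closed supports, universal homeomorphisms
-/

set_option autoImplicit false
universe u
open CategoryTheory CategoryTheory.Limits AlgebraicGeometry Opposite DerivedCategory Pretriangulated

namespace Groth.Agent.Sga4h.TotCat

open EtCoh Groth.Agent.Sga4h.LPull Groth.Agent.Sga4h.UnivTri Groth.Agent.Sga4h.ExMap
open Groth.Agent.PerfB.DQAdj Groth.Agent.EtpbcB Groth.Agent.Dcoh.MapDer
open scoped ZeroObject

attribute [local instance] HasDerivedCategory.standard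

variable {X Y Z S : Scheme.{u}}

section imm

variable {x y z : Tot.{u}}

/-- Cancellation of a cartesian morphism over an immersion. -/
lemma IsU.of_comp_imm {a : x ⟶ y} {c : y ⟶ z} (h : IsU (a ≫ c)) (hc : IsC c)
    (hi : Imm c.base) : IsU a := by
  obtain ⟨M, u, hu, hU⟩ := exists_isU x a.base
  obtain ⟨d, hd, hd'⟩ := hU.exists_desc (a ≫ c) c.base (by rw [hu]; rfl)
  have hdU : IsU d := hU.of_comp (by rw [hd']; exact h)
  have hdC : IsC d := hi _ _ d hd hdU
  -- compare the two cartesian morphisms `c` and `d`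
  obtain ⟨e, he, he'⟩ := hc.exists_lift d (𝟙 y.X) (by rw [hd]; exact Category.id_comp _)
  have hE := hdC.isIso_of_fac hc e he he'
  have : a = u ≫ e := by
    apply hc.hom_ext
    · rw [comp_base, he, hu]
      exact (Category.comp_id _).symm
    · rw [Category.assoc, he', hd']
  rw [this]
  exact hU.comp hE.1

/-- Cancellation of a cartesian morphism over an immersion, `UU` version. -/
lemma UU.of_comp_imm {a : x ⟶ y} {c : y ⟶ z} {b : z.X ⟶ S} (h : UU b (a ≫ c)) (hc : IsC c)
    [IsImmersion c.base] : UU (c.base ≫ b) a := by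
  intro S' X' Y' g b' gY f' gX h1 h2 a' e w
  -- the base change of `z`
  have hZ : IsPullback (pullback.fst b g) (pullback.snd b g) b g := IsPullback.of_hasPullback _ _
  let k : Y' ⟶ pullback b g := hZ.lift (gY ≫ c.base) b' (by rw [Category.assoc]; exact h1.w)
  have hk : IsPullback gY k c.base (pullback.fst b g) := by
    refine IsPullback.of_bot ?_ (hZ.lift_fst _ _ _).symm hZ
    rw [hZ.lift_snd]
    exact h1
  have : IsImmersion k := MorphismProperty.of_isPullback (P := @IsImmersion) hk inferInstance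
  obtain ⟨c', e₂, w₂⟩ := exists_bc c (pullback.fst b g) k gY hk.w
  have hc' : IsC c' := IsC.of_comp (isC_car z _) (by rw [w₂]; exact (isC_car y gY).comp hc)
  refine IsU.of_comp_imm (c := c') ?_ hc' (by rw [e₂]; exact imm_of_isImmersion k)
  refine h g (pullback.snd b g) (pullback.fst b g) (f' ≫ k) gX hZ (h2.paste_vert hk)
    (a' ≫ c') ?_ ?_
  · rw [comp_base, e, e₂]
  · rw [Category.assoc, w₂, ← Category.assoc, w, Category.assoc]

end imm

section support

variable {x y z : Tot.{u}}

/-- The derived category of the empty scheme is zero. -/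
lemma isZero_D_of_isEmpty [IsEmpty X] (K : D X) : IsZero K := by
  have h : IsIso (0 : K ⟶ 0) :=
    isIso_of_cover_D (ι := PEmpty.{1}) (X := fun _ => X) (fun i => i.elim)
      (fun y => (IsEmpty.false y).elim) _ (fun i => i.elim)
  exact (isZero_zero _).of_iso (@asIso _ _ _ _ (0 : K ⟶ 0) h)

/-- `R t_* K` vanishes off the image of `t`. -/
lemma IsU.isZero_of_disjoint {a : x ⟶ y} (ha : IsU a) {W : Scheme.{u}} (w : W ⟶ y.X) [Etale w]
    (hdisj : Disjoint (Set.range a.base) (Set.range w)) : IsZero ((L w).obj y.K) := by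
  have hX : IsPullback (pullback.fst a.base w) (pullback.snd a.base w) a.base w :=
    IsPullback.of_hasPullback _ _
  have : IsEmpty ↥(pullback a.base w) := by
    refine ⟨fun p => ?_⟩
    refine Set.disjoint_left.1 hdisj ⟨pullback.fst a.base w p, rfl⟩
      ⟨pullback.snd a.base w p, ?_⟩
    rw [← Scheme.Hom.comp_apply, ← Scheme.Hom.comp_apply, pullback.condition]
  obtain ⟨a', e, h⟩ := exists_bc a w (pullback.snd a.base w) (pullback.fst a.base w) hX.w
  have hU : IsU a' := isU_etale ha (gY := w) (gX := pullback.fst a.base w) rfl rfl (isC_car _ _)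
    (isC_car _ _) (by rw [e]; exact hX) h
  have hz : IsZero ((L (pullback.fst a.base w)).obj x.K) := isZero_D_of_isEmpty _
  rw [IsZero.iff_id_eq_zero]
  apply (hU _).1
  exact hz.eq_of_tgt _ _

/-- A cartesian morphism over an immersion-like morphism is universal if the target vanishes
off the image. -/
theorem isU_of_isC {a : x ⟶ y} (hC : IsC a) (him : Imm a.base) {W : Scheme.{u}} (w : W ⟶ y.X)
    [Etale w] (hcov : ∀ p : y.X, p ∈ Set.range a.base ∨ p ∈ Set.range w)
    (hdisj : Disjoint (Set.range a.base) (Set.range w)) (h0 : IsZero ((L w).obj y.K)) :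
    IsU a := by
  obtain ⟨M, c, hc, hU⟩ := exists_isU x a.base
  obtain ⟨d, hd, hd'⟩ := hU.exists_desc a (𝟙 y.X) (by rw [hc]; exact Category.comp_id _)
  obtain ⟨φ, rfl⟩ := exists_v (x := ⟨y.X, M⟩) d hd
  have hcC : IsC c := him _ _ c hc hU
  have h1 : IsIso ((L a.base).map φ) := by
    obtain ⟨ε, rfl⟩ := exists_arr c hc
    have h2 : arr (x := x) (y := y) a.base ((L a.base).map φ ≫ ε) = arr a.base a.fib :=
      (comp_v (arr (x := x) (y := ⟨y.X, M⟩) a.base ε) φ).symm.trans hd'
    have h3 := arr_injective h2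
    have : IsIso ε := hcC
    have : IsIso ((L a.base).map φ ≫ ε) := by rw [h3]; exact hC
    exact IsIso.of_isIso_comp_right _ ε
  have h2 : IsIso ((L w).map φ) := by
    have hz : IsZero ((L w).obj M) := hU.isZero_of_disjoint (y := ⟨y.X, M⟩) w (by rw [hc]; exact hdisj)
    exact ⟨0, h0.eq_of_src _ _, hz.eq_of_src _ _⟩
  have : IsIso φ := by
    refine isIso_of_cover_D (ι := Bool) (X := fun i => cond i x.X W)
      (fun i => match i with | true => a.base | false => w) ?_ φ ?_
    · intro p
      obtain ⟨q, hq⟩ | ⟨q, hq⟩ := hcov p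
      · exact ⟨true, q, hq⟩
      · exact ⟨false, q, hq⟩
    · rintro (_ | _)
      · exact h2
      · exact h1
  rw [← hd']
  exact hU.comp ((isU_v (x := ⟨y.X, M⟩) φ).2 this)

/-- A cartesian morphism over a universal homeomorphism is universal. -/
theorem isU_of_isC_univHomeo {a : x ⟶ y} (hC : IsC a) [IsIntegralHom a.base]
    [UniversallyInjective a.base] [Surjective a.base] : IsU a := by
  have : IsEmpty ((⊥ : y.X.Opens) : Scheme.{u}) := ⟨fun p => p.2.elim⟩
  refine isU_of_isC hC (imm_of_univInj _) (⊥ : y.X.Opens).ι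
    (fun p => Or.inl (a.base.surjective p)) ?_ (isZero_D_of_isEmpty _)
  have h : Set.range ⇑(⊥ : y.X.Opens).ι = ∅ := Set.range_eq_empty _
  rw [h]
  exact Set.disjoint_empty _

theorem uu_of_isC_univHomeo {a : x ⟶ y} (hC : IsC a) [IsFinite a.base]
    [UniversallyInjective a.base] [Surjective a.base] (b : y.X ⟶ S) : UU b a :=
  uu_of_isFinite (isU_of_isC_univHomeo hC) b

/-- Closed supports: cartesian morphisms over closed immersions are universal and stable. -/
theorem uu_of_isC_closed {a : x ⟶ y} (hC : IsC a) [IsClosedImmersion a.base] {W : Scheme.{u}}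
    (w : W ⟶ y.X) [Etale w] (hcov : ∀ p : y.X, p ∈ Set.range a.base ∨ p ∈ Set.range w)
    (hdisj : Disjoint (Set.range a.base) (Set.range w)) (h0 : IsZero ((L w).obj y.K))
    (b : y.X ⟶ S) : UU b a :=
  uu_of_isFinite (isU_of_isC hC (imm_of_isClosedImmersion _) w hcov hdisj h0) b

end support

section local_target

variable {x y z : Tot.{u}}

/-- Universality is local on the target for the étale topology. -/
theorem isU_of_cover {a : x ⟶ y} {ι : Type*} {V : ι → Scheme.{u}} (j : ∀ i, V i ⟶ y.X)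
    [∀ i, Etale (j i)] (hj : ∀ p : y.X, ∃ i, ∃ q : V i, (j i) q = p)
    (h : ∀ i, ∀ (X' : Scheme.{u}) (gX : X' ⟶ x.X) (f' : X' ⟶ V i), IsPullback gX f' a.base (j i) →
      ∀ a' : (⟨X', (L gX).obj x.K⟩ : Tot) ⟶ ⟨V i, (L (j i)).obj y.K⟩, a'.base = f' →
        a' ≫ car y (j i) = car x gX ≫ a → IsU a') : IsU a := by
  obtain ⟨M, c, hc, hU⟩ := exists_isU x a.base
  obtain ⟨d, hd, hd'⟩ := hU.exists_desc a (𝟙 y.X) (by rw [hc]; exact Category.comp_id _)
  obtain ⟨φ, rfl⟩ := exists_v (x := ⟨y.X, M⟩) d hd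
  have : IsIso φ := by
    refine isIso_of_cover_D j hj φ fun i => ?_
    have hX : IsPullback (pullback.fst a.base (j i)) (pullback.snd a.base (j i)) a.base (j i) :=
      IsPullback.of_hasPullback _ _
    obtain ⟨c', e, w⟩ := exists_bc c (j i) (pullback.snd a.base (j i)) (pullback.fst a.base (j i))
      (by rw [hc]; exact hX.w)
    have hcU : IsU c' := isU_etale hU (gY := j i) (gX := pullback.fst a.base (j i)) rfl rfl
      (isC_car _ _) (isC_car _ _) (by rw [e, hc]; exact hX) w
    have hA := h i _ (pullback.fst a.base (j i)) (pullback.snd a.base (j i)) hX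
      (c' ≫ v (x := ⟨V i, (L (j i)).obj M⟩) ((L (j i)).map φ))
      ((Category.comp_id _).trans e) (by
        refine Eq.trans ?_ (congrArg (fun t => car x (pullback.fst a.base (j i)) ≫ t) hd')
        rw [Category.assoc]
        refine (congrArg (fun t => c' ≫ t) (car_v (j i) φ).symm).trans ?_
        rw [← Category.assoc, ← Category.assoc]
        exact congrArg (fun t => t ≫ v (x := ⟨y.X, M⟩) φ) w)
    exact (isU_v (x := ⟨V i, (L (j i)).obj M⟩) _).1 (hcU.of_comp hA)
  rw [← hd']
  exact hU.comp ((isU_v (x := ⟨y.X, M⟩) φ).2 this)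

/-- `UU` is local on the target for the étale topology. -/
theorem uu_of_cover {b : y.X ⟶ S} {a : x ⟶ y} {ι : Type*} {V : ι → Scheme.{u}}
    (j : ∀ i, V i ⟶ y.X) [∀ i, Etale (j i)] (hj : ∀ p : y.X, ∃ i, ∃ q : V i, (j i) q = p)
    (h : ∀ i, ∃ (X' : Scheme.{u}) (gX : X' ⟶ x.X) (f' : X' ⟶ V i) (_ : IsPullback gX f' a.base (j i))
      (a' : (⟨X', (L gX).obj x.K⟩ : Tot) ⟶ ⟨V i, (L (j i)).obj y.K⟩), a'.base = f' ∧
        a' ≫ car y (j i) = car x gX ≫ a ∧ UU (y := ⟨V i, (L (j i)).obj y.K⟩) (j i ≫ b) a') :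
    UU b a := by
  intro S' X' Y' g b' gY f' gX h1 h2 a' e w
  -- the induced covering of `Y'`
  have hP : ∀ i, IsPullback (pullback.fst gY (j i)) (pullback.snd gY (j i)) gY (j i) :=
    fun i => IsPullback.of_hasPullback _ _
  refine isU_of_cover (y := ⟨Y', (L gY).obj y.K⟩) (fun i => pullback.fst gY (j i)) ?_ ?_
  · intro p
    obtain ⟨i, q, hq⟩ := hj (gY p)
    obtain ⟨z, hz, -⟩ := Scheme.Pullback.exists_preimage_pullback (f := gY) (g := j i) p q hq.symm
    exact ⟨i, z, hz⟩
  · intro i T gT f₂ hT a₂ e₂ w₂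
    subst e
    obtain ⟨Xi, gXi, fi, hXi, ai, ei, wi, hi⟩ := h i
    -- `T → Xi`
    have hw : (gT ≫ gX) ≫ a.base = (f₂ ≫ pullback.snd gY (j i)) ≫ j i := by
      rw [Category.assoc, h2.w, ← Category.assoc, hT.w, Category.assoc, (hP i).w, Category.assoc]
    let k : T ⟶ Xi := hXi.lift (gT ≫ gX) (f₂ ≫ pullback.snd gY (j i)) hw
    have hk1 : k ≫ gXi = gT ≫ gX := hXi.lift_fst _ _ _
    have hk2 : k ≫ fi = f₂ ≫ pullback.snd gY (j i) := hXi.lift_snd _ _ _
    -- cartesian morphisms
    obtain ⟨γ', hγ', wγ'⟩ := (isC_car x gXi).exists_lift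
      (car ⟨X', (L gX).obj x.K⟩ gT ≫ car x gX) k (by rw [comp_base, car_base, car_base, car_base, hk1])
    obtain ⟨γ, hγ, wγ⟩ := (isC_car y (j i)).exists_lift
      (car ⟨Y', (L gY).obj y.K⟩ (pullback.fst gY (j i)) ≫ car y gY) (pullback.snd gY (j i))
      (by rw [comp_base, car_base, car_base, car_base]; exact (hP i).w.symm)
    have hγC : IsC γ := IsC.of_comp (isC_car y (j i))
      (by rw [wγ]; exact (isC_car _ _).comp (isC_car _ _))
    have hγC' : IsC γ' := IsC.of_comp (isC_car x gXi)
      (by rw [wγ']; exact (isC_car _ _).comp (isC_car _ _))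
    refine hi.isU (g := g) (b' := pullback.fst gY (j i) ≫ b') (gY := pullback.snd gY (j i))
      (gX := k) ((hP i).flip.paste_vert h1) hγ' hγ hγC' hγC ?_ ?_
    · rw [e₂, ei]
      refine IsPullback.of_right ?_ hk2 hXi
      rw [hk1, ← (hP i).w]
      exact hT.paste_horiz h2
    · apply (isC_car y (j i)).hom_ext
      · rw [comp_base, comp_base, hγ, hγ', e₂, ei]
        exact hk2.symm
      · rw [Category.assoc, wγ, ← Category.assoc, w₂, Category.assoc, w, Category.assoc, wi,
          ← Category.assoc, ← Category.assoc, wγ']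

end local_target

end Groth.Agent.Sga4h.TotCat
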