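import Groth.Agent.Sga4h.GeoCoord
import Groth.Agent.Sga4B.NoethCrit

/-!
# Coordinates over irreducible (possibly non reduced) bases

`GeoCoord.exists_coordinate_cover` and `GDimLE.of_affineSpace` for irreducible `S`.
-/

set_option autoImplicit false

universe u

open CategoryTheory CategoryTheory.Limits AlgebraicGeometry

namespace Groth.Agent.Sga4h.GenULAGeo

open Groth.Agent.CycB Groth.Agent.CycB.RelDim Groth.Agent.CycB.TrdegAlg
open Groth.Agent.CycA.GenProd GeoDim GeoFinite GeoCoord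

variable {X Y Z S : Scheme.{u}}

/-- an integral closed subscheme supported on everything -/
theorem exists_red (S : Scheme.{u}) [IrreducibleSpace S] :
    ∃ (Z : Scheme.{u}) (i : Z ⟶ S), IsIntegral Z ∧ IsClosedImmersion i ∧ Surjective i := by
  obtain ⟨Z, i, hZ, hi, h⟩ := Groth.Agent.Sga4B.NoethCrit.exists_integral_closed (genericPoint S)
  refine ⟨Z, i, hZ, hi, ⟨?_⟩⟩
  obtain ⟨z, -, hz⟩ := h ⊤ ⟨genericPoint Z, trivial⟩
  rw [← Set.range_eq_univ, Set.eq_univ_iff_forall]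
  intro s
  have h1 : IsClosed (Set.range i) := i.isClosedEmbedding.isClosed_range
  have h2 : genericPoint S ⤳ s := genericPoint_specializes s
  exact h2.mem_closed h1 ⟨z, hz⟩

theorem map_genericPoint_of_surjective [IrreducibleSpace X] [IrreducibleSpace Y] (f : X ⟶ Y)
    [Surjective f] : f (genericPoint X) = genericPoint Y := by
  have h1 := (genericPoint_spec X).image f.continuous
  have h2 : Set.range f = Set.univ := f.surjective.range_eq
  rw [Set.image_univ, h2, closure_univ] at h1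
  exact h1.eq (genericPoint_spec Y)

theorem trdegAt_affineSpace_genericPoint' (m : ℕ) (S : Scheme.{u}) [IrreducibleSpace S] :
    trdegAt (𝔸(ULift.{u} (Fin m); S) ↘ S) (genericPoint 𝔸(ULift.{u} (Fin m); S)) =
      (m : Cardinal.{u}) := by
  obtain ⟨Z, i, hZ, hi, hs⟩ := exists_red S
  have hpb := AffineSpace.isPullback_map (n := ULift.{u} (Fin m)) i
  have h1 : IsClosedImmersion (AffineSpace.map (ULift.{u} (Fin m)) i) :=
    MorphismProperty.of_isPullback hpb.flip hi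
  have h2 : Surjective (AffineSpace.map (ULift.{u} (Fin m)) i) :=
    MorphismProperty.of_isPullback hpb.flip hs
  rw [← map_genericPoint_of_surjective (AffineSpace.map (ULift.{u} (Fin m)) i),
    ← trdegAt_square (AffineSpace.map (ULift.{u} (Fin m)) i) (𝔸(ULift.{u} (Fin m); Z) ↘ Z)
      (𝔸(ULift.{u} (Fin m); S) ↘ S) i (AffineSpace.map_over i) _
      (trdegAt_eq_zero_of_isPreimmersion _ _) (trdegAt_eq_zero_of_isPreimmersion _ _)]
  exact trdegAt_affineSpace_genericPoint m Z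

/-- An `S`-morphism to the affine line over `S`: the generic relative dimension drops by one. -/
theorem gDimLE_of_affineSpace [IrreducibleSpace S] {m n : ℕ}
    (g : X ⟶ 𝔸(ULift.{u} (Fin m); S)) (h : GDimLE (g ≫ (𝔸(ULift.{u} (Fin m); S) ↘ S)) (n + m)) :
    GDimLE g n :=
  GDimLE.of_comp g _ h (affineSpace_genericPoint _ _)
    (trdegAt_affineSpace_genericPoint' m S).symm.le

theorem trdegAt_affineLine_eq_zero' [IrreducibleSpace S] (b : 𝔸(ULift.{u} (Fin 1); S))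
    (hb : (𝔸(ULift.{u} (Fin 1); S) ↘ S) b = genericPoint S)
    (hne : b ≠ genericPoint 𝔸(ULift.{u} (Fin 1); S)) :
    trdegAt (𝔸(ULift.{u} (Fin 1); S) ↘ S) b = 0 := by
  have h1 : trdegAt (𝔸(ULift.{u} (Fin 1); S) ↘ S) b <
      trdegAt (𝔸(ULift.{u} (Fin 1); S) ↘ S) (genericPoint 𝔸(ULift.{u} (Fin 1); S)) :=
    trdegAt_lt_of_specializes _ (genericPoint_specializes b) hne.symm
      ((affineSpace_genericPoint _ _).trans hb.symm)
  rw [trdegAt_affineSpace_genericPoint' 1 S] at h1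
  obtain ⟨n, hn⟩ := exists_nat_trdegAt (𝔸(ULift.{u} (Fin 1); S) ↘ S) b
  rw [hn] at h1 ⊢
  norm_cast at h1 ⊢
  omega

/-- `GeoCoord.exists_coords` over an irreducible base. -/
theorem exists_coords' [IsAffine X] [IsAffine S] [IrreducibleSpace S] (f : X ⟶ S)
    [LocallyOfFiniteType f] :
    ∃ (N : ℕ) (x : Fin N → (X ⟶ 𝔸(ULift.{u} (Fin 1); S))), (∀ i, x i ≫ (𝔸(ULift.{u} (Fin 1); S) ↘ S) = f) ∧
      ∀ (D : Fin N → (𝔸(ULift.{u} (Fin 1); S)).Opens), (∀ i, (D i : Set 𝔸(ULift.{u} (Fin 1); S)).Nonempty) →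
        ∀ t : X, f t = genericPoint S → (∀ i, x i t ∉ D i) → trdegAt f t = 0 := by
  have hft : (f.appLE ⊤ ⊤ le_top).hom.FiniteType :=
    f.finiteType_appLE (isAffineOpen_top S) (isAffineOpen_top X) le_top
  obtain ⟨s, hs⟩ := hft
  obtain ⟨N, ⟨e⟩⟩ : ∃ N, Nonempty (Fin N ≃ s) := ⟨s.card, ⟨s.equivFin.symm⟩⟩
  let x : Fin N → (X ⟶ 𝔸(ULift.{u} (Fin 1); S)) := fun i => AffineSpace.homOfVector f fun _ => (e i : Γ(X, ⊤))
  have hx : ∀ i, x i ≫ (𝔸(ULift.{u} (Fin 1); S) ↘ S) = f := fun i => AffineSpace.homOfVector_over _ _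
  refine ⟨N, x, hx, fun D hD t ht hxt => ?_⟩
  have hzero : ∀ i, trdegAt (𝔸(ULift.{u} (Fin 1); S) ↘ S) (x i t) = 0 := by
    intro i
    refine trdegAt_affineLine_eq_zero' _ ?_ ?_
    · rw [← Scheme.Hom.comp_apply, hx, ht]
    · intro h
      exact hxt i (h ▸ ((genericPoint_spec _).mem_open_set_iff (D i).2).mpr (by simpa using hD i))
  rw [trdegAt_eq_rtd]
  refine trd_eq_zero_of_generators (f.appLE ⊤ ⊤ le_top).hom (S.evaluation ⊤ (f t) trivial).hom
    (X.evaluation ⊤ t trivial).hom (f.residueFieldMap t).hom ?_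
    (fracGen_evaluation (isAffineOpen_top X) _ _) (s : Set Γ(X, ⊤)) ?_ ?_
  · rw [← CommRingCat.hom_comp, ← CommRingCat.hom_comp]
    congr 1
    exact evaluation_comp_residueFieldMap f ⊤ ⊤ le_top t trivial trivial
  · intro T hT hsT
    let _ := (f.appLE ⊤ ⊤ le_top).hom.toAlgebra
    rw [_root_.eq_top_iff]
    intro b _
    let T' : Subalgebra Γ(S, ⊤) Γ(X, ⊤) := { T with
      algebraMap_mem' := fun r => hT ⟨r, rfl⟩ }
    have h1 : Algebra.adjoin Γ(S, ⊤) (s : Set Γ(X, ⊤)) ≤ T' := Algebra.adjoin_le hsT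
    have h2 : b ∈ Algebra.adjoin Γ(S, ⊤) (s : Set Γ(X, ⊤)) := by
      have : Algebra.adjoin Γ(S, ⊤) (s : Set Γ(X, ⊤)) = ⊤ := hs
      rw [this]; trivial
    exact h1 h2
  · intro b hb
    obtain ⟨i, hi⟩ := e.surjective ⟨b, hb⟩
    have h1 := isAlgebraic_evaluation (x i) (𝔸(ULift.{u} (Fin 1); S) ↘ S) f (hx i) t (hzero i)
      (AffineSpace.coord S ⟨0⟩)
    have h2 : (x i).appTop.hom (AffineSpace.coord S ⟨0⟩) = b := by
      have := AffineSpace.homOfVector_appTop_coord f (fun _ => (e i : Γ(X, ⊤)))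
        (⟨0⟩ : ULift.{u} (Fin 1))
      exact this.trans (congrArg Subtype.val hi)
    rw [h2] at h1
    exact h1

/-- **Deligne's coordinate trick** over an irreducible affine base. -/
theorem exists_coordinate_cover' [IsAffine S] [IrreducibleSpace S] (p : X ⟶ S) [IsProper p] :
    ∃ (ι : Type) (_ : Finite ι) (V : ι → X.Opens)
      (x : ∀ a, (V a).toScheme ⟶ 𝔸(ULift.{u} (Fin 1); S)),
      (∀ a, IsAffineOpen (V a)) ∧
      (∀ a, x a ≫ (𝔸(ULift.{u} (Fin 1); S) ↘ S) = (V a).ι ≫ p) ∧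
      ∀ (D : ι → (𝔸(ULift.{u} (Fin 1); S)).Opens),
        (∀ a, (D a : Set 𝔸(ULift.{u} (Fin 1); S)).Nonempty) →
        ∀ (T : Scheme.{u}) (t : T ⟶ X), IsClosedImmersion t →
          (∀ (a : ι) (y : V a), x a y ∈ D a → (y : X) ∉ Set.range t) →
          ∃ U : S.Opens, genericPoint S ∈ U ∧ IsFinite ((t ≫ p) ∣_ U) := by
  have hX : CompactSpace X := HasAffineProperty.iff_of_isAffine (P := @QuasiCompact).mp
    (inferInstance : QuasiCompact p)
  choose W hW hxW _ using fun x : X => exists_isAffineOpen_mem_and_subset (X := X) (x := x)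
    (U := ⊤) trivial
  obtain ⟨F, hF⟩ := isCompact_univ.elim_finite_subcover (fun x : X => (W x : Set X))
    (fun x => (W x).2) (fun x _ => Set.mem_iUnion.mpr ⟨x, hxW x⟩)
  obtain ⟨m, ⟨e⟩⟩ : ∃ m, Nonempty (Fin m ≃ F) := ⟨F.card, ⟨F.equivFin.symm⟩⟩
  have hcov : ∀ y : X, ∃ j : Fin m, y ∈ W (e j) := by
    intro y
    obtain ⟨x, hx⟩ := Set.mem_iUnion.mp (hF (Set.mem_univ y))
    obtain ⟨hx, hy⟩ := Set.mem_iUnion.mp hx
    obtain ⟨j, hj⟩ := e.surjective ⟨x, hx⟩
    exact ⟨j, by rw [hj]; exact hy⟩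
  have hco : ∀ j : Fin m, _ := fun j =>
    have : IsAffine (W (e j)).toScheme := hW (e j)
    exists_coords' ((W (e j)).ι ≫ p)
  choose N x hx hD using hco
  refine ⟨Σ j : Fin m, Fin (N j), inferInstance, fun a => W (e a.1), fun a => x a.1 a.2,
    fun a => hW _, fun a => hx a.1 a.2, fun D hDne T t ht hT => ?_⟩
  apply exists_isFinite_morphismRestrict
  intro τ hτ
  obtain ⟨j, hj⟩ := hcov (t τ)
  have h1 := hD j (fun i => D ⟨j, i⟩) (fun i => hDne ⟨j, i⟩) ⟨t τ, hj⟩ hτ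
    (fun i hi => hT ⟨j, i⟩ ⟨t τ, hj⟩ hi ⟨τ, rfl⟩)
  rw [trdegAt_comp, trdegAt_eq_zero_of_isPreimmersion (W (e j)).ι, add_zero] at h1
  rw [trdegAt_comp, trdegAt_eq_zero_of_isPreimmersion t, add_zero]
  exact h1.le

end Groth.Agent.Sga4h.GenULAGeo
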