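import Mathlib.AlgebraicGeometry.Morphisms.FiniteType
import Mathlib.AlgebraicGeometry.ResidueField
import Mathlib.AlgebraicGeometry.FunctionField
import Mathlib.RingTheory.AlgebraicIndependent.TranscendenceBasis

/-!
# Generic relative dimension via transcendence degrees
-/

set_option autoImplicit false

universe u

open CategoryTheory CategoryTheory.Limits AlgebraicGeometry

namespace Groth.Agent.Sga4h.GeoDim

/-- Transcendence degree of the residue field extension of `f` at `x`. -/
noncomputable def trdegAt {X S : Scheme.{u}} (f : X ⟶ S) (x : X) : Cardinal.{u} :=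
  letI := (f.residueFieldMap x).hom.toAlgebra
  Algebra.trdeg (S.residueField (f x)) (X.residueField x)

/-- The generic fibre of `f` has dimension at most `n` : all residue field extensions over the
generic point have transcendence degree at most `n`. -/
def GDimLE {X S : Scheme.{u}} [IrreducibleSpace S] (f : X ⟶ S) (n : ℕ) : Prop :=
  ∀ x : X, f x = genericPoint S → trdegAt f x ≤ (n : Cardinal.{u})

theorem GDimLE.mono {X S : Scheme.{u}} [IrreducibleSpace S] {f : X ⟶ S} {m n : ℕ}
    (h : GDimLE f m) (hmn : m ≤ n) : GDimLE f n :=
  fun x hx => (h x hx).trans (by exact_mod_cast hmn)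

end Groth.Agent.Sga4h.GeoDim
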