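import Groth.Agent.Sga4h.GeoDim
import Groth.Agent.CycB.RelDim2
import Mathlib.AlgebraicGeometry.Morphisms.QuasiFinite
import Mathlib.AlgebraicGeometry.Noetherian

/-!
# Calculus of the generic relative dimension
-/

set_option autoImplicit false

universe u

open CategoryTheory CategoryTheory.Limits AlgebraicGeometry

namespace Groth.Agent.Sga4h.GeoDim

open Groth.Agent.CycB Groth.Agent.CycB.RelDim Groth.Agent.CycB.TrdegAlg Algebra

variable {X Y Z S : Scheme.{u}}

theorem trdegAt_eq_rtd (f : X ⟶ Y) (x : X) : trdegAt f x = rtd f x := rfl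

theorem trdegAt_comp (f : X ⟶ Y) (g : Y ⟶ Z) (x : X) :
    trdegAt (f ≫ g) x = trdegAt g (f x) + trdegAt f x := rtd_comp f g x

theorem trdegAt_lt_aleph0 (f : X ⟶ Y) [LocallyOfFiniteType f] (x : X) :
    trdegAt f x < Cardinal.aleph0 := rtd_lt_aleph0 f x

theorem exists_nat_trdegAt (f : X ⟶ Y) [LocallyOfFiniteType f] (x : X) :
    ∃ n : ℕ, trdegAt f x = (n : Cardinal.{u}) :=
  Cardinal.lt_aleph0.mp (trdegAt_lt_aleph0 f x)

theorem trdegAt_lt_of_specializes (f : X ⟶ Y) [LocallyOfFiniteType f] {x x' : X} (h : x' ⤳ x)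
    (hne : x' ≠ x) (hf : f x' = f x) : trdegAt f x < trdegAt f x' :=
  rtd_lt_of_specializes f h hne hf

theorem trdegAt_eq_zero_of_isPreimmersion (f : X ⟶ Y) [IsPreimmersion f] (x : X) :
    trdegAt f x = 0 := rtd_eq_zero_of_isPreimmersion f x

theorem quasiFinite_residueFieldMap (f : X ⟶ Y) [LocallyQuasiFinite f] (x : X) :
    IsFinite (Spec.map (f.residueFieldMap x)) := by
  have h1 : LocallyQuasiFinite (X.fromSpecResidueField x ≫ f) := inferInstance
  have h2 : Spec.map (f.residueFieldMap x) ≫ Y.fromSpecResidueField (f x) =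
      X.fromSpecResidueField x ≫ f := Scheme.Hom.SpecMap_residueFieldMap_fromSpecResidueField f x
  rw [← h2] at h1
  have h3 : LocallyQuasiFinite (Spec.map (f.residueFieldMap x)) :=
    LocallyQuasiFinite.of_comp _ (Y.fromSpecResidueField (f x))
  exact IsFinite.of_locallyQuasiFinite _

theorem trdegAt_eq_zero_of_locallyQuasiFinite (f : X ⟶ Y) [LocallyQuasiFinite f] (x : X) :
    trdegAt f x = 0 := by
  have h := quasiFinite_residueFieldMap f x
  rw [IsFinite.SpecMap_iff] at h
  let _ := (f.residueFieldMap x).hom.toAlgebra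
  have h' : Module.Finite (Y.residueField (f x)) (X.residueField x) := h
  have : Algebra.IsAlgebraic (Y.residueField (f x)) (X.residueField x) :=
    Algebra.IsAlgebraic.of_finite _ _
  exact trdeg_eq_zero

/-- In a commutative square whose horizontal maps do not change the transcendence degrees. -/
theorem trdegAt_square {X' S' : Scheme.{u}} (g : X' ⟶ X) (f' : X' ⟶ S') (f : X ⟶ S) (s : S' ⟶ S)
    (h : g ≫ f = f' ≫ s) (x : X') (hg : trdegAt g x = 0) (hs : trdegAt s (f' x) = 0) :
    trdegAt f' x = trdegAt f (g x) := by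
  have h1 := trdegAt_comp g f x
  have h2 := trdegAt_comp f' s x
  rw [hg, add_zero] at h1
  rw [hs, zero_add] at h2
  rw [← h1, ← h2, h]

theorem GDimLE.precomp [IrreducibleSpace S] {f : X ⟶ S} {n : ℕ} (h : GDimLE f n) (g : Z ⟶ X)
    (hg : ∀ z, trdegAt g z = 0) : GDimLE (g ≫ f) n := by
  intro z hz
  rw [trdegAt_comp, hg, add_zero]
  exact h _ hz

theorem GDimLE.precomp_of_locallyQuasiFinite [IrreducibleSpace S] {f : X ⟶ S} {n : ℕ}
    (h : GDimLE f n) (g : Z ⟶ X) [LocallyQuasiFinite g] : GDimLE (g ≫ f) n :=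
  h.precomp g (trdegAt_eq_zero_of_locallyQuasiFinite g)

/-- Change of the base along a dominant (pre)immersion, e.g. shrinking the base. -/
theorem GDimLE.square [IrreducibleSpace S] {X' S' : Scheme.{u}} [IrreducibleSpace S'] {f : X ⟶ S}
    {n : ℕ} (h : GDimLE f n) (g : X' ⟶ X) (f' : X' ⟶ S') (s : S' ⟶ S)
    (hsq : g ≫ f = f' ≫ s) (hg : ∀ x, trdegAt g x = 0) (hs : ∀ x, trdegAt s x = 0)
    (hgen : s (genericPoint S') = genericPoint S) : GDimLE f' n := by
  intro x hx
  rw [trdegAt_square g f' f s hsq x (hg x) (hs _)]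
  apply h
  rw [← hgen, ← hx, ← Scheme.Hom.comp_apply, ← Scheme.Hom.comp_apply, hsq]

/-- Composition: generic dimensions add up (over all points of the base lying over the generic
point). -/
theorem GDimLE.comp [IrreducibleSpace S] {g : Y ⟶ S} {n : ℕ} (hg : GDimLE g n) (f : X ⟶ Y) {m : ℕ}
    (hf : ∀ x, g (f x) = genericPoint S → trdegAt f x ≤ (m : Cardinal.{u})) :
    GDimLE (f ≫ g) (n + m) := by
  intro x hx
  rw [trdegAt_comp]
  push_cast
  exact add_le_add (hg _ hx) (hf _ hx)

/-- If `S`-scheme `B` (irreducible, dominant over `S`) has generic relative dimension at least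
`m`, the generic relative dimension over `B` of an `S`-morphism `g : X ⟶ B` drops by `m`. -/
theorem GDimLE.of_comp [IrreducibleSpace S] {B : Scheme.{u}} [IrreducibleSpace B] (g : X ⟶ B)
    (p : B ⟶ S) {n m : ℕ} (h : GDimLE (g ≫ p) (n + m)) (hp : p (genericPoint B) = genericPoint S)
    (hm : (m : Cardinal.{u}) ≤ trdegAt p (genericPoint B)) : GDimLE g n := by
  intro x hx
  have h1 := h x (by rw [Scheme.Hom.comp_apply, hx, hp])
  rw [trdegAt_comp, hx] at h1
  have h2 : (m : Cardinal.{u}) + trdegAt g x ≤ (n + m : ℕ) := (add_le_add hm le_rfl).trans h1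
  have h3 : trdegAt g x < Cardinal.aleph0 :=
    ((self_le_add_left _ _).trans h2).trans_lt (Cardinal.natCast_lt_aleph0)
  obtain ⟨k, hk⟩ := Cardinal.lt_aleph0.mp h3
  rw [hk] at h2 ⊢
  norm_cast at h2 ⊢
  omega

/-- A dense open of a locally noetherian scheme contains a generalization of every point. -/
theorem exists_mem_specializes_of_dense [IsLocallyNoetherian X] (U : X.Opens)
    (hU : Dense (U : Set X)) (x : X) : ∃ ξ ∈ U, ξ ⤳ x := by
  obtain ⟨W, hW, hxW, -⟩ := exists_isAffineOpen_mem_and_subset (X := X) (x := x) (U := ⊤) trivial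
  have hWn : IsLocallyNoetherian W.toScheme := inferInstance
  have : CompactSpace W.toScheme := isCompact_iff_compactSpace.mp hW.isCompact
  have : IsNoetherian W.toScheme := {}
  have hNS : TopologicalSpace.NoetherianSpace W.toScheme := inferInstance
  let xW : W.toScheme := ⟨x, hxW⟩
  have hT : irreducibleComponent xW ∈ irreducibleComponents W.toScheme :=
    irreducibleComponent_mem_irreducibleComponents xW
  obtain ⟨o, ho, hne, hoT⟩ :=
    TopologicalSpace.NoetherianSpace.exists_isOpen_nonempty_subset_irreducibleComponent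
      (α := W.toScheme) _ hT
  obtain ⟨ξ, hξ⟩ := QuasiSober.sober hT.1 (isClosed_of_mem_irreducibleComponents _ hT)
  have hoX : IsOpen (W.ι '' o) := W.ι.isOpenEmbedding.isOpenMap _ ho
  obtain ⟨r, ⟨r', hr'o, rfl⟩, hrU⟩ :=
    (hU.inter_open_nonempty _ hoX (hne.image _))
  have h1 : ξ ⤳ r' := hξ.specializes (hoT hr'o)
  have h2 : ξ ⤳ xW := hξ.specializes mem_irreducibleComponent
  exact ⟨W.ι ξ, (h1.map W.ι.continuous).mem_open U.2 hrU, h2.map W.ι.continuous⟩

/-- Removing a dense open makes the generic relative dimension drop by one. -/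
theorem GDimLE.of_disjoint_dense [IrreducibleSpace S] {f : X ⟶ S} [LocallyOfFiniteType f] {n : ℕ}
    (h : GDimLE f (n + 1)) [IsLocallyNoetherian X] (g : Z ⟶ X) (hg : ∀ z, trdegAt g z = 0)
    (U : X.Opens) (hU : Dense (U : Set X)) (hgU : ∀ z, g z ∉ U) : GDimLE (g ≫ f) n := by
  intro z hz
  rw [trdegAt_comp, hg, add_zero]
  obtain ⟨ξ, hξU, hξ⟩ := exists_mem_specializes_of_dense U hU (g z)
  have hz' : f (g z) = genericPoint S := by rw [← Scheme.Hom.comp_apply, hz]
  have hne : ξ ≠ g z := fun h => hgU z (h ▸ hξU)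
  have hfξ : f ξ = genericPoint S := by
    have h1 : f ξ ⤳ genericPoint S := hz' ▸ hξ.map f.continuous
    exact (h1.antisymm ((genericPoint_spec S).specializes trivial)).eq
  have h2 := trdegAt_lt_of_specializes f hξ hne (hfξ.trans hz'.symm)
  have h3 := h ξ hfξ
  obtain ⟨a, ha⟩ := exists_nat_trdegAt f (g z)
  obtain ⟨b, hb⟩ := exists_nat_trdegAt f ξ
  rw [ha] at h2 ⊢
  rw [hb] at h2 h3
  norm_cast at h2 h3 ⊢
  omega

/-- With generic relative dimension zero, a dense open contains the whole generic fibre. -/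
theorem GDimLE.mem_of_dense [IrreducibleSpace S] {f : X ⟶ S} [LocallyOfFiniteType f]
    (h : GDimLE f 0) [IsLocallyNoetherian X] (U : X.Opens) (hU : Dense (U : Set X)) (x : X)
    (hx : f x = genericPoint S) : x ∈ U := by
  by_contra hxU
  obtain ⟨ξ, hξU, hξ⟩ := exists_mem_specializes_of_dense U hU x
  have hne : ξ ≠ x := fun h => hxU (h ▸ hξU)
  have hfξ : f ξ = genericPoint S := by
    have h1 : f ξ ⤳ genericPoint S := hx ▸ hξ.map f.continuous
    exact (h1.antisymm ((genericPoint_spec S).specializes trivial)).eq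
  have h2 := trdegAt_lt_of_specializes f hξ hne (hfξ.trans hx.symm)
  have h3 := h ξ hfξ
  have := h2.trans_le h3
  simp at this

end Groth.Agent.Sga4h.GeoDim
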