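import Mathlib.RingTheory.Kaehler.JacobiZariski
import Mathlib.RingTheory.Kaehler.Polynomial
import Mathlib.RingTheory.Etale.Kaehler
import Mathlib.RingTheory.Smooth.StandardSmoothCotangent
import Mathlib.RingTheory.RingHom.Etale
import Mathlib.RingTheory.Idempotents
import Mathlib.RingTheory.Ideal.IdempotentFG
import Mathlib.RingTheory.TensorProduct.Quotient
import Mathlib.LinearAlgebra.Dimension.Free
import Mathlib.RingTheory.FinitePresentation
import Mathlib.RingTheory.Polynomial.Quotient
import Mathlib.RingTheory.RingHom.Flat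
import Mathlib.RingTheory.Smooth.Flat

/-!
# Etale coordinates on smooth relative curves along an etale divisor (algebra)
-/

set_option autoImplicit false

namespace Groth.Agent.Sga4h.GeoLocalAlg

open KaehlerDifferential Polynomial TensorProduct Algebra

universe u v w

/-- If `H₁(L_{B/R}) = 0` and `B ⊗ Ω_{A/R} → Ω_{B/R}` is bijective then `A → B` is formally etale. -/
theorem formallyEtale_of_mapBaseChange_bijective (R : Type u) (A : Type v) (B : Type w)
    [CommRing R] [CommRing A] [CommRing B] [Algebra R A] [Algebra A B] [Algebra R B]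
    [IsScalarTower R A B] [Subsingleton (H1Cotangent R B)]
    (h : Function.Bijective (mapBaseChange R A B)) : Algebra.FormallyEtale A B where
  subsingleton_kaehlerDifferential := by
    refine subsingleton_of_forall_eq 0 fun y => ?_
    obtain ⟨z, rfl⟩ := KaehlerDifferential.map_surjective R A B y
    obtain ⟨w, rfl⟩ := h.2 z
    exact (KaehlerDifferential.exact_mapBaseChange_map R A B).apply_apply_eq_zero w
  subsingleton_h1Cotangent := by
    refine subsingleton_of_forall_eq 0 fun y => ?_
    have h1 : H1Cotangent.δ R A B y = 0 :=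
      h.1 (((H1Cotangent.exact_δ_mapBaseChange R A B).apply_apply_eq_zero y).trans (map_zero _).symm)
    obtain ⟨z, rfl⟩ := (H1Cotangent.exact_map_δ R A B y).1 h1
    rw [Subsingleton.elim z 0, map_zero]

/-- If `D t` is a basis of `Ω_{B/R}` (and `H₁(L_{B/R}) = 0`), then `R[X] → B`, `X ↦ t` is
formally etale. -/
theorem formallyEtale_polynomial (R : Type u) (B : Type v) [CommRing R] [CommRing B] [Algebra R B]
    [Algebra R[X] B] [IsScalarTower R R[X] B] [Subsingleton (H1Cotangent R B)]
    (h : Function.Bijective fun b : B => b • D R B (algebraMap R[X] B X)) :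
    Algebra.FormallyEtale R[X] B := by
  apply formallyEtale_of_mapBaseChange_bijective R R[X] B
  let e : B ⊗[R[X]] Ω[R[X]⁄R] ≃ₗ[B] B :=
    (AlgebraTensorModule.congr (LinearEquiv.refl B B) (polynomialEquiv R)).trans
      (AlgebraTensorModule.rid R[X] B B)
  have he : ∀ b : B, mapBaseChange R R[X] B (e.symm b) = b • D R B (algebraMap R[X] B X) := by
    intro b
    have : e.symm b = b ⊗ₜ D R R[X] X := by
      rw [LinearEquiv.symm_apply_eq]
      simp [e]
    rw [this, mapBaseChange_tmul, KaehlerDifferential.map_D]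
  have : ⇑(mapBaseChange R R[X] B) = (fun b : B => b • D R B (algebraMap R[X] B X)) ∘ e := by
    ext x
    obtain ⟨b, rfl⟩ := e.symm.surjective x
    rw [he]
    simp
  rw [this]
  exact h.comp e.bijective

/-- The module of differentials of a standard smooth algebra of relative dimension one is free
of rank one. -/
theorem exists_equiv_of_isStandardSmooth_one (R : Type u) (B : Type v) [CommRing R] [CommRing B]
    [Algebra R B] [Algebra.IsStandardSmoothOfRelativeDimension 1 R B] :
    Nonempty (Ω[B⁄R] ≃ₗ[B] B) := by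
  cases subsingleton_or_nontrivial B with
  | inl h =>
    have : Subsingleton Ω[B⁄R] := Module.subsingleton B _
    exact ⟨LinearEquiv.ofSubsingleton _ _⟩
  | inr h =>
    have : Algebra.IsStandardSmooth R B :=
      Algebra.IsStandardSmoothOfRelativeDimension.isStandardSmooth 1
    have h1 : Module.rank B Ω[B⁄R] = 1 := by
      simpa using Algebra.IsStandardSmoothOfRelativeDimension.rank_kaehlerDifferential
        (R := R) (S := B) 1
    have h2 : Module.rank B Ω[B⁄R] = Module.rank B B := by rw [h1, CommSemiring.rank_self]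
    have : Module.Finite B Ω[B⁄R] := inferInstance
    exact nonempty_linearEquiv_of_rank_eq h2

/-- There is an element of `I` whose differential generates `Ω_{B/R}` near `V(I)`. -/
theorem exists_mem_differential (R : Type u) (B : Type v) [CommRing R] [CommRing B]
    [Algebra R B] (e : Ω[B⁄R] ≃ₗ[B] B) (I : Ideal B) [Algebra.FormallyUnramified R (B ⧸ I)] :
    ∃ t ∈ I, e (D R B t) - 1 ∈ I := by
  have hsurj : Function.Surjective (algebraMap B (B ⧸ I)) := Ideal.Quotient.mk_surjective
  obtain ⟨x, hx⟩ := (KaehlerDifferential.exact_kerCotangentToTensor_mapBaseChange R B (B ⧸ I)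
    hsurj (1 ⊗ₜ e.symm 1)).1 (Subsingleton.elim _ _)
  obtain ⟨⟨t, ht⟩, rfl⟩ := Ideal.toCotangent_surjective _ x
  rw [kerCotangentToTensor_toCotangent] at hx
  have htI : t ∈ I := by
    have := RingHom.mem_ker.1 ht
    rwa [Ideal.Quotient.algebraMap_eq, Ideal.Quotient.eq_zero_iff_mem] at this
  refine ⟨t, htI, ?_⟩
  have h2 := congrArg ((AlgebraTensorModule.rid B (B ⧸ I) (B ⧸ I)) ∘
    (LinearMap.lTensor (B ⧸ I) e.toLinearMap)) hx
  simp only [Function.comp_apply, LinearMap.lTensor_tmul, LinearEquiv.coe_coe,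
    LinearEquiv.apply_symm_apply, AlgebraTensorModule.rid_tmul, one_smul] at h2
  rw [← Ideal.Quotient.eq_zero_iff_mem, map_sub, sub_eq_zero]
  simpa [Algebra.smul_def] using h2

/-- Etaleness of `R[X] → B[1/g']`, `X ↦ t` where `D t = g ω`, `ω` a basis of `Ω_{B/R}`, `g ∣ g'`. -/
theorem formallyEtale_away (R : Type u) (B : Type v) [CommRing R] [CommRing B]
    [Algebra R B] [Algebra.FormallySmooth R B] (e : Ω[B⁄R] ≃ₗ[B] B) (t g g' : B) (hg : e (D R B t) = g)
    (hgg' : g ∣ g') (B' : Type w) [CommRing B'] [Algebra B B'] [Algebra R B'] [IsScalarTower R B B']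
    [IsLocalization.Away g' B'] [Algebra R[X] B'] [IsScalarTower R R[X] B']
    (ht : algebraMap R[X] B' X = algebraMap B B' t) :
    Algebra.FormallyEtale R[X] B' := by
  have : Algebra.FormallyEtale B B' := Algebra.FormallyEtale.of_isLocalization (Submonoid.powers g')
  have : Algebra.FormallySmooth R B' := Algebra.FormallySmooth.comp R B B'
  apply formallyEtale_polynomial R B'
  let E : Ω[B'⁄R] ≃ₗ[B'] B' :=
    (tensorKaehlerEquivOfFormallyEtale R B B').symm.trans
      ((AlgebraTensorModule.congr (LinearEquiv.refl B' B') e).trans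
        (AlgebraTensorModule.rid B B' B'))
  have hE : E (D R B' (algebraMap R[X] B' X)) = algebraMap B B' g := by
    rw [ht]
    simp only [E, LinearEquiv.trans_apply, tensorKaehlerEquivOfFormallyEtale_symm_D_algebraMap,
      AlgebraTensorModule.congr_tmul, LinearEquiv.refl_apply, AlgebraTensorModule.rid_tmul, hg,
      Algebra.smul_def, mul_one]
  have hu : IsUnit (algebraMap B B' g) := by
    obtain ⟨c, rfl⟩ := hgg'
    have := IsLocalization.Away.algebraMap_isUnit (S := B') (g * c)
    rw [map_mul] at this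
    exact isUnit_of_mul_isUnit_left this
  have h1 : (fun b : B' => b • D R B' (algebraMap R[X] B' X)) =
      E.symm ∘ (fun b : B' => b * algebraMap B B' g) := by
    ext b
    simp only [Function.comp_apply]
    rw [LinearEquiv.eq_symm_apply, map_smul, hE, smul_eq_mul]
  rw [h1]
  refine E.symm.bijective.comp ?_
  obtain ⟨u, hu⟩ := hu
  rw [← hu]
  exact (Units.mulRight_bijective u)

/-- Etale coordinates along an etale closed subscheme of a smooth relative curve: `B` smooth over
`R` with `Ω_{B/R}` free of rank one, `B ⧸ I` etale over `R`.  There are `t ∈ I` and `g ∈ 1 + I` such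
that `R[X] → B[1/g]`, `X ↦ t`, is etale and `I B[1/g]` is generated by `t`. -/
theorem exists_etale_coordinate (R : Type u) (B : Type v) [CommRing R] [CommRing B]
    [Algebra R B] [Algebra.Smooth R B] (e : Ω[B⁄R] ≃ₗ[B] B) (I : Ideal B)
    [Algebra.Etale R (B ⧸ I)] :
    ∃ t g : B, t ∈ I ∧ g - 1 ∈ I ∧
      ∀ (B' : Type w) [CommRing B'] [Algebra B B'] [Algebra R B'] [IsScalarTower R B B']
        [IsLocalization.Away g B'],
        (eval₂RingHom (algebraMap R B') (algebraMap B B' t)).Etale ∧
        I.map (algebraMap B B') = Ideal.span {algebraMap B B' t} := by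
  obtain ⟨t, htI, hc⟩ := exists_mem_differential R B e I
  set c : B := e (D R B t) with hcdef
  have hmkc : Ideal.Quotient.mk I c = 1 := by
    rw [← sub_eq_zero, ← map_one (Ideal.Quotient.mk I), ← map_sub, Ideal.Quotient.eq_zero_iff_mem]
    exact hc
  let B₁ := Localization.Away c
  let algX : Algebra R[X] B₁ := (eval₂RingHom (algebraMap R B₁) (algebraMap B B₁ t)).toAlgebra
  have hXdef : algebraMap R[X] B₁ = eval₂RingHom (algebraMap R B₁) (algebraMap B B₁ t) := rfl
  have tow : IsScalarTower R R[X] B₁ := IsScalarTower.of_algebraMap_eq fun r => by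
    rw [hXdef]; simp
  have hX : algebraMap R[X] B₁ X = algebraMap B B₁ t := by rw [hXdef]; simp
  have fe : Algebra.FormallyEtale R[X] B₁ := formallyEtale_away R B e t c c hcdef.symm dvd_rfl B₁ hX
  let J : Ideal R[X] := Ideal.span {X}
  let A₁ := B₁ ⧸ (J.map (algebraMap R[X] B₁))
  have hJmap : J.map (algebraMap R[X] B₁) = Ideal.span {algebraMap B B₁ t} := by
    simp only [J, Ideal.map_span, Set.image_singleton, hX]
  -- `R → R[X]/(X)` is etale
  have fe1 : Algebra.FormallyEtale R (R[X] ⧸ J) := by
    have h1 : (Ideal.span {X - C (0 : R)} : Ideal R[X]) = J := by simp [J]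
    exact Algebra.FormallyEtale.of_equiv
      (((quotientSpanXSubCAlgEquiv (0 : R)).symm).trans (Ideal.quotientEquivAlgOfEq R h1))
  have fe2' : Algebra.FormallyEtale (R[X] ⧸ J) ((R[X] ⧸ J) ⊗[R[X]] B₁) := inferInstance
  have fe2 : Algebra.FormallyEtale (R[X] ⧸ J) (B₁ ⧸ (J.map (algebraMap R[X] B₁))) :=
    Algebra.FormallyEtale.of_equiv (R := R[X] ⧸ J) (A := (R[X] ⧸ J) ⊗[R[X]] B₁)
      (B := B₁ ⧸ (J.map (algebraMap R[X] B₁)))
      (Algebra.TensorProduct.quotIdealMapEquivQuotTensor B₁ J).symm
  have tow3 : IsScalarTower R (R[X] ⧸ J) (B₁ ⧸ (J.map (algebraMap R[X] B₁))) :=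
    ⟨fun r x y => by
      obtain ⟨p, rfl⟩ := Ideal.Quotient.mk_surjective x
      obtain ⟨b, rfl⟩ := Ideal.Quotient.mk_surjective y
      have h1 : (r • Ideal.Quotient.mk J p) = Ideal.Quotient.mk J (r • p) := rfl
      have h2 : ∀ (q : R[X]) (b : B₁), Ideal.Quotient.mk J q •
          Ideal.Quotient.mk (J.map (algebraMap R[X] B₁)) b =
          Ideal.Quotient.mk (J.map (algebraMap R[X] B₁)) (q • b) := fun q b => by
        rw [Algebra.smul_def, Algebra.smul_def, map_mul]
        rfl
      have h3 : ∀ b : B₁, r • Ideal.Quotient.mk (J.map (algebraMap R[X] B₁)) b =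
          Ideal.Quotient.mk (J.map (algebraMap R[X] B₁)) (r • b) := fun b => rfl
      rw [h1, h2, h2, h3, smul_assoc]⟩
  have fe3 : Algebra.FormallyEtale R (B₁ ⧸ (J.map (algebraMap R[X] B₁))) :=
    Algebra.FormallyEtale.comp R (R[X] ⧸ J) (B₁ ⧸ (J.map (algebraMap R[X] B₁)))
  -- the surjection onto `B ⧸ I`
  have hcunit : IsUnit (Ideal.Quotient.mk I c) := by rw [hmkc]; exact isUnit_one
  let ψ0 : B₁ →+* B ⧸ I := IsLocalization.Away.lift (S := B₁) c (g := Ideal.Quotient.mk I) hcunit
  have hψ0 : ∀ b : B, ψ0 (algebraMap B B₁ b) = Ideal.Quotient.mk I b := fun b =>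
    IsLocalization.Away.lift_eq (S := B₁) c (g := Ideal.Quotient.mk I) hcunit b
  let ψ : B₁ →ₐ[R] B ⧸ I := AlgHom.mk ψ0 (fun r => by
        change ψ0 (algebraMap R B₁ r) = _
        rw [IsScalarTower.algebraMap_apply R B B₁, hψ0]
        rfl)
  have hψ : ∀ b : B, ψ (algebraMap B B₁ b) = Ideal.Quotient.mk I b := hψ0
  have hψsurj : Function.Surjective ψ := fun y => by
    obtain ⟨b, rfl⟩ := Ideal.Quotient.mk_surjective y
    exact ⟨_, hψ b⟩
  have hJψ : ∀ a : B₁, a ∈ J.map (algebraMap R[X] B₁) → ψ a = 0 := by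
    intro a ha
    rw [hJmap, Ideal.mem_span_singleton] at ha
    obtain ⟨z, rfl⟩ := ha
    rw [map_mul, hψ, Ideal.Quotient.eq_zero_iff_mem.2 htI, zero_mul]
  let ψb : A₁ →ₐ[R] B ⧸ I := Ideal.Quotient.liftₐ _ ψ hJψ
  have hψb : ∀ a : B₁, ψb (Ideal.Quotient.mk _ a) = ψ a := fun a => rfl
  have hψbsurj : Function.Surjective ψb := fun y => by
    obtain ⟨a, rfl⟩ := hψsurj y
    exact ⟨_, hψb a⟩
  let algψ : Algebra A₁ (B ⧸ I) := ψb.toRingHom.toAlgebra
  have tow2 : IsScalarTower R A₁ (B ⧸ I) := IsScalarTower.of_algebraMap_eq fun r =>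
    (ψb.commutes r).symm
  have fe4 : Algebra.FormallyEtale A₁ (B ⧸ I) := Algebra.FormallyEtale.of_restrictScalars (R := R)
  have hidem : IsIdempotentElem (RingHom.ker (algebraMap A₁ (B ⧸ I))) :=
    (Algebra.FormallyEtale.iff_of_surjective hψbsurj).1 fe4
  have fpB₁ : Algebra.FinitePresentation R B₁ :=
    have := IsLocalization.Away.finitePresentation (S := B₁) c
    Algebra.FinitePresentation.trans R B B₁
  have fpA₁ : Algebra.FinitePresentation R A₁ :=
    Algebra.FinitePresentation.quotient (R := R) (by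
      rw [hJmap]; exact Submodule.fg_span (Set.finite_singleton _))
  have hfg : (RingHom.ker (algebraMap A₁ (B ⧸ I))).FG :=
    Algebra.FinitePresentation.ker_fG_of_surjective ψb hψbsurj
  obtain ⟨ε, hε, hker⟩ := (Ideal.isIdempotentElem_iff_of_fg _ hfg).1 hidem
  obtain ⟨x, rfl⟩ := Ideal.Quotient.mk_surjective ε
  have hxψ : ψ x = 0 := by
    have : Ideal.Quotient.mk (J.map (algebraMap R[X] B₁)) x ∈ RingHom.ker (algebraMap A₁ (B ⧸ I)) := by
      rw [hker]; exact Ideal.mem_span_singleton_self _
    exact this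
  obtain ⟨n, b, hb⟩ := IsLocalization.Away.surj (S := B₁) c x
  have hbI : b ∈ I := by
    rw [← Ideal.Quotient.eq_zero_iff_mem, ← hψ, ← hb, map_mul, hxψ, zero_mul]
  refine ⟨t, c * (c ^ n - b), htI, ?_, ?_⟩
  · rw [← Ideal.Quotient.eq_zero_iff_mem]
    simp [hmkc, Ideal.Quotient.eq_zero_iff_mem.2 hbI]
  intro B' _ _ _ _ _
  have hunit : IsUnit (algebraMap B B' (c * (c ^ n - b))) :=
    IsLocalization.Away.algebraMap_isUnit _
  rw [map_mul] at hunit
  have hcu : IsUnit (algebraMap B B' c) := isUnit_of_mul_isUnit_left hunit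
  have hcbu : IsUnit (algebraMap B B' (c ^ n - b)) := isUnit_of_mul_isUnit_right hunit
  constructor
  · let algX' : Algebra R[X] B' := (eval₂RingHom (algebraMap R B') (algebraMap B B' t)).toAlgebra
    have hXdef' : algebraMap R[X] B' = eval₂RingHom (algebraMap R B') (algebraMap B B' t) := rfl
    have tow' : IsScalarTower R R[X] B' := IsScalarTower.of_algebraMap_eq fun r => by
      rw [hXdef']; simp
    have hX' : algebraMap R[X] B' X = algebraMap B B' t := by rw [hXdef']; simp
    have fe' : Algebra.FormallyEtale R[X] B' :=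
      formallyEtale_away R B e t c (c * (c ^ n - b)) hcdef.symm (dvd_mul_right _ _) B' hX'
    have fpB' : Algebra.FinitePresentation R B' :=
      have := IsLocalization.Away.finitePresentation (S := B') (c * (c ^ n - b))
      Algebra.FinitePresentation.trans R B B'
    have fp' : Algebra.FinitePresentation R[X] B' :=
      Algebra.FinitePresentation.of_restrict_scalars_finitePresentation R R[X] B'
    have : Algebra.Etale R[X] B' := { }
    exact this
  · apply le_antisymm
    · rw [Ideal.map_le_iff_le_comap]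
      intro y hy
      rw [Ideal.mem_comap, Ideal.mem_span_singleton]
      have h1 : Ideal.Quotient.mk (J.map (algebraMap R[X] B₁)) (algebraMap B B₁ y) ∈
          RingHom.ker (algebraMap A₁ (B ⧸ I)) := by
        change ψ (algebraMap B B₁ y) = 0
        rw [hψ, Ideal.Quotient.eq_zero_iff_mem.2 hy]
      rw [hker, Ideal.mem_span_singleton] at h1
      obtain ⟨z, hz⟩ := h1
      have h2 : Ideal.Quotient.mk (J.map (algebraMap R[X] B₁)) ((1 - x) * algebraMap B B₁ y) = 0 := by
        rw [map_mul, hz, map_sub, map_one, ← mul_assoc, sub_mul, one_mul, hε.eq, sub_self, zero_mul]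
      rw [Ideal.Quotient.eq_zero_iff_mem, hJmap, Ideal.mem_span_singleton] at h2
      obtain ⟨w, hw⟩ := h2
      let lam : B₁ →+* B' := IsLocalization.Away.lift (S := B₁) c (g := algebraMap B B') hcu
      have hlam : ∀ b : B, lam (algebraMap B B₁ b) = algebraMap B B' b := fun b =>
        IsLocalization.Away.lift_eq (S := B₁) c (g := algebraMap B B') hcu b
      have h3 : algebraMap B B' (c ^ n - b) * algebraMap B B' y =
          algebraMap B B' t * (algebraMap B B' (c ^ n) * lam w) := by
        have h4 : algebraMap B B₁ (c ^ n - b) = algebraMap B B₁ (c ^ n) * (1 - x) := by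
          rw [map_sub, ← hb, map_pow]; ring
        rw [← hlam (c ^ n - b), h4, ← hlam y, ← hlam t, ← hlam (c ^ n), ← map_mul lam, mul_assoc, hw]
        simp only [map_mul]
        ring
      obtain ⟨v, hv⟩ := hcbu
      refine ⟨algebraMap B B' (c ^ n) * lam w * ((v⁻¹ : B'ˣ) : B'), ?_⟩
      rw [← hv] at h3
      calc algebraMap B B' y = (v : B') * algebraMap B B' y * ((v⁻¹ : B'ˣ) : B') := by
            rw [mul_comm (v : B'), mul_assoc, Units.mul_inv, mul_one]
        _ = _ := by rw [h3]; ring
    · rw [Ideal.span_le, Set.singleton_subset_iff]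
      exact Ideal.mem_map_of_mem _ htI

end Groth.Agent.Sga4h.GeoLocalAlg
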