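import Mathlib.FieldTheory.PurelyInseparable.Basic
import Mathlib.FieldTheory.PurelyInseparable.Exponent
import Mathlib.FieldTheory.PrimitiveElement
import Mathlib.RingTheory.Algebraic.Integral
import Mathlib.RingTheory.AlgebraicIndependent.TranscendenceBasis
import Mathlib.RingTheory.Localization.Integral
import Mathlib.RingTheory.Localization.InvSubmonoid
import Groth.Agent.Flat2E.FinEtaleSpread

/-!
# Generic Noether normalisation with separable/inseparable factorisation, ring level
-/

set_option autoImplicit false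

universe u

open Polynomial

namespace Groth.Agent.Sga4h.GeoNoetherAlg

section Denominators

variable {R K : Type u} [CommRing R] [IsDomain R] [Field K] [Algebra R K] [IsFractionRing R K]

/-- common denominator of the coefficients of a polynomial -/
theorem exists_map_eq_C_mul (q : K[X]) :
    ∃ s : R, s ≠ 0 ∧ ∃ Q : R[X], Q.map (algebraMap R K) = C (algebraMap R K s) * q := by
  induction q using Polynomial.induction_on' with
  | add p q hp hq =>
    obtain ⟨s, hs, P, hP⟩ := hp
    obtain ⟨t, ht, Q, hQ⟩ := hq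
    refine ⟨s * t, mul_ne_zero hs ht, C t * P + C s * Q, ?_⟩
    simp only [Polynomial.map_add, Polynomial.map_mul, Polynomial.map_C, hP, hQ, map_mul]
    ring
  | monomial n c =>
    obtain ⟨a, s, hs, h⟩ := IsFractionRing.div_surjective (A := R) c
    have hs0 : s ≠ 0 := nonZeroDivisors.ne_zero hs
    refine ⟨s, hs0, monomial n a, ?_⟩
    have h1 : algebraMap R K s ≠ 0 := by
      rwa [Ne, map_eq_zero_iff _ (IsFractionRing.injective R K)]
    rw [Polynomial.map_monomial, Polynomial.C_mul_monomial, ← h, mul_div_cancel₀ _ h1]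

/-- a polynomial lifts over a localization away from a multiple of a denominator -/
theorem exists_lift {R' : Type u} [CommRing R'] [Algebra R R'] [Algebra R' K]
    [IsScalarTower R R' K] (q : K[X]) (s : R) (hs' : IsUnit (algebraMap R R' s)) (Q : R[X])
    (hQ : Q.map (algebraMap R K) = C (algebraMap R K s) * q) :
    ∃ Q' : R'[X], Q'.map (algebraMap R' K) = q := by
  have := Flat2E.FinEtaleSpread.mem_lifts_away (A' := R') q s hs' Q hQ
  rwa [Polynomial.mem_lifts] at this

end Denominators

section Main

variable {R B : Type u} [CommRing R] [CommRing B] [IsDomain R] [IsDomain B] [Algebra R B]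
  [FaithfulSMul R B]

theorem exists_smul_mem [Algebra.IsAlgebraic R B] {L : Type u} [Field L] [Algebra B L]
    [IsFractionRing B L] [Algebra R L] [IsScalarTower R B L] (x : L) :
    ∃ r : R, r ≠ 0 ∧ ∃ b : B, algebraMap R L r * x = algebraMap B L b := by
  obtain ⟨b, s, hs, rfl⟩ := IsFractionRing.div_surjective (A := B) x
  obtain ⟨r, hr, c, hc⟩ := (Algebra.IsAlgebraic.isAlgebraic (R := R) s).exists_nonzero_dvd hs
  have h1 : algebraMap B L s ≠ 0 := by
    rw [Ne, map_eq_zero_iff _ (IsFractionRing.injective B L)]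
    exact nonZeroDivisors.ne_zero hs
  refine ⟨r, hr, c * b, ?_⟩
  rw [IsScalarTower.algebraMap_apply R B L, hc, map_mul, map_mul]
  field_simp

/-- `Frac B / Frac R` is finite for `B` of finite type and algebraic over `R`. -/
theorem finiteDimensional_fractionRing [Algebra.IsAlgebraic R B] [Algebra.FiniteType R B]
    (K L : Type u) [Field K] [Field L]
    [Algebra R K] [IsFractionRing R K] [Algebra B L] [IsFractionRing B L] [Algebra K L]
    [Algebra R L] [IsScalarTower R B L] [IsScalarTower R K L] : FiniteDimensional K L := by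
  obtain ⟨s, hs⟩ := Algebra.FiniteType.out (R := R) (A := B)
  have halg : ∀ x : L, IsIntegral K x := by
    intro x
    obtain ⟨b, c, hc, rfl⟩ := IsFractionRing.div_surjective (A := B) x
    have h1 : ∀ b : B, IsAlgebraic K (algebraMap B L b) := by
      intro b
      have h2 : IsAlgebraic R (algebraMap B L b) :=
        (Algebra.IsAlgebraic.isAlgebraic (R := R) b).algebraMap
      exact h2.extendScalars (IsFractionRing.injective R K)
    rw [div_eq_mul_inv]
    exact ((h1 b).isIntegral.mul (IsIntegral.inv (h1 c).isIntegral))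
  let F : IntermediateField K L := IntermediateField.adjoin K (algebraMap B L '' (s : Set B))
  have hB : ∀ b : B, algebraMap B L b ∈ F := by
    intro b
    have hb : b ∈ Algebra.adjoin R (s : Set B) := hs ▸ Algebra.mem_top
    induction hb using Algebra.adjoin_induction with
    | mem x hx => exact IntermediateField.subset_adjoin _ _ ⟨x, hx, rfl⟩
    | algebraMap r =>
      rw [← IsScalarTower.algebraMap_apply R B L, IsScalarTower.algebraMap_apply R K L]
      exact F.algebraMap_mem _
    | add x y _ _ hx hy => rw [map_add]; exact F.add_mem hx hy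
    | mul x y _ _ hx hy => rw [map_mul]; exact F.mul_mem hx hy
  have hF : F = ⊤ := by
    rw [eq_top_iff]
    intro x _
    obtain ⟨b, c, _, rfl⟩ := IsFractionRing.div_surjective (A := B) x
    exact F.div_mem (hB b) (hB c)
  have hfin : FiniteDimensional K F :=
    IntermediateField.finiteDimensional_adjoin fun x _ => halg x
  rw [hF] at hfin
  exact Module.Finite.equiv (IntermediateField.topEquiv (F := K) (E := L)).toLinearEquiv

/-- After inverting a nonzero element `g` of `R`, the finite type algebraic extension `R → B` of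
domains factors as an etale algebra `C` followed by a finite radicial one. -/
theorem exists_radicial_etale [Algebra.IsAlgebraic R B] [hft : Algebra.FiniteType R B] :
    ∃ g : R, g ≠ 0 ∧ ∀ (B' : Type u) [CommRing B'] [Algebra B B']
      [IsLocalization.Away (algebraMap R B g) B'],
      ∃ (C : Type u) (_ : CommRing C) (_ : IsDomain C) (_ : Algebra R C) (ψ : C →+* B'),
        ψ.comp (algebraMap R C) = (algebraMap B B').comp (algebraMap R B) ∧
        Algebra.Etale R C ∧ ψ.Finite ∧ Function.Injective ψ ∧
        ∃ p m : ℕ, ExpChar B' p ∧ ∀ b : B', b ^ (p ^ m) ∈ ψ.range := by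
  classical
  let K := FractionRing R
  let L := FractionRing B
  let _ : Algebra K L := FractionRing.liftAlgebra R L
  have tRKL : IsScalarTower R K L := FractionRing.isScalarTower_liftAlgebra R L
  have hfd : FiniteDimensional K L := finiteDimensional_fractionRing (R := R) (B := B) K L
  obtain ⟨p, hp⟩ := ExpChar.exists K
  have hpL : ExpChar L p := expChar_of_injective_algebraMap (algebraMap K L).injective p
  let E := separableClosure K L
  obtain ⟨θ, hθ⟩ := Field.exists_primitive_element K E
  have hint : IsIntegral K θ := IsIntegral.of_finite K θ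
  have hsep : (minpoly K θ).Separable := Algebra.IsSeparable.isSeparable K θ
  let N := IsPurelyInseparable.exponent E L
  have hpE : ExpChar E p := expChar_of_injective_algebraMap (algebraMap K E).injective p
  have hpow : ∀ x : L, ∃ q : K[X], aeval (θ : L) q = x ^ (p ^ N) := by
    intro x
    obtain ⟨c, hc⟩ := IsPurelyInseparable.exponent_def' E p x
    have hx : c ∈ (⊤ : IntermediateField K E).toSubalgebra := trivial
    rw [← hθ, IntermediateField.adjoin_simple_toSubalgebra_of_isAlgebraic hint.isAlgebraic,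
      Algebra.adjoin_singleton_eq_range_aeval] at hx
    obtain ⟨q, hq⟩ := hx
    refine ⟨q, ?_⟩
    rw [← hc, ← hq]
    exact Polynomial.aeval_algebraMap_apply L θ q
  choose Q hQ using hpow
  obtain ⟨u, v, huv⟩ := hsep
  obtain ⟨s1, hs1, P1, hP1⟩ := exists_map_eq_C_mul (R := R) (minpoly K θ)
  obtain ⟨s2, hs2, P2, hP2⟩ := exists_map_eq_C_mul (R := R) u
  obtain ⟨s3, hs3, P3, hP3⟩ := exists_map_eq_C_mul (R := R) v
  obtain ⟨s4, hs4, τ0, hτ0⟩ := exists_smul_mem (R := R) (B := B) (θ : L)
  obtain ⟨S, hS⟩ := Algebra.FiniteType.out (R := R) (A := B)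
  choose d hd D hD using fun b : B => exists_map_eq_C_mul (R := R) (Q (algebraMap B L b))
  let g : R := s1 * s2 * s3 * s4 * ∏ b ∈ S, d b
  have hg : g ≠ 0 := mul_ne_zero (mul_ne_zero (mul_ne_zero (mul_ne_zero hs1 hs2) hs3) hs4)
    (Finset.prod_ne_zero_iff.2 fun b _ => hd b)
  refine ⟨g, hg, ?_⟩
  intro B' _ _ _
  -- the embedding `B' → L`
  have hgL : algebraMap B L (algebraMap R B g) ≠ 0 := by
    rw [Ne, map_eq_zero_iff _ (IsFractionRing.injective B L),
      map_eq_zero_iff _ (FaithfulSMul.algebraMap_injective R B)]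
    exact hg
  let ι : B' →+* L := IsLocalization.Away.lift (algebraMap R B g) (g := algebraMap B L) hgL.isUnit
  have hι : ∀ b, ι (algebraMap B B' b) = algebraMap B L b := fun b =>
    IsLocalization.Away.lift_eq (algebraMap R B g) hgL.isUnit b
  have hιinj : Function.Injective ι := by
    rw [injective_iff_map_eq_zero]
    intro x hx
    obtain ⟨n, b, hb⟩ := IsLocalization.Away.surj (algebraMap R B g) x
    have h1 : algebraMap B L b = 0 := by
      rw [← hι, ← hb, map_mul, hx, zero_mul]
    rw [map_eq_zero_iff _ (IsFractionRing.injective B L)] at h1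
    rw [h1, map_zero] at hb
    have hun : IsUnit (algebraMap B B' (algebraMap R B g) ^ n) :=
      (IsLocalization.Away.algebraMap_isUnit _).pow n
    exact (hun.mul_left_eq_zero).1 hb
  have hdom : IsDomain B' := hιinj.isDomain ι
  have hpB : ExpChar B' p := RingHom.expChar ι hιinj p
  -- the localization `R'` of `R`
  let R' := Localization.Away g
  have hgK : algebraMap R K g ≠ 0 := by
    rwa [Ne, map_eq_zero_iff _ (IsFractionRing.injective R K)]
  let κ : R' →+* K := IsLocalization.Away.lift g (g := algebraMap R K) hgK.isUnit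
  have hκ : ∀ r, κ (algebraMap R R' r) = algebraMap R K r := fun r =>
    IsLocalization.Away.lift_eq g hgK.isUnit r
  have hκinj : Function.Injective κ := by
    rw [injective_iff_map_eq_zero]
    intro x hx
    obtain ⟨n, b, hb⟩ := IsLocalization.Away.surj g x
    have h1 : algebraMap R K b = 0 := by
      rw [← hκ, ← hb, map_mul, hx, zero_mul]
    rw [map_eq_zero_iff _ (IsFractionRing.injective R K)] at h1
    rw [h1, map_zero] at hb
    have hun : IsUnit (algebraMap R R' g ^ n) :=
      (IsLocalization.Away.algebraMap_isUnit _).pow n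
    exact (hun.mul_left_eq_zero).1 hb
  let algR'K : Algebra R' K := κ.toAlgebra
  have tR'K : IsScalarTower R R' K := IsScalarTower.of_algebraMap_eq fun r => (hκ r).symm
  have hunit : IsUnit ((algebraMap B B').comp (algebraMap R B) g) :=
    IsLocalization.Away.algebraMap_isUnit _
  let ρ : R' →+* B' := IsLocalization.Away.lift g (g := (algebraMap B B').comp (algebraMap R B)) hunit
  have hρ : ∀ r, ρ (algebraMap R R' r) = algebraMap B B' (algebraMap R B r) := fun r =>
    IsLocalization.Away.lift_eq g hunit r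
  have hιρ : ι.comp ρ = (algebraMap K L).comp κ := by
    apply IsLocalization.ringHom_ext (Submonoid.powers g)
    ext r
    simp only [RingHom.comp_apply]
    rw [hρ, hι, hκ, ← IsScalarTower.algebraMap_apply R B L, ← IsScalarTower.algebraMap_apply R K L]
  have hgu : IsUnit (algebraMap R R' g) := IsLocalization.Away.algebraMap_isUnit g
  have hu : ∀ s : R, s ∣ g → IsUnit (algebraMap R R' s) := fun s hs =>
    isUnit_of_dvd_unit (map_dvd _ hs) hgu
  have hd1 : s1 ∣ g := by
    refine Dvd.intro (s2 * s3 * s4 * ∏ b ∈ S, d b) ?_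
    simp only [g]; ring
  have hd2 : s2 ∣ g := by
    refine Dvd.intro (s1 * s3 * s4 * ∏ b ∈ S, d b) ?_
    simp only [g]; ring
  have hd3 : s3 ∣ g := by
    refine Dvd.intro (s1 * s2 * s4 * ∏ b ∈ S, d b) ?_
    simp only [g]; ring
  have hd4 : s4 ∣ g := by
    refine Dvd.intro (s1 * s2 * s3 * ∏ b ∈ S, d b) ?_
    simp only [g]; ring
  have hdb : ∀ b ∈ S, d b ∣ g := fun b hb =>
    (Finset.dvd_prod_of_mem d hb).trans (Dvd.intro_left _ rfl)
  -- lifts of the polynomials
  obtain ⟨P0, hP0⟩ := exists_lift (R' := R') (minpoly K θ) s1 (hu _ hd1) P1 hP1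
  have hlift : minpoly K θ ∈ Polynomial.lifts (algebraMap R' K) := by
    rw [Polynomial.mem_lifts]
    exact ⟨P0, hP0⟩
  obtain ⟨P, hP, -, hPm⟩ := Polynomial.lifts_and_natDegree_eq_and_monic hlift
    (minpoly.monic hint)
  obtain ⟨U, hU⟩ := exists_lift (R' := R') u s2 (hu _ hd2) P2 hP2
  obtain ⟨V, hV⟩ := exists_lift (R' := R') v s3 (hu _ hd3) P3 hP3
  have hcop : IsCoprime P (derivative P) := by
    refine ⟨U, V, Polynomial.map_injective (algebraMap R' K) hκinj ?_⟩
    rw [Polynomial.map_add, Polynomial.map_mul, Polynomial.map_mul, Polynomial.map_one,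
      ← Polynomial.derivative_map, hU, hV, hP, huv]
  -- the element `τ`
  obtain ⟨w, hw⟩ := hu _ hd4
  let τ : B' := ρ (↑w⁻¹ : R') * algebraMap B B' τ0
  have hτ : ι τ = (θ : L) := by
    have h1 : ι (ρ (↑w⁻¹ : R')) * algebraMap R L s4 = 1 := by
      have h2 : algebraMap R L s4 = ι (ρ (algebraMap R R' s4)) := by
        rw [hρ, hι, ← IsScalarTower.algebraMap_apply R B L]
      rw [h2, ← hw, ← map_mul, ← map_mul, Units.inv_mul, map_one, map_one]
    simp only [τ]
    rw [map_mul, hι, ← hτ0, ← mul_assoc, h1, one_mul]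
  have haev : ∀ q : R'[X], ι (q.eval₂ ρ τ) = aeval (θ : L) (q.map (algebraMap R' K)) := by
    intro q
    rw [Polynomial.hom_eval₂, hτ, hιρ, Polynomial.aeval_def, Polynomial.eval₂_map]
    rfl
  have hmin : minpoly K (θ : L) = minpoly K θ :=
    minpoly.algebraMap_eq (algebraMap E L).injective θ
  have hev : P.eval₂ ρ τ = 0 := by
    apply hιinj
    rw [haev, hP, ← hmin, minpoly.aeval, map_zero]
  let ψ : AdjoinRoot P →+* B' := AdjoinRoot.lift ρ τ hev
  have hψ : ∀ q : R'[X], ψ (AdjoinRoot.mk P q) = q.eval₂ ρ τ := fun q => AdjoinRoot.lift_mk _ _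
  have hψinj : Function.Injective ψ := by
    rw [injective_iff_map_eq_zero]
    intro x hx
    obtain ⟨q0, rfl⟩ := AdjoinRoot.mk_surjective x
    have hqq : AdjoinRoot.mk P q0 = AdjoinRoot.mk P (q0 %ₘ P) := by
      rw [AdjoinRoot.mk_eq_mk]
      refine ⟨q0 /ₘ P, ?_⟩
      have := Polynomial.modByMonic_add_div q0 P
      rw [← sub_eq_iff_eq_add'.mpr this.symm]
    rw [hqq] at hx ⊢
    rw [hψ] at hx
    have hnt : Nontrivial R' := κ.domain_nontrivial
    have hdeg := Polynomial.degree_modByMonic_lt q0 hPm
    have hz : (q0 %ₘ P).map (algebraMap R' K) = 0 := by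
      by_contra hne
      have h2 : aeval (θ : L) ((q0 %ₘ P).map (algebraMap R' K)) = 0 := by
        rw [← haev, hx, map_zero]
      have h3 := minpoly.degree_le_of_ne_zero K (θ : L) hne h2
      rw [hmin, ← hP, hPm.degree_map] at h3
      exact absurd (lt_of_le_of_lt (h3.trans (Polynomial.degree_map_le)) hdeg) (lt_irrefl _)
    have h4 : q0 %ₘ P = 0 := by
      apply Polynomial.map_injective (algebraMap R' K) hκinj
      rw [hz, Polynomial.map_zero]
    rw [h4, map_zero]
  have hψalg : ∀ r : R', ψ (AdjoinRoot.of P r) = ρ r := fun r => AdjoinRoot.lift_of _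
  have hrange : ∀ b : B, (algebraMap B B' b) ^ (p ^ N) ∈ ψ.range := by
    intro b
    have hb : b ∈ Algebra.adjoin R (S : Set B) := hS ▸ Algebra.mem_top
    induction hb using Algebra.adjoin_induction with
    | mem x hx =>
      obtain ⟨q, hq⟩ := exists_lift (R' := R') (Q (algebraMap B L x)) (d x)
        (hu _ (hdb x hx)) (D x) (hD x)
      refine ⟨AdjoinRoot.mk P q, ?_⟩
      apply hιinj
      rw [hψ, haev, hq, hQ, map_pow, hι]
    | algebraMap r =>
      refine ⟨AdjoinRoot.of P (algebraMap R R' r ^ (p ^ N)), ?_⟩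
      rw [hψalg, map_pow, hρ]
    | add x y _ _ hx hy =>
      rw [map_add, add_pow_expChar_pow]
      exact add_mem hx hy
    | mul x y _ _ hx hy =>
      rw [map_mul, mul_pow]
      exact mul_mem hx hy
  have hrange' : ∀ x : B', x ^ (p ^ N) ∈ ψ.range := by
    intro x
    obtain ⟨n, b, hb⟩ := IsLocalization.Away.surj (algebraMap R B g) x
    obtain ⟨w', hw'⟩ := hgu
    have h1 : x = algebraMap B B' b * ρ ((↑w'⁻¹ : R') ^ n) := by
      have h2 : algebraMap B B' (algebraMap R B g) * ρ (↑w'⁻¹ : R') = 1 := by
        rw [← hρ, ← hw', ← map_mul, Units.mul_inv, map_one]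
      rw [← hb, map_pow, mul_assoc, ← mul_pow, h2, one_pow, mul_one]
    rw [h1, mul_pow]
    refine mul_mem (hrange b) ?_
    exact ⟨AdjoinRoot.of P (((↑w'⁻¹ : R') ^ n) ^ (p ^ N)), by rw [hψalg, map_pow]⟩
  have hdomC : IsDomain (AdjoinRoot P) := hψinj.isDomain ψ
  have het : Algebra.Etale R' (AdjoinRoot P) :=
    Flat2E.FinEtaleSpread.etale_adjoinRoot P hPm hcop
  have hetR : Algebra.Etale R R' := Algebra.Etale.of_isLocalizationAway g
  refine ⟨AdjoinRoot P, inferInstance, hdomC, inferInstance, ψ, ?_,
    Algebra.Etale.comp R R' (AdjoinRoot P), ?_, hψinj, p, N, hpB, hrange'⟩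
  · ext r
    simp only [RingHom.comp_apply]
    rw [IsScalarTower.algebraMap_apply R R' (AdjoinRoot P), AdjoinRoot.algebraMap_eq, hψalg, hρ]
  · have hp0 : 0 < p ^ N := pow_pos (expChar_pos K p) N
    have hfi : ψ.IsIntegral := by
      intro x
      obtain ⟨c, hc⟩ := hrange' x
      refine ⟨Polynomial.X ^ (p ^ N) - Polynomial.C c, Polynomial.monic_X_pow_sub_C c hp0.ne', ?_⟩
      rw [Polynomial.eval₂_sub, Polynomial.eval₂_pow, Polynomial.eval₂_X, Polynomial.eval₂_C, hc,
        sub_self]
    have hft1 : ((algebraMap B B').comp (algebraMap R B)).FiniteType :=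
      (RingHom.finiteType_algebraMap.2
        (IsLocalization.finiteType_of_monoid_fg (Submonoid.powers (algebraMap R B g)) B')).comp
        (RingHom.finiteType_algebraMap.2 inferInstance)
    have hft2 : (ψ.comp (algebraMap R (AdjoinRoot P))).FiniteType := by
      have : ψ.comp (algebraMap R (AdjoinRoot P)) = (algebraMap B B').comp (algebraMap R B) := by
        ext r
        simp only [RingHom.comp_apply]
        rw [IsScalarTower.algebraMap_apply R R' (AdjoinRoot P), AdjoinRoot.algebraMap_eq, hψalg, hρ]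
      rw [this]
      exact hft1
    exact hfi.to_finite (RingHom.FiniteType.of_comp_finiteType hft2)

/-- transcendence basis inside a finite type algebra -/
theorem exists_transcendence [hft : Algebra.FiniteType R B] :
    ∃ (n : ℕ) (x : ULift.{u} (Fin n) → B), IsTranscendenceBasis R x ∧
      Algebra.trdeg R B = n := by
  obtain ⟨ι, x, hx⟩ := exists_isTranscendenceBasis' R B
  have h1 := hx.cardinalMk_eq_trdeg
  have h2 : Algebra.trdeg R B < Cardinal.aleph0 := trdeg_lt_aleph0_of_finiteType
  rw [← h1, Cardinal.lt_aleph0_iff_finite] at h2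
  obtain ⟨n, ⟨e⟩⟩ := Finite.exists_equiv_fin ι
  refine ⟨n, x ∘ (Equiv.ulift.trans e.symm), hx.comp_equiv _, ?_⟩
  rw [← h1]
  exact (Cardinal.mk_congr (e.trans Equiv.ulift.symm)).trans (by simp)

end Main

/-- Generic Noether normalisation with separable/inseparable factorisation, ring level. -/
theorem exists_main (A B : Type u) [CommRing A] [CommRing B] [IsDomain A] [IsDomain B] [Algebra A B]
    [FaithfulSMul A B] [Algebra.FiniteType A B] :
    ∃ (n : ℕ) (x : ULift.{u} (Fin n) → B) (g : MvPolynomial (ULift.{u} (Fin n)) A),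
      Algebra.trdeg A B = n ∧ MvPolynomial.aeval x g ≠ 0 ∧ ∀ (B' : Type u) [CommRing B']
      [Algebra B B'] [IsLocalization.Away (MvPolynomial.aeval x g) B'],
      ∃ (C : Type u) (_ : CommRing C) (_ : IsDomain C)
        (_ : Algebra (MvPolynomial (ULift.{u} (Fin n)) A) C) (ψ : C →+* B'),
        (∀ r, ψ (algebraMap (MvPolynomial (ULift.{u} (Fin n)) A) C r) =
          algebraMap B B' (MvPolynomial.aeval x r)) ∧
        Algebra.Etale (MvPolynomial (ULift.{u} (Fin n)) A) C ∧ ψ.Finite ∧ Function.Injective ψ ∧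
        ∃ p m : ℕ, ExpChar B' p ∧ ∀ b : B', b ^ (p ^ m) ∈ ψ.range := by
  obtain ⟨n, x, hx, hn⟩ := exists_transcendence (R := A) (B := B)
  let R := MvPolynomial (ULift.{u} (Fin n)) A
  let _ : Algebra R B := (MvPolynomial.aeval x : R →ₐ[A] B).toRingHom.toAlgebra
  have hinj : Function.Injective (algebraMap R B) := hx.1
  have hfaith : FaithfulSMul R B := (faithfulSMul_iff_algebraMap_injective R B).2 hinj
  have htow : IsScalarTower A R B := IsScalarTower.of_algebraMap_eq fun a =>
    (AlgHom.commutes (MvPolynomial.aeval x : R →ₐ[A] B) a).symm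
  have hft : Algebra.FiniteType R B := Algebra.FiniteType.of_restrictScalars_finiteType A R B
  have halg0 : Algebra.IsAlgebraic (Algebra.adjoin A (Set.range x)) B := hx.isAlgebraic
  have halg : Algebra.IsAlgebraic R B := by
    refine Algebra.IsAlgebraic.of_ringHom_of_comp_eq
      (f := (hx.1.aevalEquiv : R ≃ₐ[A] Algebra.adjoin A (Set.range x)))
      (g := RingHom.id B) (hx.1.aevalEquiv).surjective Function.injective_id ?_
    ext r
    · simp only [RingHom.comp_apply, RingHom.id_apply]
      exact hx.1.algebraMap_aevalEquiv (MvPolynomial.C r)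
    · simp only [RingHom.comp_apply, RingHom.id_apply]
      exact hx.1.algebraMap_aevalEquiv (MvPolynomial.X r)
  obtain ⟨g, hg, H⟩ := exists_radicial_etale (R := R) (B := B)
  refine ⟨n, x, g, hn, ?_, ?_⟩
  · have : algebraMap R B g ≠ 0 := by
      rwa [Ne, map_eq_zero_iff _ hinj]
    exact this
  · intro B' _ _ _
    obtain ⟨C, _, _, _, ψ, h1, h2, h3, h4, h5⟩ := H B'
    exact ⟨C, inferInstance, inferInstance, inferInstance, ψ, fun r => congr($h1 r), h2, h3, h4, h5⟩

end Groth.Agent.Sga4h.GeoNoetherAlg
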