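import Groth.Agent.Sga4h.GeoDim
import Groth.Agent.Sga4h.GeoNoetherAlg
import Groth.Agent.Flat2E.GenPt
import Groth.Agent.Flat2E.PurInsepScheme
import Groth.Agent.S0415
import Mathlib.AlgebraicGeometry.AffineSpace
import Mathlib.AlgebraicGeometry.Morphisms.Etale
import Mathlib.AlgebraicGeometry.Morphisms.UniversallyInjective

/-!
# Generic Noether normalisation, separable/inseparable factorisation (scheme form)
-/

set_option autoImplicit false

universe u

open CategoryTheory CategoryTheory.Limits AlgebraicGeometry

namespace Groth.Agent.Sga4h.GeoNoether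

open GeoDim

/-- transcendence degrees can be computed on fraction fields -/
theorem trdeg_fractionField (A B K L : Type u) [CommRing A] [IsDomain A] [CommRing B] [IsDomain B]
    [Field K] [Field L] [Algebra A B] [Algebra A K] [Algebra B L] [Algebra K L] [Algebra A L]
    [IsScalarTower A B L] [IsScalarTower A K L] [IsFractionRing A K] [IsFractionRing B L]
    [FaithfulSMul A B] : Algebra.trdeg K L = Algebra.trdeg A B := by
  have h1 : FaithfulSMul A K := (faithfulSMul_iff_algebraMap_injective A K).2
    (IsFractionRing.injective A K)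
  have h2 : FaithfulSMul B L := (faithfulSMul_iff_algebraMap_injective B L).2
    (IsFractionRing.injective B L)
  have e1 : Algebra.trdeg A K + Algebra.trdeg K L = Algebra.trdeg A L := trdeg_add_eq A K
  have e2 : Algebra.trdeg A B + Algebra.trdeg B L = Algebra.trdeg A L := trdeg_add_eq A B
  have a1 : Algebra.IsAlgebraic A K := IsLocalization.isAlgebraic K (nonZeroDivisors A)
  have a2 : Algebra.IsAlgebraic B L := IsLocalization.isAlgebraic L (nonZeroDivisors B)
  have z1 : Algebra.trdeg A K = 0 := trdeg_eq_zero
  have z2 : Algebra.trdeg B L = 0 := trdeg_eq_zero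
  rw [z1, zero_add] at e1
  rw [z2, add_zero] at e2
  rw [e1, e2]

instance isOpenImmersion_map {n : Type u} {S T : Scheme.{u}} (f : S ⟶ T) [IsOpenImmersion f] :
    IsOpenImmersion (AffineSpace.map n f) :=
  MorphismProperty.of_isPullback (AffineSpace.isPullback_map (n := n) f).flip inferInstance

theorem isFractionRing_residueField {Y : Scheme.{u}} [IsIntegral Y] {V : Y.Opens}
    (hV : IsAffineOpen V) (y : Y) (hη : y = genericPoint Y) (hy : y ∈ V) :
    letI := (Y.evaluation V y hy).hom.toAlgebra
    IsFractionRing Γ(Y, V) (Y.residueField y) := by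
  subst hη
  let _ : Algebra Γ(Y, V) (Y.residueField (genericPoint Y)) :=
    (Y.evaluation V (genericPoint Y) hy).hom.toAlgebra
  have hne : Nonempty V := ⟨⟨_, hy⟩⟩
  have hk := Flat2E.GenPt.ker_evaluation_genericPoint hV.isCompact hy
  rw [nilradical_eq_zero] at hk
  have hinj : Function.Injective (algebraMap Γ(Y, V) (Y.residueField (genericPoint Y))) :=
    (RingHom.injective_iff_ker_eq_bot _).2 hk
  have : FaithfulSMul Γ(Y, V) (Y.residueField (genericPoint Y)) :=
    (faithfulSMul_iff_algebraMap_injective _ _).2 hinj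
  refine IsFractionRing.of_field Γ(Y, V) (Y.residueField (genericPoint Y)) fun z => ?_
  obtain ⟨a, s, hs, h⟩ := Flat2E.GenPt.exists_evaluation_mul_eq hV (genericPoint Y) hy z
  refine ⟨a, s, ?_⟩
  rw [eq_div_iff (by exact hs), mul_comm]
  exact h

theorem evaluation_map {X : Scheme.{u}} {U V : X.Opens} (i : V ≤ U) (x : X) (hx : x ∈ V)
    (s : Γ(X, U)) :
    X.evaluation V x hx (X.presheaf.map (homOfLE i).op s) = X.evaluation U x (i hx) s := by
  rw [← Scheme.germ_residue, ← Scheme.germ_residue, CommRingCat.comp_apply,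
    CommRingCat.comp_apply, TopCat.Presheaf.germ_res_apply]

theorem evaluation_appLE {X Y : Scheme.{u}} (f : X ⟶ Y) {U : Y.Opens} {V : X.Opens}
    (e : V ≤ f ⁻¹ᵁ U) (x : X) (hx : x ∈ V) (s : Γ(Y, U)) (hfx : f x ∈ U) :
    X.evaluation V x hx (f.appLE U V e s) = f.residueFieldMap x (Y.evaluation U (f x) hfx s) := by
  rw [Scheme.evaluation_naturality_apply, Scheme.Hom.appLE, CommRingCat.comp_apply]
  exact evaluation_map e x hx _

/-- Generic Noether normalisation + separable/inseparable factorisation: a dominant finite type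
integral `V` over an integral `S` has a nonempty open which is a universal homeomorphism over an
etale scheme over affine space. -/
theorem exists_noether {V S : Scheme.{u}} (f : V ⟶ S) [LocallyOfFiniteType f] [IsIntegral V]
    [IsIntegral S] [IsDominant f] :
    ∃ (n : ℕ) (V' : V.Opens) (_ : (V' : Set V).Nonempty) (_ : IsAffineOpen V') (W : Scheme.{u})
      (h : V'.toScheme ⟶ W) (w : W ⟶ 𝔸(ULift.{u} (Fin n); S)),
      trdegAt f (genericPoint V) = (n : Cardinal.{u}) ∧ IsIntegral W ∧ IsAffine W ∧
      IsFinite h ∧ UniversallyInjective h ∧ Surjective h ∧ Etale w ∧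
      h ≫ w ≫ (𝔸(ULift.{u} (Fin n); S) ↘ S) = V'.ι ≫ f := by
  have hgen : f (genericPoint V) = genericPoint S := by
    have h1 : IsGenericPoint (f (genericPoint V)) (closure (f '' Set.univ)) :=
      (genericPoint_spec V).image f.continuous
    have h2 : closure (f '' Set.univ) = Set.univ := by
      rw [Set.image_univ]
      exact (IsDominant.denseRange (f := f)).closure_range
    rw [h2] at h1
    exact h1.eq (genericPoint_spec S)
  obtain ⟨U, hU, hηU, -⟩ := exists_isAffineOpen_mem_and_subset
    (X := S) (x := f (genericPoint V)) (U := ⊤) trivial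
  obtain ⟨W, hW, hηW, hWU⟩ := exists_isAffineOpen_mem_and_subset
    (X := V) (x := genericPoint V) (U := f ⁻¹ᵁ U) hηU
  have e : W ≤ f ⁻¹ᵁ U := hWU
  have hneU : Nonempty U := ⟨⟨_, hηU⟩⟩
  have hneW : Nonempty W := ⟨⟨_, hηW⟩⟩
  let A := Γ(S, U)
  let B := Γ(V, W)
  let _ : Algebra A B := (f.appLE U W e).hom.toAlgebra
  have hft : Algebra.FiniteType A B := f.finiteType_appLE hU hW e
  let K := S.residueField (f (genericPoint V))
  let L := V.residueField (genericPoint V)
  let _ : Algebra A K := (S.evaluation U (f (genericPoint V)) hηU).hom.toAlgebra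
  let _ : Algebra B L := (V.evaluation W (genericPoint V) hηW).hom.toAlgebra
  let _ : Algebra K L := (f.residueFieldMap (genericPoint V)).hom.toAlgebra
  let _ : Algebra A L := ((algebraMap K L).comp (algebraMap A K)).toAlgebra
  have hK : IsFractionRing A K := isFractionRing_residueField hU _ hgen hηU
  have hL : IsFractionRing B L := isFractionRing_residueField hW _ rfl hηW
  have t1 : IsScalarTower A K L := IsScalarTower.of_algebraMap_eq fun _ => rfl
  have t2 : IsScalarTower A B L := IsScalarTower.of_algebraMap_eq fun a =>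
    (evaluation_appLE f e (genericPoint V) hηW a hηU).symm
  have hinj : Function.Injective (algebraMap A B) := by
    intro x y hxy
    have h1 : algebraMap A L x = algebraMap A L y := by
      rw [IsScalarTower.algebraMap_apply A B L, hxy, ← IsScalarTower.algebraMap_apply A B L]
    rw [IsScalarTower.algebraMap_apply A K L, IsScalarTower.algebraMap_apply A K L] at h1
    exact IsFractionRing.injective A K ((algebraMap K L).injective h1)
  have hfaith : FaithfulSMul A B := (faithfulSMul_iff_algebraMap_injective A B).2 hinj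
  obtain ⟨n, x, g, hn, hg, H⟩ := GeoNoetherAlg.exists_main A B
  let b : Γ(V, W) := MvPolynomial.aeval x g
  let V' : V.Opens := V.basicOpen b
  have hV' : IsAffineOpen V' := hW.basicOpen b
  have hV'W : V' ≤ W := V.basicOpen_le b
  have hne' : (V' : Set V).Nonempty := by
    by_contra h0
    rw [Set.not_nonempty_iff_eq_empty] at h0
    have h1 : V.basicOpen b = ⊥ := by
      ext y
      exact Set.ext_iff.mp h0 y
    rw [basicOpen_eq_bot_iff] at h1
    exact hg h1
  have hloc : IsLocalization.Away b Γ(V, V') := hW.isLocalization_basicOpen b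
  obtain ⟨C, _, _, _, ψ, h1, het, h3, h2, p, m, hp, h5⟩ := H Γ(V, V')
  let R := MvPolynomial (ULift.{u} (Fin n)) A
  let w : Spec (CommRingCat.of C) ⟶ 𝔸(ULift.{u} (Fin n); S) :=
    Spec.map (CommRingCat.ofHom (algebraMap R C)) ≫
      (AffineSpace.SpecIso (ULift.{u} (Fin n)) Γ(S, U)).inv ≫
        AffineSpace.map (ULift.{u} (Fin n)) hU.fromSpec
  let h : V'.toScheme ⟶ Spec (CommRingCat.of C) :=
    hV'.isoSpec.hom ≫ Spec.map (CommRingCat.ofHom ψ)
  have huh : IsIntegralHom (Spec.map (CommRingCat.ofHom ψ)) ∧
      UniversallyInjective (Spec.map (CommRingCat.ofHom ψ)) ∧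
      Surjective (Spec.map (CommRingCat.ofHom ψ)) := by
    let _ : Algebra C Γ(V, V') := ψ.toAlgebra
    have : Algebra.IsIntegral C Γ(V, V') := ⟨h3.to_isIntegral⟩
    have hker : RingHom.ker (algebraMap C Γ(V, V')) ≤ nilradical C := by
      rw [(RingHom.injective_iff_ker_eq_bot (algebraMap C Γ(V, V'))).1 h2]
      exact bot_le
    have h6 := Flat2E.PurInsepScheme.isUnivHomeo_Spec (A := C) (B := Γ(V, V')) hker p m h5
    rwa [S0415.result] at h6
  refine ⟨n, V', hne', hV', Spec (CommRingCat.of C), h, w, ?_, inferInstance, inferInstance,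
    ?_, ?_, ?_, ?_, ?_⟩
  · rw [← hn]
    exact trdeg_fractionField A B K L
  · have : IsFinite (Spec.map (CommRingCat.ofHom ψ)) := by
      rw [IsFinite.SpecMap_iff]
      exact h3
    infer_instance
  · exact MorphismProperty.comp_mem @UniversallyInjective _ _ inferInstance huh.2.1
  · have := huh.2.2
    infer_instance
  · have h6 : Etale (Spec.map (CommRingCat.ofHom (algebraMap R C))) := by
      rw [HasRingHomProperty.Spec_iff (P := @Etale)]
      exact RingHom.etale_algebraMap.2 het
    infer_instance
  · have h7 : CommRingCat.ofHom (MvPolynomial.C (σ := ULift.{u} (Fin n)) (R := A)) ≫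
        CommRingCat.ofHom (algebraMap R C) ≫ CommRingCat.ofHom ψ =
        f.appLE U V' (hV'W.trans e) := by
      ext a
      have h8 : ψ (algebraMap R C (MvPolynomial.C a)) =
          V.presheaf.map (homOfLE hV'W).op (f.appLE U W e a) := by
        rw [h1, MvPolynomial.aeval_C]
        rfl
      rw [← CommRingCat.comp_apply, Scheme.Hom.appLE_map] at h8
      exact h8
    simp only [h, w, Category.assoc, AffineSpace.map_over]
    rw [AffineSpace.SpecIso_inv_over_assoc, ← Spec.map_comp_assoc, ← Spec.map_comp_assoc]
    rw [h7, IsAffineOpen.SpecMap_appLE_fromSpec f hU hV', IsAffineOpen.isoSpec_hom_fromSpec_assoc]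

end Groth.Agent.Sga4h.GeoNoether
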