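import Groth.Agent.Etrest.ModAb
import Groth.Agent.CurvesA.ArtinSchreier
import Groth.Agent.EtpbcB.NKillEt
import Mathlib.Algebra.Homology.ShortComplex.ModuleCat

/-!
# Exactness of sequences of sheaves of `Λ`-modules on the small etale site in terms of sections
-/

set_option autoImplicit false
universe u

open CategoryTheory CategoryTheory.Limits AlgebraicGeometry Opposite

namespace Groth.Agent.Sga4h.ModSeq

open Groth.Agent.Etrest.ModAb

variable {Λ : Type (u + 1)} [CommRing Λ] {X Y : Scheme.{u}}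

/-- Exactness of a short complex of sheaves of modules in terms of local sections. -/
theorem exact_of_local (S : ShortComplex (EtModW.Mod Λ X))
    (h : ∀ (U : X.Etale) (s : EtModW.sect Λ S.X₂ U), S.g.hom.app (op U) s = 0 →
      ∀ x : U.left, ∃ (V : X.Etale) (g : V ⟶ U), (∃ v : V.left, g.left v = x) ∧
        ∃ t : EtModW.sect Λ S.X₁ V, S.f.hom.app (op V) t = S.X₂.obj.map g.op s) : S.Exact := by
  have h1 : (S.map (ab Λ X)).Exact := CurvesA.ArtinSchreier.exact_of_local _ h
  exact (ShortComplex.exact_map_iff_of_faithful S (ab Λ X)).1 h1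

theorem exact_of_sections (S : ShortComplex (EtModW.Mod Λ X))
    (h : ∀ (U : X.Etale) (s : EtModW.sect Λ S.X₂ U), S.g.hom.app (op U) s = 0 →
      ∃ t : EtModW.sect Λ S.X₁ U, S.f.hom.app (op U) t = s) : S.Exact := by
  refine exact_of_local S (fun U s hs x => ?_)
  obtain ⟨t, ht⟩ := h U s hs
  refine ⟨U, 𝟙 U, ⟨x, rfl⟩, t, ?_⟩
  rw [ht, op_id, CategoryTheory.Functor.map_id]
  rfl

/-- A morphism of sheaves of modules which is injective on sections is mono. -/
theorem mono_of_injective {F G : EtModW.Mod Λ X} (φ : F ⟶ G)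
    (h : ∀ (U : X.Etale) (s : EtModW.sect Λ F U), φ.hom.app (op U) s = 0 → s = 0) : Mono φ := by
  refine Sheaf.mono_of_injective φ (fun U => ?_)
  exact (injective_iff_map_eq_zero _).2 (fun s hs => h U.unop s hs)

/-- Pointwise surjective maps of sheaves of modules are epimorphisms. -/
theorem epi_of_surjective {F G : EtModW.Mod Λ X} (φ : F ⟶ G)
    (h : ∀ (U : X.Etale) (s : EtModW.sect Λ G U), ∃ t : EtModW.sect Λ F U,
      φ.hom.app (op U) t = s) : Epi φ := by
  have : ∀ V, Epi (φ.hom.app V) := fun V => by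
    rw [ModuleCat.epi_iff_surjective]
    exact h V.unop
  have : Epi φ.hom := NatTrans.epi_of_epi_app _
  exact (sheafToPresheaf X.smallEtaleTopology (ModuleCat.{u + 1} Λ)).epi_of_epi_map this

/-- Injectivity on sections of monomorphisms. -/
theorem injective_of_mono {F G : EtModW.Mod Λ X} (φ : F ⟶ G) [Mono φ] (U : X.Etale) :
    Function.Injective (φ.hom.app (op U)) := by
  have h1 : Mono ((sheafToPresheaf X.smallEtaleTopology (ModuleCat.{u + 1} Λ)).map φ) :=
    inferInstance
  have h2 : Mono (((sheafToPresheaf X.smallEtaleTopology (ModuleCat.{u + 1} Λ)).map φ).app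
    (op U)) := inferInstance
  exact (ModuleCat.mono_iff_injective _).1 h2

/-- Exactness on sections (on the left). -/
theorem sections_exact (S : ShortComplex (EtModW.Mod Λ X)) (hS : S.Exact) [Mono S.f]
    (U : X.Etale) (s : EtModW.sect Λ S.X₂ U) (hs : S.g.hom.app (op U) s = 0) :
    ∃ t : EtModW.sect Λ S.X₁ U, S.f.hom.app (op U) t = s := by
  let T : ShortComplex (ModuleCat.{u + 1} Λ) :=
    S.map (sheafToPresheaf X.smallEtaleTopology (ModuleCat.{u + 1} Λ) ⋙
      (evaluation _ _).obj (op U))
  have h1 : T.Exact := hS.map_of_mono_of_preservesKernel _ inferInstance inferInstance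
  exact (ShortComplex.moduleCat_exact_iff T).1 h1 s hs

/-- Sections-wise exact sequences are exact. -/
theorem shortExact_of_sections (S : ShortComplex (EtModW.Mod Λ X))
    (h1 : ∀ (U : X.Etale) (s : EtModW.sect Λ S.X₁ U), S.f.hom.app (op U) s = 0 → s = 0)
    (h2 : ∀ (U : X.Etale) (s : EtModW.sect Λ S.X₂ U), S.g.hom.app (op U) s = 0 →
      ∃ t : EtModW.sect Λ S.X₁ U, S.f.hom.app (op U) t = s)
    (h3 : ∀ (U : X.Etale) (s : EtModW.sect Λ S.X₃ U), ∃ t : EtModW.sect Λ S.X₂ U,
      S.g.hom.app (op U) t = s) : S.ShortExact where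
  exact := exact_of_sections S h2
  mono_f := mono_of_injective _ h1
  epi_g := epi_of_surjective _ h3

end Groth.Agent.Sga4h.ModSeq
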