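import Groth.Agent.Sga4h.HomRes
import Groth.Agent.Sga4h.ModDGood
import Groth.Agent.Sga4h.ModSeq
import Groth.Agent.EtpbcB.Acyc

/-!
# `homSh A I` is acyclic for direct images when `I` is injective

* `exists_flat`: every sheaf of modules is a quotient of a sheaf `P` such that `P ⊗ -` preserves
  monomorphisms;
* `injective_homSh`: `homSh P I` is injective for such `P`;
* `homSh_shortExact`: `0 → homSh C I → homSh B I → homSh A I → 0` is exact for
  `0 → A → B → C → 0` exact and `I` injective (also after direct image, `push_homSh_shortExact`);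
* `acyclic_homSh`: `R^q f_* (homSh A I) = 0` for `q > 0`, for every sheaf of modules `A`.
-/

set_option autoImplicit false
universe u

open CategoryTheory CategoryTheory.Limits AlgebraicGeometry Opposite MonoidalCategory

namespace Groth.Agent.Sga4h.HomAcyc

open Groth.Agent.Sga4h.ModDTensor Groth.Agent.Sga4h.EtPts Groth.Agent.Sga4h.PModRes
open Groth.Agent.Sga4h.HomSh Groth.Agent.Sga4h.HomRes Groth.Agent.EtpbcB.Acyc
open Groth.Agent.Sga4h.ModDGood

variable {Λ : Type (u + 1)} [CommRing Λ] {X Y : Scheme.{u}}

/-- There are enough projective presheaves of modules. -/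
theorem exists_projective (A : PMod Λ X) :
    ∃ (Q : PMod Λ X) (_ : Projective Q) (p : Q ⟶ A), Epi p := by
  have h := (isSeparator_iff_epi (sep Λ X)).1 (isSeparator_sep Λ X) A
  exact ⟨_, inferInstance, _, h⟩

/-- The stalks of a projective presheaf of modules are projective. -/
theorem projective_pstk (x : X) (Q : PMod Λ X) [Projective Q] :
    Projective ((pstk Λ x).obj Q) := by
  have : (psky Λ x).PreservesEpimorphisms := inferInstance
  exact (pstkAdj Λ x).map_projective Q inferInstance

theorem mono_tensorRight (P : ModuleCat.{u + 1} Λ) [Projective P] {M N : ModuleCat.{u + 1} Λ}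
    (g : M ⟶ N) [Mono g] : Mono ((tensorRight P).map g) := by
  have h1 : Module.Projective Λ P := (IsProjective.iff_projective (R := Λ) P).2 inferInstance
  rw [ModuleCat.mono_iff_injective] at *
  exact Module.Flat.rTensor_preserves_injective_linearMap (M := P) g.hom ‹_›

/-- `a(Q) ⊗ -` preserves monomorphisms if `Q` is a projective presheaf. -/
theorem preservesMono_flip (Q : PMod Λ X) [Projective Q] :
    ((EtModD.tensorBi Λ X).flip.obj ((sh Λ X).obj Q)).PreservesMonomorphisms where
  preserves {M N} g _ := by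
    suffices h : ∀ x, Mono ((stk Λ x).map
        (((EtModD.tensorBi Λ X).flip.obj ((sh Λ X).obj Q)).map g)) from
      (stk_jointly Λ X).mono _
    intro x
    have h1 := (stkTensorIso x ((sh Λ X).obj Q)).hom.naturality g
    have h2 : Projective ((stk Λ x).obj ((sh Λ X).obj Q)) :=
      have := projective_pstk x Q
      Projective.of_iso (((gpt x).presheafToSheafCompSheafFiberIso
        (ModuleCat.{u + 1} Λ)).symm.app Q) inferInstance
    have h3 : Mono ((tensorRight ((stk Λ x).obj ((sh Λ X).obj Q))).map ((stk Λ x).map g)) :=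
      mono_tensorRight _ _
    have h4 : Mono ((((EtModD.tensorBi Λ X).flip.obj ((sh Λ X).obj Q)) ⋙ stk Λ x).map g) := by
      have h5 : (((EtModD.tensorBi Λ X).flip.obj ((sh Λ X).obj Q)) ⋙ stk Λ x).map g =
          (stkTensorIso x ((sh Λ X).obj Q)).hom.app M ≫
            (tensorRight ((stk Λ x).obj ((sh Λ X).obj Q))).map ((stk Λ x).map g) ≫
              (stkTensorIso x ((sh Λ X).obj Q)).inv.app N := by
        have h6 := congrArg (fun k => k ≫ (stkTensorIso x ((sh Λ X).obj Q)).inv.app N) h1
        simp only [Category.assoc, Iso.hom_inv_id_app, Functor.comp_map] at h6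
        rw [Category.comp_id] at h6
        exact h6
      rw [h5]
      infer_instance
    exact h4

/-- `a(Q) ⊗ -` preserves monomorphisms if `Q` is a projective presheaf. -/
theorem preservesMono_tensor (Q : PMod Λ X) [Projective Q] :
    ((EtModD.tensorBi Λ X).obj ((sh Λ X).obj Q)).PreservesMonomorphisms := by
  have := preservesMono_flip Q
  exact Functor.PreservesMonomorphisms.of_iso (flipObjIso ((sh Λ X).obj Q))

/-- Every sheaf of modules is a quotient of a flat one. -/
theorem exists_flat (A : EtModW.Mod Λ X) :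
    ∃ (P : EtModW.Mod Λ X) (p : P ⟶ A), Epi p ∧
      ((EtModD.tensorBi Λ X).obj P).PreservesMonomorphisms := by
  obtain ⟨Q, _, p, hp⟩ := exists_projective ((inc Λ X).obj A)
  refine ⟨(sh Λ X).obj Q, (sh Λ X).map p ≫
    (sheafificationNatIso X.smallEtaleTopology (ModuleCat.{u + 1} Λ)).inv.app A, ?_,
    preservesMono_tensor Q⟩
  have h1 : Epi ((sh Λ X).map p) := inferInstance
  have h2 : Epi ((sheafificationNatIso X.smallEtaleTopology (ModuleCat.{u + 1} Λ)).inv.app A) :=
    inferInstance
  exact @epi_comp _ _ _ _ _ _ h1 _ h2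

/-- `homSh P I` is injective if `P` is flat and `I` is injective. -/
theorem injective_homSh (P I : EtModW.Mod Λ X) [Injective I]
    [((EtModD.tensorBi Λ X).obj P).PreservesMonomorphisms] : Injective (homSh P I) :=
  (homShAdj P).map_injective I inferInstance

theorem homSh_zero {S : ShortComplex (EtModW.Mod Λ X)} (H : EtModW.Mod Λ X) :
    homShMap₂ S.g (𝟙 H) ≫ homShMap₂ S.f (𝟙 H) = 0 := by
  have h := homShMap₂_comp S.f S.g (𝟙 H) (𝟙 H)
  rw [← h, S.zero]
  have h2 := homShMap₂_add_left (0 : S.X₁ ⟶ S.X₃) 0 (𝟙 H ≫ 𝟙 H)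
  rw [add_zero] at h2
  simpa using h2

/-- The sequence `homSh C H ⟶ homSh B H ⟶ homSh A H`. -/
noncomputable def homSeq (S : ShortComplex (EtModW.Mod Λ X)) (H : EtModW.Mod Λ X) :
    ShortComplex (EtModW.Mod Λ X) :=
  ShortComplex.mk (homShMap₂ S.g (𝟙 H)) (homShMap₂ S.f (𝟙 H)) (homSh_zero H)

/-- `homSh(-, I)` is exact if `I` is injective. -/
theorem homSh_shortExact {S : ShortComplex (EtModW.Mod Λ X)} (hS : S.ShortExact)
    (I : EtModW.Mod Λ X) [Injective I] : (homSeq S I).ShortExact := by
  have := hS.mono_f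
  have := hS.epi_g
  refine ModSeq.shortExact_of_sections _ ?_ ?_ ?_
  · intro U s hs
    exact injective_of_epi S.g U (hs.trans (map_zero _).symm)
  · intro U s hs
    exact exact_of_epi S hS.exact U s hs
  · intro U s
    exact surjective_of_mono S.f U s

/-- Direct images of the sequence `homSh C I ⟶ homSh B I ⟶ homSh A I`. -/
theorem push_homSh_shortExact {S : ShortComplex (EtModW.Mod Λ X)} (hS : S.ShortExact)
    (I : EtModW.Mod Λ X) [Injective I] (f : X ⟶ Y) :
    ((homSeq S I).map (EtModW.push Λ f)).ShortExact := by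
  have := hS.mono_f
  have := hS.epi_g
  refine ModSeq.shortExact_of_sections _ ?_ ?_ ?_
  · intro U s hs
    exact injective_of_epi S.g _ (Eq.trans hs (map_zero _).symm)
  · intro U s hs
    exact exact_of_epi S hS.exact _ s hs
  · intro U s
    exact surjective_of_mono S.f _ s

/-- A short exact sequence `0 → A' → P → A → 0` with `P` flat. -/
theorem exists_flat_seq (A : EtModW.Mod Λ X) :
    ∃ S : ShortComplex (EtModW.Mod Λ X), S.ShortExact ∧ S.X₃ = A ∧
      ((EtModD.tensorBi Λ X).obj S.X₂).PreservesMonomorphisms := by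
  obtain ⟨P, p, hp, hP⟩ := exists_flat A
  exact ⟨ShortComplex.mk (kernel.ι p) p (kernel.condition p),
    { exact := ShortComplex.exact_kernel p
      mono_f := inferInstanceAs (Mono (kernel.ι p))
      epi_g := hp }, rfl, hP⟩

/-- `homSh A I` is acyclic for direct images if `I` is injective. -/
theorem acyclic_homSh (f : X ⟶ Y) (A I : EtModW.Mod Λ X) [Injective I] :
    Acyclic (EtModW.push Λ f) (homSh A I) := by
  intro q hq
  obtain ⟨q, rfl⟩ : ∃ r, q = r + 1 := ⟨q - 1, by omega⟩
  induction q generalizing A with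
  | zero =>
    obtain ⟨S, hS, rfl, hP⟩ := exists_flat_seq A
    have h1 := homSh_shortExact hS I
    have h2 : Injective (homSh S.X₂ I) := injective_homSh S.X₂ I
    exact EtpbcB.RDerLES.isZero_one (EtModW.push Λ f) h1
      (acyclic_of_injective (EtModW.push Λ f) (homSh S.X₂ I) 1 (by omega))
      (push_homSh_shortExact hS I f).epi_g
  | succ q ih =>
    obtain ⟨S, hS, rfl, hP⟩ := exists_flat_seq A
    have h1 := homSh_shortExact hS I
    have h2 : Injective (homSh S.X₂ I) := injective_homSh S.X₂ I
    exact EtpbcB.RDerLES.isZero_left (EtModW.push Λ f) h1 (q + 1) (ih S.X₁ (by omega))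
      (acyclic_of_injective (EtModW.push Λ f) (homSh S.X₂ I) (q + 2) (by omega))

end Groth.Agent.Sga4h.HomAcyc
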