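import Mathlib.CategoryTheory.Sites.SheafHom
import Mathlib.Algebra.Category.ModuleCat.Limits
import Mathlib.Algebra.Category.ModuleCat.Monoidal.Symmetric
import Mathlib.Algebra.Category.ModuleCat.Adjunctions
import Mathlib.CategoryTheory.Monoidal.FunctorCategory
import Mathlib.CategoryTheory.Linear.FunctorCategory

/-!
# Explicit internal Hom of (pre)sheaves of `Λ`-modules

`homPre A H` is the presheaf of `Λ`-modules `W ↦ Hom(A|_{Over W}, H|_{Over W})`.  A section `φ` over
`W` is a family `ev φ g : A(W') ⟶ H(W')` for `g : W' ⟶ W`, natural in `W'` (`ev_naturality`, `mk`).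

* `homPreEquiv P Q R : (P ⊗ Q ⟶ R) ≃ (Q ⟶ homPre P R)`;
* `homPreF A`: the functor `H ↦ homPre A H`; `homPreMap f H : homPre B H ⟶ homPre A H` for
  `f : A ⟶ B`;
* `isSheaf_homPre`: `homPre A H` is a sheaf if `H` is.
-/

set_option autoImplicit false

universe u

open CategoryTheory CategoryTheory.Limits MonoidalCategory Opposite TensorProduct

namespace Groth.Agent.Sga4h.HomPre

variable {Λ : Type (u + 1)} [CommRing Λ] {C : Type (u + 1)} [Category.{u} C]

/-- The restriction of a presheaf to the category of objects over `W`. -/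
abbrev ov (W : C) (A : Cᵒᵖ ⥤ ModuleCat.{u + 1} Λ) : (Over W)ᵒᵖ ⥤ ModuleCat.{u + 1} Λ :=
  (Over.forget W).op ⋙ A

/-- The internal Hom of presheaves of modules. -/
noncomputable def homPre (A H : Cᵒᵖ ⥤ ModuleCat.{u + 1} Λ) : Cᵒᵖ ⥤ ModuleCat.{u + 1} Λ where
  obj W := ModuleCat.of Λ (ov W.unop A ⟶ ov W.unop H)
  map {W W'} f := ModuleCat.ofHom
    { toFun := fun φ => (presheafHom A H).map f φ
      map_add' := fun _ _ => rfl
      map_smul' := fun _ _ => rfl }
  map_id W := by
    ext φ : 2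
    exact ConcreteCategory.congr_hom ((presheafHom A H).map_id W) φ
  map_comp f g := by
    ext φ : 2
    exact ConcreteCategory.congr_hom ((presheafHom A H).map_comp f g) φ

section Ev

variable {A B H H' : Cᵒᵖ ⥤ ModuleCat.{u + 1} Λ} {W W' W'' : C}

/-- The component of a section of `homPre A H` over `W` at `g : W' ⟶ W`. -/
noncomputable def ev (φ : (homPre A H).obj (op W)) (g : W' ⟶ W) :
    A.obj (op W') ⟶ H.obj (op W') :=
  NatTrans.app (F := ov W A) (G := ov W H) φ (op (Over.mk g))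

@[reassoc]
theorem ev_naturality (φ : (homPre A H).obj (op W)) (g : W' ⟶ W) (h : W'' ⟶ W') :
    A.map h.op ≫ ev φ (h ≫ g) = ev φ g ≫ H.map h.op :=
  NatTrans.naturality (F := ov W A) (G := ov W H) φ
    (Over.homMk h : Over.mk (h ≫ g) ⟶ Over.mk g).op

theorem ev_naturality_apply (φ : (homPre A H).obj (op W)) (g : W' ⟶ W) (h : W'' ⟶ W')
    (a : A.obj (op W')) :
    (ev φ (h ≫ g)).hom (A.map h.op a) = H.map h.op ((ev φ g).hom a) :=
  ConcreteCategory.congr_hom (ev_naturality φ g h) a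

theorem ext_ev {φ ψ : (homPre A H).obj (op W)}
    (h : ∀ (W' : C) (g : W' ⟶ W), ev φ g = ev ψ g) : φ = ψ := by
  refine NatTrans.ext (funext fun X => ?_)
  exact h X.unop.left X.unop.hom

/-- Construct a section of `homPre A H` over `W`. -/
noncomputable def mk (f : ∀ (W' : C) (_ : W' ⟶ W), A.obj (op W') ⟶ H.obj (op W'))
    (hf : ∀ (W' W'' : C) (g : W' ⟶ W) (h : W'' ⟶ W'),
      A.map h.op ≫ f W'' (h ≫ g) = f W' g ≫ H.map h.op) : (homPre A H).obj (op W) :=
  show ov W A ⟶ ov W H from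
  { app := fun X => f X.unop.left X.unop.hom
    naturality := fun X Y k => by
      have h := hf X.unop.left Y.unop.left X.unop.hom k.unop.left
      rw [Over.w] at h
      exact h }

theorem ev_mk (f : ∀ (W' : C) (_ : W' ⟶ W), A.obj (op W') ⟶ H.obj (op W'))
    (hf : ∀ (W' W'' : C) (g : W' ⟶ W) (h : W'' ⟶ W'),
      A.map h.op ≫ f W'' (h ≫ g) = f W' g ≫ H.map h.op) (g : W' ⟶ W) :
    ev (mk f hf) g = f W' g := rfl

theorem ev_map (φ : (homPre A H).obj (op W)) (h : W' ⟶ W) (g : W'' ⟶ W') :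
    ev ((homPre A H).map h.op φ) g = ev φ (g ≫ h) := rfl

theorem ev_add (φ ψ : (homPre A H).obj (op W)) (g : W' ⟶ W) :
    ev (φ + ψ) g = ev φ g + ev ψ g := rfl

theorem ev_zero (g : W' ⟶ W) : ev (0 : (homPre A H).obj (op W)) g = 0 := rfl

theorem ev_smul (r : Λ) (φ : (homPre A H).obj (op W)) (g : W' ⟶ W) :
    ev (r • φ) g = r • ev φ g := rfl

end Ev

section Functoriality

variable {A B H H' : Cᵒᵖ ⥤ ModuleCat.{u + 1} Λ}

/-- Functoriality of `homPre` in both variables. -/
noncomputable def homPreMap₂ (f : A ⟶ B) (k : H ⟶ H') : homPre B H ⟶ homPre A H' where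
  app W := ModuleCat.ofHom
    { toFun := fun φ => Functor.whiskerLeft (Over.forget W.unop).op f ≫
        (show ov W.unop B ⟶ ov W.unop H from φ) ≫ Functor.whiskerLeft (Over.forget W.unop).op k
      map_add' := fun φ ψ => by
        refine (congrArg (fun x => _ ≫ x) (Preadditive.add_comp _ _ _ _ _ _)).trans
          (Preadditive.comp_add _ _ _ _ _ _)
      map_smul' := fun r φ => by
        refine (congrArg (fun x => _ ≫ x) (Linear.smul_comp _ _ _ r _ _)).trans
          (Linear.comp_smul _ _ _ _ r _) }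
  naturality _ _ _ := rfl

theorem ev_homPreMap₂ (f : A ⟶ B) (k : H ⟶ H') {W W' : C} (φ : (homPre B H).obj (op W))
    (g : W' ⟶ W) : ev ((homPreMap₂ f k).app (op W) φ) g = f.app (op W') ≫ ev φ g ≫ k.app (op W') :=
  rfl

theorem homPreMap₂_comp {A' A'' : Cᵒᵖ ⥤ ModuleCat.{u + 1} Λ} (f : A ⟶ A') (f' : A' ⟶ A'')
    {H'' : Cᵒᵖ ⥤ ModuleCat.{u + 1} Λ} (k : H ⟶ H') (k' : H' ⟶ H'') :
    homPreMap₂ (f ≫ f') (k ≫ k') = homPreMap₂ f' k ≫ homPreMap₂ f k' := by
  ext W φ : 4
  refine ext_ev (W := W.unop) (fun W' g => ?_)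
  refine Eq.trans (ev_homPreMap₂ (W := W.unop) _ _ φ g) ?_
  refine Eq.trans ?_ (ev_homPreMap₂ (W := W.unop) f k' _ g).symm
  refine Eq.trans ?_ (congrArg (fun x => _ ≫ x ≫ _)
    (ev_homPreMap₂ (W := W.unop) f' k φ g).symm)
  simp

theorem homPreMap₂_id : homPreMap₂ (𝟙 A) (𝟙 H) = 𝟙 (homPre A H) := by
  ext W φ : 4
  refine ext_ev (W := W.unop) (fun W' g => ?_)
  refine Eq.trans (ev_homPreMap₂ (W := W.unop) _ _ φ g) ?_
  exact (Category.id_comp _).trans (Category.comp_id _)

theorem homPreMap₂_add_left (f f' : A ⟶ B) (k : H ⟶ H') :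
    homPreMap₂ (f + f') k = homPreMap₂ f k + homPreMap₂ f' k := by
  ext W φ : 4
  refine ext_ev (W := W.unop) (fun W' g => ?_)
  refine Eq.trans (ev_homPreMap₂ (W := W.unop) _ _ φ g) ?_
  exact (Preadditive.add_comp _ _ _ _ _ _)

theorem homPreMap₂_add_right (f : A ⟶ B) (k k' : H ⟶ H') :
    homPreMap₂ f (k + k') = homPreMap₂ f k + homPreMap₂ f k' := by
  ext W φ : 4
  refine ext_ev (W := W.unop) (fun W' g => ?_)
  refine Eq.trans (ev_homPreMap₂ (W := W.unop) _ _ φ g) ?_
  exact (congrArg (fun x => _ ≫ x) (Preadditive.comp_add _ _ _ _ _ _)).trans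
    (Preadditive.comp_add _ _ _ _ _ _)

/-- The functor `H ↦ homPre A H`. -/
noncomputable def homPreF (A : Cᵒᵖ ⥤ ModuleCat.{u + 1} Λ) :
    (Cᵒᵖ ⥤ ModuleCat.{u + 1} Λ) ⥤ (Cᵒᵖ ⥤ ModuleCat.{u + 1} Λ) where
  obj H := homPre A H
  map k := homPreMap₂ (𝟙 A) k
  map_id H := homPreMap₂_id
  map_comp k k' := by
    rw [← homPreMap₂_comp, Category.comp_id]

/-- Contravariant functoriality of `homPreF`. -/
noncomputable def homPreFMap (f : A ⟶ B) : homPreF B ⟶ homPreF A where
  app H := homPreMap₂ f (𝟙 H)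
  naturality H H' k := by
    refine (homPreMap₂_comp f (𝟙 B) k (𝟙 H')).symm.trans ?_
    refine Eq.trans ?_ (homPreMap₂_comp (𝟙 A) f (𝟙 H) k)
    rw [Category.comp_id, Category.comp_id, Category.id_comp, Category.id_comp]

end Functoriality

section Sheaf

variable {J : GrothendieckTopology C}

set_option backward.isDefEq.respectTransparency false in
/-- `homPre A H` is a sheaf if `H` is. -/
theorem isSheaf_homPre (A H : Cᵒᵖ ⥤ ModuleCat.{u + 1} Λ) (hH : Presheaf.IsSheaf J H) :
    Presheaf.IsSheaf J (homPre A H) := by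
  rw [Presheaf.isSheaf_iff_isSheaf_forget J _ (forget (ModuleCat.{u + 1} Λ))]
  exact Presheaf.IsSheaf.hom A H hH

end Sheaf

section Adjunction

variable (P Q R : Cᵒᵖ ⥤ ModuleCat.{u + 1} Λ)

/-- From morphisms `P ⊗ Q ⟶ R` to morphisms `Q ⟶ homPre P R`. -/
noncomputable def toHomPre (φ : P ⊗ Q ⟶ R) : Q ⟶ homPre P R where
  app W := ModuleCat.ofHom
    { toFun := fun q => mk (W := W.unop)
        (fun W' g => ModuleCat.ofHom
          ((φ.app (op W')).hom ∘ₗ
            (TensorProduct.mk Λ (P.obj (op W')) (Q.obj (op W'))).flip (Q.map g.op q)))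
        (fun W' W'' g h => by
          ext p
          have h1 := ConcreteCategory.congr_hom (φ.naturality h.op)
            (p ⊗ₜ[Λ] (Q.map g.op q))
          have h2 : Q.map (h ≫ g).op q = Q.map h.op (Q.map g.op q) := by
            rw [op_comp, Functor.map_comp]; rfl
          change (φ.app (op W'')).hom (P.map h.op p ⊗ₜ[Λ] Q.map (h ≫ g).op q) = _
          rw [h2]
          exact h1)
      map_add' := fun q q' => by
        refine ext_ev (W := W.unop) (fun W' g => ?_)
        ext p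
        change (φ.app (op W')).hom (p ⊗ₜ[Λ] (Q.map g.op (q + q'))) =
          (φ.app (op W')).hom (p ⊗ₜ[Λ] (Q.map g.op q)) +
            (φ.app (op W')).hom (p ⊗ₜ[Λ] (Q.map g.op q'))
        rw [map_add, TensorProduct.tmul_add]
        exact map_add _ _ _
      map_smul' := fun r q => by
        refine ext_ev (W := W.unop) (fun W' g => ?_)
        ext p
        change (φ.app (op W')).hom (p ⊗ₜ[Λ] (Q.map g.op (r • q))) =
          r • (φ.app (op W')).hom (p ⊗ₜ[Λ] (Q.map g.op q))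
        rw [map_smul, TensorProduct.tmul_smul]
        exact map_smul _ _ _ }
  naturality W W' f := by
    ext q : 2
    refine ext_ev (W := W'.unop) (fun W'' g => ?_)
    ext p
    have h2 : Q.map (g ≫ f.unop).op q = Q.map g.op (Q.map f q) := by
      rw [op_comp, Functor.map_comp]; rfl
    exact congrArg (fun x => (φ.app (op W'')).hom (p ⊗ₜ[Λ] x)) h2.symm

theorem ev_toHomPre (φ : P ⊗ Q ⟶ R) {W W' : C} (q : Q.obj (op W)) (g : W' ⟶ W)
    (p : P.obj (op W')) :
    (ev ((toHomPre P Q R φ).app (op W) q) g).hom p =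
      (φ.app (op W')).hom (p ⊗ₜ[Λ] (Q.map g.op q)) := rfl

/-- From morphisms `Q ⟶ homPre P R` to morphisms `P ⊗ Q ⟶ R`. -/
noncomputable def ofHomPre (ψ : Q ⟶ homPre P R) : P ⊗ Q ⟶ R where
  app W := ModuleCat.ofHom (TensorProduct.lift (LinearMap.mk₂ Λ
    (fun p q => (ev (W := W.unop) ((ψ.app W).hom q) (𝟙 _)).hom p)
    (fun p p' q => map_add _ _ _)
    (fun r p q => map_smul _ _ _)
    (fun p q q' => by rw [map_add]; rfl)
    (fun r p q => by rw [map_smul]; rfl)))
  naturality W W' f := by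
    apply ModuleCat.MonoidalCategory.tensor_ext
    intro p q
    change (ev (W := W'.unop) ((ψ.app W').hom (Q.map f q)) (𝟙 _)).hom (P.map f p) =
      R.map f ((ev (W := W.unop) ((ψ.app W).hom q) (𝟙 _)).hom p)
    have h1 : (ψ.app W').hom (Q.map f q) = (homPre P R).map f ((ψ.app W).hom q) :=
      ConcreteCategory.congr_hom (ψ.naturality f) q
    rw [h1]
    have h2 := ev_naturality_apply (W := W.unop) ((ψ.app W).hom q) (𝟙 _) f.unop p
    refine Eq.trans ?_ h2
    have h3 : ev (W := W'.unop) ((homPre P R).map f.unop.op ((ψ.app W).hom q)) (𝟙 _) =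
      ev (W := W.unop) ((ψ.app W).hom q) (f.unop ≫ 𝟙 _) := by
      rw [ev_map]
      congr 1
      simp
    exact congrArg (fun k => (ModuleCat.Hom.hom k) (P.map f p)) h3

theorem ofHomPre_tmul (ψ : Q ⟶ homPre P R) {W : C} (p : P.obj (op W)) (q : Q.obj (op W)) :
    ((ofHomPre P Q R ψ).app (op W)).hom (p ⊗ₜ[Λ] q) =
      (ev ((ψ.app (op W)).hom q) (𝟙 _)).hom p := rfl

/-- The adjunction between tensor product and internal Hom of presheaves. -/
noncomputable def homPreEquiv : (P ⊗ Q ⟶ R) ≃ (Q ⟶ homPre P R) where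
  toFun := toHomPre P Q R
  invFun := ofHomPre P Q R
  left_inv φ := by
    ext W : 2
    apply ModuleCat.MonoidalCategory.tensor_ext
    intro p q
    change (φ.app W).hom (p ⊗ₜ[Λ] (Q.map (𝟙 W.unop).op q)) = (φ.app W).hom (p ⊗ₜ[Λ] q)
    have h : Q.map (𝟙 W.unop).op q = q := by
      rw [op_id, CategoryTheory.Functor.map_id]; rfl
    rw [h]
  right_inv ψ := by
    ext W q : 4
    refine ext_ev (W := W.unop) (fun W' g => ?_)
    ext p
    change (ev ((ψ.app (op W')).hom (Q.map g.op q)) (𝟙 _)).hom p =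
      (ev (W := W.unop) ((ψ.app W).hom q) g).hom p
    have h1 : (ψ.app (op W')).hom (Q.map g.op q) = (homPre P R).map g.op ((ψ.app W).hom q) :=
      ConcreteCategory.congr_hom (ψ.naturality g.op) q
    rw [h1, ev_map, Category.id_comp]

end Adjunction

end Groth.Agent.Sga4h.HomPre
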