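import Groth.Agent.Sga4h.HomPre
import Groth.Agent.Sga4h.ModDTensor

/-!
# Explicit internal Hom of sheaves of `Λ`-modules on the small etale site

* `homSh A H`: the sheaf `W ↦ Hom(A|_{Over W}, H|_{Over W})`, functorial: `homShMap₂`;
* `homShF A : Mod Λ X ⥤ Mod Λ X`, `homShAdj A : (tensorBi Λ X).obj A ⊣ homShF A`;
* `homShIso A : EtModD.sheafHom A ≅ homShF A`.
-/

set_option autoImplicit false

universe u

open CategoryTheory CategoryTheory.Limits MonoidalCategory Opposite TensorProduct AlgebraicGeometry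

namespace Groth.Agent.Sga4h.HomSh

open HomPre ModDTensor

section Nat

variable {Λ : Type (u + 1)} [CommRing Λ] {C : Type (u + 1)} [Category.{u} C]

theorem toHomPre_natural_left {P Q Q' R : Cᵒᵖ ⥤ ModuleCat.{u + 1} Λ} (f : Q' ⟶ Q)
    (φ : P ⊗ Q ⟶ R) : toHomPre P Q' R (P ◁ f ≫ φ) = f ≫ toHomPre P Q R φ := by
  ext W q : 4
  refine ext_ev (W := W.unop) (fun W' g => ?_)
  ext p
  change (φ.app (op W')).hom (p ⊗ₜ[Λ] (f.app (op W')).hom (Q'.map g.op q)) =
    (φ.app (op W')).hom (p ⊗ₜ[Λ] Q.map g.op ((f.app W).hom q))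
  congr 2
  exact ConcreteCategory.congr_hom (f.naturality g.op) q

theorem toHomPre_natural_right {P Q R R' : Cᵒᵖ ⥤ ModuleCat.{u + 1} Λ} (φ : P ⊗ Q ⟶ R)
    (k : R ⟶ R') :
    toHomPre P Q R' (φ ≫ k) = toHomPre P Q R φ ≫ homPreMap₂ (𝟙 P) k := by
  ext W q : 4
  refine ext_ev (W := W.unop) (fun W' g => ?_)
  ext p
  rfl

theorem toHomPre_natural_fst {P P' Q R : Cᵒᵖ ⥤ ModuleCat.{u + 1} Λ} (f : P' ⟶ P)
    (φ : P ⊗ Q ⟶ R) : toHomPre P' Q R (f ▷ Q ≫ φ) = toHomPre P Q R φ ≫ homPreMap₂ f (𝟙 R) := by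
  ext W q : 4
  refine ext_ev (W := W.unop) (fun W' g => ?_)
  ext p
  rfl

end Nat

variable {Λ : Type (u + 1)} [CommRing Λ] {X : Scheme.{u}}

/-- The internal Hom sheaf. -/
noncomputable def homSh (A H : EtModW.Mod Λ X) : EtModW.Mod Λ X :=
  ⟨homPre A.obj H.obj, isSheaf_homPre _ _ H.property⟩

/-- Functoriality of `homSh`. -/
noncomputable def homShMap₂ {A B H H' : EtModW.Mod Λ X} (f : A ⟶ B) (k : H ⟶ H') :
    homSh B H ⟶ homSh A H' := ⟨homPreMap₂ f.hom k.hom⟩

theorem homShMap₂_comp {A A' A'' H H' H'' : EtModW.Mod Λ X} (f : A ⟶ A') (f' : A' ⟶ A'')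
    (k : H ⟶ H') (k' : H' ⟶ H'') :
    homShMap₂ (f ≫ f') (k ≫ k') = homShMap₂ f' k ≫ homShMap₂ f k' := by
  ext : 1
  exact homPreMap₂_comp _ _ _ _

theorem homShMap₂_id (A H : EtModW.Mod Λ X) : homShMap₂ (𝟙 A) (𝟙 H) = 𝟙 (homSh A H) := by
  ext : 1
  exact homPreMap₂_id

theorem homShMap₂_add_left {A B H H' : EtModW.Mod Λ X} (f f' : A ⟶ B) (k : H ⟶ H') :
    homShMap₂ (f + f') k = homShMap₂ f k + homShMap₂ f' k := by
  ext : 1
  exact homPreMap₂_add_left _ _ _

theorem homShMap₂_add_right {A B H H' : EtModW.Mod Λ X} (f : A ⟶ B) (k k' : H ⟶ H') :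
    homShMap₂ f (k + k') = homShMap₂ f k + homShMap₂ f k' := by
  ext : 1
  exact homPreMap₂_add_right _ _ _

/-- The internal Hom functor. -/
noncomputable def homShF (A : EtModW.Mod Λ X) : EtModW.Mod Λ X ⥤ EtModW.Mod Λ X where
  obj H := homSh A H
  map k := homShMap₂ (𝟙 A) k
  map_id H := homShMap₂_id A H
  map_comp k k' := by rw [← homShMap₂_comp, Category.comp_id]

/-- Contravariant functoriality of the internal Hom functor. -/
noncomputable def homShFMap {A B : EtModW.Mod Λ X} (f : A ⟶ B) : homShF B ⟶ homShF A where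
  app H := homShMap₂ f (𝟙 H)
  naturality H H' k := by
    refine (homShMap₂_comp f (𝟙 B) k (𝟙 H')).symm.trans ?_
    refine Eq.trans ?_ (homShMap₂_comp (𝟙 A) f (𝟙 H) k)
    rw [Category.comp_id, Category.comp_id, Category.id_comp, Category.id_comp]

theorem homShFMap_app {A B : EtModW.Mod Λ X} (f : A ⟶ B) (H : EtModW.Mod Λ X) :
    (homShFMap f).app H = homShMap₂ f (𝟙 H) := rfl

theorem homShFMap_id (A : EtModW.Mod Λ X) : homShFMap (𝟙 A) = 𝟙 (homShF A) := by
  ext H : 2
  exact homShMap₂_id A H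

theorem homShFMap_comp {A B B' : EtModW.Mod Λ X} (f : A ⟶ B) (g : B ⟶ B') :
    homShFMap (f ≫ g) = homShFMap g ≫ homShFMap f := by
  ext H : 2
  refine Eq.trans ?_ (homShMap₂_comp f g (𝟙 H) (𝟙 H))
  rw [Category.comp_id]
  rfl

/-- The adjunction between tensor product and the explicit internal Hom. -/
noncomputable def homShAdj (A : EtModW.Mod Λ X) : (EtModD.tensorBi Λ X).obj A ⊣ homShF A :=
  Adjunction.mkOfHomEquiv
    { homEquiv := fun G H =>
        ((sheafificationAdjunction X.smallEtaleTopology (ModuleCat.{u + 1} Λ)).homEquiv _ H).trans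
          ((homPreEquiv ((inc Λ X).obj A) ((inc Λ X).obj G) ((inc Λ X).obj H)).trans
            ((fullyFaithfulSheafToPresheaf X.smallEtaleTopology (ModuleCat.{u + 1} Λ)).homEquiv
              (X := G) (Y := (homShF A).obj H)).symm)
      homEquiv_naturality_left_symm := by
        intro G G' H f g
        have h1 : (homPreEquiv ((inc Λ X).obj A) ((inc Λ X).obj G) ((inc Λ X).obj H)).symm
            ((inc Λ X).map f ≫ (inc Λ X).map g) =
            (((inc Λ X).obj A : PMod Λ X) ◁ ((inc Λ X).map f)) ≫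
              (homPreEquiv ((inc Λ X).obj A) ((inc Λ X).obj G') ((inc Λ X).obj H)).symm
                ((inc Λ X).map g) := by
          rw [Equiv.symm_apply_eq]
          refine Eq.trans ?_ (toHomPre_natural_left _ _).symm
          exact congrArg (fun x => (inc Λ X).map f ≫ x)
            ((homPreEquiv ((inc Λ X).obj A) ((inc Λ X).obj G')
              ((inc Λ X).obj H)).apply_symm_apply ((inc Λ X).map g)).symm
        have h2 := (sheafificationAdjunction X.smallEtaleTopology
          (ModuleCat.{u + 1} Λ)).homEquiv_naturality_left_symm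
            (((inc Λ X).obj A : PMod Λ X) ◁ ((inc Λ X).map f))
            ((homPreEquiv ((inc Λ X).obj A) ((inc Λ X).obj G') ((inc Λ X).obj H)).symm
              ((inc Λ X).map g))
        exact (congrArg _ h1).trans h2
      homEquiv_naturality_right := by
        intro G H H' f g
        have h1 := (sheafificationAdjunction X.smallEtaleTopology
          (ModuleCat.{u + 1} Λ)).homEquiv_naturality_right f g
        have h2 := toHomPre_natural_right (P := (inc Λ X).obj A) (Q := (inc Λ X).obj G)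
          ((sheafificationAdjunction X.smallEtaleTopology
            (ModuleCat.{u + 1} Λ)).homEquiv _ _ f) ((inc Λ X).map g)
        ext : 1
        exact (congrArg _ h1).trans h2 }

instance additive_homShF (A : EtModW.Mod Λ X) : (homShF A).Additive :=
  (homShAdj A).right_adjoint_additive

/-- The chosen `sheafHom A` is isomorphic to the explicit internal Hom `homShF A`. -/
noncomputable def homShIso (A : EtModW.Mod Λ X) [EtModD.HasSheafHom A] :
    EtModD.sheafHom A ≅ homShF A :=
  (EtModD.sheafHomAdj A).rightAdjointUniq (homShAdj A)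

/-- Sections of `homSh A H` over `W`: the component at `g : W' ⟶ W`. -/
noncomputable abbrev hev {A H : EtModW.Mod Λ X} {W W' : X.Etale}
    (φ : (homSh A H).obj.obj (op W)) (g : W' ⟶ W) :
    A.obj.obj (op W') ⟶ H.obj.obj (op W') :=
  ev (A := A.obj) (H := H.obj) φ g

/-- A morphism of sheaves defines a section of `homSh` over every object. -/
noncomputable def ofHom {A H : EtModW.Mod Λ X} (W : X.Etale) (f : A ⟶ H) :
    (homSh A H).obj.obj (op W) :=
  mk (A := A.obj) (H := H.obj) (W := W) (fun W' _ => f.hom.app (op W'))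
    (fun _ _ _ h => f.hom.naturality h.op)

theorem ev_ofHom {A H : EtModW.Mod Λ X} {W W' : X.Etale} (f : A ⟶ H) (g : W' ⟶ W) :
    hev (ofHom W f) g = f.hom.app (op W') := rfl

end Groth.Agent.Sga4h.HomSh
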