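import Groth.Agent.Sga4h.CycloAlg
import Groth.Agent.Hensel.FiniteEtaleLift
import Mathlib.AlgebraicGeometry.Morphisms.Etale
import Mathlib.AlgebraicGeometry.AffineScheme
import Mathlib.RingTheory.Polynomial.Eisenstein.Basic
import Mathlib.RingTheory.Polynomial.GaussLemma

/-!
# Kummer coverings

`IsKum π n f x`: `π : T ⟶ U` is the universal `U`-scheme with an `n`-th root `x` of `f ∈ Γ(U)`.
-/

set_option autoImplicit false

universe u

open CategoryTheory CategoryTheory.Limits AlgebraicGeometry Polynomial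

namespace Groth.Agent.Sga4h.KumCov250

/-- `π : T ⟶ U` is the covering of the `n`-th roots of `f`, with universal root `x`. -/
structure IsKum {T U : Scheme.{u}} (π : T ⟶ U) (n : ℕ) (f : Γ(U, ⊤)) (x : Γ(T, ⊤)) : Prop where
  pow_eq : x ^ n = π.appTop.hom f
  exists_lift : ∀ {Z : Scheme.{u}} (h : Z ⟶ U) (y : Γ(Z, ⊤)), y ^ n = h.appTop.hom f →
    ∃ k : Z ⟶ T, k ≫ π = h ∧ k.appTop.hom x = y
  uniq : ∀ {Z : Scheme.{u}} (k k' : Z ⟶ T), k ≫ π = k' ≫ π → k.appTop.hom x = k'.appTop.hom x → k = k'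

section Construction

variable (U : Scheme.{u}) (n : ℕ) (f : Γ(U, ⊤))

/-- The polynomial `X ^ n - f`. -/
noncomputable abbrev P : Γ(U, ⊤)[X] := X ^ n - C f

/-- The ring `Γ(U)[X]/(X ^ n - f)`. -/
noncomputable abbrev B : CommRingCat.{u} := CommRingCat.of (AdjoinRoot (P U n f))

/-- The map `Γ(U) ⟶ Γ(U)[X]/(X ^ n - f)`. -/
noncomputable def of : Γ(U, ⊤) ⟶ B U n f := CommRingCat.ofHom (AdjoinRoot.of (P U n f))

/-- The covering. -/
noncomputable def T : Scheme.{u} := pullback (Spec.map (of U n f)) U.toSpecΓ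

/-- The structure morphism. -/
noncomputable def π : T U n f ⟶ U := pullback.snd _ _

/-- The other projection. -/
noncomputable def ρ : T U n f ⟶ Spec (B U n f) := pullback.fst _ _

theorem ρ_comp : ρ U n f ≫ Spec.map (of U n f) = π U n f ≫ U.toSpecΓ := pullback.condition

/-- The universal root. -/
noncomputable def x : Γ(T U n f, ⊤) :=
  (ρ U n f).appTop.hom ((Scheme.ΓSpecIso (B U n f)).inv.hom (AdjoinRoot.root (P U n f)))

theorem root_pow : AdjoinRoot.root (P U n f) ^ n = AdjoinRoot.of (P U n f) f := by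
  have h := AdjoinRoot.eval₂_root (P U n f)
  rw [eval₂_sub, eval₂_X_pow, eval₂_C, sub_eq_zero] at h
  exact h

variable {U n f}

theorem appTop_of {Z : Scheme.{u}} (k : Z ⟶ Spec (B U n f)) (h : Z ⟶ U)
    (w : k ≫ Spec.map (of U n f) = h ≫ U.toSpecΓ) (a : Γ(U, ⊤)) :
    k.appTop.hom ((Scheme.ΓSpecIso (B U n f)).inv.hom (AdjoinRoot.of (P U n f) a)) = h.appTop.hom a := by
  have h1 : of U n f ≫ (Scheme.ΓSpecIso (B U n f)).inv ≫ k.appTop = h.appTop := by
    have h2 := congrArg (fun k => (Scheme.ΓSpecIso Γ(U, ⊤)).inv ≫ Scheme.Hom.appTop k) w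
    simp only [Scheme.Hom.comp_appTop] at h2
    rw [Scheme.ΓSpecIso_inv_naturality_assoc, h2, Scheme.toSpecΓ_appTop, Iso.inv_hom_id_assoc]
  exact congrArg (fun k => k.hom a) h1

theorem isKum : IsKum (π U n f) n f (x U n f) where
  pow_eq := by
    unfold x
    rw [← map_pow, ← map_pow, root_pow]
    exact appTop_of _ _ (ρ_comp U n f) f
  exists_lift {Z} h y hy := by
    have hy' : (P U n f).eval₂ h.appTop.hom y = 0 := by
      rw [eval₂_sub, eval₂_X_pow, eval₂_C, hy, sub_self]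
    let φ : AdjoinRoot (P U n f) →+* Γ(Z, ⊤) := AdjoinRoot.lift h.appTop.hom y hy'
    let k₀ : Z ⟶ Spec (B U n f) := Z.toSpecΓ ≫ Spec.map (CommRingCat.ofHom φ)
    have hk₀ : k₀ ≫ Spec.map (of U n f) = h ≫ U.toSpecΓ := by
      have h1 : of U n f ≫ CommRingCat.ofHom φ = h.appTop := by
        ext a
        exact AdjoinRoot.lift_of hy'
      change (Z.toSpecΓ ≫ Spec.map (CommRingCat.ofHom φ)) ≫ Spec.map (of U n f) = _
      rw [Category.assoc, ← Spec.map_comp, h1, Scheme.toSpecΓ_naturality]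
    obtain ⟨k, h2, h2'⟩ : ∃ k : Z ⟶ T U n f, k ≫ ρ U n f = k₀ ∧ k ≫ π U n f = h :=
      ⟨pullback.lift k₀ h hk₀, pullback.lift_fst _ _ _, pullback.lift_snd _ _ _⟩
    refine ⟨k, h2', ?_⟩
    have h3 : (Scheme.ΓSpecIso (B U n f)).inv ≫ k₀.appTop = CommRingCat.ofHom φ := by
      change _ ≫ (Z.toSpecΓ ≫ Spec.map (CommRingCat.ofHom φ)).appTop = _
      rw [Scheme.Hom.comp_appTop, ← Scheme.ΓSpecIso_inv_naturality_assoc, Scheme.toSpecΓ_appTop,
        Iso.inv_hom_id, Category.comp_id]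
    unfold x
    have h4 : (ρ U n f).appTop ≫ k.appTop = k₀.appTop := by
      rw [← Scheme.Hom.comp_appTop, h2]
    refine (congrArg (fun k => k.hom ((Scheme.ΓSpecIso (B U n f)).inv.hom
      (AdjoinRoot.root (P U n f)))) h4).trans ?_
    refine (congrArg (fun k => k.hom (AdjoinRoot.root (P U n f))) h3).trans ?_
    exact AdjoinRoot.lift_root hy'
  uniq {Z} k k' h hx := by
    refine pullback.hom_ext ?_ h
    change k ≫ ρ U n f = k' ≫ ρ U n f
    apply ext_of_isAffine
    rw [← cancel_epi (Scheme.ΓSpecIso (B U n f)).inv]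
    apply CommRingCat.hom_ext
    apply AdjoinRoot.ringHom_ext
    · ext a
      have h1 := appTop_of (k ≫ ρ U n f) (k ≫ π U n f) (by rw [Category.assoc, ρ_comp, Category.assoc]) a
      have h2 := appTop_of (k' ≫ ρ U n f) (k' ≫ π U n f) (by rw [Category.assoc, ρ_comp, Category.assoc]) a
      exact h1.trans ((congrArg (fun k => k.appTop.hom a) h).trans h2.symm)
    · unfold x at hx
      rw [Scheme.Hom.comp_appTop, Scheme.Hom.comp_appTop]
      exact hx

theorem etale (hn0 : n ≠ 0) (hn : IsUnit (n : Γ(U, ⊤))) (hf : IsUnit f) : Etale (π U n f) := by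
  have h1 : (P U n f).Separable := by
    obtain ⟨f, rfl⟩ := hf
    exact separable_X_pow_sub_C_unit f hn
  have h2 : Algebra.Etale Γ(U, ⊤) (AdjoinRoot (P U n f)) :=
    Hensel.FiniteEtaleLift.etale_adjoinRoot _ (monic_X_pow_sub_C f hn0) h1
  have h3 : Etale (Spec.map (of U n f)) := by
    rw [HasRingHomProperty.Spec_iff (P := @Etale)]
    exact RingHom.etale_algebraMap.2 h2
  exact inferInstanceAs (Etale (pullback.snd (Spec.map (of U n f)) U.toSpecΓ))

end Construction

end Groth.Agent.Sga4h.KumCov250
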