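import Groth.Agent.Sga4h.X144Geo2
import Groth.Agent.Sga4h.ModRestr
import Groth.Agent.Etrest.ModAb
import Groth.Agent.Sga4B.ConstLC
import Groth.Agent.Etcore.LCPull

/-!
# Constant sheaves of modules on normal schemes of dimension at most one (for S3144)

* `LCM Λ X M` : the sheaf of locally constant `M`-valued functions as a sheaf of `Λ`-modules, and
  `constIsoLCM : EtModW.constMod Λ X M ≅ LCM Λ X M`.
* `isIso_unit_const` : for `S` regular of dimension `≤ 1` and `j : U ⟶ S` a dense open immersion the
  constant sheaf of modules on `S` is the direct image of its restriction to `U`.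
-/

set_option autoImplicit false
universe u

open CategoryTheory CategoryTheory.Limits AlgebraicGeometry Opposite

namespace Groth.Agent.Sga4h.X144Nrm

open Groth.Agent.Sga4h.ModRestr Groth.Agent.Sga4h.EtaleRes Groth.Agent.Sga4B.ConstLC
  Groth.Agent.Etrest.ModAb Groth.Agent.Sga4h.X144Geo2

variable (Λ : Type (u + 1)) [CommRing Λ] (X : Scheme.{u}) (M : Type (u + 1)) [AddCommGroup M]
  [Module Λ M]

/-- The presheaf of modules of locally constant functions. -/
noncomputable def LCMpre : X.Etaleᵒᵖ ⥤ ModuleCat.{u + 1} Λ where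
  obj U := ModuleCat.of Λ (LocallyConstant U.unop.left M)
  map f := ModuleCat.ofHom (LocallyConstant.comapₗ Λ (cmap f.unop.left))
  map_id U := by
    ext g
    rfl
  map_comp f g := by
    ext h
    rfl

theorem isSheaf_LCMpre : Presheaf.IsSheaf X.smallEtaleTopology (LCMpre Λ X M) := by
  have h : Presheaf.IsSheaf X.smallEtaleTopology (LCMpre Λ X M ⋙ fg Λ) := isSheaf_LCpre X M
  exact Presheaf.isSheaf_of_isSheaf_comp _ _ (fg Λ) h

/-- The sheaf of modules of locally constant functions. -/
noncomputable def LCM : EtModW.Mod Λ X := ⟨LCMpre Λ X M, isSheaf_LCMpre Λ X M⟩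

/-- The map from the constant presheaf to locally constant functions. -/
noncomputable def constPreToLCM :
    (Functor.const X.Etaleᵒᵖ).obj (ModuleCat.of Λ M) ⟶ LCMpre Λ X M where
  app U := ModuleCat.ofHom
    { toFun := fun a => LocallyConstant.const _ a
      map_add' := fun _ _ => rfl
      map_smul' := fun _ _ => rfl }
  naturality U V f := by
    ext a
    rfl

theorem constPreToLCM_W : X.smallEtaleTopology.W (constPreToLCM Λ X M) := by
  rw [GrothendieckTopology.W_iff_isLocallyBijective]
  have h := constPreToLC_W X M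
  rw [GrothendieckTopology.W_iff_isLocallyBijective] at h
  obtain ⟨h1, h2⟩ := h
  exact ⟨⟨fun {U} a b hab => h1.equalizerSieve_mem (X := U) a b hab⟩,
    ⟨fun {U} s => h2.imageSieve_mem (U := U) s⟩⟩

/-- The canonical map from the constant sheaf to the sheaf of locally constant functions. -/
noncomputable def constToLCM : EtModW.constMod Λ X M ⟶ LCM Λ X M :=
  ((sheafificationAdjunction X.smallEtaleTopology (ModuleCat.{u + 1} Λ)).homEquiv
    ((Functor.const X.Etaleᵒᵖ).obj (ModuleCat.of Λ M)) (LCM Λ X M)).symm (constPreToLCM Λ X M)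

theorem toSheafify_constToLCM :
    toSheafify X.smallEtaleTopology ((Functor.const X.Etaleᵒᵖ).obj (ModuleCat.of Λ M)) ≫
      (constToLCM Λ X M).hom = constPreToLCM Λ X M := by
  have := ((sheafificationAdjunction X.smallEtaleTopology (ModuleCat.{u + 1} Λ)).homEquiv
    ((Functor.const X.Etaleᵒᵖ).obj (ModuleCat.of Λ M)) (LCM Λ X M)).apply_symm_apply
      (constPreToLCM Λ X M)
  rw [Adjunction.homEquiv_unit] at this
  exact this

instance isIso_constToLCM : IsIso (constToLCM Λ X M) := by
  rw [← GrothendieckTopology.W_sheafToPresheaf_map_iff_isIso]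
  apply MorphismProperty.of_precomp (W' := X.smallEtaleTopology.W) X.smallEtaleTopology.W
    (toSheafify X.smallEtaleTopology ((Functor.const X.Etaleᵒᵖ).obj (ModuleCat.of Λ M)))
  · exact X.smallEtaleTopology.W_toSheafify _
  · have := toSheafify_constToLCM Λ X M
    change X.smallEtaleTopology.W (toSheafify X.smallEtaleTopology
      ((Functor.const X.Etaleᵒᵖ).obj (ModuleCat.of Λ M)) ≫ (constToLCM Λ X M).hom)
    rw [this]
    exact constPreToLCM_W Λ X M

/-- The constant sheaf of modules is the sheaf of locally constant functions. -/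
noncomputable def constIsoLCM : EtModW.constMod Λ X M ≅ LCM Λ X M := asIso (constToLCM Λ X M)

/-- A morphism of sheaves of modules which is bijective on all sections is an isomorphism. -/
theorem isIso_of_bijective {X : Scheme.{u}} {F G : EtModW.Mod Λ X} (α : F ⟶ G)
    (h : ∀ U : X.Etale, Function.Bijective (α.hom.app (op U))) : IsIso α := by
  have h1 : ∀ U : X.Etaleᵒᵖ, IsIso (α.hom.app U) := by
    intro U
    rw [ConcreteCategory.isIso_iff_bijective]
    exact h U.unop
  have h2 : IsIso α.hom := NatIso.isIso_of_isIso_app _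
  exact (isIso_iff_of_reflects_iso α
    (sheafToPresheaf X.smallEtaleTopology (ModuleCat.{u + 1} Λ))).1 h2

/-- criterion for the unit of restriction-direct image to be an isomorphism on constant sheaves. -/
theorem isIso_unit_of_bijective {S U : Scheme.{u}} (j : U ⟶ S) [Etale j]
    (h : ∀ V : S.Etale, Function.Bijective (LocallyConstant.comap (Z := M)
      (cmap (pullback.fst V.hom j : ((EtCoh.bc j).obj V).left ⟶ V.left)))) :
    IsIso ((resPushAdj Λ j).unit.app (EtModW.constMod Λ S M)) := by
  rw [NatTrans.isIso_app_iff_of_iso _ (constIsoLCM Λ S M)]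
  apply isIso_of_bijective
  intro V
  exact h V

theorem isIso_unit_const {S U : Scheme.{u}} [IsLocallyNoetherian S]
    (hreg : ∀ s : S, IsRegularLocalRing (S.presheaf.stalk s))
    (hdim : ∀ s : S, ringKrullDim (S.presheaf.stalk s) ≤ 1)
    (j : U ⟶ S) [IsOpenImmersion j] (hU : Dense (Set.range j.base)) (Λ : Type (u + 1)) [CommRing Λ]
    (M : Type (u + 1)) [AddCommGroup M] [Module Λ M] :
    IsIso ((resPushAdj Λ j).unit.app (EtModW.constMod Λ S M)) := by
  apply isIso_unit_of_bijective
  intro V
  have : Etale V.hom := V.prop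
  obtain ⟨hr, hd⟩ := geo2 hreg hdim V.hom
  have hln : IsLocallyNoetherian V.left :=
    LocallyOfFiniteType.isLocallyNoetherian (X := V.left) (Y := S) V.hom
  have hrange : Set.range (pullback.fst V.hom j) = V.hom ⁻¹' Set.range j.base := by
    rw [Scheme.Pullback.range_fst]
  have hdense : Dense (Set.range (pullback.fst V.hom j)) := by
    rw [hrange]
    exact hU.preimage V.hom.isOpenMap
  have hop : Topology.IsOpenEmbedding (pullback.fst V.hom j) :=
    (pullback.fst V.hom j).isOpenEmbedding
  apply Groth.Agent.Etcore.LCPull.bijective_comap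
  · intro W hW hne
    obtain ⟨w, hw, y, rfl⟩ := hdense.inter_open_nonempty W hW hne
    exact ⟨y, hw⟩
  · intro v
    have : IsDomain (V.left.presheaf.stalk v) :=
      Groth.Agent.Ega2.RegLow.isDomain _ (h := hr v) (hd v)
    obtain ⟨W0, hv0, hW0, hint, -⟩ := Groth.Agent.Ega2.LocalExt.exists_integral_nhd (Y := V.left) v
      (FractionRing (V.left.presheaf.stalk v))
    refine ⟨(W0 : Set V.left), W0.isOpen, hv0, ?_⟩
    rw [← hop.isInducing.isPreconnected_image, Set.image_preimage_eq_inter_range]
    have h1 : IsPreirreducible (W0 : Set V.left) := by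
      have := (PreirreducibleSpace.isPreirreducible_univ (X := (W0 : Scheme.{u}))).image
        W0.ι W0.ι.continuous.continuousOn
      rwa [Set.image_univ, Scheme.Opens.range_ι] at this
    exact (h1.open_subset (W0.isOpen.inter hop.isOpen_range) Set.inter_subset_left).isPreconnected

end Groth.Agent.Sga4h.X144Nrm
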