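import Groth.Agent.Sga4h.KumIdx250
import Groth.Agent.Sga4h.X144Nrm
import Groth.Agent.Sga4h.LVanExact

/-!
# The extension of constant sheaves attached to a Kummer covering

For `π : T ⟶ U` étale, `σ : T ⟶ T` over `U`: `E = {(φ, c) : φ ∘ σ - φ = c ∘ π}`, a sheaf of modules on `U`, with
`i : LCM ⟶ E`, `p : E ⟶ LCM`.
-/

set_option autoImplicit false

universe u

open CategoryTheory CategoryTheory.Limits AlgebraicGeometry Opposite

namespace Groth.Agent.Sga4h.KumExt250

open Groth.Agent.Sga4h.X144Nrm Groth.Agent.Sga4B.ConstLC Groth.Agent.Etcore.LVan Groth.Agent.Sga4h.LVanExact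

variable {T U : Scheme.{u}} (π : T ⟶ U)

/-- `T ×_U W`. -/
noncomputable abbrev tW (W : U.Etale) : Scheme.{u} := ((EtCoh.bc π).obj W).left

/-- The projection `T ×_U W ⟶ W`. -/
noncomputable abbrev fstW (W : U.Etale) : tW π W ⟶ W.left := pullback.fst W.hom π

/-- The projection `T ×_U W ⟶ T`. -/
noncomputable abbrev sndW (W : U.Etale) : tW π W ⟶ T := pullback.snd W.hom π

theorem conditionW (W : U.Etale) : fstW π W ≫ W.hom = sndW π W ≫ π := pullback.condition

theorem map_fstW {W W' : U.Etale} (g : W' ⟶ W) :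
    ((EtCoh.bc π).map g).left ≫ fstW π W = fstW π W' ≫ g.left := (EtCoh.isPullback_bc_map π g).w

set_option backward.isDefEq.respectTransparency.types false in
theorem map_sndW {W W' : U.Etale} (g : W' ⟶ W) :
    ((EtCoh.bc π).map g).left ≫ sndW π W = sndW π W' := by
  dsimp [EtCoh.bc]
  exact pullback.lift_snd _ _ _

theorem hom_extW {W : U.Etale} {Z : Scheme.{u}} {a b : Z ⟶ tW π W} (h1 : a ≫ fstW π W = b ≫ fstW π W)
    (h2 : a ≫ sndW π W = b ≫ sndW π W) : a = b := pullback.hom_ext h1 h2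

theorem exists_liftW {W : U.Etale} {Z : Scheme.{u}} (a : Z ⟶ W.left) (b : Z ⟶ T) (h : a ≫ W.hom = b ≫ π) :
    ∃ k : Z ⟶ tW π W, k ≫ fstW π W = a ∧ k ≫ sndW π W = b :=
  ⟨pullback.lift a b h, pullback.lift_fst _ _ _, pullback.lift_snd _ _ _⟩

variable (σ : T ⟶ T) (hσ : σ ≫ π = π)

/-- The action of `σ` on `T ×_U W`. -/
noncomputable def σW (W : U.Etale) : tW π W ⟶ tW π W :=
  (exists_liftW π (fstW π W) (sndW π W ≫ σ) (by rw [Category.assoc, hσ, conditionW])).choose

theorem σW_fst (W : U.Etale) : σW π σ hσ W ≫ fstW π W = fstW π W :=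
  (exists_liftW π (fstW π W) (sndW π W ≫ σ) (by rw [Category.assoc, hσ, conditionW])).choose_spec.1

theorem σW_snd (W : U.Etale) : σW π σ hσ W ≫ sndW π W = sndW π W ≫ σ :=
  (exists_liftW π (fstW π W) (sndW π W ≫ σ) (by rw [Category.assoc, hσ, conditionW])).choose_spec.2

theorem map_σW {W W' : U.Etale} (g : W' ⟶ W) :
    ((EtCoh.bc π).map g).left ≫ σW π σ hσ W = σW π σ hσ W' ≫ ((EtCoh.bc π).map g).left := by
  apply hom_extW π
  · rw [Category.assoc, σW_fst, map_fstW, Category.assoc, map_fstW, ← Category.assoc, σW_fst]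
  · rw [Category.assoc, σW_snd, ← Category.assoc, map_sndW, Category.assoc, map_sndW, σW_snd]

variable (Λ : Type (u + 1)) [CommRing Λ] (M : Type (u + 1)) [AddCommGroup M] [Module Λ M]

/-- `π_* M`. -/
noncomputable abbrev A : EtModW.Mod Λ U := (EtModW.push Λ π).obj (LCM Λ T M)

/-- Locally constant functions on `T ×_U W` as sections. -/
noncomputable def toA {W : U.Etale} (φ : LocallyConstant (tW π W) M) : EtModW.sect Λ (A π Λ M) W := φ

/-- Sections of `π_* M` as locally constant functions. -/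
noncomputable def ofA {W : U.Etale} (φ : EtModW.sect Λ (A π Λ M) W) : LocallyConstant (tW π W) M := φ

/-- Locally constant functions as sections. -/
noncomputable def toC {W : U.Etale} (c : LocallyConstant W.left M) : EtModW.sect Λ (LCM Λ U M) W := c

/-- Sections as locally constant functions. -/
noncomputable def ofC {W : U.Etale} (c : EtModW.sect Λ (LCM Λ U M) W) : LocallyConstant W.left M := c

/-- The map `M ⟶ π_* M`. -/
noncomputable def unitM : LCM Λ U M ⟶ A π Λ M :=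
  ⟨{ app := fun W => ModuleCat.ofHom (LocallyConstant.comapₗ Λ (cmap (fstW π W.unop)))
     naturality := fun W W' g => by
      ext φ
      refine LocallyConstant.ext fun t => ?_
      exact congrArg (ofC Λ M φ) (congrArg (fun k => k.base t) (map_fstW π g.unop)).symm }⟩

/-- The map `σ^* : π_* M ⟶ π_* M`. -/
noncomputable def sigM : A π Λ M ⟶ A π Λ M :=
  ⟨{ app := fun W => ModuleCat.ofHom (LocallyConstant.comapₗ Λ (cmap (σW π σ hσ W.unop)))
     naturality := fun W W' g => by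
      ext φ
      refine LocallyConstant.ext fun t => ?_
      exact congrArg (ofA π Λ M φ) (congrArg (fun k => k.base t) (map_σW π σ hσ g.unop)).symm }⟩

variable {π σ Λ M}

theorem ofA_res {W W' : U.Etale} (g : W' ⟶ W) (φ : EtModW.sect Λ (A π Λ M) W) (t : tW π W') :
    ofA π Λ M (res (A π Λ M) g φ) t = ofA π Λ M φ (((EtCoh.bc π).map g).left t) := rfl

theorem ofC_res {W W' : U.Etale} (g : W' ⟶ W) (c : EtModW.sect Λ (LCM Λ U M) W) (t : W'.left) :
    ofC Λ M (res (LCM Λ U M) g c) t = ofC Λ M c (g.left t) := rfl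

theorem ofA_unitM {W : U.Etale} (c : EtModW.sect Λ (LCM Λ U M) W) (t : tW π W) :
    ofA π Λ M (ev (unitM π Λ M) W c) t = ofC Λ M c (fstW π W t) := rfl

theorem ofA_sigM {W : U.Etale} (φ : EtModW.sect Λ (A π Λ M) W) (t : tW π W) :
    ofA π Λ M (ev (sigM π σ hσ Λ M) W φ) t = ofA π Λ M φ (σW π σ hσ W t) := rfl

theorem A_ext {W : U.Etale} {φ ψ : EtModW.sect Λ (A π Λ M) W} (h : ∀ t, ofA π Λ M φ t = ofA π Λ M ψ t) :
    φ = ψ := LocallyConstant.ext h

theorem C_ext {W : U.Etale} {φ ψ : EtModW.sect Λ (LCM Λ U M) W} (h : ∀ t, ofC Λ M φ t = ofC Λ M ψ t) :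
    φ = ψ := LocallyConstant.ext h

variable (π σ Λ M)

/-- The map whose kernel is `E`. -/
noncomputable def α : A π Λ M ⊞ LCM Λ U M ⟶ A π Λ M :=
  biprod.desc (sigM π σ hσ Λ M - 𝟙 _) (-unitM π Λ M)

/-- The extension. -/
noncomputable def E : EtModW.Mod Λ U := kernel (α π σ hσ Λ M)

/-- The inclusion. -/
noncomputable def ι : E π σ hσ Λ M ⟶ A π Λ M ⊞ LCM Λ U M := kernel.ι (α π σ hσ Λ M)

instance : Mono (ι π σ hσ Λ M) := inferInstanceAs (Mono (kernel.ι (α π σ hσ Λ M)))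

theorem ι_α : ι π σ hσ Λ M ≫ α π σ hσ Λ M = 0 := kernel.condition _

/-- The first component. -/
noncomputable def q : E π σ hσ Λ M ⟶ A π Λ M := ι π σ hσ Λ M ≫ biprod.fst

/-- The second component. -/
noncomputable def p : E π σ hσ Λ M ⟶ LCM Λ U M := ι π σ hσ Λ M ≫ biprod.snd

theorem q_sig : q π σ hσ Λ M ≫ sigM π σ hσ Λ M - q π σ hσ Λ M = p π σ hσ Λ M ≫ unitM π Λ M := by
  have h := ι_α π σ hσ Λ M
  have h2 : α π σ hσ Λ M = biprod.fst ≫ (sigM π σ hσ Λ M - 𝟙 _) - biprod.snd ≫ unitM π Λ M := by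
    unfold α
    rw [biprod.desc_eq, Preadditive.comp_neg, ← sub_eq_add_neg]
  rw [h2, Preadditive.comp_sub, Preadditive.comp_sub, Category.comp_id, Preadditive.comp_sub, sub_eq_zero] at h
  unfold q p
  rw [Category.assoc, Category.assoc]
  exact h

theorem ι_eq : ι π σ hσ Λ M = q π σ hσ Λ M ≫ biprod.inl + p π σ hσ Λ M ≫ biprod.inr := by
  unfold q p
  rw [Category.assoc, Category.assoc, ← Preadditive.comp_add, biprod.total, Category.comp_id]

variable {π σ Λ M}

theorem ev_neg' {F G : EtModW.Mod Λ U} (β : F ⟶ G) (W : U.Etale) (s : EtModW.sect Λ F W) :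
    ev (-β) W s = - ev β W s := by
  rw [← zero_sub β, ev_sub, ev_zero, zero_sub]

theorem rel {W : U.Etale} (s : EtModW.sect Λ (E π σ hσ Λ M) W) (t : tW π W) :
    ofA π Λ M (ev (q π σ hσ Λ M) W s) (σW π σ hσ W t) - ofA π Λ M (ev (q π σ hσ Λ M) W s) t =
      ofC Λ M (ev (p π σ hσ Λ M) W s) (fstW π W t) := by
  have h := congrArg (fun k => ev k W s) (q_sig π σ hσ Λ M)
  simp only [ev_sub, ev_comp] at h
  exact congrArg (fun φ => ofA π Λ M φ t) h

theorem ev_ι {W : U.Etale} (s : EtModW.sect Λ (E π σ hσ Λ M) W) : ev (ι π σ hσ Λ M) W s =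
    ev biprod.inl W (ev (q π σ hσ Λ M) W s) + ev biprod.inr W (ev (p π σ hσ Λ M) W s) := by
  have h5 := congrArg (fun k => ev k W s) (ι_eq π σ hσ Λ M)
  simp only [ev_add, ev_comp] at h5
  exact h5

theorem ext_E {W : U.Etale} {s s' : EtModW.sect Λ (E π σ hσ Λ M) W}
    (h1 : ev (q π σ hσ Λ M) W s = ev (q π σ hσ Λ M) W s') (h2 : ev (p π σ hσ Λ M) W s = ev (p π σ hσ Λ M) W s') :
    s = s' := by
  apply injective_ev (ι π σ hσ Λ M) W
  rw [ev_ι, ev_ι, h1, h2]

theorem exists_E {W : U.Etale} (φ : EtModW.sect Λ (A π Λ M) W) (c : EtModW.sect Λ (LCM Λ U M) W)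
    (h : ∀ t : tW π W, ofA π Λ M φ (σW π σ hσ W t) - ofA π Λ M φ t = ofC Λ M c (fstW π W t)) :
    ∃ s : EtModW.sect Λ (E π σ hσ Λ M) W, ev (q π σ hσ Λ M) W s = φ ∧ ev (p π σ hσ Λ M) W s = c := by
  let S : ShortComplex (EtModW.Mod Λ U) := ShortComplex.mk (ι π σ hσ Λ M) (α π σ hσ Λ M)
    (ι_α π σ hσ Λ M)
  have hS : S.Exact := ShortComplex.exact_of_f_is_kernel _ (kernelIsKernel _)
  have hm : Mono S.f := inferInstanceAs (Mono (ι π σ hσ Λ M))
  obtain ⟨s, hs⟩ := exists_lift_of_exact hS W (ev biprod.inl W φ + ev biprod.inr W c) (by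
    change ev (α π σ hσ Λ M) W _ = 0
    rw [map_add, ← ev_comp, ← ev_comp]
    unfold α
    rw [biprod.inl_desc, biprod.inr_desc, ev_sub, ev_id, ev_neg', ← sub_eq_add_neg, sub_eq_zero]
    exact A_ext h)
  have h2 : ev (ι π σ hσ Λ M) W s = ev biprod.inl W φ + ev biprod.inr W c := hs
  refine ⟨s, ?_, ?_⟩
  · have h1 : ev (q π σ hσ Λ M) W s = ev biprod.fst W (ev (ι π σ hσ Λ M) W s) := rfl
    rw [h1, h2, map_add, ← ev_comp, ← ev_comp, biprod.inl_fst, biprod.inr_fst, ev_id, ev_zero, add_zero]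
  · have h1 : ev (p π σ hσ Λ M) W s = ev biprod.snd W (ev (ι π σ hσ Λ M) W s) := rfl
    rw [h1, h2, map_add, ← ev_comp, ← ev_comp, biprod.inl_snd, biprod.inr_snd, ev_id, ev_zero, zero_add]

/-- The map `M ⟶ E`. -/
noncomputable def i (π : T ⟶ U) (σ : T ⟶ T) (hσ : σ ≫ π = π) (Λ : Type (u + 1)) [CommRing Λ]
    (M : Type (u + 1)) [AddCommGroup M] [Module Λ M] : LCM Λ U M ⟶ E π σ hσ Λ M :=
  kernel.lift (α π σ hσ Λ M) (unitM π Λ M ≫ biprod.inl) (by
    unfold α
    rw [Category.assoc, biprod.inl_desc, Preadditive.comp_sub, Category.comp_id, sub_eq_zero]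
    refine hom_ext fun W c => A_ext fun t => ?_
    rw [ev_comp, ofA_sigM, ofA_unitM, ofA_unitM, ← Scheme.Hom.comp_apply, σW_fst])

theorem i_ι : i π σ hσ Λ M ≫ ι π σ hσ Λ M = unitM π Λ M ≫ biprod.inl := kernel.lift_ι _ _ _

theorem i_q : i π σ hσ Λ M ≫ q π σ hσ Λ M = unitM π Λ M := by
  unfold q
  rw [← Category.assoc, i_ι, Category.assoc, biprod.inl_fst, Category.comp_id]

theorem i_p : i π σ hσ Λ M ≫ p π σ hσ Λ M = 0 := by
  unfold p
  rw [← Category.assoc, i_ι, Category.assoc, biprod.inl_snd, comp_zero]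

section Kummer

open KumCov250 KumIdx250 Polynomial

variable {n : ℕ} {f ζ : Γ(U, ⊤)} {x : Γ(T, ⊤)}

/-- The hypotheses. -/
structure Setup (π : T ⟶ U) (σ : T ⟶ T) (n : ℕ) (f ζ : Γ(U, ⊤)) (x : Γ(T, ⊤)) : Prop where
  etale : Etale π
  comp : σ ≫ π = π
  kum : IsKum π n f x
  unit_f : IsUnit f
  unit_n : IsUnit (n : Γ(U, ⊤))
  root : (cyclotomic n Γ(U, ⊤)).IsRoot ζ
  mul : σ.appTop.hom x = π.appTop.hom ζ * x

theorem appTop_comp {X Y Z : Scheme.{u}} (a : X ⟶ Y) (b : Y ⟶ Z) (y : Γ(Z, ⊤)) :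
    (a ≫ b).appTop.hom y = a.appTop.hom (b.appTop.hom y) := by
  rw [Scheme.Hom.comp_appTop]
  rfl

theorem isUnit_natCast_map {A B : Type*} [CommRing A] [CommRing B] (f : A →+* B) {n : ℕ} (h : IsUnit (n : A)) :
    IsUnit (n : B) := by
  have := h.map f
  rwa [map_natCast] at this

variable (hS : Setup π σ n f ζ x)

omit hS in
theorem exists_pow_eq (Ω : Type u) [Field Ω] [IsAlgClosed Ω] {n : ℕ} (hn : 0 < n)
    (r : Γ(Spec (CommRingCat.of Ω), ⊤)) : ∃ y, y ^ n = r := by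
  obtain ⟨z, hz⟩ := IsAlgClosed.exists_pow_nat_eq ((Scheme.ΓSpecIso (CommRingCat.of Ω)).hom.hom r) hn
  refine ⟨(Scheme.ΓSpecIso (CommRingCat.of Ω)).inv.hom z, ?_⟩
  rw [← map_pow, hz]
  exact ConcreteCategory.congr_hom (Scheme.ΓSpecIso (CommRingCat.of Ω)).hom_inv_id r

omit hS in
theorem exists_geom (y : U) : ∃ (Ω : Type u) (_ : Field Ω) (_ : IsAlgClosed Ω) (a : Spec (CommRingCat.of Ω) ⟶ U)
    (s : Spec (CommRingCat.of Ω)), a s = y := by
  refine ⟨AlgebraicClosure (U.residueField y), inferInstance, inferInstance,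
    Spec.map (CommRingCat.ofHom (algebraMap (U.residueField y) (AlgebraicClosure (U.residueField y)))) ≫
      U.fromSpecResidueField y, default, ?_⟩
  rw [Scheme.Hom.comp_apply]
  exact Scheme.fromSpecResidueField_apply _ _

include hS in
theorem surjective [NeZero n] (y : U) : ∃ t : T, π t = y := by
  obtain ⟨Ω, _, _, a, s, hs⟩ := exists_geom y
  obtain ⟨z, hz⟩ := exists_pow_eq Ω (NeZero.pos n) (a.appTop.hom f)
  obtain ⟨k, hk, -⟩ := hS.kum.exists_lift a z hz
  exact ⟨k s, by rw [← Scheme.Hom.comp_apply, hk, hs]⟩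

include hS in
theorem surjective_fst [NeZero n] (W : U.Etale) (w : W.left) : ∃ t : tW π W, fstW π W t = w := by
  obtain ⟨t, ht⟩ := surjective hS (W.hom w)
  obtain ⟨z, hz, -⟩ := Scheme.Pullback.exists_preimage_pullback (f := W.hom) (g := π) w t ht.symm
  exact ⟨z, hz⟩

include hS in
theorem exists_root [NeZero n] (W : U.Etale) (w : W.left) : ∃ (P : U.Etale) (a : P ⟶ W) (p : P.left) (g : Γ(P.left, ⊤)),
    a.left p = w ∧ g ^ n = P.hom.appTop.hom f := by
  have := hS.etale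
  obtain ⟨t, ht⟩ := surjective hS (W.hom w)
  obtain ⟨P, a, b, p, ha, -⟩ := exists_prod W (Scheme.Etale.mk π) w t ht.symm
  obtain ⟨b', hb⟩ : ∃ b' : P.left ⟶ T, b' ≫ π = P.hom := ⟨b.left, MorphismProperty.Over.w b⟩
  refine ⟨P, a, p, b'.appTop.hom x, ha, ?_⟩
  rw [← map_pow, hS.kum.pow_eq, ← appTop_comp, hb]

section Root

variable {W : U.Etale} {g : Γ(W.left, ⊤)} (hg : g ^ n = W.hom.appTop.hom f)

include hS hg in
theorem datW [NeZero n] : Dat n ((sndW π W).appTop.hom x) ((fstW π W).appTop.hom g)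
    ((fstW π W).appTop.hom (W.hom.appTop.hom ζ)) where
  pow_eq := by
    rw [← map_pow, ← map_pow, hS.kum.pow_eq, hg, ← appTop_comp, ← appTop_comp, conditionW]
  unit_g := by
    refine IsUnit.map _ ?_
    have h1 : IsUnit (g ^ n) := by
      rw [hg]
      exact hS.unit_f.map _
    exact (isUnit_pow_iff (NeZero.ne n)).1 h1
  unit_n := isUnit_natCast_map (fstW π W ≫ W.hom).appTop.hom hS.unit_n
  root := isRoot_map _ (isRoot_map _ hS.root)

theorem idx_congr {Z : Scheme.{u}} [NeZero n] {x g ζ x' g' ζ' : Γ(Z, ⊤)} (h : Dat n x g ζ) (h' : Dat n x' g' ζ')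
    (hx : x = x') (hg : g = g') (hζ : ζ = ζ') (t : Z) : h.idx t = h'.idx t := by
  subst hx hg hζ
  rfl

theorem idx_σ [NeZero n] (t : tW π W) :
    (datW hS hg).idx (σW π σ hS.comp W t) = (datW hS hg).idx t + 1 := by
  rw [← Dat.idx_map, ← Dat.idx_mul]
  refine idx_congr _ _ ?_ ?_ ?_ t
  · rw [← appTop_comp, σW_snd, appTop_comp, hS.mul, map_mul, ← appTop_comp, ← conditionW, appTop_comp]
  · rw [← appTop_comp, σW_fst]
  · rw [← appTop_comp, σW_fst]

include hS hg in
theorem exists_section : ∃ s : W.left ⟶ tW π W, s ≫ fstW π W = 𝟙 _ ∧ (s ≫ sndW π W).appTop.hom x = g := by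
  obtain ⟨k, hk, hk'⟩ := hS.kum.exists_lift W.hom g hg
  obtain ⟨s, hs, hs'⟩ := exists_liftW π (𝟙 W.left) k (by rw [hk, Category.id_comp])
  exact ⟨s, hs, by rw [hs', hk']⟩

theorem eq_of_idx_eq_zero [NeZero n] {s : W.left ⟶ tW π W} (hs : s ≫ fstW π W = 𝟙 _)
    (hs' : (s ≫ sndW π W).appTop.hom x = g) (t : tW π W) (h : (datW hS hg).idx t = 0) :
    s (fstW π W t) = t := by
  rw [Dat.idx_eq_iff, ZMod.val_zero, pow_zero, one_mul] at h
  have h0 := appTop_fromSpecResidueField t _ h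
  rw [map_sub, sub_eq_zero] at h0
  let a := (tW π W).fromSpecResidueField t
  have hab : a = a ≫ fstW π W ≫ s := by
    apply hom_extW π
    · rw [Category.assoc, Category.assoc, hs, Category.comp_id]
    · apply hS.kum.uniq
      · have h2 : s ≫ sndW π W ≫ π = W.hom := by
          rw [← conditionW, ← Category.assoc, hs, Category.id_comp]
        rw [Category.assoc, Category.assoc, Category.assoc, Category.assoc, h2, ← conditionW]
      · rw [appTop_comp, Category.assoc, Category.assoc, appTop_comp, appTop_comp, hs']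
        exact h0
  have h1 : a (default : Spec ((tW π W).residueField t)) = t := Scheme.fromSpecResidueField_apply _ _
  have h2 := congrArg (fun k => k (default : Spec ((tW π W).residueField t))) hab
  simp only [Scheme.Hom.comp_apply] at h2
  rw [h1] at h2
  exact h2.symm

include hg in
theorem eq_of_invariant [NeZero n] {s : W.left ⟶ tW π W} (hs : s ≫ fstW π W = 𝟙 _)
    (hs' : (s ≫ sndW π W).appTop.hom x = g) {M : Type*} (ψ : tW π W → M)
    (hψ : ∀ t, ψ (σW π σ hS.comp W t) = ψ t) (t : tW π W) : ψ (s (fstW π W t)) = ψ t := by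
  obtain ⟨m, hm⟩ : ∃ m : ℕ, (datW hS hg).idx t = - (m : ZMod n) :=
    ⟨(-(datW hS hg).idx t).val, by rw [ZMod.natCast_val, ZMod.cast_id', id, neg_neg]⟩
  induction m generalizing t with
  | zero => rw [eq_of_idx_eq_zero hS hg hs hs' t (by rw [hm, Nat.cast_zero, neg_zero])]
  | succ m ih =>
    have h1 := ih (σW π σ hS.comp W t) (by rw [idx_σ hS hg, hm, Nat.cast_succ, neg_add_rev]; ring)
    have h2 : fstW π W (σW π σ hS.comp W t) = fstW π W t :=
      congrArg (fun k => k.base t) (σW_fst π σ hS.comp W)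
    rw [hψ, h2] at h1
    exact h1

end Root

section Ext

variable [NeZero n] (M : Type (u + 1)) [AddCommGroup M] [Module (ULift.{u + 1} (ZMod n)) M]

/-- `Λ = ℤ/n`. -/
abbrev Λn (n : ℕ) : Type (u + 1) := ULift.{u + 1} (ZMod n)

include hS in
theorem epi_p : Epi (p π σ hσ (Λn n) M) := by
  apply epi_of_local
  intro W c w
  obtain ⟨P, a, v, g, hv, hg⟩ := exists_root hS W w
  let φ : LocallyConstant (tW π P) M :=
    ⟨fun t => (ULift.up ((datW hS hg).idx t) : Λn n) • ofC (Λn n) M (res _ a c) (fstW π P t),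
      ((datW hS hg).idx.isLocallyConstant.prodMk
        ((ofC (Λn n) M (res _ a c)).isLocallyConstant.comp_continuous (cmap (fstW π P)).continuous)).comp
          (fun k : ZMod n × M => (ULift.up k.1 : Λn n) • k.2)⟩
  obtain ⟨s, -, hs⟩ := exists_E (σ := σ) (hσ := hσ) (toA π (Λn n) M φ) (res _ a c) (by
    intro t
    change (ULift.up ((datW hS hg).idx (σW π σ hσ P t)) : Λn n) •
      ofC (Λn n) M (res _ a c) (fstW π P (σW π σ hσ P t)) -
      (ULift.up ((datW hS hg).idx t) : Λn n) • ofC (Λn n) M (res _ a c) (fstW π P t) = _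
    have h2 : fstW π P (σW π σ hσ P t) = fstW π P t :=
      congrArg (fun k => k.base t) (σW_fst π σ hσ P)
    rw [h2, idx_σ hS hg, ← sub_smul]
    have h3 : (ULift.up ((datW hS hg).idx t + 1) : Λn n) - ULift.up ((datW hS hg).idx t) = 1 := by
      apply ULift.down_injective
      change (datW hS hg).idx t + 1 - (datW hS hg).idx t = 1
      rw [add_sub_cancel_left]
    rw [h3, one_smul])
  exact ⟨P, a, v, s, hv, by rw [hs, sub_self]; exact Van.zero _⟩

include hS in
theorem exact_E : (ShortComplex.mk (i π σ hσ (Λn n) M) (p π σ hσ (Λn n) M) (i_p hσ)).Exact := by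
  apply exact_of_local
  intro W s w hs
  obtain ⟨P, a, v, g, hv, hg⟩ := exists_root hS W w
  obtain ⟨k, hk, hk'⟩ := exists_section hS hg
  let ψ : LocallyConstant (tW π P) M := ofA π (Λn n) M (ev (q π σ hσ (Λn n) M) P (res _ a s))
  have hψ : ∀ t, ψ (σW π σ hS.comp P t) = ψ t := by
    intro t
    rw [← sub_eq_zero]
    refine (rel hσ (res _ a s) t).trans ?_
    have h1 : ev (p π σ hσ (Λn n) M) P (res _ a s) = 0 := by
      rw [← res_ev]
      have h2 : ev (p π σ hσ (Λn n) M) W s = 0 := hs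
      rw [h2, map_zero]
    rw [h1]
    rfl
  let c : LocallyConstant P.left M := ψ.comap (cmap k)
  refine ⟨P, a, v, toC (Λn n) M c, hv, ?_⟩
  have h3 : ev (i π σ hσ (Λn n) M) P (toC (Λn n) M c) = res _ a s := by
    apply ext_E
    · rw [← ev_comp, i_q]
      refine A_ext fun t => ?_
      rw [ofA_unitM]
      exact eq_of_invariant hS hg hk hk' ψ hψ t
    · rw [← ev_comp, i_p, ev_zero, ← res_ev]
      have h2 : ev (p π σ hσ (Λn n) M) W s = 0 := hs
      rw [h2, map_zero]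
  change Van _ (ev (i π σ hσ (Λn n) M) P (toC (Λn n) M c) - _) v
  rw [h3, sub_self]
  exact Van.zero _

include hS in
theorem mono_i : Mono (i π σ hσ (Λn n) M) := by
  apply mono_of_ev
  intro W c hc
  refine C_ext fun w => ?_
  obtain ⟨t, rfl⟩ := surjective_fst hS W w
  rw [← ofA_unitM, ← i_q, ev_comp, hc, map_zero]
  rfl

include hS in
theorem shortExact : (ShortComplex.mk (i π σ hσ (Λn n) M) (p π σ hσ (Λn n) M) (i_p hσ)).ShortExact where
  exact := exact_E hσ hS M
  mono_f := mono_i hσ hS M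
  epi_g := epi_p hσ hS M

end Ext

end Kummer

end Groth.Agent.Sga4h.KumExt250
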