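import Groth.Agent.Sga4h.KumCov250
import Mathlib.AlgebraicGeometry.ResidueField
import Mathlib.Topology.LocallyConstant.Basic

/-!
# The index of an `n`-th root with respect to another one

For `x ^ n = g ^ n` on a scheme with a primitive `n`-th root of unity `ζ`, `idx : Z → ℤ/n` is the locally constant
function with `x = ζ ^ idx * g`.
-/

set_option autoImplicit false

universe u

open CategoryTheory CategoryTheory.Limits AlgebraicGeometry Polynomial

namespace Groth.Agent.Sga4h.KumIdx250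

/-- Two units `x`, `g` with `x ^ n = g ^ n`, `n` invertible and `ζ` a primitive `n`-th root of unity. -/
structure Dat {Z : Scheme.{u}} (n : ℕ) (x g ζ : Γ(Z, ⊤)) : Prop where
  pow_eq : x ^ n = g ^ n
  unit_g : IsUnit g
  unit_n : IsUnit (n : Γ(Z, ⊤))
  root : (cyclotomic n Γ(Z, ⊤)).IsRoot ζ

variable {Z : Scheme.{u}} {n : ℕ} {x g ζ : Γ(Z, ⊤)}

theorem isRoot_map {A B : Type*} [CommRing A] [CommRing B] (f : A →+* B) {n : ℕ} {z : A}
    (h : (cyclotomic n A).IsRoot z) : (cyclotomic n B).IsRoot (f z) := by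
  have := h.map (f := f)
  rwa [map_cyclotomic] at this

theorem isRoot_pow {A : Type*} [CommRing A] {n : ℕ} {z : A} (h : (cyclotomic n A).IsRoot z) : z ^ n = 1 := by
  have h2 : (X ^ n - 1 : A[X]).IsRoot z := h.dvd (cyclotomic.dvd_X_pow_sub_one n _)
  have h3 : z ^ n - 1 = 0 := by simpa [IsRoot] using h2
  exact sub_eq_zero.1 h3

theorem Dat.map (h : Dat n x g ζ) {Z' : Scheme.{u}} (k : Z' ⟶ Z) :
    Dat n (k.appTop.hom x) (k.appTop.hom g) (k.appTop.hom ζ) where
  pow_eq := by rw [← map_pow, h.pow_eq, map_pow]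
  unit_g := h.unit_g.map _
  unit_n := by
    have := h.unit_n.map k.appTop.hom
    rwa [map_natCast] at this
  root := isRoot_map _ h.root

theorem Dat.mul (h : Dat n x g ζ) : Dat n (ζ * x) g ζ where
  pow_eq := by rw [mul_pow, isRoot_pow h.root, one_mul, h.pow_eq]
  unit_g := h.unit_g
  unit_n := h.unit_n
  root := h.root

/-- The evaluation at a point. -/
noncomputable abbrev evl (t : Z) : Γ(Z, ⊤) →+* Z.residueField t := (Z.Γevaluation t).hom

theorem evl_eq_zero_iff (t : Z) (a : Γ(Z, ⊤)) : evl t a = 0 ↔ t ∉ Z.basicOpen a :=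
  Scheme.evaluation_eq_zero_iff_notMem_basicOpen Z (U := ⊤) t trivial a

theorem Dat.prim (h : Dat n x g ζ) (t : Z) : IsPrimitiveRoot (evl t ζ) n :=
  CycloAlg.isPrimitiveRoot_map (evl t) n h.unit_n ζ h.root

theorem Dat.exists_idx [NeZero n] (h : Dat n x g ζ) (t : Z) :
    ∃ i : ZMod n, t ∉ Z.basicOpen (x - ζ ^ i.val * g) := by
  have hg : evl t g ≠ 0 := (h.unit_g.map (evl t)).ne_zero
  have h1 : (evl t x / evl t g) ^ n = 1 := by
    rw [div_pow, ← map_pow, ← map_pow, h.pow_eq, div_self]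
    rw [map_pow]
    exact pow_ne_zero _ hg
  obtain ⟨i, hi, h2⟩ := (h.prim t).eq_pow_of_pow_eq_one h1
  refine ⟨(i : ZMod n), ?_⟩
  rw [← evl_eq_zero_iff, ZMod.val_cast_of_lt hi, map_sub, map_mul, map_pow, h2, div_mul_cancel₀ _ hg, sub_self]

theorem Dat.idx_unique [NeZero n] (h : Dat n x g ζ) (t : Z) {i j : ZMod n}
    (hi : t ∉ Z.basicOpen (x - ζ ^ i.val * g)) (hj : t ∉ Z.basicOpen (x - ζ ^ j.val * g)) : i = j := by
  have hg : evl t g ≠ 0 := (h.unit_g.map (evl t)).ne_zero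
  rw [← evl_eq_zero_iff, map_sub, map_mul, map_pow, sub_eq_zero] at hi hj
  have h1 : evl t ζ ^ i.val = evl t ζ ^ j.val := mul_right_cancel₀ hg (hi.symm.trans hj)
  have h2 := (h.prim t).pow_inj (ZMod.val_lt i) (ZMod.val_lt j) h1
  exact ZMod.val_injective n h2

/-- The index. -/
noncomputable def Dat.idxFun [NeZero n] (h : Dat n x g ζ) (t : Z) : ZMod n := (h.exists_idx t).choose

theorem Dat.idxFun_eq_iff [NeZero n] (h : Dat n x g ζ) (t : Z) (i : ZMod n) :
    h.idxFun t = i ↔ t ∉ Z.basicOpen (x - ζ ^ i.val * g) := by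
  have h1 := (h.exists_idx t).choose_spec
  constructor
  · rintro rfl
    exact h1
  · intro h2
    exact h.idx_unique t h1 h2

theorem Dat.isOpen_idx [NeZero n] (h : Dat n x g ζ) (i : ZMod n) : IsOpen {t : Z | h.idxFun t = i} := by
  have h1 : {t : Z | h.idxFun t = i} =
      ⋂ j : {j : ZMod n // j ≠ i}, (Z.basicOpen (x - ζ ^ j.1.val * g) : Set Z) := by
    ext t
    simp only [Set.mem_ofPred_eq, Set.mem_iInter, Subtype.forall]
    constructor
    · intro h2 j hj
      by_contra h3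
      exact hj (((h.idxFun_eq_iff t j).2 h3).symm.trans h2)
    · intro h2
      by_contra h3
      exact (h.idxFun_eq_iff t _).1 rfl (h2 _ h3)
  rw [h1]
  exact isOpen_iInter_of_finite fun j => (Z.basicOpen _).isOpen

/-- The index as a locally constant function. -/
noncomputable def Dat.idx [NeZero n] (h : Dat n x g ζ) : LocallyConstant Z (ZMod n) where
  toFun := h.idxFun
  isLocallyConstant := (IsLocallyConstant.iff_isOpen_fiber).2 h.isOpen_idx

theorem Dat.idx_eq_iff [NeZero n] (h : Dat n x g ζ) (t : Z) (i : ZMod n) :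
    h.idx t = i ↔ t ∉ Z.basicOpen (x - ζ ^ i.val * g) := h.idxFun_eq_iff t i

theorem Dat.idx_map [NeZero n] (h : Dat n x g ζ) {Z' : Scheme.{u}} (k : Z' ⟶ Z) (t : Z') :
    (h.map k).idx t = h.idx (k t) := by
  rw [Dat.idx_eq_iff]
  have h1 := (h.idx_eq_iff (k t) _).1 rfl
  have h2 : k.appTop.hom x - k.appTop.hom ζ ^ (h.idx (k t)).val * k.appTop.hom g =
      k.appTop.hom (x - ζ ^ (h.idx (k t)).val * g) := by rw [map_sub, map_mul, map_pow]
  rw [h2]
  intro h3
  rw [← Scheme.preimage_basicOpen_top] at h3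
  exact h1 h3

theorem Dat.idx_mul [NeZero n] (h : Dat n x g ζ) (t : Z) : h.mul.idx t = h.idx t + 1 := by
  rw [Dat.idx_eq_iff]
  have h1 := (h.idx_eq_iff t _).1 rfl
  rw [← evl_eq_zero_iff, map_sub, map_mul, map_pow, sub_eq_zero] at h1
  rw [← evl_eq_zero_iff, map_sub, map_mul, sub_eq_zero]
  rw [map_mul, map_pow, h1, ← mul_assoc, ← pow_succ']
  congr 1
  have h2 : evl t ζ ^ n = 1 := (h.prim t).pow_eq_one
  rw [ZMod.val_add, ZMod.val_one_eq_one_mod, Nat.add_mod_mod, ← pow_mod_orderOf,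
    ← (h.prim t).eq_orderOf, ← pow_mod_orderOf (evl t ζ) ((_ + 1) % n), ← (h.prim t).eq_orderOf, Nat.mod_mod]

theorem appTop_fromSpecResidueField (t : Z) (a : Γ(Z, ⊤)) (h : t ∉ Z.basicOpen a) :
    (Z.fromSpecResidueField t).appTop.hom a = 0 := by
  have : IsReduced (Spec (Z.residueField t)) := inferInstance
  rw [← basicOpen_eq_bot_iff]
  rw [eq_bot_iff]
  intro s hs
  rw [← Scheme.preimage_basicOpen_top] at hs
  apply h
  have h1 : Z.fromSpecResidueField t s ∈ Z.basicOpen a := hs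
  rwa [Scheme.fromSpecResidueField_apply] at h1

end Groth.Agent.Sga4h.KumIdx250
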