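import Groth.Agent.Localalg.DeltaFun

/-!
# Weak Serre classes and delta functors

`FiveClosed P`: a class of objects of an abelian category satisfying the five lemma.
`mem_of_class`: `T` a delta functor which is left exact in degree zero, `Q` a class of objects such that every
object of `Q` embeds with cokernel in `Q` into an object whose images under all `T^q` belong to `P`;
then the images of the objects of `Q` under all `T^q` belong to `P`.
-/

set_option autoImplicit false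
universe v u v' u'
open CategoryTheory CategoryTheory.Limits
open Groth.Agent.Localalg.DeltaFun
open scoped ZeroObject

namespace Groth.Agent.Sga4h.LFinDelta

section five

variable {D : Type u'} [Category.{v'} D] [Abelian D]

/-- The five lemma for a class of objects. -/
def FiveClosed (P : D → Prop) : Prop :=
  P (0 : D) ∧ ∀ {A B C E F : D} (f₁ : A ⟶ B) (f₂ : B ⟶ C) (f₃ : C ⟶ E) (f₄ : E ⟶ F)
    (w₁ : f₁ ≫ f₂ = 0) (w₂ : f₂ ≫ f₃ = 0) (w₃ : f₃ ≫ f₄ = 0),
    (ShortComplex.mk f₁ f₂ w₁).Exact → (ShortComplex.mk f₂ f₃ w₂).Exact →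
    (ShortComplex.mk f₃ f₄ w₃).Exact → P A → P B → P E → P F → P C

variable {P : D → Prop} (hP : FiveClosed P)
include hP

theorem FiveClosed.kernel {A B : D} (f : A ⟶ B) (hA : P A) (hB : P B) : P (kernel f) := by
  refine hP.2 (0 : (0 : D) ⟶ 0) (0 : (0 : D) ⟶ Limits.kernel f) (kernel.ι f) f (by simp) (by simp)
    (kernel.condition f) ?_ ?_ ?_ hP.1 hP.1 hA hB
  · exact ShortComplex.exact_of_isZero_X₂ _ (isZero_zero D)
  · exact (ShortComplex.exact_iff_mono _ rfl).2 (by dsimp; infer_instance)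
  · exact ShortComplex.exact_kernel f

theorem FiveClosed.cokernel {A B : D} (f : A ⟶ B) (hA : P A) (hB : P B) : P (cokernel f) := by
  refine hP.2 f (cokernel.π f) (0 : Limits.cokernel f ⟶ (0 : D)) (0 : (0 : D) ⟶ 0)
    (cokernel.condition f) (by simp) (by simp) ?_ ?_ ?_ hA hB hP.1 hP.1
  · exact ShortComplex.exact_cokernel f
  · exact (ShortComplex.exact_iff_epi _ rfl).2 (by dsimp; infer_instance)
  · exact ShortComplex.exact_of_isZero_X₂ _ (isZero_zero D)

theorem FiveClosed.of_iso {A B : D} (e : A ≅ B) (hA : P A) : P B := by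
  refine hP.2 (0 : (0 : D) ⟶ 0) (0 : (0 : D) ⟶ B) e.inv (0 : A ⟶ (0 : D)) (by simp) (by simp)
    (by simp) ?_ ?_ ?_ hP.1 hP.1 hA hP.1
  · exact ShortComplex.exact_of_isZero_X₂ _ (isZero_zero D)
  · exact (ShortComplex.exact_iff_mono _ rfl).2 (by dsimp; infer_instance)
  · exact (ShortComplex.exact_iff_epi _ rfl).2 (by dsimp; infer_instance)

theorem FiveClosed.of_isZero {A : D} (hA : IsZero A) : P A := hP.of_iso hA.isoZero.symm hP.1

theorem FiveClosed.mid {S : ShortComplex D} (hS : S.Exact) [Mono S.f] [Epi S.g] (h1 : P S.X₁)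
    (h3 : P S.X₃) : P S.X₂ := by
  refine hP.2 (0 : (0 : D) ⟶ S.X₁) S.f S.g (0 : S.X₃ ⟶ (0 : D)) (by simp) S.zero (by simp) ?_ hS ?_
    hP.1 h1 h3 hP.1
  · exact (ShortComplex.exact_iff_mono _ rfl).2 (by dsimp; infer_instance)
  · exact (ShortComplex.exact_iff_epi _ rfl).2 (by dsimp; infer_instance)

/-- The kernel of `a` if the kernels of `a ≫ b` and of `b` belong to the class. -/
theorem FiveClosed.kernel_of_comp {A B C : D} (a : A ⟶ B) (b : B ⟶ C)
    (h : P (Limits.kernel (a ≫ b))) (hb : P (Limits.kernel b)) : P (Limits.kernel a) := by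
  let c : Limits.kernel (a ≫ b) ⟶ Limits.kernel b := kernel.lift b (kernel.ι (a ≫ b) ≫ a) (by
    rw [Category.assoc, kernel.condition])
  have hc : c ≫ kernel.ι b = kernel.ι (a ≫ b) ≫ a := kernel.lift_ι _ _ _
  refine hP.of_iso (A := Limits.kernel c) ?_ (hP.kernel c h hb)
  let i : Limits.kernel c ⟶ Limits.kernel a := kernel.lift a (kernel.ι c ≫ kernel.ι (a ≫ b)) (by
    rw [Category.assoc, ← hc, ← Category.assoc, kernel.condition, zero_comp])
  let j' : Limits.kernel a ⟶ Limits.kernel (a ≫ b) := kernel.lift (a ≫ b) (kernel.ι a) (by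
    rw [← Category.assoc, kernel.condition, zero_comp])
  let j : Limits.kernel a ⟶ Limits.kernel c := kernel.lift c j' (by
    rw [← cancel_mono (kernel.ι b), Category.assoc, hc, ← Category.assoc, kernel.lift_ι,
      kernel.condition, zero_comp])
  exact
    { hom := i
      inv := j
      hom_inv_id := by
        rw [← cancel_mono (kernel.ι c), ← cancel_mono (kernel.ι (a ≫ b))]
        simp [i, j, j']
      inv_hom_id := by
        rw [← cancel_mono (kernel.ι a)]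
        simp [i, j, j'] }

/-- The kernel of the second map of an exact sequence `A ⟶ B ⟶ C ⟶ E` with `P A`, `P B`. -/
theorem FiveClosed.kernel_of_exact {A B C E : D} (f : A ⟶ B) (g : B ⟶ C) (h : C ⟶ E)
    (w₁ : f ≫ g = 0) (w₂ : g ≫ h = 0) (e₁ : (ShortComplex.mk f g w₁).Exact)
    (e₂ : (ShortComplex.mk g h w₂).Exact) (hA : P A) (hB : P B) : P (Limits.kernel h) := by
  have hi : kernel.ι h ≫ h = 0 := kernel.condition h
  let g' : B ⟶ Limits.kernel h := kernel.lift h g w₂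
  have hg : g' ≫ kernel.ι h = g := kernel.lift_ι _ _ _
  have he : Epi g' := e₂.epi_kernelLift
  have w : f ≫ g' = 0 := by
    rw [← cancel_mono (kernel.ι h), Category.assoc, hg, w₁, zero_comp]
  refine hP.2 f g' (0 : Limits.kernel h ⟶ (0 : D)) (0 : (0 : D) ⟶ 0) w (by simp) (by simp) ?_ ?_ ?_
    hA hB hP.1 hP.1
  · let φ : ShortComplex.mk f g' w ⟶ ShortComplex.mk f g w₁ :=
      { τ₁ := 𝟙 _, τ₂ := 𝟙 _, τ₃ := kernel.ι h, comm₁₂ := by simp, comm₂₃ := by simp [hg] }
    have h1 : Epi φ.τ₁ := by dsimp [φ]; infer_instance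
    have h2 : IsIso φ.τ₂ := by dsimp [φ]; infer_instance
    have h3 : Mono φ.τ₃ := by dsimp [φ]; infer_instance
    exact (ShortComplex.exact_iff_of_epi_of_isIso_of_mono φ).2 e₁
  · exact (ShortComplex.exact_iff_epi _ rfl).2 he
  · exact ShortComplex.exact_of_isZero_X₂ _ (isZero_zero D)

omit hP in
theorem exact_comp_mono {A B C E : D} (f : A ⟶ B) (g : B ⟶ C) (h : C ⟶ E) (hm : Mono h)
    (w : f ≫ g = 0) (e : (ShortComplex.mk f g w).Exact) :
    (ShortComplex.mk f (g ≫ h) (by rw [← Category.assoc, w, zero_comp])).Exact := by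
  let φ : ShortComplex.mk f g w ⟶ ShortComplex.mk f (g ≫ h) (by rw [← Category.assoc, w, zero_comp]) :=
    { τ₁ := 𝟙 _, τ₂ := 𝟙 _, τ₃ := h, comm₁₂ := by simp, comm₂₃ := by simp }
  have i1 : Epi φ.τ₁ := by dsimp [φ]; infer_instance
  have i2 : IsIso φ.τ₂ := by dsimp [φ]; infer_instance
  have i3 : Mono φ.τ₃ := hm
  exact (ShortComplex.exact_iff_of_epi_of_isIso_of_mono φ).1 e

end five

section delta

variable {C : Type u} [Category.{v} C] [Abelian C] {D : Type u'} [Category.{v'} D] [Abelian D]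
variable {P : D → Prop} (hP : FiveClosed P) (T : DeltaFunctor C D)

include hP

theorem mem₂ {S : ShortComplex C} (hS : S.ShortExact) [Mono ((T.T 0).map S.f)]
    (h1 : ∀ q, P ((T.T q).obj S.X₁)) (h3 : ∀ q, P ((T.T q).obj S.X₃)) (q : ℕ) :
    P ((T.T q).obj S.X₂) := by
  cases q with
  | zero =>
    refine hP.2 (0 : (0 : D) ⟶ (T.T 0).obj S.X₁) ((T.T 0).map S.f) ((T.T 0).map S.g) (T.δ hS 0)
      (by simp) (by rw [← Functor.map_comp, S.zero, Functor.map_zero]) (T.zero₃ hS 0) ?_ (T.exact₂ hS 0)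
      (T.exact₃ hS 0) hP.1 (h1 0) (h3 0) (h1 1)
    exact (ShortComplex.exact_iff_mono _ rfl).2 (by assumption)
  | succ q =>
    exact hP.2 (T.δ hS q) ((T.T (q + 1)).map S.f) ((T.T (q + 1)).map S.g) (T.δ hS (q + 1))
      (T.zero₁ hS q) (by rw [← Functor.map_comp, S.zero, Functor.map_zero]) (T.zero₃ hS (q + 1))
      (T.exact₁ hS q) (T.exact₂ hS (q + 1)) (T.exact₃ hS (q + 1)) (h3 q) (h1 _) (h3 _) (h1 _)

theorem mem₁ {S : ShortComplex C} (hS : S.ShortExact) [Mono ((T.T 0).map S.f)]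
    (h2 : ∀ q, P ((T.T q).obj S.X₂)) (h3 : ∀ q, P ((T.T q).obj S.X₃)) (q : ℕ) :
    P ((T.T q).obj S.X₁) := by
  cases q with
  | zero =>
    refine hP.2 (0 : (0 : D) ⟶ (0 : D)) (0 : (0 : D) ⟶ (T.T 0).obj S.X₁) ((T.T 0).map S.f)
      ((T.T 0).map S.g)
      (by simp) (by simp) (by rw [← Functor.map_comp, S.zero, Functor.map_zero]) ?_ ?_ (T.exact₂ hS 0)
      hP.1 hP.1 (h2 0) (h3 0)
    · exact ShortComplex.exact_of_isZero_X₂ _ (isZero_zero D)
    · exact (ShortComplex.exact_iff_mono _ rfl).2 (by assumption)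
  | succ q =>
    exact hP.2 ((T.T q).map S.g) (T.δ hS q) ((T.T (q + 1)).map S.f) ((T.T (q + 1)).map S.g)
      (T.zero₃ hS q) (T.zero₁ hS q) (by rw [← Functor.map_comp, S.zero, Functor.map_zero])
      (T.exact₃ hS q) (T.exact₁ hS q) (T.exact₂ hS (q + 1)) (h2 q) (h3 q) (h2 _) (h3 _)

theorem mem₃ {S : ShortComplex C} (hS : S.ShortExact)
    (h1 : ∀ q, P ((T.T q).obj S.X₁)) (h2 : ∀ q, P ((T.T q).obj S.X₂)) (q : ℕ) :
    P ((T.T q).obj S.X₃) :=
  hP.2 ((T.T q).map S.f) ((T.T q).map S.g) (T.δ hS q) ((T.T (q + 1)).map S.f)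
      (by rw [← Functor.map_comp, S.zero, Functor.map_zero]) (T.zero₃ hS q) (T.zero₁ hS q)
      (T.exact₂ hS q) (T.exact₃ hS q) (T.exact₁ hS q) (h1 q) (h2 q) (h1 _) (h2 _)

/-- The images of a class of objects which can be resolved by good objects. -/
theorem mem_of_class (h0 : ∀ {A B : C} (f : A ⟶ B) [Mono f], Mono ((T.T 0).map f)) (Q : C → Prop)
    (hQ : ∀ F, Q F → ∃ S : ShortComplex C, S.ShortExact ∧ Nonempty (S.X₁ ≅ F) ∧ Q S.X₃ ∧
      ∀ q, P ((T.T q).obj S.X₂)) (q : ℕ) : ∀ F, Q F → P ((T.T q).obj F) := by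
  induction q with
  | zero =>
    intro F hF
    obtain ⟨S, hS, ⟨e⟩, h3, h2⟩ := hQ F hF
    obtain ⟨S', hS', ⟨e'⟩, -, h2'⟩ := hQ _ h3
    have hm := hS.mono_f
    have hm' := hS'.mono_f
    have m1 : Mono ((T.T 0).map S.f) := h0 _
    have m2 : Mono ((T.T 0).map (e'.inv ≫ S'.f)) := h0 _
    refine hP.of_iso ((T.T 0).mapIso e) ?_
    refine hP.2 (0 : (0 : D) ⟶ (0 : D)) (0 : (0 : D) ⟶ (T.T 0).obj S.X₁) ((T.T 0).map S.f)
      ((T.T 0).map S.g ≫ (T.T 0).map (e'.inv ≫ S'.f)) (by simp) (by simp)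
      (by rw [← Category.assoc, ← Functor.map_comp, S.zero, Functor.map_zero, zero_comp]) ?_ ?_ ?_
      hP.1 hP.1 (h2 0) (h2' 0)
    · exact ShortComplex.exact_of_isZero_X₂ _ (isZero_zero D)
    · exact (ShortComplex.exact_iff_mono _ rfl).2 (by assumption)
    · exact exact_comp_mono _ _ _ m2 _ (T.exact₂ hS 0)
  | succ q ih =>
    intro F hF
    obtain ⟨S, hS, ⟨e⟩, h3, h2⟩ := hQ F hF
    obtain ⟨S', hS', ⟨e'⟩, h3', h2'⟩ := hQ _ h3
    refine hP.of_iso ((T.T (q + 1)).mapIso e) ?_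
    -- the kernel of `T^{q+1} S.X₃ ⟶ T^{q+1} S'.X₂`
    let b : (T.T (q + 1)).obj S.X₃ ⟶ (T.T (q + 1)).obj S'.X₂ := (T.T (q + 1)).map (e'.inv ≫ S'.f)
    let a : (T.T (q + 1)).obj S.X₂ ⟶ (T.T (q + 1)).obj S.X₃ := (T.T (q + 1)).map S.g
    have hb0 : P (kernel ((T.T (q + 1)).map S'.f)) :=
      hP.kernel_of_exact ((T.T q).map S'.g) (T.δ hS' q) ((T.T (q + 1)).map S'.f) (T.zero₃ hS' q)
        (T.zero₁ hS' q) (T.exact₃ hS' q) (T.exact₁ hS' q) (h2' q) (ih _ h3')
    have hb : P (kernel b) := by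
      refine hP.of_iso ?_ hb0
      have hbe : b = ((T.T (q + 1)).mapIso e').inv ≫ (T.T (q + 1)).map S'.f := by
        simp [b]
      exact (kernelIsIsoComp ((T.T (q + 1)).mapIso e').inv ((T.T (q + 1)).map S'.f)).symm ≪≫
        eqToIso (by rw [hbe])
    have hab : P (kernel (a ≫ b)) := hP.kernel _ (h2 _) (h2' _)
    have ha : P (kernel a) := hP.kernel_of_comp a b hab hb
    -- five lemma
    have hfa : (T.T (q + 1)).map S.f ≫ a = 0 := by
      rw [← Functor.map_comp, S.zero, Functor.map_zero]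
    let f' : (T.T (q + 1)).obj S.X₁ ⟶ kernel a := kernel.lift a ((T.T (q + 1)).map S.f) hfa
    have hf' : f' ≫ kernel.ι a = (T.T (q + 1)).map S.f := kernel.lift_ι _ _ _
    have hepi : Epi f' := (T.exact₂ hS (q + 1)).epi_kernelLift
    have w2 : T.δ hS q ≫ f' = 0 := by
      rw [← cancel_mono (kernel.ι a), Category.assoc, hf', T.zero₁, zero_comp]
    refine hP.2 ((T.T q).map S.g) (T.δ hS q) f' (0 : kernel a ⟶ (0 : D)) (T.zero₃ hS q) w2 (by simp)
      (T.exact₃ hS q) ?_ ?_ (h2 q) (ih _ h3) ha hP.1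
    · let φ : ShortComplex.mk (T.δ hS q) f' w2 ⟶ ShortComplex.mk _ _ (T.zero₁ hS q) :=
        { τ₁ := 𝟙 _, τ₂ := 𝟙 _, τ₃ := kernel.ι a, comm₁₂ := by simp, comm₂₃ := by simp [hf'] }
      have i1 : Epi φ.τ₁ := by dsimp [φ]; infer_instance
      have i2 : IsIso φ.τ₂ := by dsimp [φ]; infer_instance
      have i3 : Mono φ.τ₃ := by dsimp [φ]; infer_instance
      exact (ShortComplex.exact_iff_of_epi_of_isIso_of_mono φ).2 (T.exact₁ hS q)
    · exact (ShortComplex.exact_iff_epi _ rfl).2 hepi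

end delta

end Groth.Agent.Sga4h.LFinDelta
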