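import Groth.Agent.Sga4h.LFinZero
import Groth.Agent.Etrest.ModFT

/-!
# Exact sequences of sheaves of modules and constant sheaves

`exists_local_lift`: exactness means that sections of the kernel lift locally.
`exists_cst_cokernel`: the cokernel of a monomorphism of sheaves constant over `U` is constant over `U`.
-/

set_option autoImplicit false
universe u

open CategoryTheory CategoryTheory.Limits AlgebraicGeometry Opposite

namespace Groth.Agent.Sga4h.LFinExact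

open Groth.Agent.Etcore.LVan Groth.Agent.Sga4h.LFinZero
open Groth.Agent.EtpbcA.Germ (exists_geomPt pt pt_fmap)

variable {Λ : Type (u + 1)} [CommRing Λ] {X : Scheme.{u}}

/-- Sections killed by the second map of an exact sequence lift locally. -/
theorem exists_local_lift {S : ShortComplex (EtModW.Mod Λ X)} (hS : S.Exact) {U : X.Etale}
    (s : EtModW.sect Λ S.X₂ U) (hs : ev S.g U s = 0) (x : U.left) :
    ∃ (V : X.Etale) (g : V ⟶ U) (v : V.left) (t : EtModW.sect Λ S.X₁ V), g.left v = x ∧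
      ev S.f V t = res S.X₂ g s := by
  obtain ⟨Ω, _, _, ξ, τ, rfl⟩ := exists_geomPt x
  have h1 := Etrest.ModFT.stalkExact_of_exact hS Ω ξ
  have h2 : Etrest.ModGerm.stalkMap Λ ξ S.g (Etrest.ModGerm.germ Λ ξ S.X₂ τ s) = 0 := by
    rw [Etrest.ModGerm.stalkMap_germ]
    have h3 : Etrest.ModGerm.ev Λ S.g U s = 0 := hs
    rw [h3, map_zero]
  obtain ⟨a, ha⟩ := (h1 _).1 h2
  obtain ⟨V, g, τ', t, hτ, rfl⟩ := Etrest.ModGerm.germ_surj_over Λ ξ S.X₁ τ a
  rw [Etrest.ModGerm.stalkMap_germ, ← hτ, ← Etrest.ModGerm.germ_res,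
    Etrest.ModGerm.germ_eq_iff] at ha
  obtain ⟨W, k, w, hw, e⟩ := ha
  refine ⟨W, k ≫ g, pt ξ w, res S.X₁ k t, ?_, ?_⟩
  · rw [← hτ, ← hw, pt_fmap, pt_fmap]
    rfl
  · rw [res_comp]
    refine Eq.trans ?_ e
    exact (res_ev S.f k t).symm

/-- Epimorphisms are locally surjective. -/
theorem exists_local_lift_of_epi {F G : EtModW.Mod Λ X} (β : F ⟶ G) [Epi β] {U : X.Etale}
    (s : EtModW.sect Λ G U) (x : U.left) :
    ∃ (V : X.Etale) (g : V ⟶ U) (v : V.left) (t : EtModW.sect Λ F V), g.left v = x ∧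
      ev β V t = res G g s :=
  exists_local_lift (S := ShortComplex.mk β (0 : G ⟶ G) comp_zero)
    ((ShortComplex.exact_iff_epi _ rfl).2 (by assumption)) s rfl x

/-- Monomorphisms are injective on sections. -/
theorem ev_injective {F G : EtModW.Mod Λ X} (α : F ⟶ G) [Mono α] {U : X.Etale}
    (s : EtModW.sect Λ F U) (h : ev α U s = 0) : s = 0 := by
  apply eq_zero_of_van
  intro x
  have hex : (ShortComplex.mk (0 : F ⟶ F) α zero_comp).Exact :=
    (ShortComplex.exact_iff_mono _ rfl).2 (by assumption)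
  obtain ⟨V, g, v, t, hv, e⟩ := exists_local_lift hex s h x
  exact ⟨V, g, v, hv, e.symm⟩

theorem ev_comp {F G H : EtModW.Mod Λ X} (α : F ⟶ G) (β : G ⟶ H) {U : X.Etale}
    (s : EtModW.sect Λ F U) : ev (α ≫ β) U s = ev β U (ev α U s) := rfl

theorem ev_zero {F G : EtModW.Mod Λ X} {U : X.Etale}
    (s : EtModW.sect Λ F U) : ev (0 : F ⟶ G) U s = 0 := rfl

variable {M M' : Type (u + 1)} [AddCommGroup M] [Module Λ M] [AddCommGroup M'] [Module Λ M']

/-- The map to the sections of the quotient. -/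
noncomputable def quotMap {S : ShortComplex (EtModW.Mod Λ X)} {U : X.Etale}
    (φ : M →ₗ[Λ] EtModW.sect Λ S.X₁ U) (Φ : M' →ₗ[Λ] EtModW.sect Λ S.X₂ U) (a : M →ₗ[Λ] M')
    (h : ∀ m, ev S.f U (φ m) = Φ (a m)) : (M' ⧸ LinearMap.range a) →ₗ[Λ] EtModW.sect Λ S.X₃ U :=
  (LinearMap.range a).liftQ ((ev S.g U).comp Φ) (by
    rintro _ ⟨m, rfl⟩
    rw [LinearMap.mem_ker, LinearMap.comp_apply, ← h, ← ev_comp, S.zero]
    rfl)

theorem quotMap_mk {S : ShortComplex (EtModW.Mod Λ X)} {U : X.Etale}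
    (φ : M →ₗ[Λ] EtModW.sect Λ S.X₁ U) (Φ : M' →ₗ[Λ] EtModW.sect Λ S.X₂ U) (a : M →ₗ[Λ] M')
    (h : ∀ m, ev S.f U (φ m) = Φ (a m)) (m : M') :
    quotMap φ Φ a h (Submodule.Quotient.mk m) = ev S.g U (Φ m) := rfl

/-- The cokernel of a monomorphism of sheaves constant over `U` is constant over `U`. -/
theorem cst_quotMap {S : ShortComplex (EtModW.Mod Λ X)} (hS : S.ShortExact) {U : X.Etale}
    (φ : M →ₗ[Λ] EtModW.sect Λ S.X₁ U) (Φ : M' →ₗ[Λ] EtModW.sect Λ S.X₂ U) (a : M →ₗ[Λ] M')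
    (h : ∀ m, ev S.f U (φ m) = Φ (a m)) (hφ : Cst S.X₁ U φ) (hΦ : Cst S.X₂ U Φ) :
    Cst S.X₃ U (quotMap φ Φ a h) := by
  have := hS.mono_f
  have := hS.epi_g
  intro y
  constructor
  · intro m hm
    obtain ⟨m, rfl⟩ := Submodule.Quotient.mk_surjective _ m
    rw [quotMap_mk] at hm
    obtain ⟨W, g, w, hw, e⟩ := hm
    rw [res_ev] at e
    obtain ⟨W', k, w', t, hw', e'⟩ := exists_local_lift hS.exact _ e w
    obtain ⟨m₀, hm₀⟩ := (hφ ((k ≫ g).left w')).2 W' (k ≫ g) w' rfl t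
    have h1 : Van S.X₂ (ev S.f W' (t - res S.X₁ (k ≫ g) (φ m₀))) w' := Van.map S.f hm₀
    rw [map_sub, e', ← res_ev, h, ← res_comp, ← map_sub, ← map_sub] at h1
    have h2 := (hΦ _).1 _ (Van.of_res (k ≫ g) w' h1)
    rw [Submodule.Quotient.mk_eq_zero]
    exact ⟨m₀, (sub_eq_zero.1 h2).symm⟩
  · intro W g w hw t
    obtain ⟨W', k, w', t', hw', e⟩ := exists_local_lift_of_epi S.g t w
    obtain ⟨m, hm⟩ := (hΦ ((k ≫ g).left w')).2 W' (k ≫ g) w' rfl t'
    refine ⟨Submodule.Quotient.mk m, ?_⟩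
    rw [quotMap_mk, ← hw']
    apply Van.of_res
    have h1 : Van S.X₃ (ev S.g W' (t' - res S.X₂ (k ≫ g) (Φ m))) w' := Van.map S.g hm
    rw [map_sub, e, ← res_ev, res_comp, ← map_sub] at h1
    exact h1

/-- Transport along a morphism which is bijective over `U`. -/
theorem cst_of_bijective {F G : EtModW.Mod Λ X} (α : F ⟶ G) {U : X.Etale}
    (φ : M →ₗ[Λ] EtModW.sect Λ F U) (hφ : Cst F U φ)
    (hinj : ∀ (W : X.Etale) (_ : W ⟶ U) (s : EtModW.sect Λ F W), ev α W s = 0 → s = 0)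
    (hsurj : ∀ (W : X.Etale) (_ : W ⟶ U) (s : EtModW.sect Λ G W) (x : W.left),
      ∃ (V : X.Etale) (g : V ⟶ W) (v : V.left) (t : EtModW.sect Λ F V), g.left v = x ∧
      ev α V t = res G g s) : Cst G U ((ev α U).comp φ) := by
  intro y
  constructor
  · rintro m ⟨W, g, w, hw, e⟩
    have e' : ev α W (res F g (φ m)) = 0 := by
      rw [← res_ev]
      exact e
    exact (hφ y).1 m ⟨W, g, w, hw, hinj W g _ e'⟩
  · intro W g w hw t
    obtain ⟨V, k, v, t', hv, e⟩ := hsurj W g t w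
    obtain ⟨m, hm⟩ := (hφ ((k ≫ g).left v)).2 V (k ≫ g) v rfl t'
    refine ⟨m, ?_⟩
    rw [← hv]
    apply Van.of_res
    have h1 := Van.map α hm
    rw [map_sub, e, ← res_ev, res_comp, ← map_sub] at h1
    exact h1

/-- Constancy is invariant under isomorphisms. -/
theorem cst_of_iso {F G : EtModW.Mod Λ X} (e : F ≅ G) {U : X.Etale}
    (φ : M →ₗ[Λ] EtModW.sect Λ F U) (hφ : Cst F U φ) : Cst G U ((ev e.hom U).comp φ) :=
  cst_of_bijective e.hom φ hφ (fun _ _ s hs => ev_injective e.hom s hs)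
    (fun _ _ s x => exists_local_lift_of_epi e.hom s x)

end Groth.Agent.Sga4h.LFinExact
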