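import Groth.Agent.Sga4h.LFinT

/-!
# Finite families of finite morphisms controlling the finiteness of `g^* R^q f_* F`

`Fam X`: finite families of finite morphisms `Z_i ⟶ X`.
`Hyp 𝒵 n f g`: the sheaves `g^* R^q (h_i ≫ f)_* (ℤ/l)` are constructible for all primes `l ∣ n`.
`Good Λ 𝒵 n F`: for all `f`, `g` such that `Hyp 𝒵 n f g` holds, `g^* R^q f_* F` is constructible.
`DD Λ n F`: there is a family `𝒵` with `Good Λ 𝒵 n F`.
-/

set_option autoImplicit false
universe u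

open CategoryTheory CategoryTheory.Limits AlgebraicGeometry Opposite
open Groth.Agent.Localalg.DeltaFun
open scoped ZeroObject

namespace Groth.Agent.Sga4h.LFinFam

open Groth.Agent.Sga4h.LFinDelta Groth.Agent.Sga4h.LFinT

/-- A finite family of finite morphisms. -/
structure Fam (X : Scheme.{u}) where
  /-- the index set -/
  ι : Type
  finι : Finite ι
  /-- the sources -/
  Z : ι → Scheme.{u}
  /-- the morphisms -/
  h : ∀ i, Z i ⟶ X
  fin : ∀ i, IsFinite (h i)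

namespace Fam

variable {X : Scheme.{u}}

/-- The empty family. -/
def empty (X : Scheme.{u}) : Fam X where
  ι := Empty
  finι := inferInstance
  Z i := i.elim
  h i := i.elim
  fin i := i.elim

/-- The family consisting of one morphism. -/
def single {Z : Scheme.{u}} (h : Z ⟶ X) [IsFinite h] : Fam X where
  ι := Unit
  finι := inferInstance
  Z _ := Z
  h _ := h
  fin _ := inferInstance

/-- The union of two families. -/
def sum (A B : Fam X) : Fam X where
  ι := A.ι ⊕ B.ι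
  finι := by
    have := A.finι
    have := B.finι
    infer_instance
  Z i := match i with
    | .inl a => A.Z a
    | .inr b => B.Z b
  h i := match i with
    | .inl a => A.h a
    | .inr b => B.h b
  fin i := match i with
    | .inl a => A.fin a
    | .inr b => B.fin b

/-- The composition with a finite morphism. -/
def push {Z : Scheme.{u}} (A : Fam Z) (c : Z ⟶ X) [IsFinite c] : Fam X where
  ι := A.ι
  finι := A.finι
  Z := A.Z
  h i := A.h i ≫ c
  fin i := by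
    have := A.fin i
    infer_instance

end Fam

/-- The hypothesis: constructibility of `g^* R^q (h_i ≫ f)_* (ℤ/l)`. -/
def Hyp {X Y Y' : Scheme.{u}} (A : Fam X) (n : ℕ) (f : X ⟶ Y) (g : Y' ⟶ Y) : Prop :=
  ∀ (i : A.ι) (l : ℕ), l.Prime → l ∣ n → ∀ q,
    EtPBC.IsConstructible ((EtCoh.pull g).obj ((EtCoh.Rpush (A.h i ≫ f) q).obj
      (EtCoh.const (A.Z i) (ZMod l))))

section hyp

variable {X : Scheme.{u}} {n : ℕ}

theorem Hyp.left {Y Y' : Scheme.{u}} {A B : Fam X} {f : X ⟶ Y} {g : Y' ⟶ Y}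
    (h : Hyp (A.sum B) n f g) : Hyp A n f g := fun i => h (.inl i)

theorem Hyp.right {Y Y' : Scheme.{u}} {A B : Fam X} {f : X ⟶ Y} {g : Y' ⟶ Y}
    (h : Hyp (A.sum B) n f g) : Hyp B n f g := fun i => h (.inr i)

theorem Hyp.of_push {Z Y Y' : Scheme.{u}} {A : Fam Z} {c : Z ⟶ X} [IsFinite c] {f : X ⟶ Y}
    {g : Y' ⟶ Y} (h : Hyp (A.push c) n f g) : Hyp A n (c ≫ f) g := by
  intro i l hl hln q
  have h1 := h i l hl hln q
  change EtPBC.IsConstructible ((EtCoh.pull g).obj ((EtCoh.Rpush ((A.h i ≫ c) ≫ f) q).obj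
      (EtCoh.const (A.Z i) (ZMod l)))) at h1
  rw [Category.assoc] at h1
  exact h1

end hyp

variable {X : Scheme.{u}} (Λ : Type (u + 1)) [CommRing Λ] (n : ℕ)

/-- The family `A` controls the sheaf `F`. -/
def Good (A : Fam X) (F : EtModW.Mod Λ X) : Prop :=
  ∀ ⦃Y Y' : Scheme.{u}⦄ (f : X ⟶ Y) [QuasiCompact f] [QuasiSeparated f] (g : Y' ⟶ Y),
    Hyp A n f g → ∀ q, EtModW.IsConstructible Λ ((EtModW.pull Λ g).obj ((EtModW.Rpush Λ f q).obj F))

/-- Some family controls the sheaf `F`. -/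
def DD (F : EtModW.Mod Λ X) : Prop := ∃ A : Fam X, Good Λ n A F

variable {Λ n}

theorem Good.left {A B : Fam X} {F : EtModW.Mod Λ X} (h : Good Λ n A F) :
    Good Λ n (A.sum B) F := fun _ _ f _ _ g hg => h f g hg.left

theorem Good.right {A B : Fam X} {F : EtModW.Mod Λ X} (h : Good Λ n B F) :
    Good Λ n (A.sum B) F := fun _ _ f _ _ g hg => h f g hg.right

theorem Good.push {Z : Scheme.{u}} {A : Fam Z} (c : Z ⟶ X) [IsFinite c] {F : EtModW.Mod Λ Z}
    (h : Good Λ n A F) : Good Λ n (A.push c) ((EtModW.push Λ c).obj F) := by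
  intro Y Y' f _ _ g hg q
  obtain ⟨e⟩ := nonempty_push_iso Λ c f F q
  exact Etrest.ModCons.isConstructible_of_iso ((EtModW.pull Λ g).mapIso e.symm)
    (h (c ≫ f) g hg.of_push q)

theorem Good.of_iso {A : Fam X} {F G : EtModW.Mod Λ X} (e : F ≅ G) (h : Good Λ n A F) :
    Good Λ n A G := fun _ _ f _ _ g hg q =>
  Etrest.ModCons.isConstructible_of_iso ((EtModW.pull Λ g).mapIso ((EtModW.Rpush Λ f q).mapIso e))
    (h f g hg q)

theorem DD.of_iso {F G : EtModW.Mod Λ X} (e : F ≅ G) (h : DD Λ n F) : DD Λ n G :=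
  let ⟨A, hA⟩ := h
  ⟨A, hA.of_iso e⟩

theorem DD.push {Z : Scheme.{u}} (c : Z ⟶ X) [IsFinite c] {F : EtModW.Mod Λ Z}
    (h : DD Λ n F) : DD Λ n ((EtModW.push Λ c).obj F) :=
  let ⟨A, hA⟩ := h
  ⟨A.push c, hA.push c⟩

section noeth

variable [IsNoetherianRing Λ]

theorem Good.mid {A : Fam X} {S : ShortComplex (EtModW.Mod Λ X)} (hS : S.ShortExact)
    (h1 : Good Λ n A S.X₁) (h3 : Good Λ n A S.X₃) : Good Λ n A S.X₂ := by
  intro Y Y' f _ _ g hg q
  have := hS.mono_f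
  have : Mono (((TT Λ f g).T 0).map S.f) := mono_T_zero Λ f g S.f
  exact mem₂ (fiveClosed Λ) (TT Λ f g) hS (h1 f g hg) (h3 f g hg) q

theorem Good.fst {A : Fam X} {S : ShortComplex (EtModW.Mod Λ X)} (hS : S.ShortExact)
    (h2 : Good Λ n A S.X₂) (h3 : Good Λ n A S.X₃) : Good Λ n A S.X₁ := by
  intro Y Y' f _ _ g hg q
  have := hS.mono_f
  have : Mono (((TT Λ f g).T 0).map S.f) := mono_T_zero Λ f g S.f
  exact mem₁ (fiveClosed Λ) (TT Λ f g) hS (h2 f g hg) (h3 f g hg) q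

theorem DD.mid {S : ShortComplex (EtModW.Mod Λ X)} (hS : S.ShortExact)
    (h1 : DD Λ n S.X₁) (h3 : DD Λ n S.X₃) : DD Λ n S.X₂ :=
  let ⟨A, hA⟩ := h1
  let ⟨B, hB⟩ := h3
  ⟨A.sum B, Good.mid hS hA.left hB.right⟩

theorem Good.of_isZero {A : Fam X} {F : EtModW.Mod Λ X} (hF : IsZero F) : Good Λ n A F :=
  fun _ _ f _ _ g _ q => (fiveClosed Λ).of_isZero
    ((EtModW.pull Λ g).map_isZero ((EtModW.Rpush Λ f q).map_isZero hF))

theorem DD.of_isZero {F : EtModW.Mod Λ X} (hF : IsZero F) : DD Λ n F :=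
  ⟨Fam.empty X, Good.of_isZero hF⟩

/-- The resolution argument. -/
theorem Good.of_class {A : Fam X} (Q : EtModW.Mod Λ X → Prop)
    (hQ : ∀ F, Q F → ∃ S : ShortComplex (EtModW.Mod Λ X), S.ShortExact ∧ Nonempty (S.X₁ ≅ F) ∧
      Q S.X₃ ∧ Good Λ n A S.X₂) (F : EtModW.Mod Λ X) (hF : Q F) : Good Λ n A F := by
  intro Y Y' f _ _ g hg q
  refine mem_of_class (fiveClosed Λ) (TT Λ f g) (fun α _ => mono_T_zero Λ f g α) Q ?_ q F hF
  intro F hF
  obtain ⟨S, h1, h2, h3, h4⟩ := hQ F hF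
  exact ⟨S, h1, h2, h3, h4 f g hg⟩

end noeth

end Groth.Agent.Sga4h.LFinFam
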