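import Groth.Agent.Sga4h.LFinGalRing
import Groth.Agent.FlatA.ZMTFactor
import Mathlib.AlgebraicGeometry.Morphisms.Etale
import Mathlib.AlgebraicGeometry.Morphisms.Finite
import Mathlib.AlgebraicGeometry.FunctionField
import Mathlib.AlgebraicGeometry.Noetherian

/-!
# Generic Galois trivialisation of an etale morphism to an integral scheme
-/

set_option autoImplicit false
universe u

open CategoryTheory CategoryTheory.Limits AlgebraicGeometry

namespace Groth.Agent.Sga4h.LFinGal

/-- Elementwise Galois property of a morphism `p : V ⟶ U`: finitely many `U`-endomorphisms of `V` such that two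
field-valued points of `V` with the same image in `U` differ by exactly one of them. -/
def IsGalHom {V U : Scheme.{u}} (p : V ⟶ U) : Prop :=
  ∃ (ι : Type u) (_ : Finite ι) (σ : ι → (V ⟶ V)), (∀ i, σ i ≫ p = p) ∧
    ∀ (Ω : Type u) [Field Ω] (t t' : Spec (CommRingCat.of Ω) ⟶ V), t ≫ p = t' ≫ p →
      ∃! i, t' = t ≫ σ i

theorem isGalHom_spec (R B : Type u) [CommRing R] [CommRing B] [Algebra R B]
    (h : LFinGalRing.IsGal R B) : IsGalHom (Spec.map (CommRingCat.ofHom (algebraMap R B))) := by
  obtain ⟨ι, _, σ, hσ⟩ := h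
  refine ⟨ι, inferInstance, fun i => Spec.map (CommRingCat.ofHom (σ i : B →+* B)), ?_, ?_⟩
  · intro i
    rw [← Spec.map_comp, ← CommRingCat.ofHom_comp]
    congr 2
    exact (σ i).comp_algebraMap
  · intro Ω _ t t' htt
    obtain ⟨s, rfl⟩ := Spec.map_surjective t
    obtain ⟨s', rfl⟩ := Spec.map_surjective t'
    have h1 : s.hom.comp (algebraMap R B) = s'.hom.comp (algebraMap R B) := by
      rw [← Spec.map_comp, ← Spec.map_comp] at htt
      have := Spec.map_injective htt
      exact congrArg CommRingCat.Hom.hom this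
    have key (i : ι) : s'.hom = s.hom.comp (σ i : B →+* B) ↔
        Spec.map s' = Spec.map s ≫ Spec.map (CommRingCat.ofHom (σ i : B →+* B)) := by
      rw [← Spec.map_comp, Spec.map_inj]
      constructor
      · intro h
        ext1
        exact h
      · intro h
        exact congrArg CommRingCat.Hom.hom h
    simpa only [key] using hσ Ω s.hom s'.hom h1

/-- **Generic Galois trivialisation.** `Z` an integral scheme, `w : W ⟶ Z` etale with `W` nonempty: over a nonempty
open `j : U ⟶ Z` there is a finite etale Galois cover `p : V ⟶ U` with `V` integral, which factors through `W`. -/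
theorem exists_gal {Z W : Scheme.{u}} [IsIntegral Z] (w : W ⟶ Z) [Etale w] [Nonempty W] :
    ∃ (U V : Scheme.{u}) (j : U ⟶ Z) (p : V ⟶ U) (q : V ⟶ W), IsOpenImmersion j ∧ Nonempty U ∧ IsAffine U ∧
      IsFinite p ∧ Etale p ∧ Surjective p ∧ IsIntegral V ∧ q ≫ w = p ≫ j ∧ IsGalHom p := by
  obtain ⟨y⟩ := ‹Nonempty W›
  obtain ⟨Z₀, hZ₀, hy, -⟩ := exists_isAffineOpen_mem_and_subset (U := (⊤ : Z.Opens)) (x := w y) (by trivial)
  obtain ⟨W₀, hW₀, hy', hle⟩ := exists_isAffineOpen_mem_and_subset (U := w ⁻¹ᵁ Z₀) (x := y) hy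
  have e : W₀ ≤ w ⁻¹ᵁ Z₀ := hle
  have : Nonempty Z₀ := ⟨⟨_, hy⟩⟩
  have : Nonempty W₀ := ⟨⟨_, hy'⟩⟩
  let A := Γ(Z, Z₀)
  let C := Γ(W, W₀)
  let φ : A ⟶ C := w.appLE Z₀ W₀ e
  have hφ : φ.hom.Etale := w.etale_appLE hZ₀ hW₀ e
  let _ : Algebra A C := φ.hom.toAlgebra
  have : Algebra.Etale A C := hφ
  have : Nontrivial C := inferInstance
  have : IsDomain A := inferInstance
  obtain ⟨a, ha, B, _, _, _, _, _, hinj, hfin, het, ⟨ψ⟩, hgal⟩ := LFinGalRing.exists_gal_ring (A := A) C
  let R := Localization.Away a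
  have : Nontrivial R := (algebraMap R B).domain_nontrivial
  let j : Spec (CommRingCat.of R) ⟶ Z := Spec.map (CommRingCat.ofHom (algebraMap A R)) ≫ hZ₀.fromSpec
  let p : Spec (CommRingCat.of B) ⟶ Spec (CommRingCat.of R) := Spec.map (CommRingCat.ofHom (algebraMap R B))
  let q : Spec (CommRingCat.of B) ⟶ W := Spec.map (CommRingCat.ofHom (ψ : C →+* B)) ≫ hW₀.fromSpec
  have hj : IsOpenImmersion j := by
    have : IsOpenImmersion (Spec.map (CommRingCat.ofHom (algebraMap A R))) :=
      IsOpenImmersion.of_isLocalization a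
    infer_instance
  have hpf : IsFinite p := by
    rw [IsFinite.SpecMap_iff]
    exact RingHom.finite_algebraMap.2 hfin
  have hpe : Etale p := by
    rw [HasRingHomProperty.Spec_iff (P := @Etale)]
    exact RingHom.etale_algebraMap.2 het
  have hps : Surjective p := by
    constructor
    have : FaithfulSMul R B := (faithfulSMul_iff_algebraMap_injective R B).2 hinj
    have : Algebra.IsIntegral R B := inferInstance
    exact Algebra.IsIntegral.comap_surjective R B
  refine ⟨_, _, j, p, q, hj, inferInstance, inferInstance, hpf, hpe, hps, inferInstance, ?_, isGalHom_spec R B hgal⟩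
  have h1 : hW₀.fromSpec ≫ w = Spec.map φ ≫ hZ₀.fromSpec := (hZ₀.SpecMap_appLE_fromSpec w hW₀ e).symm
  simp only [q, p, j, Category.assoc]
  rw [h1, ← Spec.map_comp_assoc, ← Spec.map_comp_assoc, ← CommRingCat.ofHom_comp]
  congr 2
  ext1
  have h2 : (ψ : C →+* B).comp φ.hom = algebraMap A B := ψ.comp_algebraMap
  have h3 : (algebraMap R B).comp (algebraMap A R) = algebraMap A B :=
    (IsScalarTower.algebraMap_eq A R B).symm
  exact h2.trans h3.symm

/-- A dominant open immersion `V ⟶ T` over `π ⊣ j`, with `V ⟶ U` finite, is the base change of `j : U ⟶ Z`. -/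
theorem isPullback_of_finite {U V T Z : Scheme.{u}} (j : U ⟶ Z) [IsOpenImmersion j] (p : V ⟶ U) [IsFinite p]
    (v : V ⟶ T) [IsOpenImmersion v] [IsDominant v] (π : T ⟶ Z) [IsFinite π] (h : v ≫ π = p ≫ j) :
    IsPullback v p π j := by
  let l : V ⟶ pullback π j := pullback.lift v p h
  have h1 : l ≫ pullback.fst π j = v := pullback.lift_fst _ _ _
  have h2 : l ≫ pullback.snd π j = p := pullback.lift_snd _ _ _
  have : IsOpenImmersion (l ≫ pullback.fst π j) := by rw [h1]; infer_instance
  have hl1 : IsOpenImmersion l := IsOpenImmersion.of_comp l (pullback.fst π j)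
  have hl2 : IsProper l := by
    have : IsProper (l ≫ pullback.snd π j) := by rw [h2]; infer_instance
    exact IsProper.of_comp l (pullback.snd π j)
  have hclosed : IsClosed (Set.range l) := l.isClosedMap.isClosed_range
  have hr : Set.range l = (pullback.fst π j) ⁻¹' (Set.range v) := by
    rw [← h1]
    ext y
    constructor
    · rintro ⟨x, rfl⟩
      exact ⟨x, Scheme.Hom.comp_apply _ _ _⟩
    · rintro ⟨x, hx⟩
      refine ⟨x, (pullback.fst π j).isOpenEmbedding.injective ?_⟩
      rw [← hx, Scheme.Hom.comp_apply]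
  have hdense : Dense (Set.range l) := by
    rw [hr]
    exact (Scheme.Hom.denseRange v).preimage (pullback.fst π j).isOpenEmbedding.isOpenMap
  have hsurj : Function.Surjective l := by
    rw [← Set.range_eq_univ, ← hclosed.closure_eq]
    exact hdense.closure_eq
  have : Surjective l := ⟨hsurj⟩
  have hiso : IsIso l := (isIso_iff_isOpenImmersion_and_epi_base l).2 ⟨inferInstance, by
    rw [TopCat.epi_iff_surjective]
    exact hsurj⟩
  exact IsPullback.of_iso_pullback ⟨h⟩ (asIso l) h1 h2

/-- The geometric input of the devissage: over a nonempty open `j : U ⟶ Z` of an integral Noetherian scheme a finite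
etale Galois cover `p : V ⟶ U`, `V` integral, factoring through a given etale `w : W ⟶ Z`, and a finite surjective
`π : T ⟶ Z` with an open immersion `v : V ⟶ T` such that `V = T ×_Z U`. -/
theorem exists_gal_compact {Z W : Scheme.{u}} [IsIntegral Z] [IsNoetherian Z] (w : W ⟶ Z) [Etale w] [Nonempty W] :
    ∃ (U V T : Scheme.{u}) (j : U ⟶ Z) (p : V ⟶ U) (v : V ⟶ T) (π : T ⟶ Z) (q : V ⟶ W), IsOpenImmersion j ∧
      Nonempty U ∧ IsFinite p ∧ Etale p ∧ Surjective p ∧ IsIntegral V ∧ IsOpenImmersion v ∧ IsFinite π ∧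
      Surjective π ∧ IsPullback v p π j ∧ q ≫ w = p ≫ j ∧ IsGalHom p := by
  obtain ⟨U, V, j, p, q, hj, hU, hUa, hpf, hpe, hps, hV, hq, hgal⟩ := exists_gal w
  have : LocallyQuasiFinite (p ≫ j) := inferInstance
  obtain ⟨T, v, π, hv, hvd, -, hπ, hvπ⟩ := FlatA.ZMTFactor.exists_factor (p ≫ j)
  refine ⟨U, V, T, j, p, v, π, q, hj, hU, hpf, hpe, hps, hV, hv, hπ, ?_, isPullback_of_finite j p v π hvπ, hq, hgal⟩
  constructor
  rw [← Set.range_eq_univ, ← π.isClosedMap.isClosed_range.closure_eq]
  have h1 : Set.range j ⊆ Set.range π := by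
    rintro _ ⟨x, rfl⟩
    obtain ⟨y, rfl⟩ := p.surjective x
    refine ⟨v y, ?_⟩
    rw [← Scheme.Hom.comp_apply, hvπ, Scheme.Hom.comp_apply]
  have h2 : Dense (Set.range j) := by
    refine j.isOpenEmbedding.isOpen_range.dense ?_
    obtain ⟨x⟩ := hU
    exact ⟨_, x, rfl⟩
  exact (h2.mono h1).closure_eq

end Groth.Agent.Sga4h.LFinGal
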