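import Mathlib.RingTheory.Etale.Field
import Mathlib.RingTheory.Etale.StandardEtale
import Mathlib.RingTheory.Smooth.Flat
import Mathlib.FieldTheory.PrimitiveElement
import Mathlib.FieldTheory.Galois.Basic
import Mathlib.FieldTheory.IsSepClosed
import Mathlib.RingTheory.Localization.Integral
import Mathlib.RingTheory.Localization.FractionRing

/-!
# Generic Galois trivialisation of an etale algebra over a domain
-/

set_option autoImplicit false
universe u

open Polynomial

namespace Groth.Agent.Sga4h.LFinGalRing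

section elements

variable {A : Type u} [CommRing A] [IsDomain A] {K L : Type u} [Field K] [Algebra A K]
  [IsFractionRing A K] [Field L] [Algebra K L] [Algebra A L] [IsScalarTower A K L]

/-- Clearing denominators: if `L = K[x]`, every element of `L` has a multiple in `A[x]`. -/
theorem exists_smul_mem_adjoin (x : L) (hx : Algebra.adjoin K {x} = ⊤) (s : L) :
    ∃ a : A, a ≠ 0 ∧ a • s ∈ Algebra.adjoin A {x} := by
  have hs : s ∈ Algebra.adjoin K {x} := by rw [hx]; trivial
  rw [Algebra.adjoin_singleton_eq_range_aeval] at hs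
  obtain ⟨p, rfl⟩ := hs
  obtain ⟨b, hbM, hb⟩ := IsLocalization.integerNormalization_spec (nonZeroDivisors A) p
  refine ⟨b, nonZeroDivisors.ne_zero hbM, ?_⟩
  rw [Algebra.adjoin_singleton_eq_range_aeval]
  refine ⟨IsLocalization.integerNormalization (nonZeroDivisors A) p, ?_⟩
  have := congrArg (aeval x) hb
  rw [aeval_map_algebraMap] at this
  refine this.trans ?_
  rw [← algebraMap_smul K b p, map_smul, algebraMap_smul]
  rfl

/-- A common denominator for finitely many elements. -/
theorem exists_common_smul_mem_adjoin (x : L) (hx : Algebra.adjoin K {x} = ⊤) (S : Finset L) :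
    ∃ a : A, a ≠ 0 ∧ ∀ s ∈ S, a • s ∈ Algebra.adjoin A {x} := by
  classical
  induction S using Finset.induction_on with
  | empty => exact ⟨1, one_ne_zero, by simp⟩
  | insert s S _ ih =>
    obtain ⟨a, ha, h⟩ := ih
    obtain ⟨b, hb, h'⟩ := exists_smul_mem_adjoin x hx s (A := A)
    refine ⟨a * b, mul_ne_zero ha hb, ?_⟩
    intro t ht
    rcases Finset.mem_insert.1 ht with rfl | ht
    · rw [mul_smul]
      exact Subalgebra.smul_mem _ h' a
    · rw [mul_comm, mul_smul]
      exact Subalgebra.smul_mem _ (h t ht) b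

end elements

section galpoly

variable {K L : Type u} [Field K] [Field L] [Algebra K L] [FiniteDimensional K L] [IsGalois K L]

/-- The product `∏ (X - g x)` has coefficients in `K`. -/
theorem exists_galpoly (x : L) : ∃ Q : K[X], Q.Monic ∧ Q.natDegree = Module.finrank K L ∧
    Q.map (algebraMap K L) = ∏ g : (L ≃ₐ[K] L), (X - C (g x)) := by
  classical
  set P : L[X] := ∏ g : (L ≃ₐ[K] L), (X - C (g x)) with hP
  have hmon : P.Monic := monic_prod_of_monic _ _ (fun g _ => monic_X_sub_C _)
  have hdeg : P.natDegree = Module.finrank K L := by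
    rw [hP, natDegree_prod_of_monic _ _ (fun g _ => monic_X_sub_C _)]
    simp only [natDegree_X_sub_C, Finset.sum_const, smul_eq_mul, mul_one]
    rw [Finset.card_univ, ← Nat.card_eq_fintype_card]
    exact IsGalois.card_aut_eq_finrank K L
  have hinv : ∀ h : (L ≃ₐ[K] L), P.map (h : L →+* L) = P := by
    intro h
    rw [hP, Polynomial.map_prod]
    refine Fintype.prod_equiv (Equiv.mulLeft h) _ _ (fun g => ?_)
    simp
  have hl : P ∈ Polynomial.lifts (algebraMap K L) := by
    rw [Polynomial.lifts_iff_coeff_lifts]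
    intro n
    have : P.coeff n ∈ (⊥ : IntermediateField K L) := by
      rw [IsGalois.mem_bot_iff_fixed]
      intro h
      have := congrArg (fun p => p.coeff n) (hinv h)
      simpa using this
    rw [IntermediateField.mem_bot] at this
    exact this
  obtain ⟨Q, hQ, hd, hm⟩ := Polynomial.lifts_and_natDegree_eq_and_monic hl hmon
  exact ⟨Q, hm, hd.trans hdeg, hQ⟩

end galpoly

/-- Elementwise Galois property of a ring map `R → B`: finitely many `R`-algebra endomorphisms of `B` such that two
points of `B` with values in a field which agree on `R` differ by exactly one of them. -/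
def IsGal (R B : Type u) [CommRing R] [CommRing B] [Algebra R B] : Prop :=
  ∃ (ι : Type u) (_ : Finite ι) (σ : ι → B →ₐ[R] B), ∀ (Ω : Type u) [Field Ω] (t t' : B →+* Ω),
    t.comp (algebraMap R B) = t'.comp (algebraMap R B) → ∃! i, t' = t.comp (σ i : B →+* B)

section main

variable {K L : Type u} [Field K] [Field L] [Algebra K L] [FiniteDimensional K L] [IsGalois K L]
  {R : Type u} [CommRing R] [Algebra R K] [Algebra R L] [IsScalarTower R K L]
  (hRK : Function.Injective (algebraMap R K))
  (x : L) (hx : Algebra.adjoin K {x} = ⊤)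
  (Q : R[X]) (hQm : Q.Monic) (hQ : Q.map (algebraMap R L) = ∏ g : (L ≃ₐ[K] L), (X - C (g x)))
  (hg : ∀ g : (L ≃ₐ[K] L), g x ∈ Algebra.adjoin R {x})
  (hinv : ∀ g : (L ≃ₐ[K] L), g ≠ 1 → (x - g x)⁻¹ ∈ Algebra.adjoin R {x})

set_option linter.unusedSectionVars false

include hx in
theorem eq_of_apply_eq (g h : L ≃ₐ[K] L) (e : g x = h x) : g = h := by
  apply AlgEquiv.coe_toAlgHom_injective
  refine AlgHom.ext_of_adjoin_eq_top hx ?_
  intro y hy
  rw [Set.mem_singleton_iff] at hy
  subst hy
  exact e

include hg in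
theorem map_mem (g : L ≃ₐ[K] L) (b : L) (hb : b ∈ Algebra.adjoin R {x}) : g b ∈ Algebra.adjoin R {x} := by
  induction hb using Algebra.adjoin_induction with
  | mem y hy =>
    rw [Set.mem_singleton_iff] at hy
    subst hy
    exact hg g
  | algebraMap r =>
    rw [IsScalarTower.algebraMap_apply R K L, g.commutes, ← IsScalarTower.algebraMap_apply]
    exact Subalgebra.algebraMap_mem _ r
  | add y z _ _ h1 h2 => rw [map_add]; exact add_mem h1 h2
  | mul y z _ _ h1 h2 => rw [map_mul]; exact mul_mem h1 h2

/-- Restriction of an automorphism to `R[x]`. -/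
noncomputable def sig (g : L ≃ₐ[K] L) : (Algebra.adjoin R {x}) →ₐ[R] (Algebra.adjoin R {x}) :=
  AlgHom.codRestrict (((g : L →ₐ[K] L).restrictScalars R).comp (Algebra.adjoin R {x}).val)
    (Algebra.adjoin R {x}) (fun b => map_mem x hg g b.1 b.2)

theorem sig_val (g : L ≃ₐ[K] L) (b : Algebra.adjoin R {x}) : (sig x hg g b : L) = g b := rfl

/-- The generator. -/
noncomputable def gen : Algebra.adjoin R {x} := ⟨x, Algebra.self_mem_adjoin_singleton R x⟩

include hQ in
theorem map_gen : Q.map (algebraMap R (Algebra.adjoin R {x})) =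
    ∏ g : (L ≃ₐ[K] L), (X - C (sig x hg g (gen x))) := by
  apply Polynomial.map_injective (Algebra.adjoin R {x}).val.toRingHom Subtype.val_injective
  rw [Polynomial.map_map, Polynomial.map_prod]
  refine Eq.trans ?_ (hQ.trans (Finset.prod_congr rfl (fun g _ => ?_)))
  · rfl
  · simp only [Polynomial.map_sub, map_X, map_C]
    rfl

include hx hinv in
theorem isUnit_sub (g h : L ≃ₐ[K] L) (hgh : g ≠ h) :
    IsUnit (sig x hg g (gen x) - sig x hg h (gen x)) := by
  have h1 : g⁻¹ * h ≠ 1 := fun e => hgh (inv_mul_eq_one.1 e)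
  have h2 : x - (g⁻¹ * h) x ≠ 0 := by
    intro e
    refine h1 (eq_of_apply_eq x hx _ _ ?_)
    rw [← sub_eq_zero.1 e]
    rfl
  have h3 := hinv _ h1
  have h4 := map_mem x hg g _ h3
  refine IsUnit.of_mul_eq_one ⟨_, h4⟩ ?_
  apply Subtype.ext
  change (g x - h x) * g ((x - (g⁻¹ * h) x)⁻¹) = 1
  rw [map_inv₀, map_sub]
  have h5 : g ((g⁻¹ * h) x) = h x := by
    rw [← AlgEquiv.mul_apply, mul_inv_cancel_left]
  rw [h5]
  refine mul_inv_cancel₀ ?_
  rw [← h5, ← map_sub]
  exact fun e => h2 ((map_eq_zero_iff g g.injective).1 e)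

include hQm hQ in
theorem gen_isIntegral : IsIntegral R x := by
  refine ⟨Q, hQm, ?_⟩
  have : Polynomial.eval x (Q.map (algebraMap R L)) = 0 := by
    rw [hQ, eval_prod]
    exact Finset.prod_eq_zero (Finset.mem_univ (1 : L ≃ₐ[K] L)) (by simp)
  rwa [eval_map] at this

include hQm hQ in
theorem finite_adjoin : Module.Finite R (Algebra.adjoin R {x}) :=
  Algebra.finite_adjoin_simple_of_isIntegral (gen_isIntegral x Q hQm hQ)

include hx hQm hQ hRK in
theorem dvd_of_aeval (F : R[X]) (hF : aeval x F = 0) : Q ∣ F := by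
  rw [← Polynomial.modByMonic_eq_zero_iff_dvd hQm]
  have h1 : aeval x (F %ₘ Q) = 0 := by
    have hQ0 : aeval x Q = 0 := by
      have : Polynomial.eval x (Q.map (algebraMap R L)) = 0 := by
        rw [hQ, eval_prod]
        exact Finset.prod_eq_zero (Finset.mem_univ (1 : L ≃ₐ[K] L)) (by simp)
      rwa [eval_map_algebraMap] at this
    have := congrArg (aeval x) (modByMonic_add_div F Q)
    rw [map_add, map_mul, hQ0, zero_mul, add_zero, hF] at this
    exact this
  have h2 : ((F %ₘ Q).map (algebraMap R K)) = 0 := by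
    by_contra hne
    have h3 : aeval x ((F %ₘ Q).map (algebraMap R K)) = 0 := by rwa [aeval_map_algebraMap]
    have h4 := minpoly.degree_le_of_ne_zero K x hne h3
    have h5 : (minpoly K x).natDegree = Module.finrank K L := by
      have h6 : IntermediateField.adjoin K {x} = ⊤ := by
        rw [eq_top_iff]
        intro y _
        have : y ∈ Algebra.adjoin K {x} := by rw [hx]; trivial
        exact IntermediateField.algebra_adjoin_le_adjoin K {x} this
      rw [← IntermediateField.adjoin.finrank (IsIntegral.of_finite K x), h6, IntermediateField.finrank_top']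
    have h7 : (Q.map (algebraMap R L)).natDegree = Module.finrank K L := by
      rw [hQ, natDegree_prod_of_monic _ _ (fun g _ => monic_X_sub_C _)]
      simp only [natDegree_X_sub_C, Finset.sum_const, smul_eq_mul, mul_one]
      rw [Finset.card_univ, ← Nat.card_eq_fintype_card]
      exact IsGalois.card_aut_eq_finrank K L
    have : Nontrivial R := (algebraMap R K).domain_nontrivial
    have h8 : Q.natDegree = Module.finrank K L := by rw [← h7, hQm.natDegree_map]
    have h9 := Polynomial.degree_modByMonic_lt F hQm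
    rw [Polynomial.degree_eq_natDegree hQm.ne_zero, h8, ← h5,
      ← Polynomial.degree_eq_natDegree (minpoly.ne_zero (IsIntegral.of_finite K x))] at h9
    have h10 := h4.trans (Polynomial.degree_map_le)
    exact absurd h9 (not_lt.2 h10)
  exact (Polynomial.map_eq_zero_iff hRK).1 h2

include hx hQm hQ hRK in
theorem exists_equiv : ∃ e : AdjoinRoot Q ≃ₐ[R] (Algebra.adjoin R {x}), e (AdjoinRoot.root Q) = gen x := by
  have hQ0 : aeval x Q = 0 := by
    have : Polynomial.eval x (Q.map (algebraMap R L)) = 0 := by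
      rw [hQ, eval_prod]
      exact Finset.prod_eq_zero (Finset.mem_univ (1 : L ≃ₐ[K] L)) (by simp)
    rwa [eval_map_algebraMap] at this
  have hQ1 : aeval (gen x : Algebra.adjoin R {x}) Q = 0 := by
    apply Subtype.ext
    have h1 := Polynomial.aeval_algHom_apply (Algebra.adjoin R {x}).val (gen x) Q
    exact h1.symm.trans hQ0
  let φ : AdjoinRoot Q →ₐ[R] (Algebra.adjoin R {x}) := AdjoinRoot.liftAlgHom Q (Algebra.ofId R _) (gen x) hQ1
  have hφ (F : R[X]) : ((φ (AdjoinRoot.mk Q F) : Algebra.adjoin R {x}) : L) = aeval x F := by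
    have h1 : φ (AdjoinRoot.mk Q F) = aeval (gen x) F := by
      simp only [φ, AdjoinRoot.liftAlgHom_mk]
      rfl
    rw [h1]
    exact (Polynomial.aeval_algHom_apply (Algebra.adjoin R {x}).val (gen x) F).symm
  have hb : Function.Bijective φ := by
    constructor
    · rw [injective_iff_map_eq_zero]
      intro a ha
      obtain ⟨F, rfl⟩ := AdjoinRoot.mk_surjective a
      rw [AdjoinRoot.mk_eq_zero]
      refine dvd_of_aeval hRK x hx Q hQm hQ F ?_
      rw [← hφ, ha]
      rfl
    · rintro ⟨b, hb⟩
      have hb' := hb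
      rw [Algebra.adjoin_singleton_eq_range_aeval] at hb'
      obtain ⟨F, rfl⟩ := hb'
      exact ⟨AdjoinRoot.mk Q F, Subtype.ext (hφ F)⟩
  refine ⟨AlgEquiv.ofBijective φ hb, ?_⟩
  simp only [AlgEquiv.ofBijective_apply, φ]
  exact AdjoinRoot.liftAlgHom_root _ _ _ _

include hx hinv hQ hg in
theorem isUnit_derivative : IsUnit (aeval (gen x : Algebra.adjoin R {x}) Q.derivative) := by
  classical
  have h1 := map_gen x Q hQ hg
  have h2 : aeval (gen x : Algebra.adjoin R {x}) Q.derivative =
      eval (gen x) (derivative (Q.map (algebraMap R (Algebra.adjoin R {x})))) := by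
    rw [derivative_map, eval_map_algebraMap]
  have hs1 : sig x hg 1 (gen x) = gen x := rfl
  rw [h2, h1, derivative_prod_finset, eval_finsetSum, Finset.sum_eq_single (1 : L ≃ₐ[K] L)]
  · rw [eval_mul, eval_prod, derivative_X_sub_C, eval_one, mul_one]
    refine (Finset.prod_induction _ IsUnit (fun _ _ => IsUnit.mul) isUnit_one ?_)
    intro g hg'
    rw [eval_sub, eval_X, eval_C]
    conv => arg 1; arg 1; rw [← hs1]
    exact isUnit_sub x hx hg hinv 1 g (Finset.ne_of_mem_erase hg').symm
  · intro g _ hg1
    rw [eval_mul, eval_prod]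
    refine (congrArg (· * _) (Finset.prod_eq_zero (i := (1 : L ≃ₐ[K] L)) ?_ ?_)).trans (zero_mul _)
    · exact Finset.mem_erase.2 ⟨hg1.symm, Finset.mem_univ _⟩
    · rw [eval_sub, eval_X, eval_C, hs1, sub_self]
  · intro h
    exact absurd (Finset.mem_univ _) h

include hx hQm hQ hRK hg hinv in
theorem etale_adjoin : Algebra.Etale R (Algebra.adjoin R {x}) := by
  obtain ⟨e, he⟩ := exists_equiv hRK x hx Q hQm hQ
  let P : StandardEtalePair R := ⟨Q, hQm, derivative Q, 1, 0, 1, by simp⟩
  have hu : IsUnit (AdjoinRoot.mk P.f P.g) := by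
    have h1 : IsUnit (e (AdjoinRoot.mk Q (derivative Q))) := by
      have : e (AdjoinRoot.mk Q (derivative Q)) = aeval (gen x) (derivative Q) := by
        rw [← he, Polynomial.aeval_algEquiv, AlgHom.comp_apply, AdjoinRoot.aeval_eq]
        rfl
      rw [this]
      exact isUnit_derivative x hx Q hQ hg hinv
    exact (isUnit_map_iff e _).1 h1
  let e₂ : AdjoinRoot P.f ≃ₐ[AdjoinRoot P.f] Localization.Away (AdjoinRoot.mk P.f P.g) :=
    IsLocalization.atUnits _ (Submonoid.powers (AdjoinRoot.mk P.f P.g)) (by
      rintro _ ⟨n, rfl⟩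
      exact hu.pow n)
  have h3 : Algebra.Etale R (Localization.Away (AdjoinRoot.mk P.f P.g)) :=
    Algebra.Etale.of_equiv P.equivAwayAdjoinRoot
  have h4 : Algebra.Etale R (AdjoinRoot P.f) := Algebra.Etale.of_equiv (e₂.symm.restrictScalars R)
  exact Algebra.Etale.of_equiv e

include hx hQm hQ hg hinv in
theorem isGal_adjoin : IsGal R (Algebra.adjoin R {x}) := by
  refine ⟨L ≃ₐ[K] L, inferInstance, sig x hg, ?_⟩
  intro Ω _ t t' h
  have key : eval (t' (gen x)) ((Q.map (algebraMap R (Algebra.adjoin R {x}))).map t) = 0 := by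
    rw [Polynomial.map_map, h, ← Polynomial.map_map, eval_map, eval₂_at_apply]
    have h1 : eval (gen x) (Q.map (algebraMap R (Algebra.adjoin R {x}))) = 0 := by
      rw [map_gen x Q hQ hg, eval_prod]
      exact Finset.prod_eq_zero (Finset.mem_univ (1 : L ≃ₐ[K] L)) (by
        rw [eval_sub, eval_X, eval_C]
        exact sub_self _)
    rw [h1, map_zero]
  rw [map_gen x Q hQ hg, Polynomial.map_prod, eval_prod, Finset.prod_eq_zero_iff] at key
  obtain ⟨g, -, hgx⟩ := key
  rw [Polynomial.map_sub, map_X, map_C, eval_sub, eval_X, eval_C, sub_eq_zero] at hgx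
  have hext (s s' : (Algebra.adjoin R {x}) →+* Ω) (h1 : s.comp (algebraMap R _) = s'.comp (algebraMap R _))
      (h2 : s (gen x) = s' (gen x)) : s = s' := by
    let _ : Algebra R Ω := (s.comp (algebraMap R _)).toAlgebra
    let S : (Algebra.adjoin R {x}) →ₐ[R] Ω := { s with commutes' := fun r => rfl }
    let S' : (Algebra.adjoin R {x}) →ₐ[R] Ω := { s' with commutes' := fun r => (RingHom.congr_fun h1 r).symm }
    have hS : S = S' := by
      refine AlgHom.adjoin_ext (fun y hy => ?_)
      rw [Set.mem_singleton_iff] at hy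
      subst hy
      exact h2
    exact congrArg (fun f : (Algebra.adjoin R {x}) →ₐ[R] Ω => (f : (Algebra.adjoin R {x}) →+* Ω)) hS
  refine ⟨g, ?_, ?_⟩
  · refine hext _ _ ?_ hgx
    rw [← h]
    ext r
    change t (algebraMap R _ r) = t (sig x hg g (algebraMap R _ r))
    rw [AlgHom.commutes]
  · intro g' hg'
    by_contra hne
    have h1 : t (sig x hg g' (gen x)) = t (sig x hg g (gen x)) := by
      rw [← hgx, hg']
      rfl
    have h2 := (isUnit_sub x hx hg hinv g' g hne).map t
    rw [map_sub, h1, sub_self] at h2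
    exact not_isUnit_zero h2

end main

section descent

variable {A : Type u} [CommRing A] {R K L : Type u} [CommRing R] [Field K] [Field L] [Algebra A R]
  [Algebra A K] [Algebra R K] [IsScalarTower A R K] [Algebra K L] [Algebra R L] [IsScalarTower R K L]
  [Algebra A L] [IsScalarTower A K L] [IsScalarTower A R L]

theorem adjoin_le (x s : L) (h : s ∈ Algebra.adjoin A {x}) : s ∈ Algebra.adjoin R {x} := by
  have h1 : Algebra.adjoin A {x} ≤ (Algebra.adjoin R {x}).restrictScalars A := by
    refine Algebra.adjoin_le ?_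
    exact Algebra.subset_adjoin
  exact h1 h

theorem mem_adjoin_of_smul (a : A) (ha : IsUnit (algebraMap A R a)) (x s : L)
    (h : a • s ∈ Algebra.adjoin A {x}) : s ∈ Algebra.adjoin R {x} := by
  obtain ⟨b, hb⟩ := ha.exists_left_inv
  have h1 : s = b • (a • s) := by
    rw [← algebraMap_smul R a s, smul_smul, hb, one_smul]
  rw [h1]
  exact Subalgebra.smul_mem _ (adjoin_le x _ h) b

end descent

/-- A finite type algebra map into a field generated by one element over the fraction field. -/
theorem exists_field {A : Type u} [CommRing A] [IsDomain A] (C : Type u) [CommRing C] [Algebra A C]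
    [Algebra.Etale A C] [Nontrivial C] :
    ∃ (L : Type u) (_ : Field L) (_ : Algebra (FractionRing A) L) (_ : Algebra A L)
      (_ : IsScalarTower A (FractionRing A) L) (_ : FiniteDimensional (FractionRing A) L)
      (_ : IsGalois (FractionRing A) L), Nonempty (C →ₐ[A] L) := by
  let K := FractionRing A
  let KC := TensorProduct A K C
  have hinj : Function.Injective (Algebra.TensorProduct.includeRight : C →ₐ[A] KC) :=
    Algebra.TensorProduct.includeRight_injective (IsFractionRing.injective A K)
  have : Nontrivial KC := hinj.nontrivial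
  have : Algebra.Etale K KC := inferInstance
  obtain ⟨I, hI, Ai, f1, f2, e, h⟩ := (Algebra.Etale.iff_exists_algEquiv_prod K KC).1 this
  have : Nonempty I := by
    by_contra hne
    rw [not_nonempty_iff] at hne
    have : Subsingleton (∀ i, Ai i) := inferInstance
    have : Subsingleton KC := e.injective.subsingleton
    exact not_subsingleton KC this
  obtain ⟨i⟩ := this
  obtain ⟨h1, h2⟩ := h i
  let L₀ := Ai i
  have : IsScalarTower K L₀ (SeparableClosure L₀) := inferInstance
  have hsep : Algebra.IsSeparable K (SeparableClosure L₀) := Algebra.IsSeparable.trans K L₀ (SeparableClosure L₀)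
  let L := IntermediateField.normalClosure K L₀ (SeparableClosure L₀)
  have : IsGalois K (SeparableClosure L₀) := by
    have hsc : IsSepClosure K (SeparableClosure L₀) := ⟨inferInstance, hsep⟩
    exact IsSepClosure.isGalois
  let aL : Algebra A L := ((algebraMap K L).comp (algebraMap A K)).toAlgebra
  have : IsScalarTower A K L := IsScalarTower.of_algebraMap_eq' rfl
  have hgal : IsGalois K L := inferInstance
  refine ⟨L, inferInstance, inferInstance, aL, this, inferInstance, hgal, ⟨?_⟩⟩
  let ψ : KC →ₐ[K] L := (IsScalarTower.toAlgHom K L₀ L).comp ((Pi.evalAlgHom K Ai i).comp e.toAlgHom)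
  exact (ψ.restrictScalars A).comp Algebra.TensorProduct.includeRight

/-- **Generic Galois trivialisation, ring form.** `A` a domain, `C ≠ 0` etale over `A`: over a nonempty basic open
`Spec A[1/a]` there is a finite etale Galois domain `B` receiving `C`. -/
theorem exists_gal_ring {A : Type u} [CommRing A] [IsDomain A] (C : Type u) [CommRing C] [Algebra A C]
    [Algebra.Etale A C] [Nontrivial C] :
    ∃ (a : A) (_ : a ≠ 0) (B : Type u) (_ : CommRing B) (_ : IsDomain B) (_ : Algebra A B)
      (_ : Algebra (Localization.Away a) B) (_ : IsScalarTower A (Localization.Away a) B),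
      Function.Injective (algebraMap (Localization.Away a) B) ∧ Module.Finite (Localization.Away a) B ∧
      Algebra.Etale (Localization.Away a) B ∧ Nonempty (C →ₐ[A] B) ∧ IsGal (Localization.Away a) B := by
  classical
  obtain ⟨L, _, _, _, _, _, _, ⟨ψ⟩⟩ := exists_field C (A := A)
  set K := FractionRing A with hK
  obtain ⟨x, hx0⟩ := Field.exists_primitive_element K L
  have hx : Algebra.adjoin K {x} = ⊤ := by
    rw [← IntermediateField.adjoin_simple_toSubalgebra_of_isAlgebraic (Algebra.IsAlgebraic.isAlgebraic x), hx0]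
    rfl
  obtain ⟨QK, hQKm, hQKd, hQK⟩ := exists_galpoly (K := K) x
  -- generators of `C`
  obtain ⟨S, hS⟩ := (inferInstance : Algebra.FiniteType A C).out
  -- finitely many elements of `L`
  let T : Finset L := (Finset.univ.image fun g : (L ≃ₐ[K] L) => g x) ∪
    (Finset.univ.image fun g : (L ≃ₐ[K] L) => (x - g x)⁻¹) ∪ (S.image ψ)
  obtain ⟨a₁, ha₁, h₁⟩ := exists_common_smul_mem_adjoin (A := A) x hx T
  obtain ⟨a₂, h₂⟩ := IsLocalization.exist_integer_multiples_of_finset (nonZeroDivisors A)
    ((Finset.range (QK.natDegree + 1)).image QK.coeff)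
  have ha₂ : (a₂ : A) ≠ 0 := nonZeroDivisors.ne_zero a₂.2
  let a : A := a₁ * a₂
  have ha : a ≠ 0 := mul_ne_zero ha₁ ha₂
  let R := Localization.Away a
  have hu : IsUnit (algebraMap A K a) := by
    rw [isUnit_iff_ne_zero]
    exact fun h => ha ((IsFractionRing.injective A K) (h.trans (map_zero _).symm))
  let aRK : Algebra R K := (IsLocalization.Away.lift a hu : R →+* K).toAlgebra
  have t1 : IsScalarTower A R K := IsScalarTower.of_algebraMap_eq' (IsLocalization.Away.lift_comp a hu).symm
  let aRL : Algebra R L := ((algebraMap K L).comp (algebraMap R K)).toAlgebra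
  have t2 : IsScalarTower R K L := IsScalarTower.of_algebraMap_eq' rfl
  have t3 : IsScalarTower A R L := IsScalarTower.of_algebraMap_eq' (by
    rw [IsScalarTower.algebraMap_eq R K L, RingHom.comp_assoc, ← IsScalarTower.algebraMap_eq A R K,
      ← IsScalarTower.algebraMap_eq A K L])
  have hua : IsUnit (algebraMap A R a) := IsLocalization.Away.algebraMap_isUnit a
  have hRK : Function.Injective (algebraMap R K) := by
    rw [injective_iff_map_eq_zero]
    intro r hr
    obtain ⟨⟨b, s⟩, hb⟩ := IsLocalization.surj (Submonoid.powers a) r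
    have h3 : algebraMap A K b = 0 := by
      have := congrArg (algebraMap R K) hb
      rw [map_mul, hr, zero_mul, ← IsScalarTower.algebraMap_apply] at this
      exact this.symm
    have h4 : b = 0 := (IsFractionRing.injective A K) (h3.trans (map_zero _).symm)
    have h5 := hb
    rw [h4, map_zero] at h5
    exact (IsUnit.mul_left_eq_zero (IsLocalization.map_units R s)).1 h5
  have hmem : ∀ s ∈ T, s ∈ Algebra.adjoin R {x} := by
    intro s hs
    refine mem_adjoin_of_smul a hua x s ?_
    change (a₁ * (a₂ : A)) • s ∈ _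
    rw [mul_comm, mul_smul]
    exact Subalgebra.smul_mem _ (h₁ s hs) _
  have hg : ∀ g : (L ≃ₐ[K] L), g x ∈ Algebra.adjoin R {x} := fun g => hmem _ (by
    simp only [T, Finset.mem_union, Finset.mem_image, Finset.mem_univ, true_and]
    exact Or.inl (Or.inl ⟨g, rfl⟩))
  have hinv : ∀ g : (L ≃ₐ[K] L), g ≠ 1 → (x - g x)⁻¹ ∈ Algebra.adjoin R {x} := fun g _ => hmem _ (by
    simp only [T, Finset.mem_union, Finset.mem_image, Finset.mem_univ, true_and]
    exact Or.inl (Or.inr ⟨g, rfl⟩))
  have hC : ∀ c ∈ S, ψ c ∈ Algebra.adjoin R {x} := fun c hc => hmem _ (by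
    simp only [T, Finset.mem_union, Finset.mem_image]
    exact Or.inr ⟨c, hc, rfl⟩)
  -- the polynomial over `R`
  have hl : QK ∈ Polynomial.lifts (algebraMap R K) := by
    rw [Polynomial.lifts_iff_coeff_lifts]
    intro n
    by_cases hn : n ≤ QK.natDegree
    · obtain ⟨c, hc⟩ := h₂ (QK.coeff n) (Finset.mem_image.2 ⟨n, Finset.mem_range.2 (by lia), rfl⟩)
      obtain ⟨b, hb⟩ := hua.exists_left_inv
      refine ⟨b * algebraMap A R (a₁ * c), ?_⟩
      rw [map_mul, ← IsScalarTower.algebraMap_apply, map_mul, hc]
      have h6 : algebraMap R K b * algebraMap A K a = 1 := by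
        rw [IsScalarTower.algebraMap_apply A R K, ← map_mul, hb, map_one]
      have h7 : algebraMap A K a = algebraMap A K a₁ * algebraMap A K a₂ := map_mul _ _ _
      rw [Algebra.smul_def, ← mul_assoc (algebraMap A K a₁), ← h7, ← mul_assoc, h6, one_mul]
    · rw [Polynomial.coeff_eq_zero_of_natDegree_lt (by lia)]
      exact ⟨0, map_zero _⟩
  obtain ⟨Q, hQ1, -, hQm⟩ := Polynomial.lifts_and_natDegree_eq_and_monic hl hQKm
  have hQ : Q.map (algebraMap R L) = ∏ g : (L ≃ₐ[K] L), (X - Polynomial.C (g x)) := by
    rw [← hQK, ← hQ1, Polynomial.map_map]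
    rfl
  have hfin : Module.Finite R (Algebra.adjoin R {x}) := finite_adjoin x Q hQm hQ
  have het : Algebra.Etale R (Algebra.adjoin R {x}) := etale_adjoin hRK x hx Q hQm hQ hg hinv
  have hgal : IsGal R (Algebra.adjoin R {x}) := isGal_adjoin x hx Q hQm hQ hg hinv
  have hdom : IsDomain (Algebra.adjoin R {x}) := inferInstance
  have hrange : ∀ c : C, ψ c ∈ (Algebra.adjoin R {x}).restrictScalars A := by
    intro c
    have hc : c ∈ Algebra.adjoin A (S : Set C) := by rw [hS]; trivial
    have h8 : ψ c ∈ (Algebra.adjoin A (S : Set C)).map ψ := ⟨c, hc, rfl⟩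
    rw [AlgHom.map_adjoin] at h8
    refine (Algebra.adjoin_le ?_ : _ ≤ (Algebra.adjoin R {x}).restrictScalars A) h8
    rintro _ ⟨y, hy, rfl⟩
    exact hC y hy
  let φ : C →ₐ[A] (Algebra.adjoin R {x}) := AlgHom.codRestrict ψ ((Algebra.adjoin R {x}).restrictScalars A) hrange
  have hinj : Function.Injective (algebraMap R (Algebra.adjoin R {x})) := by
    have h9 : Function.Injective (algebraMap R L) := by
      rw [IsScalarTower.algebraMap_eq R K L]
      exact (algebraMap K L).injective.comp hRK
    intro r r' e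
    exact h9 (congrArg Subtype.val e)
  exact ⟨a, ha, Algebra.adjoin R {x}, inferInstance, hdom, inferInstance, inferInstance, inferInstance, hinj, hfin,
    het, ⟨φ⟩, hgal⟩

end Groth.Agent.Sga4h.LFinGalRing
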