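import Groth.Agent.Sga4h.LFinClass
import Groth.Agent.Sga4h.LFinGal
import Groth.Agent.Sga4h.GenULAFlc
import Groth.Agent.Flat2D.ConstrGen
import Groth.Agent.Etrest.FinGen
import Groth.Agent.Etcore.LSpread

/-!
# The devissage of constructible sheaves of modules by Noetherian induction

`dd_of_isConstructible`: every constructible sheaf of `Λ`-modules on a Noetherian scheme is controlled by a
finite family of finite morphisms, provided that constant sheaves on `X` are controlled by `{𝟙 X}`.
-/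

set_option autoImplicit false
universe u

open CategoryTheory CategoryTheory.Limits AlgebraicGeometry Opposite

namespace Groth.Agent.Sga4h.LFinGeo

open Groth.Agent.Etbase Groth.Agent.Etcore
open Groth.Agent.Etcore.LVan Groth.Agent.Etcore.LPull Groth.Agent.Sga4h.LFinZero
open Groth.Agent.Sga4h.LFinExact Groth.Agent.Sga4h.LFinSupp Groth.Agent.Sga4h.LFinPull
open Groth.Agent.Sga4h.LFinSplit Groth.Agent.Sga4h.LFinFam Groth.Agent.Sga4h.LFinClass
open Groth.Agent.Sga4h.LFinGal
open Groth.Agent.EtpbcA.ConsPull (fstBc)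

variable {Λ : Type (u + 1)} [CommRing Λ] [IsNoetherianRing Λ]

/-- A constructible sheaf is constant over a nonempty étale scheme over an integral scheme. -/
theorem exists_generic {Z : Scheme.{u}} [IsIntegral Z] (F : EtModW.Mod Λ Z)
    (hF : EtModW.IsConstructible Λ F) :
    ∃ (W : Z.Etale) (_ : Nonempty W.left) (M : Type (u + 1)) (_ : AddCommGroup M) (_ : Module Λ M)
      (_ : Module.Finite Λ M) (φ : M →ₗ[Λ] EtModW.sect Λ F W), Cst F W φ := by
  obtain ⟨U, u, hu, M, _, _, _, φ, hφ⟩ := LSpread.exists_good F hF (genericPoint Z)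
  have hE := LLocus.isLocallyConstructible_good hF U (φ := φ)
  have hi : u ∈ interior {c | InjAt F φ c ∧ SurjAt F φ c} := by
    refine Flat2D.ConstrGen.mem_interior_of_forall_specializes hE ?_
    intro y hy
    let f : U.left ⟶ Z := U.hom
    have hfu : f u = genericPoint Z := hu
    have h0 : f y ⤳ genericPoint Z := hfu ▸ hy.map f.continuous
    have h1 : f y = genericPoint Z := (h0.antisymm (genericPoint_specializes (f y))).eq
    have h2 : y = u := GenULAFlc.eq_of_specializes_of_etale U.hom hy (h1.trans hfu.symm)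
    rw [h2]
    exact hφ
  let O : U.left.Opens := ⟨interior {c | InjAt F φ c ∧ SurjAt F φ c}, isOpen_interior⟩
  refine ⟨EtpbcA.EqLocus.openSub U O, ⟨⟨u, hi⟩⟩, M, inferInstance, inferInstance, inferInstance,
    resHom (EtpbcA.EqLocus.openι U O) φ, fun v => ?_⟩
  rw [injAt_res_iff, surjAt_res_iff]
  have h1 : (EtpbcA.EqLocus.openι U O).left v ∈ O := by
    have h2 : (EtpbcA.EqLocus.openι U O).left v ∈ (O : Set U.left) := by
      rw [← EtpbcA.EqLocus.range_openι U O]
      exact ⟨v, rfl⟩
    exact h2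
  have h3 := interior_subset (s := {c | InjAt F φ c ∧ SurjAt F φ c}) h1
  exact h3

/-- The base changed Galois cover splits. -/
theorem split_of_isGalHom {U V T Z : Scheme.{u}} {j : U ⟶ Z} [IsOpenImmersion j] {p : V ⟶ U}
    [hpe : AlgebraicGeometry.Etale p] {v : V ⟶ T} [IsOpenImmersion v] {π : T ⟶ Z}
    (h : IsPullback v p π j) (hg : IsGalHom p) :
    ∃ (ι : Type u) (_ : Finite ι) (a : ι → (V ⟶ T)),
      Split π (MorphismProperty.Over.mk ⊤ (p ≫ j)
        (show AlgebraicGeometry.Etale (p ≫ j) from inferInstance) : Z.Etale) a := by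
  obtain ⟨ι, hι, σ, hσ, hu⟩ := hg
  refine ⟨ι, hι, fun i => σ i ≫ v, ?_, ?_, ?_⟩
  · intro i
    change (σ i ≫ v) ≫ π = p ≫ j
    rw [Category.assoc, h.w, ← Category.assoc, hσ]
  · intro i
    have h1 : AlgebraicGeometry.Etale (σ i ≫ p) := by
      rw [hσ]
      exact hpe
    have h2 : AlgebraicGeometry.Etale (σ i) := by
      let A : U.Etale := MorphismProperty.Over.mk ⊤ p hpe
      let f : A ⟶ A := MorphismProperty.Over.homMk (σ i) (hσ i) trivial
      exact (inferInstance : AlgebraicGeometry.Etale f.left)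
    exact (inferInstance : AlgebraicGeometry.Etale (σ i ≫ v))
  · intro K _ t τ e
    have e' : τ ≫ π = (t ≫ p) ≫ j := e.trans (Category.assoc _ _ _).symm
    let t' := h.lift τ (t ≫ p) e'
    have h1 : t' ≫ v = τ := h.lift_fst _ _ _
    have h2 : t' ≫ p = t ≫ p := h.lift_snd _ _ _
    obtain ⟨i, hi, hi'⟩ := hu K t t' h2.symm
    refine ⟨i, ?_, ?_⟩
    · change τ = t ≫ σ i ≫ v
      rw [← h1, hi, Category.assoc]
      rfl
    · intro k hk
      apply hi'
      change τ = t ≫ σ k ≫ v at hk
      rw [← cancel_mono v, h1, hk, Category.assoc]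
      rfl

/-- Constant sheaves on `X` are controlled by `{𝟙 X}`. -/
def ConstGood (Λ : Type (u + 1)) [CommRing Λ] (n : ℕ) : Prop :=
  ∀ (X : Scheme.{u}) (M : Type (u + 1)) [AddCommGroup M] [Module Λ M] [Module.Finite Λ M],
    Good Λ n (Fam.single (𝟙 X)) (EtModW.constMod Λ X M)

theorem exists_closedImmersion (X : Scheme.{u}) (Z : Set X) (hZ : IsClosed Z) :
    ∃ (Y : Scheme.{u}) (i : Y ⟶ X) (_ : IsClosedImmersion i), Set.range i = Z := by
  let I := Scheme.IdealSheafData.vanishingIdeal (⟨Z, hZ⟩ : TopologicalSpace.Closeds X)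
  refine ⟨I.subscheme, I.subschemeι, inferInstance, ?_⟩
  rw [Scheme.IdealSheafData.range_subschemeι]
  simp [I]

/-- The class `InL` for a Galois cover of a nonempty open subscheme is controlled. -/
theorem dd_of_inL {n : ℕ} (hc : ConstGood Λ n) {U V T Z : Scheme.{u}} {j : U ⟶ Z}
    [IsOpenImmersion j] {p : V ⟶ U} [AlgebraicGeometry.Etale p] {v : V ⟶ T}
    [IsOpenImmersion v] {π : T ⟶ Z} [IsFinite π] [Surjective π]
    (h : IsPullback v p π j) (hg : IsGalHom p) (F : EtModW.Mod Λ Z)
    (hF : InL (MorphismProperty.Over.mk ⊤ (p ≫ j)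
        (show AlgebraicGeometry.Etale (p ≫ j) from inferInstance) : Z.Etale) (Set.range j) F) :
    DD Λ n F := by
  obtain ⟨ι, _, a, ha⟩ := split_of_isGalHom h hg
  obtain ⟨D, b, _, hb⟩ := exists_closedImmersion T (Set.range v)ᶜ v.isOpenEmbedding.isOpen_range.isClosed_compl
  have hS : π ⁻¹' (Set.range j) = Set.range v := by
    ext x
    constructor
    · rintro ⟨y, hy⟩
      obtain ⟨z, hz, -⟩ := Scheme.Pullback.exists_preimage_pullback (f := π) (g := j) x y hy.symm
      refine ⟨h.isoPullback.inv z, ?_⟩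
      rw [← Scheme.Hom.comp_apply, h.isoPullback_inv_fst]
      exact hz
    · rintro ⟨y, rfl⟩
      refine ⟨p y, ?_⟩
      rw [← Scheme.Hom.comp_apply, ← h.w, Scheme.Hom.comp_apply]
  let A : Fam T := (Fam.single (𝟙 T)).sum ((Fam.single (𝟙 D)).push b)
  refine ⟨A.push π, ?_⟩
  let V' : Z.Etale := MorphismProperty.Over.mk ⊤ (p ≫ j)
    (show AlgebraicGeometry.Etale (p ≫ j) from inferInstance)
  let v' : V'.left ⟶ T := v
  have hv' : IsOpenImmersion v' := inferInstanceAs (IsOpenImmersion v)
  refine good_of_inL ha v' h.w hS b hb (A := A) (fun M _ _ _ => Good.left (hc T M))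
    (fun M _ _ _ => Good.right (Good.push b (hc D M))) F hF

omit [IsNoetherianRing Λ] in
theorem isZero_of_isEmpty {X : Scheme.{u}} [IsEmpty X] (F : EtModW.Mod Λ X) : IsZero F :=
  isZero_of_sect F fun U s => eq_zero_of_van s fun x => isEmptyElim (show X from U.hom x)

theorem isNoetherian_of_closed {X Z : Scheme.{u}} [IsNoetherian X] (i : Z ⟶ X) [IsClosedImmersion i] :
    IsNoetherian Z := by
  have h1 : IsLocallyNoetherian Z := LocallyOfFiniteType.isLocallyNoetherian i
  have h2 : CompactSpace Z := QuasiCompact.compactSpace_of_compactSpace i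
  exact {}

/-- Noetherian induction. -/
theorem noeth_ind (P : Scheme.{u} → Prop) (h : ∀ (X : Scheme.{u}) [IsNoetherian X],
    (∀ (B : Scheme.{u}) (b : B ⟶ X) [IsClosedImmersion b], Set.range b ≠ Set.univ → P B) → P X)
    (X : Scheme.{u}) [IsNoetherian X] : P X := by
  have key : ∀ C : TopologicalSpace.Closeds X, ∀ (Z : Scheme.{u}) (i : Z ⟶ X) [IsClosedImmersion i],
      Set.range i = C → P Z := by
    intro C
    induction C using WellFoundedLT.induction with
    | ind C ih =>
      intro Z i _ hi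
      have := isNoetherian_of_closed i
      refine h Z fun B b _ hb => ?_
      refine ih ⟨Set.range (b ≫ i), (b ≫ i).isClosedEmbedding.isClosed_range⟩ ?_ B (b ≫ i) rfl
      refine lt_of_le_of_ne ?_ ?_
      · rintro _ ⟨x, rfl⟩
        have h1 : i (b x) ∈ Set.range i := ⟨_, rfl⟩
        rw [hi] at h1
        rw [Scheme.Hom.comp_apply]
        exact h1
      · intro e
        apply hb
        rw [Set.eq_univ_iff_forall]
        intro z
        have h1 : i z ∈ (C : Set X) := hi ▸ ⟨z, rfl⟩
        rw [← e] at h1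
        obtain ⟨y, hy⟩ := h1
        rw [Scheme.Hom.comp_apply] at hy
        exact ⟨y, i.isClosedEmbedding.injective hy⟩
  exact key ⊤ X (𝟙 X) (Set.range_eq_univ.2 fun x => ⟨x, rfl⟩)

/-- **The devissage**: constructible sheaves are controlled by finite families of finite morphisms. -/
theorem dd_of_isConstructible {n : ℕ} (hc : ConstGood Λ n) (X : Scheme.{u}) [IsNoetherian X] :
    ∀ (F : EtModW.Mod Λ X), EtModW.IsConstructible Λ F → DD Λ n F := by
  refine noeth_ind (fun X => ∀ (F : EtModW.Mod Λ X), EtModW.IsConstructible Λ F → DD Λ n F) ?_ X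

  intro X hXn ih F hF
  by_cases hX : Nonempty X
  swap
  · have : IsEmpty X := not_nonempty_iff.1 hX
    exact DD.of_isZero (isZero_of_isEmpty F)
  obtain ⟨x₀⟩ := hX
  obtain ⟨O, hO, hOn, hOC⟩ :=
    TopologicalSpace.NoetherianSpace.exists_isOpen_nonempty_subset_irreducibleComponent
      (irreducibleComponent x₀) (irreducibleComponent_mem_irreducibleComponents x₀)
  obtain ⟨Z, c, hcc, hZ, hr⟩ := Etrest.FinGen.exists_integral (irreducibleComponent x₀)
    isClosed_irreducibleComponent isIrreducible_irreducibleComponent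
  have hZn := isNoetherian_of_closed c
  have hcF : EtModW.IsConstructible Λ ((EtModW.pull Λ c).obj F) := LCrit.isConstructible_pull c F hF
  obtain ⟨W, hW, M, _, _, _, φ, hφ⟩ := exists_generic _ hcF
  -- shrink `W`
  let O' : X.Opens := ⟨O, hO⟩
  let k : W.left ⟶ Z := W.hom
  have hk : AlgebraicGeometry.Etale k := W.prop
  let W₀ : W.left.Opens := k ⁻¹ᵁ (c ⁻¹ᵁ O')
  have hW₀ : Nonempty W₀.toScheme := by
    obtain ⟨x, hx⟩ := hOn
    have hx' : x ∈ Set.range c := by
      rw [hr]
      exact hOC hx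
    obtain ⟨z, rfl⟩ := hx'
    have h1 : (Set.range k).Nonempty := ⟨k hW.some, ⟨_, rfl⟩⟩
    obtain ⟨_, ⟨y, rfl⟩, hy⟩ := nonempty_preirreducible_inter k.isOpenMap.isOpen_range
      (c ⁻¹ᵁ O').2 h1 ⟨z, hx⟩
    exact ⟨⟨y, hy⟩⟩
  obtain ⟨U, V, T, j, p, v, π, q, hj, hU, hpf, hpe, hps, hV, hv, hπ, hπs, hpb, hq, hg⟩ :=
    exists_gal_compact (W₀.ι ≫ k)
  have hrj : Set.range j ⊆ c ⁻¹' O := by
    rintro _ ⟨y, rfl⟩
    obtain ⟨y, rfl⟩ := p.surjective y
    have h1 : j (p y) = k (W₀.ι (q y)) := by
      have h2 := congrArg (fun (f : V ⟶ Z) => f y) hq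
      change (q ≫ W₀.ι ≫ k) y = (p ≫ j) y at h2
      rw [Scheme.Hom.comp_apply, Scheme.Hom.comp_apply, Scheme.Hom.comp_apply] at h2
      exact h2.symm
    rw [h1]
    exact (q y).2
  -- the open subset of `X`
  have hop : IsOpen (c '' (Set.range j)) := by
    obtain ⟨O₁, hO₁, e⟩ := c.isClosedEmbedding.isInducing.isOpen_iff.1
      j.isOpenEmbedding.isOpen_range
    have h1 : c '' (Set.range j) = O₁ ∩ O := by
      ext x
      constructor
      · rintro ⟨z, hz, rfl⟩
        exact ⟨by rw [← e] at hz; exact hz, hrj hz⟩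
      · rintro ⟨h1, h2⟩
        have h3 : x ∈ Set.range c := by
          rw [hr]
          exact hOC h2
        obtain ⟨z, rfl⟩ := h3
        refine ⟨z, ?_, rfl⟩
        rw [← e]
        exact h1
    rw [h1]
    exact hO₁.inter hO
  obtain ⟨B, b, _, hb⟩ := exists_closedImmersion X (c '' (Set.range j))ᶜ hop.isClosed_compl
  have hbu : Set.range b ≠ Set.univ := by
    rw [hb]
    intro h
    obtain ⟨y⟩ := hU
    have h1 : c (j y) ∈ (c '' (Set.range j))ᶜ := by
      rw [h]
      trivial
    exact h1 ⟨_, ⟨y, rfl⟩, rfl⟩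
  have h3 : DD Λ n (closedSeq b F).X₃ :=
    DD.push b (ih B b hbu _ (LCrit.isConstructible_pull b F hF))
  have hz1 : ZeroOff (closedSeq b F).X₁ (c '' (Set.range j)) := by
    have h1 := zeroOff_closedSeq b F
    rw [hb, compl_compl] at h1
    exact h1
  have h1 : DD Λ n (closedSeq b F).X₁ := by
    have hi : IsIso ((pullPushAdj c).unit.app (closedSeq b F).X₁) :=
      isIso_unit_of_zeroOff c _ (hz1.mono (Set.image_subset_range _ _))
    refine DD.of_iso (asIso ((pullPushAdj c).unit.app (closedSeq b F).X₁)).symm (DD.push c ?_)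
    refine dd_of_inL hc hpb hg _ ⟨?_, M, inferInstance, inferInstance, inferInstance, ?_⟩
    · have h1 := hz1.pull c
      rw [Set.preimage_image_eq _ c.isClosedEmbedding.injective] at h1
      exact h1
    · let VZ : Z.Etale := MorphismProperty.Over.mk ⊤ (p ≫ j)
        (show AlgebraicGeometry.Etale (p ≫ j) from inferInstance)
      let m : VZ ⟶ W := MorphismProperty.Over.homMk (q ≫ W₀.ι)
        ((Category.assoc _ _ _).trans hq) trivial
      have hS := (closedSeq_shortExact b F).map_of_exact (EtModW.pull Λ c)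
      have hmono : Mono ((EtModW.pull Λ c).map (closedSeq b F).f) := hS.mono_f
      have hmono' : Mono ((closedSeq b F).map (EtModW.pull Λ c)).f := hS.mono_f
      have hs : ∀ s : EtModW.sect Λ ((closedSeq b F).map (EtModW.pull Λ c)).X₃ VZ, s = 0 := by
        intro s
        apply eq_zero_of_van
        intro x
        refine ((zeroOff_push_range b ((EtModW.pull Λ b).obj F)).pull c) _ s x ?_
        intro hx
        rw [hb] at hx
        refine hx ⟨VZ.hom x, ?_, rfl⟩
        refine ⟨p x, ?_⟩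
        exact (Scheme.Hom.comp_apply p j x).symm
      obtain ⟨ψ, hψ⟩ := exists_lift_hom hS.exact (resHom m φ) (fun _ => hs _)
      exact ⟨ψ, cst_of_lift ((EtModW.pull Λ c).map (closedSeq b F).f) (resHom m φ) (hφ.res m) ψ hψ⟩
  exact DD.mid (closedSeq_shortExact b F) h1 h3

end Groth.Agent.Sga4h.LFinGeo
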