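import Groth.Agent.Etcore.LPull
import Groth.Agent.Etcore.LPullComp
import Groth.Agent.Etcore.ShriekBasic
import Groth.Agent.EtpbcB.ClosedImmEtale
import Groth.Agent.EtpbcA.OverSite
import Groth.Agent.Etrest.ModCons

/-!
# Inverse images of sheaves of `Λ`-modules: conservativity, open and closed immersions

* `isZero_of_pull`: a sheaf whose inverse images along a jointly surjective family are zero is zero;
  likewise `mono_of_pull`, `epi_of_pull`, `isIso_of_pull`;
* `full_faithful_closed`, `full_faithful_open`: direct images along closed and open immersions;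
* `mono_unit_of_surjective`: the unit `F ⟶ f_* f^* F` is a monomorphism for `f` surjective;
* `isZero_pull_push`: `j^* b_* = 0` for a closed immersion `b` and `j` with disjoint ranges.
-/

set_option autoImplicit false
universe u

open CategoryTheory CategoryTheory.Limits AlgebraicGeometry Opposite

namespace Groth.Agent.Sga4h.LFinPull

open Groth.Agent.Etcore.LVan Groth.Agent.Etcore.LPull
open Groth.Agent.EtpbcA.ConsPull (fstBc)

variable {Λ : Type (u + 1)} [CommRing Λ] {X Y : Scheme.{u}}

section zero

/-- A sheaf all of whose sections vanish is zero. -/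
theorem isZero_of_sect (F : EtModW.Mod Λ X) (h : ∀ (U : X.Etale) (s : EtModW.sect Λ F U), s = 0) :
    IsZero F := by
  rw [IsZero.iff_id_eq_zero]
  apply Sheaf.hom_ext
  apply NatTrans.ext
  funext U
  apply ModuleCat.hom_ext
  apply LinearMap.ext
  intro s
  exact (h U.unop s)

theorem sect_eq_zero {F : EtModW.Mod Λ X} (hF : IsZero F) {U : X.Etale} (s : EtModW.sect Λ F U) :
    s = 0 := by
  have h := (IsZero.iff_id_eq_zero F).1 hF
  have h2 := congrArg (fun (φ : F ⟶ F) => ev φ U s) h
  exact h2

theorem isZero_iff_sect (F : EtModW.Mod Λ X) :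
    IsZero F ↔ ∀ (U : X.Etale) (s : EtModW.sect Λ F U), s = 0 :=
  ⟨fun h _ s => sect_eq_zero h s, isZero_of_sect F⟩

/-- A sheaf with zero inverse images along a jointly surjective family is zero. -/
theorem isZero_of_pull {ι : Type*} {Z : ι → Scheme.{u}} (f : ∀ i, Z i ⟶ Y)
    (hf : ∀ y : Y, ∃ i, y ∈ Set.range (f i)) (F : EtModW.Mod Λ Y)
    (h : ∀ i, IsZero ((EtModW.pull Λ (f i)).obj F)) : IsZero F := by
  apply isZero_of_sect
  intro U s
  apply eq_zero_of_van
  intro x
  obtain ⟨i, z, hz⟩ := hf (U.hom x)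
  obtain ⟨w, hw, -⟩ := Scheme.Pullback.exists_preimage_pullback (f := U.hom) (g := f i) x z hz.symm
  have h1 : eta (f i) F U s = 0 := sect_eq_zero (h i) _
  have h2 := (van_eta_iff (f i) F s w).1 (van_zero_of_eq h1 w)
  have h3 : fstBc (f i) U w = x := hw
  rwa [h3] at h2

theorem isZero_of_pull_surjective (f : X ⟶ Y) [Surjective f] (F : EtModW.Mod Λ Y)
    (h : IsZero ((EtModW.pull Λ f).obj F)) : IsZero F :=
  isZero_of_pull (ι := Unit) (fun _ => f) (fun y => ⟨(), f.surjective y⟩) F (fun _ => h)

variable {ι : Type*} {Z : ι → Scheme.{u}} (f : ∀ i, Z i ⟶ Y)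
  (hf : ∀ y : Y, ∃ i, y ∈ Set.range (f i)) {F G : EtModW.Mod Λ Y} (α : F ⟶ G)
include hf

theorem mono_of_pull (h : ∀ i, Mono ((EtModW.pull Λ (f i)).map α)) : Mono α := by
  apply Preadditive.mono_of_isZero_kernel
  apply isZero_of_pull f hf
  intro i
  have := h i
  exact (isZero_kernel_of_mono ((EtModW.pull Λ (f i)).map α)).of_iso
    (PreservesKernel.iso (EtModW.pull Λ (f i)) α)

theorem epi_of_pull (h : ∀ i, Epi ((EtModW.pull Λ (f i)).map α)) : Epi α := by
  apply Preadditive.epi_of_isZero_cokernel
  apply isZero_of_pull f hf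
  intro i
  have := h i
  exact (isZero_cokernel_of_epi ((EtModW.pull Λ (f i)).map α)).of_iso
    (PreservesCokernel.iso (EtModW.pull Λ (f i)) α)

theorem isIso_of_pull (h : ∀ i, IsIso ((EtModW.pull Λ (f i)).map α)) : IsIso α := by
  have h1 := mono_of_pull f hf α (fun i => by have := h i; infer_instance)
  have h2 := epi_of_pull f hf α (fun i => by have := h i; infer_instance)
  exact isIso_of_mono_of_epi α

end zero

section unit

variable (f : X ⟶ Y)

theorem pull_unit_comp_counit (F : EtModW.Mod Λ Y) :
    (EtModW.pull Λ f).map ((pullPushAdj f).unit.app F) ≫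
      (pullPushAdj f).counit.app ((EtModW.pull Λ f).obj F) = 𝟙 _ :=
  (pullPushAdj f).left_triangle_components F

/-- The unit is a monomorphism for surjective morphisms. -/
theorem mono_unit_of_surjective [Surjective f] (F : EtModW.Mod Λ Y) :
    Mono ((pullPushAdj (Λ := Λ) f).unit.app F) := by
  refine mono_of_pull (ι := Unit) (fun _ => f) (fun y => ⟨(), f.surjective y⟩) _ (fun _ => ?_)
  have h := pull_unit_comp_counit f F
  have : Mono ((EtModW.pull Λ f).map ((pullPushAdj f).unit.app F) ≫
      (pullPushAdj f).counit.app ((EtModW.pull Λ f).obj F)) := by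
    rw [h]
    infer_instance
  exact mono_of_mono _ ((pullPushAdj f).counit.app ((EtModW.pull Λ f).obj F))

theorem isIso_pull_unit [(EtModW.push Λ f).Full] [(EtModW.push Λ f).Faithful]
    (F : EtModW.Mod Λ Y) : IsIso ((EtModW.pull Λ f).map ((pullPushAdj f).unit.app F)) := by
  have h1 : IsIso (pullPushAdj (Λ := Λ) f).counit := inferInstance
  have h2 : IsIso ((pullPushAdj (Λ := Λ) f).counit.app ((EtModW.pull Λ f).obj F)) := inferInstance
  exact isIso_of_comp_hom_eq_id _ (pull_unit_comp_counit f F)

end unit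

section immersions

theorem full_faithful_closed (b : X ⟶ Y) [IsClosedImmersion b] :
    (EtModW.push Λ b).Full ∧ (EtModW.push Λ b).Faithful := by
  have := EtpbcB.ClosedImmEtale.isCoverDense_bc b
  have := EtpbcB.ClosedImmEtale.isLocallyFull_bc b
  exact ⟨inferInstance, inferInstance⟩

/-- restriction along an etale `j` is left adjoint to direct image. -/
noncomputable def restrPushAdj (j : X ⟶ Y) [AlgebraicGeometry.Etale j] [EtShriek.JCont j] :
    (EtShriek.compEtale j).sheafPushforwardContinuous (ModuleCat.{u + 1} Λ) X.smallEtaleTopology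
      Y.smallEtaleTopology ⊣ EtModW.push Λ j :=
  (Etcore.ShriekBasic.compBcAdj j).sheafPushforwardContinuous (E := ModuleCat.{u + 1} Λ)
    X.smallEtaleTopology Y.smallEtaleTopology

instance isIso_restrPushAdj_counit (j : X ⟶ Y) [AlgebraicGeometry.Etale j] [Mono j]
    [EtShriek.JCont j] : IsIso (restrPushAdj (Λ := Λ) j).counit := by
  have : ∀ F, IsIso ((restrPushAdj (Λ := Λ) j).counit.app F) := by
    intro F
    have : IsIso ((sheafToPresheaf _ _).map ((restrPushAdj (Λ := Λ) j).counit.app F)) := by
      have : ∀ V, IsIso (((sheafToPresheaf _ _).map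
          ((restrPushAdj (Λ := Λ) j).counit.app F)).app V) := by
        intro V
        have : IsIso ((Etcore.ShriekBasic.compBcAdj j).unit.app V.unop) := inferInstance
        exact inferInstanceAs
          (IsIso (F.obj.map ((Etcore.ShriekBasic.compBcAdj j).unit.app V.unop).op))
      exact NatIso.isIso_of_isIso_app _
    exact isIso_of_reflects_iso _ (sheafToPresheaf _ _)
  exact NatIso.isIso_of_isIso_app _

theorem full_faithful_open (j : X ⟶ Y) [IsOpenImmersion j] :
    (EtModW.push Λ j).Full ∧ (EtModW.push Λ j).Faithful :=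
  ⟨(restrPushAdj (Λ := Λ) j).fullyFaithfulROfIsIsoCounit.full,
    (restrPushAdj (Λ := Λ) j).fullyFaithfulROfIsIsoCounit.faithful⟩

end immersions

section closed

/-- A section of a direct image along a closed map vanishes near a point as soon as it vanishes
near all the points above. -/
theorem van_push (f : X ⟶ Y) [UniversallyClosed f] (A : EtModW.Mod Λ X) {U : Y.Etale}
    (s : EtModW.sect Λ A ((EtCoh.bc f).obj U)) (x : U.left)
    (h : ∀ y : ((EtCoh.bc f).obj U).left, fstBc f U y = x → Van A s y) :
    Van ((EtModW.push Λ f).obj A) (show EtModW.sect Λ ((EtModW.push Λ f).obj A) U from s) x := by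
  have hc : IsClosedMap (fstBc f U) := by
    have : UniversallyClosed (pullback.fst U.hom f) := inferInstance
    exact (pullback.fst U.hom f).isClosedMap
  let E : Set ((EtCoh.bc f).obj U).left := {y | Van A s y}
  have hE : IsClosed ((fstBc f U) '' Eᶜ) := hc _ (isOpen_van s).isClosed_compl
  let O : U.left.Opens := ⟨((fstBc f U) '' Eᶜ)ᶜ, hE.isOpen_compl⟩
  have hx : x ∈ O := by
    rintro ⟨y, hy, hyx⟩
    exact hy (h y hyx)
  have hO : AlgebraicGeometry.Etale (O.ι ≫ U.hom) := by
    have : AlgebraicGeometry.Etale U.hom := U.prop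
    infer_instance
  let V : Y.Etale := MorphismProperty.Over.mk ⊤ (O.ι ≫ U.hom) hO
  let g : V ⟶ U := MorphismProperty.Over.homMk O.ι rfl trivial
  refine ⟨V, g, ⟨x, hx⟩, rfl, ?_⟩
  change res A ((EtCoh.bc f).map g) s = 0
  apply eq_zero_of_van
  intro y
  apply Van.res
  by_contra hy
  have h1 : fstBc f U (((EtCoh.bc f).map g).left y) = g.left (fstBc f V y) :=
    EtpbcA.ConsPull.fst_bc_map_apply f g y
  have h2 : fstBc f U (((EtCoh.bc f).map g).left y) ∈ (fstBc f U) '' Eᶜ := ⟨_, hy, rfl⟩
  rw [h1] at h2
  exact (fstBc f V y).2 h2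

end closed

end Groth.Agent.Sga4h.LFinPull
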