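import Groth.Agent.Sga4h.LFinPull

/-!
# Sheaves of `Λ`-modules which vanish outside a subset

`ZeroOff F S`: the sections of `F` vanish étale locally at the points outside `S`.
-/

set_option autoImplicit false
universe u

open CategoryTheory CategoryTheory.Limits AlgebraicGeometry Opposite

namespace Groth.Agent.Sga4h.LFinSupp

open Groth.Agent.Etcore.LVan Groth.Agent.Etcore.LPull Groth.Agent.Sga4h.LFinPull
open Groth.Agent.EtpbcA.ConsPull (fstBc)

variable {Λ : Type (u + 1)} [CommRing Λ] {X Y : Scheme.{u}}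

/-- The sheaf `F` vanishes outside `S`. -/
def ZeroOff (F : EtModW.Mod Λ X) (S : Set X) : Prop :=
  ∀ (U : X.Etale) (s : EtModW.sect Λ F U) (x : U.left), U.hom x ∉ S → Van F s x

theorem ZeroOff.mono {F : EtModW.Mod Λ X} {S S' : Set X} (h : ZeroOff F S) (hS : S ⊆ S') :
    ZeroOff F S' := fun U s x hx => h U s x (fun h => hx (hS h))

theorem ZeroOff.isZero {F : EtModW.Mod Λ X} (h : ZeroOff F ∅) : IsZero F :=
  isZero_of_sect F fun U s => eq_zero_of_van s fun x => h U s x (fun h => h)

theorem zeroOff_of_isZero {F : EtModW.Mod Λ X} (h : IsZero F) (S : Set X) : ZeroOff F S :=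
  fun _ s x _ => van_zero_of_eq (sect_eq_zero h s) x

theorem snd_bc_apply (f : X ⟶ Y) (U : Y.Etale) (z : ((EtCoh.bc f).obj U).left) :
    f (((EtCoh.bc f).obj U).hom z) = U.hom (fstBc f U z) := by
  have h : fstBc f U ≫ U.hom = ((EtCoh.bc f).obj U).hom ≫ f := pullback.condition
  exact (congrArg (fun (q : ((EtCoh.bc f).obj U).left ⟶ Y) => q z) h).symm

theorem ZeroOff.pull {F : EtModW.Mod Λ Y} {S : Set Y} (h : ZeroOff F S) (f : X ⟶ Y) :
    ZeroOff ((EtModW.pull Λ f).obj F) (f ⁻¹' S) := by
  intro V t v hv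
  obtain ⟨U, s, W, a, b, w, hw, e⟩ := exists_eta f F t v
  rw [← hw]
  apply Van.of_res
  rw [e]
  apply Van.res
  rw [van_eta_iff]
  apply h
  intro hc
  apply hv
  change f (V.hom v) ∈ S
  rw [← snd_bc_apply] at hc
  have h1 : ((EtCoh.bc f).obj U).hom (b.left w) = W.hom w :=
    congrArg (fun (q : W.left ⟶ X) => q w) (MorphismProperty.Over.w b)
  have h2 : V.hom (a.left w) = W.hom w :=
    congrArg (fun (q : W.left ⟶ X) => q w) (MorphismProperty.Over.w a)
  rw [h1, ← h2, hw] at hc
  exact hc

theorem ZeroOff.isZero_pull {F : EtModW.Mod Λ Y} {S : Set Y} (h : ZeroOff F S) (f : X ⟶ Y)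
    (hf : ∀ x, f x ∉ S) : IsZero ((EtModW.pull Λ f).obj F) :=
  ((h.pull f).mono (fun x hx => hf x hx)).isZero

/-- Vanishing outside `S` can be checked on a family of morphisms covering the complement. -/
theorem ZeroOff.of_isZero_pull {F : EtModW.Mod Λ Y} {S : Set Y} {ι : Type*} {Z : ι → Scheme.{u}}
    (f : ∀ i, Z i ⟶ Y) (hf : ∀ y ∉ S, ∃ i, y ∈ Set.range (f i))
    (h : ∀ i, IsZero ((EtModW.pull Λ (f i)).obj F)) : ZeroOff F S := by
  intro U s x hx
  obtain ⟨i, z, hz⟩ := hf (U.hom x) hx
  obtain ⟨w, hw, -⟩ := Scheme.Pullback.exists_preimage_pullback (f := U.hom) (g := f i) x z hz.symm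
  have h1 : eta (f i) F U s = 0 := sect_eq_zero (h i) _
  have h2 := (van_eta_iff (f i) F s w).1 (van_zero_of_eq h1 w)
  have h3 : fstBc (f i) U w = x := hw
  rwa [h3] at h2

theorem zeroOff_iff {F : EtModW.Mod Λ Y} {S : Set Y} :
    ZeroOff F S ↔ ∀ y ∉ S, IsZero ((EtModW.pull Λ (Y.fromSpecResidueField y)).obj F) := by
  constructor
  · intro h y hy
    refine h.isZero_pull _ fun x hx => hy ?_
    have h1 : Y.fromSpecResidueField y x ∈ Set.range (Y.fromSpecResidueField y) := ⟨x, rfl⟩
    rw [Scheme.range_fromSpecResidueField] at h1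
    rw [← Set.mem_singleton_iff.1 h1]
    exact hx
  · intro h
    refine ZeroOff.of_isZero_pull (ι := {y : Y // y ∉ S}) (fun i => Y.fromSpecResidueField i.1)
      (fun y hy => ⟨⟨y, hy⟩, ?_⟩) (fun i => h i.1 i.2)
    rw [Scheme.range_fromSpecResidueField]
    rfl

theorem ZeroOff.of_mono {F G : EtModW.Mod Λ X} (α : F ⟶ G) [Mono α] {S : Set X}
    (h : ZeroOff G S) : ZeroOff F S := by
  rw [zeroOff_iff] at h ⊢
  intro y hy
  have : Mono ((EtModW.pull Λ (X.fromSpecResidueField y)).map α) := inferInstance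
  exact IsZero.of_mono ((EtModW.pull Λ (X.fromSpecResidueField y)).map α) (h y hy)

theorem ZeroOff.of_epi {F G : EtModW.Mod Λ X} (α : F ⟶ G) [Epi α] {S : Set X}
    (h : ZeroOff F S) : ZeroOff G S := by
  rw [zeroOff_iff] at h ⊢
  intro y hy
  have : Epi ((EtModW.pull Λ (X.fromSpecResidueField y)).map α) := inferInstance
  exact IsZero.of_epi ((EtModW.pull Λ (X.fromSpecResidueField y)).map α) (h y hy)

theorem ZeroOff.of_iso {F G : EtModW.Mod Λ X} (e : F ≅ G) {S : Set X}
    (h : ZeroOff F S) : ZeroOff G S := h.of_epi e.hom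

theorem ZeroOff.push (f : X ⟶ Y) [UniversallyClosed f] {A : EtModW.Mod Λ X} {S : Set Y}
    (h : ZeroOff A (f ⁻¹' S)) : ZeroOff ((EtModW.push Λ f).obj A) S := by
  intro U s x hx
  refine van_push f A s x fun y hy => h _ _ _ fun hc => hx ?_
  change f (((EtCoh.bc f).obj U).hom y) ∈ S at hc
  rw [snd_bc_apply, hy] at hc
  exact hc

theorem zeroOff_push_range (f : X ⟶ Y) [UniversallyClosed f] (A : EtModW.Mod Λ X) :
    ZeroOff ((EtModW.push Λ f).obj A) (Set.range f) := by
  refine ZeroOff.push f ?_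
  intro U s x hx
  exact absurd ⟨U.hom x, rfl⟩ hx

section closed

variable (b : X ⟶ Y) [IsClosedImmersion b]

theorem isIso_pull_unit_closed (F : EtModW.Mod Λ Y) :
    IsIso ((EtModW.pull Λ b).map ((pullPushAdj b).unit.app F)) := by
  obtain ⟨h1, h2⟩ := full_faithful_closed (Λ := Λ) b
  exact isIso_pull_unit b F

theorem epi_unit_closed (F : EtModW.Mod Λ Y) : Epi ((pullPushAdj b).unit.app F) := by
  apply Preadditive.epi_of_isZero_cokernel
  let α := (pullPushAdj b).unit.app F
  have h1 : ZeroOff (cokernel α) (Set.range b) :=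
    (zeroOff_push_range b _).of_epi (cokernel.π α)
  refine isZero_of_pull (ι := Option {y : Y // y ∉ Set.range b})
    (Z := fun i => i.casesOn X (fun y => Spec (Y.residueField y.1)))
    (fun i => match i with
      | none => b
      | some y => Y.fromSpecResidueField y.1) ?_ _ ?_
  · intro y
    by_cases hy : y ∈ Set.range b
    · exact ⟨none, hy⟩
    · refine ⟨some ⟨y, hy⟩, ?_⟩
      rw [Scheme.range_fromSpecResidueField]
      rfl
  · intro i
    match i with
    | none =>
      have h2 : IsIso ((EtModW.pull Λ b).map α) := isIso_pull_unit_closed b F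
      exact (isZero_cokernel_of_epi ((EtModW.pull Λ b).map α)).of_iso
        (PreservesCokernel.iso (EtModW.pull Λ b) α)
    | some y => exact zeroOff_iff.1 h1 y.1 y.2

/-- A sheaf which vanishes outside a closed subscheme comes from this subscheme. -/
theorem isIso_unit_of_zeroOff (F : EtModW.Mod Λ Y) (hF : ZeroOff F (Set.range b)) :
    IsIso ((pullPushAdj b).unit.app F) := by
  have h1 := epi_unit_closed b F
  let α := (pullPushAdj b).unit.app F
  have h2 : ZeroOff (kernel α) (Set.range b) := hF.of_mono (kernel.ι α)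
  have h3 : IsZero (kernel α) := by
    refine isZero_of_pull (ι := Option {y : Y // y ∉ Set.range b})
      (Z := fun i => i.casesOn X (fun y => Spec (Y.residueField y.1)))
      (fun i => match i with
        | none => b
        | some y => Y.fromSpecResidueField y.1) ?_ _ ?_
    · intro y
      by_cases hy : y ∈ Set.range b
      · exact ⟨none, hy⟩
      · refine ⟨some ⟨y, hy⟩, ?_⟩
        rw [Scheme.range_fromSpecResidueField]
        rfl
    · intro i
      match i with
      | none =>
        have h2 : IsIso ((EtModW.pull Λ b).map α) := isIso_pull_unit_closed b F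
        exact (isZero_kernel_of_mono ((EtModW.pull Λ b).map α)).of_iso
          (PreservesKernel.iso (EtModW.pull Λ b) α)
      | some y => exact zeroOff_iff.1 h2 y.1 y.2
  have : Mono α := Preadditive.mono_of_isZero_kernel _ h3
  exact isIso_of_mono_of_epi α

/-- The short exact sequence `0 → F' → F → b_* b^* F → 0`. -/
noncomputable def closedSeq (F : EtModW.Mod Λ Y) : ShortComplex (EtModW.Mod Λ Y) :=
  ShortComplex.mk (kernel.ι ((pullPushAdj b).unit.app F)) ((pullPushAdj b).unit.app F)
    (kernel.condition _)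

theorem closedSeq_shortExact (F : EtModW.Mod Λ Y) : (closedSeq b F).ShortExact where
  exact := ShortComplex.exact_kernel _
  mono_f := inferInstanceAs (Mono (kernel.ι _))
  epi_g := epi_unit_closed b F

/-- The kernel of `F → b_* b^* F` vanishes on the closed subscheme. -/
theorem isZero_pull_closedSeq (F : EtModW.Mod Λ Y) :
    IsZero ((EtModW.pull Λ b).obj (closedSeq b F).X₁) := by
  have h2 : IsIso ((EtModW.pull Λ b).map ((pullPushAdj b).unit.app F)) := isIso_pull_unit_closed b F
  exact (isZero_kernel_of_mono ((EtModW.pull Λ b).map ((pullPushAdj b).unit.app F))).of_iso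
    (PreservesKernel.iso (EtModW.pull Λ b) _)

theorem zeroOff_closedSeq (F : EtModW.Mod Λ Y) : ZeroOff (closedSeq b F).X₁ (Set.range b)ᶜ :=
  ZeroOff.of_isZero_pull (ι := Unit) (fun _ => b) (fun _ hy => ⟨(), not_not.1 hy⟩)
    (fun _ => isZero_pull_closedSeq b F)

/-- Outside the closed subscheme `F' → F` is an isomorphism. -/
theorem isIso_pull_closedSeq (F : EtModW.Mod Λ Y) {Z : Scheme.{u}} (g : Z ⟶ Y)
    (hg : ∀ z, g z ∉ Set.range b) : IsIso ((EtModW.pull Λ g).map (closedSeq b F).f) := by
  have h1 : IsZero ((EtModW.pull Λ g).obj (closedSeq b F).X₃) :=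
    (zeroOff_push_range b _).isZero_pull g hg
  have h2 := (closedSeq_shortExact b F).map_of_exact (EtModW.pull Λ g)
  have := h2.mono_f
  exact (h2.isIso_f_iff).2 h1

end closed

end Groth.Agent.Sga4h.LFinSupp
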