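import Groth.Agent.Sga4h.LFinDelta
import Groth.Agent.Sga4h.LFinSupp
import Groth.Agent.Sga4h.LerayAcyc
import Groth.Agent.Sga4A.IntegralSection
import Groth.Agent.Etrest.ModAbR
import Groth.Agent.Etrest.ModFT
import Groth.Agent.Etrest.ModCons
import Mathlib.CategoryTheory.Preadditive.Injective.Preserves

/-!
# The delta functor `g^* R^q f_*` for sheaves of modules

* `TT Λ f g`: the delta functor `q ↦ g^* R^q f_*` on sheaves of `Λ`-modules;
* `fiveClosed`: the five lemma for constructible sheaves (`Λ` Noetherian);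
* `nonempty_push_iso`: `R^q f_* (π_* N) ≅ R^q (π ≫ f)_* N` for `π` integral.
-/

set_option autoImplicit false
universe u

open CategoryTheory CategoryTheory.Limits AlgebraicGeometry Opposite
open Groth.Agent.Localalg.DeltaFun
open scoped ZeroObject

namespace Groth.Agent.Sga4h.LFinT

open Groth.Agent.Etrest.ModAb Groth.Agent.Etrest.ModCons Groth.Agent.Etrest.ModFT
open Groth.Agent.Sga4h.LFinDelta

variable (Λ : Type (u + 1)) [CommRing Λ] {X Y Y' : Scheme.{u}}

instance push_preservesFiniteLimits (f : X ⟶ Y) : PreservesFiniteLimits (EtModW.push Λ f) :=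
  have : PreservesLimitsOfSize.{0, 0} (EtModW.push Λ f) :=
    (pullPushAdj Λ f).rightAdjoint_preservesLimits
  PreservesLimitsOfSize.preservesFiniteLimits _

instance pull_preservesMono (f : X ⟶ Y) : (EtModW.pull Λ f).PreservesMonomorphisms :=
  inferInstance

instance push_preservesInjectives (f : X ⟶ Y) : (EtModW.push Λ f).PreservesInjectiveObjects :=
  Functor.preservesInjectiveObjects_of_adjunction_of_preservesMonomorphisms (pullPushAdj Λ f)

theorem push_injective (f : X ⟶ Y) (I : EtModW.Mod Λ X) (hI : Injective I) :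
    Injective ((EtModW.push Λ f).obj I) :=
  (EtModW.push Λ f).injective_obj_of_injective hI

variable {Λ} in
theorem isZero_of_ab (F : EtModW.Mod Λ X) (h : IsZero ((ab Λ X).obj F)) : IsZero F := by
  rw [IsZero.iff_id_eq_zero] at h ⊢
  apply (ab Λ X).map_injective
  rw [CategoryTheory.Functor.map_id, Functor.map_zero]
  exact h

theorem isZero_Rpush (f : X ⟶ Y) [IsIntegralHom f] (F : EtModW.Mod Λ X) (q : ℕ) (hq : 0 < q) :
    IsZero ((EtModW.Rpush Λ f q).obj F) :=
  isZero_of_ab _ ((Groth.Agent.Sga4A.EtSplit.isZero_Rpush f ((ab Λ X).obj F) q hq).of_iso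
    ((rpushIso Λ f q).app F))

/-- `R^q f_* (π_* N) ≅ R^q (π ≫ f)_* N` for `π` integral. -/
theorem nonempty_push_iso {Z : Scheme.{u}} (π : Z ⟶ X) [IsIntegralHom π] (f : X ⟶ Y)
    (N : EtModW.Mod Λ Z) (q : ℕ) :
    Nonempty ((EtModW.Rpush Λ f q).obj ((EtModW.push Λ π).obj N) ≅
      (EtModW.Rpush Λ (π ≫ f) q).obj N) :=
  ⟨(LerayAcyc.rightDerivedIso (EtModW.push Λ π) (EtModW.push Λ f) (push_injective Λ π) N
    (fun p hp => isZero_Rpush Λ π N p hp) q).symm ≪≫
    (LerayAcyc.rightDerivedCongr (Groth.Agent.Etcore.LPullComp.pushComp Λ f π) q).app N⟩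

/-- The delta functor `q ↦ g^* R^q f_*`. -/
noncomputable def TT (f : X ⟶ Y) (g : Y' ⟶ Y) : DeltaFunctor (EtModW.Mod Λ X) (EtModW.Mod Λ Y') :=
  (Groth.Agent.Sga4B.DeltaH.ofRightDerived (EtModW.push Λ f)).postcomp (EtModW.pull Λ g)

theorem TT_obj (f : X ⟶ Y) (g : Y' ⟶ Y) (q : ℕ) (F : EtModW.Mod Λ X) :
    ((TT Λ f g).T q).obj F = (EtModW.pull Λ g).obj ((EtModW.Rpush Λ f q).obj F) := rfl

theorem mono_T_zero (f : X ⟶ Y) (g : Y' ⟶ Y) {A B : EtModW.Mod Λ X} (α : A ⟶ B) [Mono α] :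
    Mono (((TT Λ f g).T 0).map α) := by
  have h1 : Mono ((EtModW.push Λ f).map α) := inferInstance
  have h2 : Mono ((EtModW.Rpush Λ f 0).map α) := by
    have h3 : (EtModW.Rpush Λ f 0).map α =
        (EtModW.push Λ f).rightDerivedZeroIsoSelf.hom.app A ≫ (EtModW.push Λ f).map α ≫
          (EtModW.push Λ f).rightDerivedZeroIsoSelf.inv.app B :=
      (NatIso.naturality_2 (EtModW.push Λ f).rightDerivedZeroIsoSelf α).symm
    rw [h3]
    exact mono_comp _ _
  exact inferInstanceAs (Mono ((EtModW.pull Λ g).map ((EtModW.Rpush Λ f 0).map α)))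

variable [IsNoetherianRing Λ]

theorem fiveClosed : FiveClosed (fun F : EtModW.Mod Λ Y' => EtModW.IsConstructible Λ F) := by
  refine ⟨isConstructible_of_ft (ftlc_of_isZero (isZero_zero _)), ?_⟩
  intro A B C E F f₁ f₂ f₃ f₄ w₁ w₂ w₃ e₁ e₂ e₃ hA hB hE hF
  refine isConstructible_five_of_ftFive ?_ f₁ f₂ f₃ f₄ w₁ w₂ w₃ e₁ e₂ e₃ hA hB hE hF
  intro T A B C D E f₁ f₂ f₃ f₄ w₁ w₂ w₃ e₁ e₂ e₃ hA hB hD hE
  exact ftlc_five f₁ f₂ f₃ f₄ (stalkExact_of_exact e₁) (stalkExact_of_exact e₂)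
    (stalkExact_of_exact e₃) hA hB hD hE

end Groth.Agent.Sga4h.LFinT
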