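import Groth.Agent.Sga4h.LFinSupp
import Groth.Agent.Etcore.LFLC

/-!
# Extension by zero of a constant sheaf of modules

Two sheaves on `T` which vanish outside an open subscheme `V` and are constant on `V` with the same
value are isomorphic (`nonempty_iso`).
-/

set_option autoImplicit false
universe u

open CategoryTheory CategoryTheory.Limits AlgebraicGeometry Opposite

namespace Groth.Agent.Sga4h.LFinZero

open Groth.Agent.Etbase Groth.Agent.Etcore
open Groth.Agent.Etcore.LVan Groth.Agent.Etcore.LPull Groth.Agent.Sga4h.LFinPull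
open Groth.Agent.Sga4h.LFinSupp

variable {Λ : Type (u + 1)} [CommRing Λ] {X : Scheme.{u}}

/-- `F` is constant over `U` via `φ`. -/
def Cst (F : EtModW.Mod Λ X) (U : X.Etale) {M : Type*} [AddCommGroup M] [Module Λ M]
    (φ : M →ₗ[Λ] EtModW.sect Λ F U) : Prop := ∀ y, InjAt F φ y ∧ SurjAt F φ y

theorem Cst.res {F : EtModW.Mod Λ X} {U V : X.Etale} {M : Type*} [AddCommGroup M] [Module Λ M]
    {φ : M →ₗ[Λ] EtModW.sect Λ F U} (h : Cst F U φ) (g : V ⟶ U) : Cst F V (resHom g φ) :=
  fun v => ⟨(injAt_res_iff g v φ).2 (h _).1, (surjAt_res_iff g v φ).2 (h _).2⟩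

section presheaf

variable (Λ) (V : X.Etale) (M : Type (u + 1)) [AddCommGroup M] [Module Λ M]

open Classical in
/-- The sections of the constant presheaf extended by zero. -/
def sub (W : X.Etale) : Submodule Λ M where
  carrier := {m | (Nonempty (W ⟶ V)) ∨ m = 0}
  add_mem' {a b} ha hb := by
    rcases ha with ha | ha
    · exact Or.inl ha
    · rcases hb with hb | hb
      · exact Or.inl hb
      · exact Or.inr (by rw [ha, hb, add_zero])
  zero_mem' := Or.inr rfl
  smul_mem' r a ha := by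
    rcases ha with ha | ha
    · exact Or.inl ha
    · exact Or.inr (by rw [ha, smul_zero])

theorem sub_le {W W' : X.Etale} (g : W' ⟶ W) : sub Λ V M W ≤ sub Λ V M W' := by
  rintro m (⟨⟨k⟩⟩ | hm)
  · exact Or.inl ⟨g ≫ k⟩
  · exact Or.inr hm

/-- The constant presheaf extended by zero. -/
noncomputable def psh : X.Etaleᵒᵖ ⥤ ModuleCat.{u + 1} Λ where
  obj W := ModuleCat.of Λ (sub Λ V M W.unop)
  map {W W'} g := ModuleCat.ofHom (Submodule.inclusion (sub_le Λ V M g.unop))
  map_id W := by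
    ext m
    rfl
  map_comp g h := by
    ext m
    rfl

end presheaf

section map

variable {V : X.Etale} {M : Type (u + 1)} [AddCommGroup M] [Module Λ M] {A : EtModW.Mod Λ X}
  (ψ : M →ₗ[Λ] EtModW.sect Λ A V)

open Classical in
/-- The map `M → A(W)` which is zero if `W` does not lie over `V`. -/
noncomputable def toSect (W : X.Etale) : sub Λ V M W →ₗ[Λ] EtModW.sect Λ A W :=
  if h : Nonempty (W ⟶ V) then (resHom h.some ψ).comp (sub Λ V M W).subtype else 0

theorem toSect_apply (hV : ∀ {W : X.Etale} (g h : W ⟶ V), g = h) {W : X.Etale} (g : W ⟶ V)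
    (m : sub Λ V M W) : toSect ψ W m = res A g (ψ m) := by
  unfold toSect
  rw [dif_pos ⟨g⟩]
  rw [hV g (Nonempty.some ⟨g⟩)]
  rfl

theorem toSect_nat (hV : ∀ {W : X.Etale} (g h : W ⟶ V), g = h) {W W' : X.Etale} (g : W' ⟶ W)
    (m : sub Λ V M W) : toSect ψ W' (Submodule.inclusion (sub_le Λ V M g) m) =
      res A g (toSect ψ W m) := by
  by_cases h : Nonempty (W ⟶ V)
  · obtain ⟨k⟩ := h
    rw [toSect_apply ψ hV k, toSect_apply ψ hV (g ≫ k), res_comp]
    rfl
  · have hm : (m : M) = 0 := m.2.resolve_left h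
    have hm' : m = 0 := Subtype.ext hm
    rw [hm', map_zero, map_zero, map_zero, map_zero]

theorem toSect_inj (hψ : Cst A V ψ) (hV : ∀ {W : X.Etale} (g h : W ⟶ V), g = h) {W : X.Etale}
    (x : W.left) (a b : sub Λ V M W) (hab : toSect ψ W a = toSect ψ W b) : a = b := by
  rw [← sub_eq_zero]
  have hab' : toSect ψ W (a - b) = 0 := by
    rw [map_sub, hab, sub_self]
  by_cases h : Nonempty (W ⟶ V)
  · obtain ⟨k⟩ := h
    rw [toSect_apply ψ hV k] at hab'
    apply Subtype.ext
    apply (hψ (k.left x)).1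
    apply Van.of_res
    exact van_zero_of_eq hab' _
  · exact Subtype.ext ((a - b).2.resolve_left h)

theorem toSect_zero {W : X.Etale} (h : ¬ Nonempty (W ⟶ V)) (m : sub Λ V M W) :
    toSect ψ W m = 0 := by
  unfold toSect
  rw [dif_neg h]
  rfl

/-- The map of presheaves from the constant presheaf extended by zero. -/
noncomputable def toMap (hV : ∀ {W : X.Etale} (g h : W ⟶ V), g = h) : psh Λ V M ⟶ A.obj where
  app W := ModuleCat.ofHom (toSect ψ W.unop)
  naturality {W W'} g := by
    ext m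
    exact toSect_nat ψ hV g.unop m

variable (hV : ∀ {W : X.Etale} (g h : W ⟶ V), g = h)
  (hVr : ∀ (W : X.Etale) (x : W.left), W.hom x ∈ Set.range V.hom →
    ∃ (W' : X.Etale) (g : W' ⟶ W) (w : W'.left), g.left w = x ∧ Nonempty (W' ⟶ V))

include hVr in
theorem toMap_isLocallyBijective (hψ : Cst A V ψ) (hA : ZeroOff A (Set.range V.hom)) :
    X.smallEtaleTopology.W (toMap ψ hV) := by
  have h1 : Presheaf.IsLocallyInjective X.smallEtaleTopology (toMap ψ hV) := by
    constructor
    intro W a b hab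
    rw [EtSite.mem_iff]
    intro x
    have h2 : a = b := toSect_inj ψ hψ hV x a b hab
    subst h2
    exact ⟨W.unop, 𝟙 _, x, rfl, rfl⟩
  have h2 : Presheaf.IsLocallySurjective X.smallEtaleTopology (toMap ψ hV) := by
    constructor
    intro W s
    rw [EtSite.mem_iff]
    intro x
    by_cases hx : W.hom x ∈ Set.range V.hom
    · obtain ⟨W', g, w, hw, ⟨k⟩⟩ := hVr W x hx
      obtain ⟨m, W₂, g₂, w₂, hw₂, e⟩ := (hψ (k.left w)).2 W' k w rfl (res A g s)
      refine ⟨W₂, g₂ ≫ g, w₂, ⟨⟨m, Or.inl ⟨g₂ ≫ k⟩⟩, ?_⟩, ?_⟩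
      · change toSect ψ W₂ (⟨m, Or.inl ⟨g₂ ≫ k⟩⟩ : sub Λ V M W₂) = res A (g₂ ≫ g) s
        rw [toSect_apply ψ hV (g₂ ≫ k)]
        rw [map_sub, sub_eq_zero, ← res_comp, ← res_comp] at e
        exact e.symm
      · rw [← hw, ← hw₂]
        rfl
    · obtain ⟨W', g, w, hw, e⟩ := hA W s x hx
      refine ⟨W', g, w, ⟨0, ?_⟩, hw⟩
      change toSect ψ W' (0 : sub Λ V M W') = res A g s
      rw [map_zero]
      exact e.symm
  exact X.smallEtaleTopology.W_of_isLocallyBijective _

include hV hVr in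
theorem nonempty_iso_sheafify (hψ : Cst A V ψ) (hA : ZeroOff A (Set.range V.hom)) :
    Nonempty (A ≅ (presheafToSheaf X.smallEtaleTopology (ModuleCat.{u + 1} Λ)).obj (psh Λ V M)) := by
  have h3 := toMap_isLocallyBijective ψ hV hVr hψ hA
  have h4 : IsIso ((presheafToSheaf X.smallEtaleTopology (ModuleCat.{u + 1} Λ)).map
      (toMap ψ hV)) := by
    rw [GrothendieckTopology.W_iff] at h3
    exact h3
  exact ⟨sheafificationIso _ ≪≫
    (asIso ((presheafToSheaf X.smallEtaleTopology (ModuleCat.{u + 1} Λ)).map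
    (toMap ψ hV))).symm⟩

end map

/-- The object of the small étale site defined by an open immersion. -/
noncomputable abbrev opn {V : Scheme.{u}} (v : V ⟶ X) [IsOpenImmersion v] : X.Etale :=
  MorphismProperty.Over.mk ⊤ v (show AlgebraicGeometry.Etale v from inferInstance)

/-- Two sheaves which vanish outside an open subscheme and are constant on it with the same value
are isomorphic. -/
theorem nonempty_iso {V : Scheme.{u}} (v : V ⟶ X) [IsOpenImmersion v] {M : Type (u + 1)}
    [AddCommGroup M] [Module Λ M] {A B : EtModW.Mod Λ X} (φ : M →ₗ[Λ] EtModW.sect Λ A (opn v))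
    (ψ : M →ₗ[Λ] EtModW.sect Λ B (opn v)) (hA : ZeroOff A (Set.range v)) (hφ : Cst A (opn v) φ)
    (hB : ZeroOff B (Set.range v)) (hψ : Cst B (opn v) ψ) : Nonempty (A ≅ B) := by
  have hV : ∀ {W : X.Etale} (g h : W ⟶ opn v), g = h := by
    intro W g h
    apply MorphismProperty.Over.Hom.ext
    have h1 : g.left ≫ v = W.hom := MorphismProperty.Over.w g
    have h2 : h.left ≫ v = W.hom := MorphismProperty.Over.w h
    exact (cancel_mono v).1 (h1.trans h2.symm)
  have hVr : ∀ (W : X.Etale) (x : W.left), W.hom x ∈ Set.range (opn v).hom →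
      ∃ (W' : X.Etale) (g : W' ⟶ W) (w : W'.left), g.left w = x ∧ Nonempty (W' ⟶ opn v) := by
    intro W x hx
    obtain ⟨y, hy⟩ := hx
    obtain ⟨z, hz, -⟩ := Scheme.Pullback.exists_preimage_pullback (f := W.hom) (g := v) x y hy.symm
    have hW : AlgebraicGeometry.Etale W.hom := W.prop
    have h1 : AlgebraicGeometry.Etale (pullback.fst W.hom v ≫ W.hom) := inferInstance
    refine ⟨MorphismProperty.Over.mk ⊤ (pullback.fst W.hom v ≫ W.hom) h1,
      MorphismProperty.Over.homMk (pullback.fst W.hom v) rfl trivial, z, hz,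
      ⟨MorphismProperty.Over.homMk (pullback.snd W.hom v) pullback.condition.symm trivial⟩⟩
  obtain ⟨e₁⟩ := nonempty_iso_sheafify φ hV hVr hφ hA
  obtain ⟨e₂⟩ := nonempty_iso_sheafify ψ hV hVr hψ hB
  exact ⟨e₁ ≪≫ e₂.symm⟩

end Groth.Agent.Sga4h.LFinZero
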