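import Groth.Agent.Sga4h.GalSyz
import Groth.Agent.Etcore.LSpread
import Mathlib.Topology.NoetherianSpace

/-!
# Finite dévissage of constructible sheaves of modules

On a Noetherian scheme, every constructible sheaf of `Λ`-modules is a finite successive extension
of sheaves in the classes `Mem D` attached to Galois data `D`.
-/

set_option autoImplicit false
universe u

open CategoryTheory CategoryTheory.Limits AlgebraicGeometry Opposite TopologicalSpace

namespace Groth.Agent.Sga4h.LamDev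

open Groth.Agent.Etcore.LVan Groth.Agent.Etcore.LFree Groth.Agent.Sga4h.LVanExact
  Groth.Agent.Sga4h.GalDatum Groth.Agent.Sga4h.GalClass Groth.Agent.Sga4h.GalQ
  Groth.Agent.Sga4h.GalSyz

/-- Existence of Galois data. -/
def HasData (X : Scheme.{u}) : Prop :=
  ∀ (ξ : X) (O : X.Opens) (_ : ξ ∈ O) (U₁ : X.Etale) (u₁ : U₁.left) (_ : U₁.hom u₁ = ξ)
    (C : Set U₁.left) (_ : Topology.IsLocallyConstructible C) (_ : u₁ ∈ C),
    ∃ (D : Datum X) (g : D.U ⟶ U₁) (W : X.Opens), W ≤ O ∧ ξ ∈ W ∧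
      Set.range D.U.hom ⊆ (W : Set X) ∧ D.U.hom '' D.V = (W : Set X) ∩ closure {ξ} ∧
      (∀ v ∈ D.V, g.left v ∈ C) ∧ CompactSpace D.U.left

/-- Quotients of constructible sheaves are constructible. -/
def QuotCons (Λ : Type (u + 1)) [CommRing Λ] (X : Scheme.{u}) : Prop :=
  ∀ ⦃F G : EtModW.Mod Λ X⦄ (p : F ⟶ G) [Epi p], EtModW.IsConstructible Λ F →
    EtModW.IsConstructible Λ G

/-- In a closed nonempty subset of a Noetherian sober space there is a point whose closure contains
an open neighbourhood. -/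
theorem exists_generic {X : Type u} [TopologicalSpace X] [NoetherianSpace X] [QuasiSober X]
    (T : Set X) (hT : IsClosed T) (hne : T.Nonempty) :
    ∃ (ξ : X) (O : Set X), IsOpen O ∧ ξ ∈ O ∧ ξ ∈ T ∧ O ∩ T ⊆ closure {ξ} := by
  obtain ⟨x, hx⟩ := hne
  have hT' : QuasiSober T := hT.isClosedEmbedding_subtypeVal.quasiSober
  let Z : Set T := irreducibleComponent (⟨x, hx⟩ : T)
  obtain ⟨o, ho, hne', hoZ⟩ := NoetherianSpace.exists_isOpen_nonempty_subset_irreducibleComponent Z
    (irreducibleComponent_mem_irreducibleComponents _)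
  have hZ : IsIrreducible Z := isIrreducible_irreducibleComponent
  have hZc : IsClosed Z := isClosed_irreducibleComponent
  obtain ⟨ξ, hξ⟩ := QuasiSober.sober hZ hZc
  have hξo : ξ ∈ o := by
    obtain ⟨z, hz⟩ := hne'
    refine (hξ.mem_open_set_iff ho).2 ⟨z, hoZ hz, hz⟩
  obtain ⟨O, hO, rfl⟩ := isOpen_induced_iff.1 ho
  refine ⟨ξ, O, hO, hξo, ξ.2, ?_⟩
  rintro y ⟨hyO, hyT⟩
  have h1 : (⟨y, hyT⟩ : T) ∈ closure {ξ} := by
    rw [hξ.def]
    exact hoZ hyO
  have h2 := image_closure_subset_closure_image (continuous_subtype_val) ⟨_, h1, rfl⟩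
  rwa [Set.image_singleton] at h2

variable {Λ : Type (u + 1)} [CommRing Λ] {X : Scheme.{u}} {F G : EtModW.Mod Λ X}

/-- Restriction of the constant structure. -/
theorem isConstOn_res {D : Datum X} {U₁ : X.Etale} (g : D.U ⟶ U₁) {M : Type (u + 1)}
    [AddCommGroup M] [Module Λ M] (φ : M →ₗ[Λ] EtModW.sect Λ F U₁)
    (h : ∀ v ∈ D.V, InjAt F φ (g.left v) ∧ SurjAt F φ (g.left v)) :
    IsConstOn D F (resHom g φ) :=
  fun v hv => ⟨(injAt_res_iff g v φ).2 (h v hv).1, (surjAt_res_iff g v φ).2 (h v hv).2⟩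

/-- The subsheaf generated by the constants. -/
theorem exists_sub {D : Datum X} {M : Type (u + 1)} [AddCommGroup M] [Module Λ M]
    [Module.Finite Λ M] (φ : M →ₗ[Λ] EtModW.sect Λ F D.U) (hφ : IsConstOn D F φ) (T : Set X)
    (hF : VanOff F T) (W : X.Opens) (hW : Set.range D.U.hom ⊆ (W : Set X))
    (hWT : (W : Set X) ∩ T ⊆ img D) :
    ∃ S : ShortComplex (EtModW.Mod Λ X), S.ShortExact ∧ S.X₂ = F ∧ Mem D S.X₁ ∧
      VanOff S.X₃ (T \ W) := by
  obtain ⟨B, hB⟩ := (inferInstance : Module.Finite Λ M).fg_top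
  -- the morphism from a finite sum of copies of `Λ[U]`
  have hex : ∀ l : List M, ∃ (L : EtModW.Mod Λ X) (p : L ⟶ F),
      (∀ m ∈ l, ∃ y : EtModW.sect Λ L D.U, ev p D.U y = φ m) ∧
      (∀ (T' : X.Etale) (s : EtModW.sect Λ L T') (t : T'.left), T'.hom t ∉ (W : Set X) →
        Van L s t) := by
    intro l
    induction l with
    | nil =>
      obtain ⟨Z, hZ⟩ : ∃ Z : EtModW.Mod Λ X, IsZero Z := HasZeroObject.zero
      refine ⟨Z, 0, fun m hm => absurd hm (by simp), fun T' s t _ => van_zero_of_eq ?_ t⟩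
      have h1 : ev (𝟙 Z) T' s = ev (0 : Z ⟶ Z) T' s := by rw [hZ.eq_of_src (𝟙 Z) 0]
      exact h1
    | cons m l ih =>
      obtain ⟨L, p, hp, hL⟩ := ih
      refine ⟨LM Λ D.U ⊞ L, biprod.desc (desc (φ m)) p, ?_, ?_⟩
      · intro m' hm'
        rcases List.mem_cons.1 hm' with rfl | hm'
        · refine ⟨ev (biprod.inl : LM Λ D.U ⟶ LM Λ D.U ⊞ L) D.U (gen Λ D.U), ?_⟩
          have h1 : ev ((biprod.inl : LM Λ D.U ⟶ LM Λ D.U ⊞ L) ≫ biprod.desc (desc (φ m')) p)
              D.U (gen Λ D.U) = ev (desc (φ m')) D.U (gen Λ D.U) := by rw [biprod.inl_desc]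
          exact h1.trans (desc_gen _)
        · obtain ⟨y, hy⟩ := hp m' hm'
          refine ⟨ev (biprod.inr : L ⟶ LM Λ D.U ⊞ L) D.U y, ?_⟩
          have h1 : ev ((biprod.inr : L ⟶ LM Λ D.U ⊞ L) ≫ biprod.desc (desc (φ m)) p) D.U y =
              ev p D.U y := by
            rw [biprod.inr_desc]
          exact h1.trans hy
      · intro T' s t ht
        rw [← ev_biprod T' s]
        refine (Van.map _ ?_).add (Van.map _ (hL T' _ t ht))
        obtain ⟨W', g, w, c, hw, hc⟩ := exists_sec D.U (ev biprod.fst T' s) t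
        rw [← hw, ← van_res_iff, hc]
        have h0 : c = 0 := by
          by_contra hne
          obtain ⟨h, -⟩ := Finsupp.support_nonempty_iff.2 hne
          refine ht (hW ⟨h.left w, ?_⟩)
          rw [hom_apply, ← hom_apply g, hw]
        rw [h0, map_zero]
        exact Van.zero _
  obtain ⟨L, p, hp, hL⟩ := hex B.toList
  have hp' : ∀ m : M, ∃ y, ev p D.U y = φ m := by
    intro m
    have h2 : LinearMap.range φ ≤ LinearMap.range (ev p D.U) := by
      rw [LinearMap.range_eq_map, ← hB, Submodule.map_span, Submodule.span_le]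
      rintro _ ⟨x, hx, rfl⟩
      exact hp x (Finset.mem_toList.2 hx)
    exact h2 ⟨m, rfl⟩
  -- the image
  let I := Limits.image p
  let i : I ⟶ F := Limits.image.ι p
  let e : L ⟶ I := Limits.factorThruImage p
  have hie : e ≫ i = p := Limits.image.fac p
  have he : Epi e := inferInstanceAs (Epi (Limits.factorThruImage p))
  have hi : Mono i := inferInstanceAs (Mono (Limits.image.ι p))
  let S := ShortComplex.mk i (cokernel.π i) (cokernel.condition i)
  have hS : S.ShortExact :=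
    { exact := ShortComplex.exact_of_g_is_cokernel S (cokernelIsCokernel i)
      mono_f := hi
      epi_g := inferInstanceAs (Epi (cokernel.π i)) }
  -- lifting sections
  have hlift : ∀ m : M, ∃ s : EtModW.sect Λ I D.U, ev i D.U s = φ m := by
    intro m
    obtain ⟨y, hy⟩ := hp' m
    exact ⟨ev e D.U y, by rw [← ev_comp, hie, hy]⟩
  choose A hA using hlift
  let φ' : M →ₗ[Λ] EtModW.sect Λ I D.U :=
    { toFun := A
      map_add' := fun x y => injective_ev i _ (by rw [hA, map_add, map_add, hA, hA])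
      map_smul' := fun r x => injective_ev i _ (by
        rw [hA, map_smul, RingHom.id_apply, map_smul, hA]) }
  have hφ' : ∀ m, ev i D.U (φ' m) = φ m := hA
  have hI : VanOff I (img D) := by
    intro T' s t ht
    by_cases h1 : T'.hom t ∈ T
    · have h2 : T'.hom t ∉ (W : Set X) := fun h => ht (hWT ⟨h, h1⟩)
      obtain ⟨V, g, v, s', hv, hs⟩ := exists_local_lift e s t
      rw [← hv, ← van_res_iff, ← hs]
      refine Van.map e (hL V s' v ?_)
      rwa [← hom_apply g, hv]
    · exact van_of_mono i (hF T' _ t h1)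
  refine ⟨S, hS, rfl, ⟨hI, M, inferInstance, inferInstance, inferInstance, φ',
    fun v hv => ⟨?_, ?_⟩⟩, ?_⟩
  · intro m hm
    have h1 := Van.map i hm
    rw [hφ'] at h1
    exact (hφ v hv).1 m h1
  · intro T' g t ht s
    obtain ⟨m, hm⟩ := (hφ v hv).2 T' g t ht (ev i T' s)
    refine ⟨m, van_of_mono i ?_⟩
    rw [map_sub, ← res_ev, hφ']
    exact hm
  · intro T' s t ht
    obtain ⟨V, g, v, s', hv, hs⟩ := exists_local_lift (cokernel.π i) s t
    rw [← hv, ← van_res_iff, ← hs]
    have h1 : T'.hom t = V.hom v := by rw [← hv, hom_apply]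
    rw [h1] at ht
    by_cases h2 : V.hom v ∈ T
    · have h3 : V.hom v ∈ img D := by
        by_cases h4 : V.hom v ∈ (W : Set X)
        · exact hWT ⟨h4, h2⟩
        · exact absurd ⟨h2, h4⟩ ht
      obtain ⟨v₀, hv₀, hv₁⟩ := h3
      obtain ⟨m, W', a, b, w, h4, h5, h6⟩ :=
        SurjAt.exists_of_sect (hφ v₀ hv₀).2 s' v hv₁.symm
      refine ⟨W', a, w, h4, ?_⟩
      rw [res_ev, h6, ← hφ', res_ev, ← ev_comp, cokernel.condition]
      rfl
    · exact Van.map _ (hF V s' v h2)

/-- **Finite dévissage.** -/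
theorem devissage [IsNoetherian X] [IsNoetherianRing Λ] (hX : HasData X) (hq : QuotCons Λ X)
    (P : EtModW.Mod Λ X → Prop)
    (hz : ∀ F, IsZero F → P F)
    (hext : ∀ S : ShortComplex (EtModW.Mod Λ X), S.ShortExact → P S.X₁ → P S.X₃ → P S.X₂)
    (hbase : ∀ (D : Datum X), CompactSpace D.U.left → ∀ F, Mem D F → P F)
    (F : EtModW.Mod Λ X) (hF : EtModW.IsConstructible Λ F) : P F := by
  have key : ∀ T : Closeds X, ∀ F : EtModW.Mod Λ X, EtModW.IsConstructible Λ F →
      VanOff F (T : Set X) → P F := by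
    intro T
    refine wellFounded_lt.induction (C := fun T : Closeds X => ∀ F : EtModW.Mod Λ X,
      EtModW.IsConstructible Λ F → VanOff F (T : Set X) → P F) T ?_
    intro T ih F hF hFT
    rcases Set.eq_empty_or_nonempty (T : Set X) with h0 | hne
    · refine hz F ?_
      rw [IsZero.iff_id_eq_zero]
      refine LVanExact.hom_ext fun T' s => ?_
      refine eq_zero_of_van (F := F) s fun t => hFT T' s t ?_
      rw [h0]
      exact Set.notMem_empty _
    · obtain ⟨ξ, O, hO, hξO, hξT, hOT⟩ := exists_generic (T : Set X) T.isClosed hne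
      obtain ⟨U₁, u₁, hu₁, M, _, _, _, φ, C, hC, huC, hφ⟩ :=
        (Groth.Agent.Etcore.LSpread.isConstructible_iff_good F).1 hF ξ
      obtain ⟨D, g, W, hWO, hξW, hrange, himg, hgC, hcomp⟩ :=
        hX ξ ⟨O, hO⟩ hξO U₁ u₁ hu₁ C hC huC
      have hWT : (W : Set X) ∩ (T : Set X) ⊆ img D := by
        rintro y ⟨hy1, hy2⟩
        change y ∈ D.U.hom '' D.V
        rw [himg]
        exact ⟨hy1, hOT ⟨hWO hy1, hy2⟩⟩
      obtain ⟨S, hS, h2, hm, hv⟩ := exists_sub (resHom g φ)
        (isConstOn_res g φ fun v hv => hφ _ (hgC v hv)) (T : Set X) hFT W hrange hWT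
      subst h2
      have := hS.epi_g
      refine hext S hS (hbase D hcomp _ hm) (ih ⟨(T : Set X) \ W, T.isClosed.sdiff W.isOpen⟩ ?_ _
        (hq S.g hF) hv)
      refine lt_of_le_of_ne (fun y hy => hy.1) fun h => ?_
      have h1 : ξ ∈ ((⟨(T : Set X) \ W, T.isClosed.sdiff W.isOpen⟩ : Closeds X) : Set X) := by
        rw [h]
        exact hξT
      exact h1.2 hξW
  exact key ⊤ F hF fun T s t ht => absurd trivial ht

end Groth.Agent.Sga4h.LamDev
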