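import Groth.Agent.Etcore.LSpread
import Groth.Agent.Sga4h.LVanExact
import Groth.Agent.Flat2D.NoethConstr
import Groth.Agent.EtpbcA.ConstrTop

/-!
# Constructible sheaves of `Λ`-modules on a locally Noetherian scheme form a Serre class

`Λ` Noetherian, `X` locally Noetherian.

Preliminaries: `exists_open_closure_subset`, `isLocallyConstructible_of_isClosed`, `GoodOn`, `GoodAt`,
`GoodOn.res`, `exists_point_over`.
-/

set_option autoImplicit false
universe u

open CategoryTheory CategoryTheory.Limits AlgebraicGeometry Opposite Topology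

namespace Groth.Agent.Sga4h.LamGood91

open Groth.Agent.Etcore.LVan Groth.Agent.Sga4h.LVanExact

section Topology

/-- A locally constructible set contains an open neighbourhood of `u` in `closure {u}`, for each of its
points `u`. -/
theorem exists_open_closure_subset {X : Type*} [TopologicalSpace X] {C : Set X}
    (hC : IsLocallyConstructible C) {u : X} (hu : u ∈ C) :
    ∃ O : Set X, IsOpen O ∧ u ∈ O ∧ ∀ c ∈ closure ({u} : Set X), c ∈ O → c ∈ C := by
  obtain ⟨W, hW, hWo, hWC⟩ := hC u
  have huW : u ∈ W := mem_of_mem_nhds hW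
  obtain ⟨T, hTf, hTo, hT⟩ := EtpbcA.ConstrTop.exists_finite_opens hWC
  let O' : Set W := ⋂₀ {V | V ∈ T ∧ (⟨u, huW⟩ : W) ∈ V}
  have hO' : IsOpen O' := Set.Finite.isOpen_sInter (hTf.subset fun V hV => hV.1)
    (fun V hV => (hTo V hV.1).1)
  refine ⟨Subtype.val '' O', hWo.isOpenMap_subtype_val _ hO', ⟨⟨u, huW⟩, fun V hV => hV.2, rfl⟩, ?_⟩
  rintro c hc ⟨⟨c', hc'W⟩, hc'O, rfl⟩
  refine (hT ⟨c', hc'W⟩ ⟨u, huW⟩ fun V hV => ⟨fun h => ?_, fun h => hc'O V ⟨hV, h⟩⟩).2 hu
  have hs : (⟨u, huW⟩ : W) ⤳ ⟨c', hc'W⟩ :=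
    (Topology.IsInducing.subtypeVal.specializes_iff).1 (specializes_iff_mem_closure.2 hc)
  exact hs.mem_open (hTo V hV).1 h

/-- Closed subsets of a locally Noetherian scheme are locally constructible. -/
theorem isLocallyConstructible_of_isClosed {X : Scheme.{u}} [IsLocallyNoetherian X] {Z : Set X}
    (hZ : IsClosed Z) : IsLocallyConstructible Z := by
  intro x
  obtain ⟨W, hW, hxW, -⟩ := exists_isAffineOpen_mem_and_subset (X := X) (x := x) (U := ⊤) trivial
  have h1 : IsNoetherianRing Γ(X, W) := IsLocallyNoetherian.component_noetherian ⟨W, hW⟩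
  have h2 : TopologicalSpace.NoetherianSpace (W : Set X) := noetherianSpace_of_isAffineOpen W hW
  exact ⟨W, W.isOpen.mem_nhds hxW, W.isOpen,
    Flat2D.NoethConstr.isConstructible_of_isClosed (hZ.preimage continuous_subtype_val)⟩

end Topology

variable {Λ : Type (u + 1)} [CommRing Λ] {X : Scheme.{u}}

/-- The pair `(M, φ)` is good along `closure {u}`. -/
def GoodOn (F : EtModW.Mod Λ X) {U : X.Etale} (u : U.left) {M : Type (u + 1)} [AddCommGroup M] [Module Λ M]
    (φ : M →ₗ[Λ] EtModW.sect Λ F U) : Prop :=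
  ∀ c ∈ closure ({u} : Set U.left), InjAt F φ c ∧ SurjAt F φ c

/-- Near `x`, a finitely generated module of sections is bijective on germs along `closure {u}`. -/
def GoodAt (F : EtModW.Mod Λ X) (x : X) : Prop :=
  ∃ (U : X.Etale) (u : U.left) (_ : U.hom u = x) (M : Type (u + 1)) (_ : AddCommGroup M)
      (_ : Module Λ M) (_ : Module.Finite Λ M) (φ : M →ₗ[Λ] EtModW.sect Λ F U), GoodOn F u φ

theorem mem_closure_of_map {U V : X.Etale} (g : V ⟶ U) {v c : V.left} (hc : c ∈ closure ({v} : Set V.left)) :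
    g.left c ∈ closure ({g.left v} : Set U.left) := by
  rw [← specializes_iff_mem_closure] at hc ⊢
  exact hc.map g.left.continuous

theorem GoodOn.res {F : EtModW.Mod Λ X} {U : X.Etale} {u : U.left} {M : Type (u + 1)} [AddCommGroup M]
    [Module Λ M] {φ : M →ₗ[Λ] EtModW.sect Λ F U} (h : GoodOn F u φ) {V : X.Etale} (g : V ⟶ U) {v : V.left}
    (hv : g.left v = u) : GoodOn F v (resHom g φ) := by
  subst hv
  intro c hc
  rw [injAt_res_iff, surjAt_res_iff]
  exact h _ (mem_closure_of_map g hc)

/-- étale neighbourhoods of a point of `closure {v}` contain a point over `v`. -/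
theorem exists_point_over {V T : X.Etale} (k : T ⟶ V) (t : T.left) {v : V.left}
    (h : k.left t ∈ closure ({v} : Set V.left)) : ∃ t₀ : T.left, k.left t₀ = v := by
  have ho : IsOpen (Set.range k.left) := by
    have : Etale k.left := inferInstance
    exact k.left.isOpenMap.isOpen_range
  have hs : v ⤳ k.left t := specializes_iff_mem_closure.2 h
  exact hs.mem_open ho ⟨t, rfl⟩

theorem hom_left_apply {U V : X.Etale} (g : V ⟶ U) (v : V.left) : U.hom (g.left v) = V.hom v :=
  Groth.Agent.Etcore.Cover.hom_apply g v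

end Groth.Agent.Sga4h.LamGood91
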