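import Groth.Agent.Sga4h.LamGood91

/-!
# Constructible sheaves of `Λ`-modules on a locally Noetherian scheme: subobjects and quotients

`Λ` Noetherian, `X` locally Noetherian.

* `isConstructible_iff_goodAt`: pointwise criterion.
* `goodAt_of_mono`, `goodAt_of_epi`, `goodAt_of_iso`.
* `isConstructible_of_mono`, `isConstructible_of_epi`, `isConstructible_zero`.
-/

set_option autoImplicit false
universe u

open CategoryTheory CategoryTheory.Limits AlgebraicGeometry Opposite Topology

namespace Groth.Agent.Sga4h.LamSerre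

open Groth.Agent.Etcore.LVan Groth.Agent.Sga4h.LVanExact Groth.Agent.Sga4h.LamGood91
open Groth.Agent.EtpbcA.ConsVan (exists_common_finite)

variable {Λ : Type (u + 1)} [CommRing Λ] {X : Scheme.{u}} {F G : EtModW.Mod Λ X}

/-- The pointwise criterion on a locally Noetherian scheme. -/
theorem isConstructible_iff_goodAt [IsNoetherianRing Λ] [IsLocallyNoetherian X]
    (F : EtModW.Mod Λ X) : EtModW.IsConstructible Λ F ↔ ∀ x : X, GoodAt F x := by
  rw [Groth.Agent.Etcore.LSpread.isConstructible_iff_good]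
  refine forall_congr' fun x => ⟨?_, ?_⟩
  · rintro ⟨U, u, hu, M, i1, i2, i3, φ, C, hC, huC, h⟩
    obtain ⟨O, hO, huO, hOC⟩ := exists_open_closure_subset hC huC
    let O' : U.left.Opens := ⟨O, hO⟩
    let U' : X.Etale := Scheme.Etale.mk (O'.ι ≫ U.hom)
    let g : U' ⟶ U := MorphismProperty.Over.homMk O'.ι rfl trivial
    let u' : U'.left := (⟨u, huO⟩ : O')
    have hg : g.left u' = u := rfl
    refine ⟨U', u', ?_, M, i1, i2, i3, resHom g φ, fun c hc => ?_⟩
    · rw [← hom_left_apply g u', hg, hu]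
    · rw [injAt_res_iff, surjAt_res_iff]
      refine h _ (hOC _ ?_ ?_)
      · have := mem_closure_of_map g hc
        rwa [hg] at this
      · exact (show (O' : Set U.left) (g.left c) from c.2)
  · rintro ⟨U, u, hu, M, i1, i2, i3, φ, h⟩
    have : IsLocallyNoetherian U.left := by
      have : LocallyOfFiniteType U.hom := inferInstance
      have : IsLocallyNoetherian ((Functor.fromPUnit X).obj U.right) := inferInstanceAs (IsLocallyNoetherian X)
      exact LocallyOfFiniteType.isLocallyNoetherian U.hom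
    exact ⟨U, u, hu, M, i1, i2, i3, φ, closure {u}, isLocallyConstructible_of_isClosed isClosed_closure,
      subset_closure rfl, h⟩

section Mono

variable (i : F ⟶ G) {U : X.Etale} (u : U.left) {M : Type (u + 1)} [AddCommGroup M] [Module Λ M]
  (φ : M →ₗ[Λ] EtModW.sect Λ G U)

/-- The elements of `M` whose section of `G` comes from `F` near `u`. -/
def lifts : Submodule Λ M where
  carrier := {m | ∃ (V : X.Etale) (g : V ⟶ U) (v : V.left) (s : EtModW.sect Λ F V), g.left v = u ∧
    ev i V s = res G g (φ m)}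
  zero_mem' := ⟨U, 𝟙 U, u, 0, rfl, by rw [map_zero, map_zero, map_zero]⟩
  add_mem' := by
    rintro a b ⟨V, g, v, s, hv, hs⟩ ⟨V', g', v', s', hv', hs'⟩
    obtain ⟨P, p, q, x, hpq, hp, hq⟩ := exists_common g g' v v' (hv.trans hv'.symm)
    refine ⟨P, p ≫ g, x, res F p s + res F q s', ?_, ?_⟩
    · rw [← hv, ← hp]; rfl
    · rw [map_add, ← res_ev, ← res_ev, hs, hs', ← res_comp, ← res_comp, ← hpq, ← map_add, ← map_add]
  smul_mem' := by
    rintro a m ⟨V, g, v, s, hv, hs⟩
    exact ⟨V, g, v, a • s, hv, by rw [map_smul, hs, map_smul, map_smul]⟩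

theorem goodAt_of_mono [IsNoetherianRing Λ] [Mono i] {x : X} (h : GoodAt G x) : GoodAt F x := by
  obtain ⟨U, u, hu, M, i1, i2, i3, φ, hφ⟩ := h
  have hfg : (lifts i u φ).FG := IsNoetherian.noetherian _
  obtain ⟨S, hS⟩ := hfg
  obtain ⟨U', g, u', hu', hg⟩ := exists_common_finite (ι := S) u
    (fun m V g => ∃ s : EtModW.sect Λ F V, ev i V s = res G g (φ m))
    (fun m V W g k ⟨s, hs⟩ => ⟨res F k s, by rw [← res_ev, hs, res_comp]⟩)
    (fun m => by
      have hm : (m : M) ∈ lifts i u φ := hS ▸ Submodule.subset_span m.2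
      obtain ⟨V, g, v, s, hv, hs⟩ := hm
      exact ⟨V, g, v, hv, s, hs⟩)
  have hle : ∀ m ∈ lifts i u φ, ∃ s : EtModW.sect Λ F U', ev i U' s = res G g (φ m) := by
    have : lifts i u φ ≤ (LinearMap.range (ev i U')).comap (resHom g φ) := by
      rw [← hS, Submodule.span_le]
      intro m hm
      exact hg ⟨m, hm⟩
    exact this
  let e := LinearEquiv.ofInjective (ev i U') (injective_ev i U')
  let φ₀ : lifts i u φ →ₗ[Λ] LinearMap.range (ev i U') :=
    LinearMap.codRestrict _ ((resHom g φ).comp (lifts i u φ).subtype) fun m => hle m.1 m.2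
  let φ₁ : lifts i u φ →ₗ[Λ] EtModW.sect Λ F U' := e.symm.toLinearMap.comp φ₀
  have hφ₁ : ∀ m, ev i U' (φ₁ m) = res G g (φ m) := fun m =>
    congrArg Subtype.val (e.apply_symm_apply (φ₀ m))
  refine ⟨U', u', ?_, lifts i u φ, inferInstance, inferInstance, inferInstance, φ₁, fun c hc => ?_⟩
  · rw [← hom_left_apply g, hu', hu]
  have hgc : g.left c ∈ closure ({u} : Set U.left) := by
    have := mem_closure_of_map g hc
    rwa [hu'] at this
  obtain ⟨hi, hs⟩ := hφ _ hgc
  constructor
  · intro m hm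
    apply Subtype.ext
    apply hi
    have h1 : Van G (ev i U' (φ₁ m)) c := hm.map i
    rw [hφ₁] at h1
    exact (van_res_iff g c).1 h1
  · intro V k v hv t
    obtain ⟨m, W, a, w, hw, hm⟩ := hs V (k ≫ g) v (by rw [← hv]; rfl) (ev i V t)
    rw [map_sub, sub_eq_zero, res_ev, ← res_comp] at hm
    obtain ⟨w₀, hw₀⟩ := exists_point_over (a ≫ k ≫ g) w (v := u) (by
      have : (a ≫ k ≫ g).left w = g.left c := by rw [← hv, ← hw]; rfl
      rwa [this])
    have hmem : m ∈ lifts i u φ := ⟨W, a ≫ k ≫ g, w₀, res F a t, hw₀, hm⟩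
    refine ⟨⟨m, hmem⟩, van_of_mono i ?_⟩
    refine ⟨W, a, w, hw, ?_⟩
    have h2 : ev i V (t - res F k (φ₁ ⟨m, hmem⟩)) = ev i V t - res G k (res G g (φ m)) := by
      rw [map_sub, ← res_ev i k, hφ₁]
    rw [h2, map_sub, res_ev, hm, ← res_comp, ← res_comp, Category.assoc, sub_self]

end Mono

section Epi

variable (p : F ⟶ G) {U : X.Etale} (u : U.left) {M : Type (u + 1)} [AddCommGroup M] [Module Λ M]
  (φ : M →ₗ[Λ] EtModW.sect Λ G U)

/-- The elements of `M` whose section of `G` vanishes near `u`. -/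
def vanish : Submodule Λ M where
  carrier := {m | Van G (φ m) u}
  zero_mem' := van_zero_of_eq (map_zero _) _
  add_mem' := fun {a b} ha hb => by
    change Van G (φ (a + b)) u
    rw [map_add]
    exact Van.add ha hb
  smul_mem' := fun a m hm => by
    change Van G (φ (a • m)) u
    rw [map_smul]
    exact Van.smul a hm

theorem goodAt_of_epi [IsNoetherianRing Λ] [Epi p] {x : X} (h : GoodAt F x) : GoodAt G x := by
  obtain ⟨U, u, hu, M, i1, i2, i3, φ, hφ⟩ := h
  let ψ : M →ₗ[Λ] EtModW.sect Λ G U := (ev p U).comp φ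
  obtain ⟨S, hS⟩ : (vanish u ψ).FG := IsNoetherian.noetherian _
  obtain ⟨U', g, u', hu', hg⟩ := exists_common_finite (ι := S) u
    (fun m V g => res G g (ψ m) = 0)
    (fun m V W g k hs => by rw [res_comp, hs, map_zero])
    (fun m => by
      have hm : (m : M) ∈ vanish u ψ := hS ▸ Submodule.subset_span m.2
      obtain ⟨V, g, v, hv, hs⟩ := hm
      exact ⟨V, g, v, hv, hs⟩)
  have hle : vanish u ψ ≤ LinearMap.ker (resHom g ψ) := by
    rw [← hS, Submodule.span_le]
    intro m hm
    exact hg ⟨m, hm⟩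
  let φ₁ : (M ⧸ vanish u ψ) →ₗ[Λ] EtModW.sect Λ G U' := (vanish u ψ).liftQ (resHom g ψ) hle
  have hφ₁ : ∀ m, φ₁ (Submodule.Quotient.mk m) = res G g (ψ m) := fun m => rfl
  refine ⟨U', u', ?_, M ⧸ vanish u ψ, inferInstance, inferInstance, inferInstance, φ₁, fun c hc => ?_⟩
  · rw [← hom_left_apply g, hu', hu]
  have hgc : g.left c ∈ closure ({u} : Set U.left) := by
    have := mem_closure_of_map g hc
    rwa [hu'] at this
  obtain ⟨hi, hs⟩ := hφ _ hgc
  constructor
  · intro m hm
    induction m using Submodule.Quotient.induction_on with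
    | H m =>
    rw [hφ₁, van_res_iff] at hm
    obtain ⟨V, k, v, hv, hk⟩ := hm
    obtain ⟨v₀, hv₀⟩ := exists_point_over k v (v := u) (by rwa [hv])
    rw [Submodule.Quotient.mk_eq_zero]
    exact ⟨V, k, v₀, hv₀, hk⟩
  · intro V k v hv t
    obtain ⟨W, a, w, t', hw, ht'⟩ := exists_local_lift p t v
    obtain ⟨m, hm⟩ := hs W (a ≫ k ≫ g) w (by rw [← hv, ← hw]; rfl) t'
    refine ⟨Submodule.Quotient.mk m, ?_⟩
    have h1 := hm.map p
    rw [map_sub, ht', ← res_ev] at h1
    rw [← hw, ← van_res_iff a w, map_sub, hφ₁, ← res_comp, ← res_comp]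
    exact h1

end Epi

theorem goodAt_of_iso (e : F ≅ G) {x : X} (h : GoodAt F x) : GoodAt G x := by
  obtain ⟨U, u, hu, M, i1, i2, i3, φ, hφ⟩ := h
  refine ⟨U, u, hu, M, i1, i2, i3, (ev e.hom U).comp φ, fun c hc => ?_⟩
  obtain ⟨hi, hs⟩ := hφ c hc
  constructor
  · intro m hm
    exact hi m (van_of_mono e.hom hm)
  · intro V k v hv t
    obtain ⟨m, hm⟩ := hs V k v hv (ev e.inv V t)
    refine ⟨m, van_of_mono e.inv ?_⟩
    rw [map_sub, ← res_ev]
    have : ev e.inv U (((ev e.hom U).comp φ) m) = φ m := by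
      change ev e.inv U (ev e.hom U (φ m)) = φ m
      rw [← ev_comp, e.hom_inv_id, ev_id]
    rw [this]
    exact hm

/-- The zero sheaf is good everywhere. -/
theorem goodAt_of_isZero (hF : IsZero F) (x : X) (U : X.Etale) (u : U.left) (hu : U.hom u = x) :
    GoodAt F x := by
  have h0 : ∀ (T : X.Etale) (s : EtModW.sect Λ F T), s = 0 := fun T s => by
    have h1 : ev (𝟙 F) T s = ev (0 : F ⟶ F) T s := by rw [hF.eq_of_src (𝟙 F) 0]
    rwa [ev_id, ev_zero] at h1
  refine ⟨U, u, hu, PUnit, inferInstance, inferInstance, inferInstance, 0, fun c hc => ⟨?_, ?_⟩⟩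
  · intro m _
    exact Subsingleton.elim _ _
  · intro V k v hv t
    exact ⟨0, van_zero_of_eq (h0 _ _) _⟩

variable [IsNoetherianRing Λ] [IsLocallyNoetherian X]

/-- Subobjects of constructible sheaves are constructible. -/
theorem isConstructible_of_mono (i : F ⟶ G) [Mono i] (hG : EtModW.IsConstructible Λ G) :
    EtModW.IsConstructible Λ F := by
  rw [isConstructible_iff_goodAt] at hG ⊢
  exact fun x => goodAt_of_mono i (hG x)

/-- Quotients of constructible sheaves are constructible. -/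
theorem isConstructible_of_epi (p : F ⟶ G) [Epi p] (hF : EtModW.IsConstructible Λ F) :
    EtModW.IsConstructible Λ G := by
  rw [isConstructible_iff_goodAt] at hF ⊢
  exact fun x => goodAt_of_epi p (hF x)

theorem isConstructible_of_isZero (hF : IsZero F) : EtModW.IsConstructible Λ F := by
  rw [isConstructible_iff_goodAt]
  intro x
  exact goodAt_of_isZero hF x (Scheme.Etale.mk (𝟙 X)) x rfl

end Groth.Agent.Sga4h.LamSerre
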