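import Groth.Agent.Sga4h.LVanExact
import Mathlib.RingTheory.Noetherian.Basic

/-!
# Quotients of constructible sheaves of `Λ`-modules: the local step

`exists_good_of_epi`: let `p : F ⟶ G` be an epimorphism and `φ : M → F(U)`, `M` a Noetherian module, be
bijective on germs at all specializations of `u`.  Then on an étale neighbourhood `(V, v)` of `(U, u)` a quotient
`M'` of `M` maps to `G(V)`, bijectively on germs at all specializations of `v`.
-/

set_option autoImplicit false
universe u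

open CategoryTheory CategoryTheory.Limits AlgebraicGeometry Opposite Topology

namespace Groth.Agent.Sga4h.LamSerreEpi

open Groth.Agent.Etcore.LVan Groth.Agent.Sga4h.LVanExact

variable {Λ : Type (u + 1)} [CommRing Λ] {X : Scheme.{u}}

/-- étale neighbourhoods of a specialization `c` of `v` contain a point over `v`. -/
theorem exists_point_over {V T : X.Etale} (k : T ⟶ V) (t : T.left) {v : V.left} (h : v ⤳ k.left t) :
    ∃ t₀ : T.left, k.left t₀ = v := by
  have : Etale k.left := inferInstance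
  exact h.mem_open k.left.isOpenMap.isOpen_range ⟨t, rfl⟩

/-- A section vanishing at a specialization of `v` vanishes at `v`. -/
theorem van_of_specializes {F : EtModW.Mod Λ X} {V : X.Etale} {s : EtModW.sect Λ F V} {v c : V.left}
    (h : v ⤳ c) (hs : Van F s c) : Van F s v :=
  h.mem_open (isOpen_van s) hs

/-- The sections in `M` whose image vanishes at `u`. -/
def vanSub (G : EtModW.Mod Λ X) {U : X.Etale} (u : U.left) {M : Type*} [AddCommGroup M] [Module Λ M]
    (ψ : M →ₗ[Λ] EtModW.sect Λ G U) : Submodule Λ M where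
  carrier := {m | Van G (ψ m) u}
  add_mem' {a b} ha hb := by
    change Van G (ψ (a + b)) u
    rw [map_add]
    exact Van.add ha hb
  zero_mem' := by
    change Van G (ψ 0) u
    rw [map_zero]
    exact Van.zero u
  smul_mem' r m hm := by
    change Van G (ψ (r • m)) u
    rw [map_smul]
    exact Van.smul r hm

theorem mem_vanSub {G : EtModW.Mod Λ X} {U : X.Etale} {u : U.left} {M : Type*} [AddCommGroup M] [Module Λ M]
    {ψ : M →ₗ[Λ] EtModW.sect Λ G U} {m : M} : m ∈ vanSub G u ψ ↔ Van G (ψ m) u := Iff.rfl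

/-- A finitely generated submodule of `vanSub` vanishes on a common étale neighbourhood. -/
theorem exists_res_eq_zero {G : EtModW.Mod Λ X} {U : X.Etale} {u : U.left} {M : Type*} [AddCommGroup M]
    [Module Λ M] {ψ : M →ₗ[Λ] EtModW.sect Λ G U} {N : Submodule Λ M} (hN : N.FG) (h : N ≤ vanSub G u ψ) :
    ∃ (V : X.Etale) (g : V ⟶ U) (v : V.left), g.left v = u ∧ ∀ m ∈ N, res G g (ψ m) = 0 := by
  obtain ⟨S, hS⟩ := hN
  obtain ⟨V, g, v, hv, hg⟩ := EtpbcA.ConsVan.exists_common_finite (ι := S) u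
    (fun m V g => res G g (ψ m) = 0)
    (fun m V W g k h => by rw [res_comp, h, map_zero])
    (fun m => by
      have hm : (m : M) ∈ N := hS ▸ Submodule.subset_span m.2
      obtain ⟨V, g, v, hv, hg⟩ := mem_vanSub.1 (h hm)
      exact ⟨V, g, v, hv, hg⟩)
  refine ⟨V, g, v, hv, fun m hm => ?_⟩
  have h1 : N ≤ LinearMap.ker ((res G g).comp ψ) := by
    rw [← hS, Submodule.span_le]
    intro x hx
    exact hg ⟨x, hx⟩
  exact h1 hm

theorem exists_good_of_epi {F G : EtModW.Mod Λ X} (p : F ⟶ G) [Epi p] {U : X.Etale} {u : U.left}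
    {M : Type (u + 1)} [AddCommGroup M] [Module Λ M] [IsNoetherian Λ M]
    (φ : M →ₗ[Λ] EtModW.sect Λ F U) (h : ∀ c, u ⤳ c → InjAt F φ c ∧ SurjAt F φ c) :
    ∃ (V : X.Etale) (g : V ⟶ U) (v : V.left), g.left v = u ∧
      ∃ (M' : Type (u + 1)) (_ : AddCommGroup M') (_ : Module Λ M') (_ : IsNoetherian Λ M')
        (ψ : M' →ₗ[Λ] EtModW.sect Λ G V), ∀ c, v ⤳ c → InjAt G ψ c ∧ SurjAt G ψ c := by
  let N := vanSub G u ((ev p U).comp φ)
  obtain ⟨V, g, v, hv, hN⟩ := exists_res_eq_zero (N := N) (IsNoetherian.noetherian N) le_rfl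
  let ψ₀ : M →ₗ[Λ] EtModW.sect Λ G V := (res G g).comp ((ev p U).comp φ)
  let ψ : (M ⧸ N) →ₗ[Λ] EtModW.sect Λ G V := N.liftQ ψ₀ (fun m hm => hN m hm)
  have hψ : ∀ m : M, ψ (N.mkQ m) = res G g (ev p U (φ m)) := fun m => rfl
  refine ⟨V, g, v, hv, M ⧸ N, inferInstance, inferInstance, inferInstance, ψ, fun c hc => ⟨?_, ?_⟩⟩
  · intro m' hm'
    obtain ⟨m, rfl⟩ := N.mkQ_surjective m'
    rw [hψ] at hm'
    have h1 := van_of_specializes hc hm'
    rw [van_res_iff, hv] at h1
    exact (Submodule.Quotient.mk_eq_zero N).2 h1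
  · intro T k t ht s
    obtain ⟨W, a, w, s', hw, hs'⟩ := exists_local_lift p s t
    have hc' : u ⤳ (a ≫ k ≫ g).left w := by
      have h2 : (a ≫ k ≫ g).left w = g.left c := by
        rw [← ht, ← hw]
        rfl
      rw [h2, ← hv]
      exact hc.map g.left.continuous
    obtain ⟨m, hm⟩ := (h _ hc').2 W (a ≫ k ≫ g) w rfl s'
    refine ⟨N.mkQ m, ?_⟩
    have h3 := hm.map p
    rw [hψ, ← hw, ← van_res_iff, map_sub, ← hs']
    rw [map_sub, ← res_ev, res_comp, res_comp] at h3
    exact h3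

end Groth.Agent.Sga4h.LamSerreEpi
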