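import Groth.Agent.Sga4h.ModDLTensor
import Groth.Agent.Sga4h.ModDUnit
import Mathlib.Algebra.Homology.HomotopyCategory.KProjective

/-!
# `Λ ⊗^L E ≅ E` in `D(X_et, Λ)`
-/

universe u

open CategoryTheory CategoryTheory.Limits AlgebraicGeometry Opposite HomologicalComplex
  MonoidalCategory

namespace Groth.Agent.Sga4h.ModDLUnit

open ModDTensor EtPts PModRes KProjFun ModDGood ModDLTensor ModDUnit

attribute [local instance] HasDerivedCategory.standard

section abs

universe v v' v₃ u' u'' u₃

variable {A : Type u'} [Category.{v} A] [Abelian A] {B : Type u''} [Category.{v'} B] [Abelian B]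

/-- `M[0]` is K-projective for `M` projective. -/
lemma isKProjective_single (M : A) [Projective M] :
    CochainComplex.IsKProjective ((single A (ComplexShape.up ℤ) 0).obj M) := by
  have h : ∀ i, Projective (((single A (ComplexShape.up ℤ) 0).obj M).X i) := by
    intro i
    by_cases hi : i = 0
    · subst hi
      exact Projective.of_iso (singleObjXSelf (ComplexShape.up ℤ) 0 M).symm inferInstance
    · exact (isZero_single_obj_X (ComplexShape.up ℤ) 0 M i hi).projective
  have : CochainComplex.IsStrictlyLE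
      ((single A (ComplexShape.up ℤ) 0).obj M : CochainComplex A ℤ) 0 := by
    rw [CochainComplex.isStrictlyLE_iff]
    intro i hi
    exact isZero_single_obj_X (ComplexShape.up ℤ) 0 M i (by lia)
  exact CochainComplex.isKProjective_of_projective _ 0

variable (T : A ⥤ B ⥤ B) [T.Additive] [∀ X, (T.obj X).Additive]
  [∀ (K₁ : CochainComplex A ℤ) (K₂ : CochainComplex B ℤ), CochainComplex.HasMapBifunctor K₁ K₂ T]

/-- `M[0] ⊗ E ≅ E` if `M ⊗ - ≅ id`. -/
noncomputable def unitCxIso {M : A} (e : T.obj M ≅ 𝟭 B) (E : CochainComplex B ℤ) :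
    (T.map₂CochainComplex.obj ((single A (ComplexShape.up ℤ) 0).obj M)).obj E ≅ E :=
  (Dcoh.TensSingle.singleLeftIsoApp T M E).symm ≪≫
    (NatIso.mapHomologicalComplex e (ComplexShape.up ℤ)).app E ≪≫
      (Functor.mapHomologicalComplexIdIso _ _).app E

end abs

variable {Λ : Type (u + 1)} [CommRing Λ] {X : Scheme.{u}}

/-- The stalk of the constant sheaf `Λ`. -/
noncomputable def stkUnitIso (x : X) :
    (stk Λ x).obj (EtModW.constMod Λ X Λ) ≅ ModuleCat.of Λ Λ :=
  ((gpt x).presheafToSheafCompSheafFiberIso (ModuleCat.{u + 1} Λ)).app (𝟙_ (PMod Λ X)) ≪≫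
    (Functor.Monoidal.εIso (pstk Λ x)).symm

lemma good_single_unit :
    good ((single (EtModW.Mod Λ X) (ComplexShape.up ℤ) 0).obj (EtModW.constMod Λ X Λ)) := by
  intro x
  have h1 : Projective ((stk Λ x).obj (EtModW.constMod Λ X Λ)) :=
    Projective.of_iso (stkUnitIso x).symm
      ((IsProjective.iff_projective Λ).1 inferInstance)
  have h2 := isKProjective_single ((stk Λ x).obj (EtModW.constMod Λ X Λ))
  exact @CochainComplex.isKProjective_of_iso _ _ _ _ _
    ((singleMapHomologicalComplex (stk Λ x) (ComplexShape.up ℤ) 0).app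
      (EtModW.constMod Λ X Λ)).symm h2

/-- `Λ ⊗^L E ≅ E`. -/
theorem nonempty_lTensorUnitIso (E : CochainComplex (EtModW.Mod Λ X) ℤ)
    [EtModD.HasLTensorCx E] :
    Nonempty ((EtModD.LTensorCx E).obj (DerivedCategory.Q.obj
      ((single (EtModW.Mod Λ X) (ComplexShape.up ℤ) 0).obj (EtModW.constMod Λ X Λ))) ≅
        DerivedCategory.Q.obj E) :=
  ⟨lTensorIso E _ good_single_unit ≪≫ DerivedCategory.Q.mapIso
    (unitCxIso (EtModD.tensorBi Λ X) (unitIso Λ X) E)⟩

end Groth.Agent.Sga4h.ModDLUnit
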