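import Groth.Agent.Etrest.ModAb
import Groth.Agent.EtpbcB.BCIso
import Groth.Agent.Sga4h.EtPts

/-!
# Sheaves of modules on the spectrum of a separably closed field

For `k` separably closed the global sections functor `Γ : EtModW.Mod Λ (Spec k) ⥤ ModuleCat Λ` is an equivalence of
categories with inverse the constant sheaf functor.
-/

set_option autoImplicit false
universe u

open CategoryTheory CategoryTheory.Limits AlgebraicGeometry Opposite

namespace Groth.Agent.Sga4h.ModPoint

open Groth.Agent.EtpbcB.SepClosedPoint

variable (Λ : Type (u + 1)) [CommRing Λ] (k : Type u) [Field k] [IsSepClosed k]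

/-- On the spectrum of a separably closed field, every presheaf has its global sections equal to its stalk. -/
theorem bijective_toPresheafFiber (P : (Spec (CommRingCat.of k)).Etaleᵒᵖ ⥤ ModuleCat.{u + 1} Λ) :
    Function.Bijective ((Scheme.pointSmallEtale (pt k)).toPresheafFiber
        (EtCoh.top (Spec (CommRingCat.of k))) (elt k) P) := by
  constructor
  · intro z₁ z₂ h
    rw [GrothendieckTopology.Point.toPresheafFiber_eq_iff'] at h
    obtain ⟨Y, f, y, hy, hyz⟩ := h
    obtain ⟨s, hs⟩ := exists_section k Y y
    have hsf : s ≫ f = 𝟙 _ := hom_top_unique _ _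
    have := congrArg (P.map s.op) hyz
    simp only [← ConcreteCategory.comp_apply, ← P.map_comp, ← op_comp, hsf] at this
    simpa using this
  · intro p
    obtain ⟨X, x, z, rfl⟩ := GrothendieckTopology.Point.toPresheafFiber_jointly_surjective _ p
    obtain ⟨s, rfl⟩ := exists_section k X x
    refine ⟨P.map s.op z, ?_⟩
    exact GrothendieckTopology.Point.toPresheafFiber_w_apply _ s _ _ z

instance isIso_toPresheafFiber (P : (Spec (CommRingCat.of k)).Etaleᵒᵖ ⥤ ModuleCat.{u + 1} Λ) :
    IsIso ((Scheme.pointSmallEtale (pt k)).toPresheafFiber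
        (EtCoh.top (Spec (CommRingCat.of k))) (elt k) P) :=
  (ConcreteCategory.isIso_iff_bijective _).2 (bijective_toPresheafFiber Λ k P)

/-- Global sections as a functor. -/
noncomputable abbrev Γ (X : Scheme.{u}) : EtModW.Mod Λ X ⥤ ModuleCat.{u + 1} Λ :=
  (sheafSections X.smallEtaleTopology (ModuleCat.{u + 1} Λ)).obj (op (EtCoh.top X))

/-- `EtCoh.top X` is terminal. -/
noncomputable def topTerminal (X : Scheme.{u}) : IsTerminal (EtCoh.top X) :=
  IsTerminal.isTerminalOfObj (Scheme.Etale.forget _) (EtCoh.top X) Over.mkIdTerminal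

/-- The constant sheaf functor is left adjoint to global sections. -/
noncomputable def constAdj (X : Scheme.{u}) :
    constantSheaf X.smallEtaleTopology (ModuleCat.{u + 1} Λ) ⊣ Γ Λ X :=
  constantSheafAdj _ _ (topTerminal X)

/-- Sheafification does not change the global sections over the spectrum of a separably closed field. -/
instance isIso_toSheafify_app_top (P : (Spec (CommRingCat.of k)).Etaleᵒᵖ ⥤ ModuleCat.{u + 1} Λ) :
    IsIso ((toSheafify (Spec (CommRingCat.of k)).smallEtaleTopology P).app
      (op (EtCoh.top (Spec (CommRingCat.of k))))) := by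
  have h := (Scheme.pointSmallEtale (pt k)).toPresheafFiber_naturality
    (toSheafify (Spec (CommRingCat.of k)).smallEtaleTopology P) (EtCoh.top _) (elt k)
  have h1 : IsIso ((Scheme.pointSmallEtale (pt k)).presheafFiber.map
    (toSheafify (Spec (CommRingCat.of k)).smallEtaleTopology P)) := inferInstance
  have h2 : IsIso ((toSheafify (Spec (CommRingCat.of k)).smallEtaleTopology P).app
      (op (EtCoh.top (Spec (CommRingCat.of k)))) ≫ (Scheme.pointSmallEtale (pt k)).toPresheafFiber
        (EtCoh.top (Spec (CommRingCat.of k))) (elt k) _) := by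
    rw [← h]
    infer_instance
  exact IsIso.of_isIso_comp_right _ ((Scheme.pointSmallEtale (pt k)).toPresheafFiber
        (EtCoh.top (Spec (CommRingCat.of k))) (elt k) _)

lemma constAdj_unit_app (X : Scheme.{u}) (M : ModuleCat.{u + 1} Λ) :
    (constAdj Λ X).unit.app M =
      (toSheafify X.smallEtaleTopology ((Functor.const _).obj M)).app (op (EtCoh.top X)) := by
  simp [constAdj, constantSheafAdj, Adjunction.comp_unit_app, constantPresheafAdj]

instance isIso_unit (M : ModuleCat.{u + 1} Λ) :
    IsIso ((constAdj Λ (Spec (CommRingCat.of k))).unit.app M) := by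
  rw [constAdj_unit_app]
  exact isIso_toSheafify_app_top Λ k _

instance isIso_unit' : IsIso (constAdj Λ (Spec (CommRingCat.of k))).unit :=
  NatIso.isIso_of_isIso_app _

/-- Isomorphisms are detected on global sections. -/
theorem isIso_of_Γ {F G : EtModW.Mod Λ (Spec (CommRingCat.of k))} (φ : F ⟶ G) [IsIso ((Γ Λ _).map φ)] :
    IsIso φ := by
  have h : EtpbcB.BCIso.BijAt ((Etrest.ModAb.ab Λ _).map φ) (EtCoh.top _) :=
    ((ConcreteCategory.isIso_iff_bijective ((Γ Λ _).map φ)).1 inferInstance)
  have := EtpbcB.BCIso.isIso_of_bijAt_top _ h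
  exact isIso_of_reflects_iso φ (Etrest.ModAb.ab Λ _)

instance isIso_counit (F : EtModW.Mod Λ (Spec (CommRingCat.of k))) :
    IsIso ((constAdj Λ (Spec (CommRingCat.of k))).counit.app F) := by
  have h := (constAdj Λ (Spec (CommRingCat.of k))).right_triangle_components F
  have h1 : IsIso ((Γ Λ _).map ((constAdj Λ (Spec (CommRingCat.of k))).counit.app F)) := by
    have : IsIso ((constAdj Λ (Spec (CommRingCat.of k))).unit.app ((Γ Λ _).obj F) ≫
        (Γ Λ _).map ((constAdj Λ (Spec (CommRingCat.of k))).counit.app F)) := by
      rw [h]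
      infer_instance
    exact IsIso.of_isIso_comp_left ((constAdj Λ (Spec (CommRingCat.of k))).unit.app ((Γ Λ _).obj F)) _
  exact isIso_of_Γ Λ k _

instance isIso_counit' : IsIso (constAdj Λ (Spec (CommRingCat.of k))).counit :=
  NatIso.isIso_of_isIso_app _

/-- Sheaves of modules on the spectrum of a separably closed field are modules. -/
noncomputable def equiv : ModuleCat.{u + 1} Λ ≌ EtModW.Mod Λ (Spec (CommRingCat.of k)) :=
  (constAdj Λ (Spec (CommRingCat.of k))).toEquivalence

instance isEquivalence_Γ : (Γ Λ (Spec (CommRingCat.of k))).IsEquivalence :=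
  (equiv Λ k).isEquivalence_inverse

instance isEquivalence_const :
    (constantSheaf (Spec (CommRingCat.of k)).smallEtaleTopology (ModuleCat.{u + 1} Λ)).IsEquivalence :=
  (equiv Λ k).isEquivalence_functor

/-- Constant sheaves with injective value are injective. -/
theorem injective_const (M : ModuleCat.{u + 1} Λ) [Injective M] :
    Injective ((constantSheaf (Spec (CommRingCat.of k)).smallEtaleTopology (ModuleCat.{u + 1} Λ)).obj M) :=
  (equiv Λ k).symm.toAdjunction.map_injective _ inferInstance

/-- A self-injective ring. -/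
theorem injective_constMod [Injective (ModuleCat.of Λ Λ)] :
    Injective (EtModW.constMod Λ (Spec (CommRingCat.of k)) Λ) :=
  injective_const Λ k (ModuleCat.of Λ Λ)

end Groth.Agent.Sga4h.ModPoint
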