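import Groth.Agent.Sga4h.NcDefs
import Mathlib.RingTheory.DiscreteValuationRing.Basic
import Mathlib.RingTheory.LocalRing.ResidueField.Basic
import Mathlib.FieldTheory.Separable

/-!
# Definitions for the assembly of S3132 (team B)

* `Trait n R L`: `R` a strictly henselian discrete valuation ring with `n` invertible, `L` a
  root-closed separable algebraic extension of its fraction field.
* `Claim n R L f`: constructibility of the nearby cycles on the closed fibre of `f : X ⟶ Spec R`,
  for all constructible sheaves killed by `n` on `X ×_R Spec L`.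
-/

set_option autoImplicit false

universe u

open CategoryTheory CategoryTheory.Limits AlgebraicGeometry Opposite Polynomial

noncomputable section

namespace Groth.Agent.Sga4h.NcAsm

open Groth.Agent.Sga4h.NcDefs

/-- `R` strictly henselian discrete valuation ring, `n` invertible in `R`, `L / Frac R` separable
algebraic and root-closed. -/
structure Trait (n : ℕ) (R L : Type u) [CommRing R] [Field L] [Algebra R L] : Prop where
  isDomain : IsDomain R
  isDVR : IsDiscreteValuationRing R
  isSH : EtCoh.IsStrictlyHenselianLocalRing R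
  isUnit : IsUnit (n : R)
  sep : ∃ (K : Type u) (_ : Field K) (_ : Algebra R K) (_ : IsFractionRing R K) (_ : Algebra K L)
    (_ : IsScalarTower R K L), Algebra.IsSeparable K L
  root : RootClosed n R L

/-- Constructibility of nearby cycles for `f : X ⟶ Spec R` and all constructible sheaves killed by
`n` on `Y = X ×_R Spec L`. -/
def Claim (n : ℕ) (R L : Type u) [CommRing R] [IsLocalRing R] [Field L] [Algebra R L]
    {X : Scheme.{u}} (f : X ⟶ Spec (CommRingCat.of R)) : Prop :=
  ∀ (Y Xs : Scheme.{u}) (j : Y ⟶ X) (g : Y ⟶ Spec (CommRingCat.of L))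
    (i : Xs ⟶ X) (fs : Xs ⟶ Spec (CommRingCat.of (IsLocalRing.ResidueField R))),
    IsPullback j g f (Spec.map (CommRingCat.ofHom (algebraMap R L))) →
    IsPullback i fs f (Spec.map (CommRingCat.ofHom (IsLocalRing.residue R))) →
    ∀ (F : EtCoh.Ab Y), EtPBC.IsConstructible F → EtCoh.KilledBy n F → ∀ q : ℕ,
      EtPBC.IsConstructible ((EtCoh.pull i).obj ((EtCoh.Rpush j q).obj F))

/-- `Claim` for all affine schemes over traits whose ring is generated by `N` elements. -/
def ClaimN (n N : ℕ) : Prop :=
  ∀ (R L : Type u) [CommRing R] [IsLocalRing R] [Field L] [Algebra R L], Trait n R L →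
    ∀ (A : Type u) [CommRing A] [Algebra R A] (t : Fin N → A),
      Algebra.adjoin R (Set.range t) = ⊤ →
      Claim n R L (Spec.map (CommRingCat.ofHom (algebraMap R A)))

/-- (CH) The chart lemma. -/
def ChartStatement (n : ℕ) : Prop :=
  ∀ (R L : Type u) [CommRing R] [IsLocalRing R] [Field L] [Algebra R L], Trait n R L →
    ∀ (N : ℕ) (B : Type u) [CommRing B] [Algebra R B] (t : Fin (N + 1) → B),
      Algebra.adjoin R (Set.range t) = ⊤ → ∀ b : Fin (N + 1),
      ∃ (R' L' : Type u) (_ : CommRing R') (_ : IsLocalRing R') (_ : Field L') (_ : Algebra R' L')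
        (ρ : R →+* R') (_ : IsLocalHom ρ) (l : L →+* L')
        (B' : Type u) (_ : CommRing B') (_ : Algebra R' B') (t' : Fin N → B') (h : B →+* B'),
        Trait n R' L' ∧ Algebra.adjoin R' (Set.range t') = ⊤ ∧
        LimEt (Spec.map (CommRingCat.ofHom h)) ∧
        h.comp (algebraMap R B) = (algebraMap R' B').comp ρ ∧
        IsPullback (Spec.map (CommRingCat.ofHom l)) (Spec.map (CommRingCat.ofHom (algebraMap R' L')))
          (Spec.map (CommRingCat.ofHom (algebraMap R L))) (Spec.map (CommRingCat.ofHom ρ)) ∧
        ∀ z : Spec (CommRingCat.of B),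
          z.asIdeal.comap (aeval (R := R) (t b)) = (IsLocalRing.maximalIdeal R).map C →
          ∃ z' : Spec (CommRingCat.of B'), Spec.map (CommRingCat.ofHom h) z' = z ∧
            Spec.map (CommRingCat.ofHom (algebraMap R' B')) z' = IsLocalRing.closedPoint R'

/-- The standard chart situation on a proper scheme (output of `NcGeom.W6`). -/
def HasCharts (N : ℕ) (R : Type u) [CommRing R] {P : Scheme.{u}} (p : P ⟶ Spec (CommRingCat.of R)) :
    Prop :=
  ∃ (B : Fin (N + 1) → Type u) (_ : ∀ a, CommRing (B a)) (_ : ∀ a, Algebra R (B a))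
    (t : ∀ a, Fin N → B a) (_ : ∀ a, Algebra.adjoin R (Set.range (t a)) = ⊤)
    (u : ∀ a, Spec (CommRingCat.of (B a)) ⟶ P) (_ : ∀ a, IsOpenImmersion (u a))
    (_ : ∀ a, u a ≫ p = Spec.map (CommRingCat.ofHom (algebraMap R (B a)))),
    ∀ x : P, ∃ a, x ∈ Set.range (u a)

/-- (ST) The step: nearby cycles of a proper scheme with `N`-generated charts. -/
def StepStatement (n : ℕ) : Prop :=
  ∀ (N : ℕ), (∀ M : ℕ, M + 1 = N → ClaimN.{u} n M) →
    ∀ (R L : Type u) [CommRing R] [IsLocalRing R] [Field L] [Algebra R L], Trait n R L →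
    ∀ (P : Scheme.{u}) (p : P ⟶ Spec (CommRingCat.of R)) [IsProper p], HasCharts N R p →
      Claim n R L p

end Groth.Agent.Sga4h.NcAsm
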