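import Groth.Agent.Sga4h.NcPsi
import Groth.Agent.Sga4h.NcLimEt2

/-!
# Charts with fewer generators over the hull of the affine line
-/

set_option autoImplicit false

universe u

open CategoryTheory CategoryTheory.Limits AlgebraicGeometry

noncomputable section

namespace Groth.Agent.Sga4h.NcChart

open Groth.Agent.Sga4h.NcTD Groth.Agent.Sga4h.NcDefs Groth.Agent.Sga4h.NcPsi
open scoped TensorProduct Polynomial

section Algebra

variable (P S B : Type u) [CommRing P] [CommRing S] [CommRing B] [Algebra P S] [Algebra P B]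

attribute [local instance] Algebra.TensorProduct.rightAlgebra

theorem tmul_one_eq (p : P) :
    (algebraMap P B p) ⊗ₜ[P] (1 : S) = algebraMap S (B ⊗[P] S) (algebraMap P S p) := by
  rw [Algebra.algebraMap_eq_smul_one, TensorProduct.smul_tmul, ← Algebra.algebraMap_eq_smul_one]
  rfl

theorem adjoin_eq_top {R : Type u} [CommRing R] [Algebra R B] (c : R →+* P)
    (hc : (algebraMap P B).comp c = algebraMap R B) {N : ℕ} (t : Fin (N + 1) → B)
    (ht : Algebra.adjoin R (Set.range t) = ⊤) (b : Fin (N + 1)) (x : P)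
    (hx : algebraMap P B x = t b) :
    Algebra.adjoin S (Set.range fun i : Fin N => (t (b.succAbove i)) ⊗ₜ[P] (1 : S)) = ⊤ := by
  set A := Algebra.adjoin S (Set.range fun i : Fin N => (t (b.succAbove i)) ⊗ₜ[P] (1 : S)) with hA
  have key : ∀ b0 : B, b0 ⊗ₜ[P] (1 : S) ∈ A := by
    intro b0
    have hb0 : b0 ∈ Algebra.adjoin R (Set.range t) := ht ▸ Algebra.mem_top
    induction hb0 using Algebra.adjoin_induction with
    | mem y hy =>
      obtain ⟨j, rfl⟩ := hy
      by_cases hj : j = b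
      · subst hj
        rw [← hx, tmul_one_eq]
        exact A.algebraMap_mem _
      · obtain ⟨i, rfl⟩ := Fin.exists_succAbove_eq hj
        exact Algebra.subset_adjoin ⟨i, rfl⟩
    | algebraMap r =>
      rw [← hc, RingHom.comp_apply, tmul_one_eq]
      exact A.algebraMap_mem _
    | add y z _ _ h1 h2 =>
      rw [TensorProduct.add_tmul]
      exact A.add_mem h1 h2
    | mul y z _ _ h1 h2 =>
      have : (y * z) ⊗ₜ[P] (1 : S) = (y ⊗ₜ[P] (1 : S)) * (z ⊗ₜ[P] (1 : S)) := by
        rw [Algebra.TensorProduct.tmul_mul_tmul, one_mul]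
      rw [this]
      exact A.mul_mem h1 h2
  rw [eq_top_iff]
  rintro y -
  induction y using TensorProduct.induction_on with
  | zero => exact A.zero_mem
  | tmul b0 s0 =>
    have : b0 ⊗ₜ[P] s0 = algebraMap S (B ⊗[P] S) s0 * (b0 ⊗ₜ[P] (1 : S)) := by
      change _ = ((1 : B) ⊗ₜ[P] s0) * (b0 ⊗ₜ[P] (1 : S))
      rw [Algebra.TensorProduct.tmul_mul_tmul, one_mul, mul_one]
    rw [this]
    exact A.mul_mem (A.algebraMap_mem _) (key b0)
  | add y z h1 h2 => exact A.add_mem h1 h2

theorem exists_point (z : Spec (CommRingCat.of B)) (w : Spec (CommRingCat.of S))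
    (h : z.asIdeal.comap (algebraMap P B) = w.asIdeal.comap (algebraMap P S)) :
    ∃ z' : Spec (CommRingCat.of (B ⊗[P] S)),
      SM (Algebra.TensorProduct.includeLeftRingHom : B →+* B ⊗[P] S) z' = z ∧
      SM (algebraMap S (B ⊗[P] S)) z' = w := by
  have hpb : IsPullback (SM (Algebra.TensorProduct.includeLeftRingHom : B →+* B ⊗[P] S))
      (SM (algebraMap S (B ⊗[P] S))) (SM (algebraMap P B)) (SM (algebraMap P S)) :=
    isPullback_SpecMap_of_isPushout _ _ _ _ (CommRingCat.isPushout_tensorProduct P B S)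
  obtain ⟨y, h1, h2⟩ := Scheme.Pullback.exists_preimage_pullback z w
    (f := SM (algebraMap P B)) (g := SM (algebraMap P S)) (by
      apply PrimeSpectrum.ext
      exact h)
  refine ⟨hpb.isoPullback.inv y, ?_, ?_⟩
  · rw [← h1, ← Scheme.Hom.comp_apply, IsPullback.isoPullback_inv_fst]
  · rw [← h2, ← Scheme.Hom.comp_apply, IsPullback.isoPullback_inv_snd]

end Algebra

variable {n : ℕ}

/-- (CH) -/
theorem exists_chart (T : TD.{u} n) (H : Hull T) (N : ℕ) (B : Type u) [CommRing B] [Algebra T.R B]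
    (t : Fin (N + 1) → B) (ht : Algebra.adjoin T.R (Set.range t) = ⊤) (b : Fin (N + 1)) :
    ∃ (A' : Type u) (_ : CommRing A') (_ : Algebra H.T'.R A') (s : Fin N → A')
      (_ : Algebra.adjoin H.T'.R (Set.range s) = ⊤) (γ : B →+* A'),
      LimEt (SM γ) ∧ γ.comp (algebraMap T.R B) = (algebraMap H.T'.R A').comp (H.ρ.comp Polynomial.C) ∧
      ∀ z : Spec (CommRingCat.of B),
        z.asIdeal.comap (Polynomial.aeval (R := T.R) (t b)) = (IsLocalRing.maximalIdeal T.R).map Polynomial.C →
        ∃ z' : Spec (CommRingCat.of A'), SM γ z' = z ∧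
          z'.asIdeal.comap (algebraMap H.T'.R A') = IsLocalRing.maximalIdeal H.T'.R := by
  letI i1 : Algebra T.R[X] B := (Polynomial.aeval (R := T.R) (t b)).toRingHom.toAlgebra
  letI i2 : Algebra T.R[X] H.T'.R := H.ρ.toAlgebra
  have hie : EtPBC.IsIndEtale T.R[X] H.T'.R := H.h4
  letI i3 : Algebra H.T'.R (B ⊗[T.R[X]] H.T'.R) := Algebra.TensorProduct.rightAlgebra
  have hc : (algebraMap T.R[X] B).comp Polynomial.C = algebraMap T.R B := by
    ext r
    exact Polynomial.aeval_C (t b) r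
  have hx : algebraMap T.R[X] B Polynomial.X = t b := Polynomial.aeval_X (t b)
  refine ⟨B ⊗[T.R[X]] H.T'.R, inferInstance, i3, fun i => (t (b.succAbove i)) ⊗ₜ[T.R[X]] (1 : H.T'.R),
    adjoin_eq_top T.R[X] H.T'.R B Polynomial.C hc t ht b Polynomial.X hx,
    Algebra.TensorProduct.includeLeftRingHom, ?_, ?_, ?_⟩
  · exact NcLimEt2.LimEt_Spec B (B ⊗[T.R[X]] H.T'.R)
      (Groth.Agent.Proet.IndEtale.isIndEtale_baseChange T.R[X] H.T'.R B hie)
  · ext r
    have h1 : algebraMap T.R B r = algebraMap T.R[X] B (Polynomial.C r) := by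
      rw [← hc]; rfl
    change (algebraMap T.R B r) ⊗ₜ[T.R[X]] (1 : H.T'.R) = _
    rw [h1]
    exact tmul_one_eq T.R[X] H.T'.R B (Polynomial.C r)
  · intro z hz
    obtain ⟨z', h1, h2⟩ := exists_point T.R[X] H.T'.R B z (IsLocalRing.closedPoint H.T'.R)
      (hz.trans H.h5.symm)
    refine ⟨z', h1, ?_⟩
    exact congrArg PrimeSpectrum.asIdeal h2

end Groth.Agent.Sga4h.NcChart
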