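import Groth.Prelude.Def_SGA4h
import Groth.Prelude.Def_PBC
import Mathlib.AlgebraicGeometry.Morphisms.Etale
import Mathlib.AlgebraicGeometry.Morphisms.Affine

/-!
# Definitions for the constructibility of nearby cycles (S3132)
-/

set_option autoImplicit false

universe u

open CategoryTheory CategoryTheory.Limits AlgebraicGeometry

noncomputable section

namespace Groth.Agent.Sga4h.NcDefs

/-- Uniformizers of `R` have `ℓ ^ a`-th roots in `L` for all primes `ℓ ∣ n`. -/
def RootClosed (n : ℕ) (R L : Type u) [CommRing R] [CommRing L] [Algebra R L] : Prop :=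
  ∀ π : R, Irreducible π → ∀ l : ℕ, l.Prime → l ∣ n → ∀ a : ℕ, ∃ y : L, y ^ l ^ a = algebraMap R L π

/-- `g : S' ⟶ S` is a cofiltered limit of étale `S`-schemes with affine transition maps. -/
def LimEt {S' S : Scheme.{u}} (g : S' ⟶ S) : Prop :=
  ∃ (J : Type u) (_ : SmallCategory J) (_ : IsCofiltered J) (D : J ⥤ Over S)
    (π : (Functor.const J).obj S' ⟶ D ⋙ Over.forget S),
    Nonempty (IsLimit (⟨S', π⟩ : Cone (D ⋙ Over.forget S))) ∧
    (∀ i, Etale (D.obj i).hom) ∧
    (∀ ⦃a b : J⦄ (h : a ⟶ b), IsAffineHom (D.map h).left) ∧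
    ∀ i, π.app i ≫ (D.obj i).hom = g

end Groth.Agent.Sga4h.NcDefs
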