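import Groth.Agent.Sga4h.TameExt
import Groth.Agent.CalgC.IndEtale
import Groth.Agent.Hensel.HenselPerm
import Groth.Agent.UnramA.IndEtLift
import Mathlib.RingTheory.Polynomial.IsIntegral
import Mathlib.RingTheory.Polynomial.Basic
import Mathlib.RingTheory.DiscreteValuationRing.TFAE

/-!
# Strict localisation of the affine line over a trait at the generic point of the special fibre
-/

set_option autoImplicit false
set_option linter.unusedSectionVars false

universe u

noncomputable section

namespace Groth.Agent.Sga4h.NcHull

open IsLocalRing Polynomial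
open scoped TensorProduct

section O

variable (R : Type u) [CommRing R] [IsDomain R] [IsDiscreteValuationRing R]

/-- The generic point of the special fibre of the affine line. -/
def P : Ideal R[X] := (maximalIdeal R).map C

instance : (P R).IsPrime := Ideal.isPrime_map_C_of_isPrime

/-- The local ring of the affine line at the generic point of the special fibre. -/
abbrev O : Type u := Localization.AtPrime (P R)

variable {R}

theorem maximalIdeal_O {π : R} (hπ : Irreducible π) :
    maximalIdeal (O R) = Ideal.span {algebraMap R (O R) π} := by
  have hP : P R = Ideal.span {C π} := by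
    change (maximalIdeal R).map C = _
    rw [hπ.maximalIdeal_eq, Ideal.map_span, Set.image_singleton]
  rw [← Localization.AtPrime.map_eq_maximalIdeal]
  refine (congrArg (Ideal.map (algebraMap R[X] (O R))) hP).trans ?_
  rw [Ideal.map_span, Set.image_singleton]
  rfl

theorem algebraMap_O_injective : Function.Injective (algebraMap R (O R)) := by
  rw [IsScalarTower.algebraMap_eq R R[X] (O R)]
  exact (IsLocalization.injective (O R) (P R).primeCompl_le_nonZeroDivisors).comp C_injective

instance : IsDiscreteValuationRing (O R) := by
  obtain ⟨π, hπ⟩ := IsDiscreteValuationRing.exists_irreducible R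
  have hnf : ¬ IsField (O R) := by
    rw [isField_iff_maximalIdeal_eq, maximalIdeal_O hπ, Ideal.span_singleton_eq_bot]
    exact fun h => hπ.ne_zero (algebraMap_O_injective (by rw [h, map_zero]))
  have h1 : (maximalIdeal (O R)).IsPrincipal := ⟨_, maximalIdeal_O hπ⟩
  exact ((IsDiscreteValuationRing.TFAE (O R) hnf).out 0 4).mpr h1

end O

section hull

variable (R : Type u) [CommRing R] [IsDomain R] [IsDiscreteValuationRing R]
  (R' : Type u) [CommRing R'] [IsLocalRing R'] [Algebra (O R) R'] [IsLocalHom (algebraMap (O R) R')]
  [Hensel.IsStrictHenselization (O R) R']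

include R in
theorem isDomain : IsDomain R' :=
  (Groth.Agent.Hensel.HenselPerm.lazardEtale_of_isStrictHenselization (O R) R').isDomain

variable [Algebra R R'] [IsScalarTower R (O R) R']

theorem maximalIdeal_hull {π : R} (hπ : Irreducible π) :
    maximalIdeal R' = Ideal.span {algebraMap R R' π} := by
  rw [← Groth.Agent.UnramA.IndEtLift.map_maximalIdeal
    (Groth.Agent.UnramA.IndEtLift.isIndEt_of_isStrictHenselization (O R) R'), maximalIdeal_O hπ,
    Ideal.map_span, Set.image_singleton, ← IsScalarTower.algebraMap_apply]

theorem algebraMap_hull_injective : Function.Injective (algebraMap R R') := by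
  rw [IsScalarTower.algebraMap_eq R (O R) R']
  have := Groth.Agent.Hensel.HenselPerm.faithfullyFlat_of_lazardEtale (O R) R'
    (Groth.Agent.Hensel.HenselPerm.lazardEtale_of_isStrictHenselization (O R) R')
  exact (FaithfulSMul.algebraMap_injective (O R) R').comp algebraMap_O_injective

theorem isDiscreteValuationRing :
    letI := isDomain R R'
    IsDiscreteValuationRing R' := by
  have := isDomain R R'
  have := Groth.Agent.UnramA.IndEtLift.isNoetherianRing
    (Groth.Agent.UnramA.IndEtLift.isIndEt_of_isStrictHenselization (O R) R')
  obtain ⟨π, hπ⟩ := IsDiscreteValuationRing.exists_irreducible R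
  have hnf : ¬ IsField R' := by
    rw [isField_iff_maximalIdeal_eq, maximalIdeal_hull R R' hπ, Ideal.span_singleton_eq_bot]
    exact fun h => hπ.ne_zero (algebraMap_hull_injective R R' (by rw [h, map_zero]))
  have h1 : (maximalIdeal R').IsPrincipal := ⟨_, maximalIdeal_hull R R' hπ⟩
  exact ((IsDiscreteValuationRing.TFAE R' hnf).out 0 4).mpr h1

include R in
theorem isStrictlyHenselianLocalRing : EtCoh.IsStrictlyHenselianLocalRing R' := by
  have h : Hensel.IsStrictHenselization (O R) R' := inferInstance
  have h1 := h.isSepClosure
  exact ⟨h.henselian, h1.sep_closed⟩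

/-- `R'` is ind-etale over `R[X]`. -/
theorem isIndEtale [Algebra R[X] R'] [IsScalarTower R[X] (O R) R'] :
    Groth.Agent.CalgC.IndEtale.IsIndEtale R[X] R' :=
  Groth.Agent.CalgC.IndEtale.IsInd.comp Groth.Agent.CalgC.IndEtale.isGood_etale
    (Groth.Agent.CalgC.IndEtale.isIndEtale_of_isLocalization (P R).primeCompl (O R))
    (Groth.Agent.Hensel.HenselPerm.lazardEtale_of_isStrictHenselization (O R) R')

end hull

end Groth.Agent.Sga4h.NcHull
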