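import Mathlib.RingTheory.LocalRing.ResidueField.Ideal
import Mathlib.RingTheory.TensorProduct.Basic
import Mathlib.RingTheory.Ideal.GoingUp
import Mathlib.RingTheory.Henselian
import Mathlib.Algebra.CharP.Quotient
import Mathlib.Algebra.CharP.Algebra
import Mathlib.RingTheory.Jacobson.Ideal

/-!
# Local tensor products
-/

set_option autoImplicit false

universe u

noncomputable section

namespace Groth.Agent.Sga4h.NcLocalTensor

open IsLocalRing
open scoped TensorProduct

variable (R S R' : Type*) [CommRing R] [IsLocalRing R] [CommRing S] [Algebra R S]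
  [CommRing R'] [IsLocalRing R'] [Algebra R R'] [IsLocalHom (algebraMap R R')]
  (p : ℕ) [ExpChar (ResidueField R) p]

/-- The ideal of `S ⊗[R] R'` generated by the maximal ideal of `R'`. -/
def mB : Ideal (S ⊗[R] R') :=
  (maximalIdeal R').map (Algebra.TensorProduct.includeRight : R' →ₐ[R] S ⊗[R] R')

theorem mem_mB {r : R} (hr : r ∈ maximalIdeal R) : algebraMap R (S ⊗[R] R') r ∈ mB R S R' := by
  have h : algebraMap R (S ⊗[R] R') r =
      (Algebra.TensorProduct.includeRight : R' →ₐ[R] S ⊗[R] R') (algebraMap R R' r) := by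
    rw [AlgHom.commutes]
  rw [h]
  apply Ideal.mem_map_of_mem
  have h0 : (maximalIdeal R).map (algebraMap R R') ≤ maximalIdeal R' :=
    ((local_hom_TFAE (algebraMap R R')).out 0 2).mp ‹_›
  exact h0 (Ideal.mem_map_of_mem _ hr)

include p in
theorem exists_pow_sub_mem (hS : ∀ s : S, ∃ (n : ℕ) (r : R) (d : ℕ),
      (s ^ p ^ n - algebraMap R S r) ^ d ∈ (maximalIdeal R).map (algebraMap R S))
    (b : S ⊗[R] R') : ∃ (n : ℕ) (c : R'),
      b ^ p ^ n - (Algebra.TensorProduct.includeRight : R' →ₐ[R] S ⊗[R] R') c ∈ (mB R S R').radical := by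
  set J : Ideal (S ⊗[R] R') := (mB R S R').radical with hJ
  have hmJ : ∀ r ∈ maximalIdeal R, algebraMap R (S ⊗[R] R') r ∈ J := fun r hr =>
    Ideal.le_radical (mem_mB R S R' hr)
  rcases subsingleton_or_nontrivial ((S ⊗[R] R') ⧸ J) with hsub | hnt
  · refine ⟨0, 0, ?_⟩
    rw [Ideal.Quotient.subsingleton_iff] at hsub
    rw [hsub]
    exact Submodule.mem_top
  have hQ : ExpChar ((S ⊗[R] R') ⧸ J) p := by
    let φ : ResidueField R →+* (S ⊗[R] R') ⧸ J :=
      Ideal.Quotient.lift (maximalIdeal R) ((Ideal.Quotient.mk J).comp (algebraMap R (S ⊗[R] R')))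
        (fun r hr => Ideal.Quotient.eq_zero_iff_mem.mpr (hmJ r hr))
    exact expChar_of_injective_ringHom φ.injective p
  induction b with
  | zero => exact ⟨0, 0, by simp⟩
  | tmul s r' =>
    obtain ⟨n, r, d, hd⟩ := hS s
    refine ⟨n, r' ^ p ^ n * algebraMap R R' r, ?_⟩
    have h1 : (s ⊗ₜ[R] r') ^ p ^ n -
        (Algebra.TensorProduct.includeRight : R' →ₐ[R] S ⊗[R] R') (r' ^ p ^ n * algebraMap R R' r) =
        (Algebra.TensorProduct.includeRight : R' →ₐ[R] S ⊗[R] R') (r' ^ p ^ n) *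
          (Algebra.TensorProduct.includeLeft : S →ₐ[R] S ⊗[R] R') (s ^ p ^ n - algebraMap R S r) := by
      rw [map_mul, AlgHom.commutes, map_sub, AlgHom.commutes, mul_sub]
      congr 1
      simp [Algebra.TensorProduct.tmul_pow]
    rw [h1]
    apply Ideal.mul_mem_left
    refine ⟨d, ?_⟩
    rw [← map_pow]
    have h2 : (Algebra.TensorProduct.includeLeft : S →ₐ[R] S ⊗[R] R')
        ((s ^ p ^ n - algebraMap R S r) ^ d) ∈
        ((maximalIdeal R).map (algebraMap R S)).map
          ((Algebra.TensorProduct.includeLeft : S →ₐ[R] S ⊗[R] R') : S →+* S ⊗[R] R') :=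
      Ideal.mem_map_of_mem _ hd
    refine (?_ : _ ≤ mB R S R') h2
    rw [Ideal.map_map, Ideal.map_le_iff_le_comap]
    intro r hr
    have h3 := mem_mB R S R' hr
    rw [Ideal.mem_comap]
    have h4 : (((Algebra.TensorProduct.includeLeft : S →ₐ[R] S ⊗[R] R') : S →+* S ⊗[R] R').comp
      (algebraMap R S)) r = algebraMap R (S ⊗[R] R') r := by
      simp
    rw [h4]
    exact h3
  | add x y hx hy =>
    obtain ⟨n, c, hc⟩ := hx
    obtain ⟨m, d, hd⟩ := hy
    refine ⟨n + m, c ^ p ^ m + d ^ p ^ n, ?_⟩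
    rw [← Ideal.Quotient.eq_zero_iff_mem, map_sub, sub_eq_zero] at hc hd ⊢
    rw [map_pow] at hc hd ⊢
    rw [map_add, add_pow_expChar_pow, map_add, map_add, map_pow, map_pow, map_pow, map_pow, ← hc, ← hd,
      ← pow_mul, ← pow_mul, ← pow_add, ← pow_add, add_comm m n]

omit [IsLocalRing R] [IsLocalRing R'] [IsLocalHom (algebraMap R R')] in
theorem isIntegral_tensor [Algebra.IsIntegral R S] :
    (Algebra.TensorProduct.includeRight : R' →ₐ[R] S ⊗[R] R').toRingHom.IsIntegral := by
  intro b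
  induction b with
  | zero => exact ⟨Polynomial.X, Polynomial.monic_X, by simp⟩
  | tmul s r' =>
    have h1 : s ⊗ₜ[R] r' = s ⊗ₜ[R] 1 * 1 ⊗ₜ[R] r' := by simp
    rw [h1]
    refine RingHom.IsIntegralElem.mul _ ?_ (RingHom.isIntegralElem_map _)
    obtain ⟨P, hP, hPs⟩ := Algebra.IsIntegral.isIntegral (R := R) s
    refine ⟨P.map (algebraMap R R'), hP.map _, ?_⟩
    rw [Polynomial.eval₂_map]
    have h2 := congrArg (Algebra.TensorProduct.includeLeft : S →ₐ[R] S ⊗[R] R') hPs
    rw [map_zero, ← AlgHom.coe_toRingHom, Polynomial.hom_eval₂] at h2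
    have h3 : (((Algebra.TensorProduct.includeRight : R' →ₐ[R] S ⊗[R] R').toRingHom).comp (algebraMap R R')) =
        ((Algebra.TensorProduct.includeLeft : S →ₐ[R] S ⊗[R] R') : S →+* S ⊗[R] R').comp (algebraMap R S) := by
      ext r
      exact ((Algebra.TensorProduct.includeRight : R' →ₐ[R] S ⊗[R] R').commutes r).trans
        ((Algebra.TensorProduct.includeLeft : S →ₐ[R] S ⊗[R] R').commutes r).symm
    rw [h3]
    exact h2
  | add x y hx hy => exact RingHom.IsIntegralElem.add _ hx hy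

include p in
theorem isLocalRing (hS : ∀ s : S, ∃ (n : ℕ) (r : R) (d : ℕ),
      (s ^ p ^ n - algebraMap R S r) ^ d ∈ (maximalIdeal R).map (algebraMap R S))
    [Algebra.IsIntegral R S] [Nontrivial (S ⊗[R] R')] : IsLocalRing (S ⊗[R] R') := by
  have hp : 0 < p := expChar_pos (ResidueField R) p
  have hint := isIntegral_tensor R S R'
  have hJac : (mB R S R').radical ≤ Ideal.jacobson ⊥ := by
    rw [Ideal.jacobson, le_sInf_iff]
    rintro M ⟨-, hM⟩
    have hM' := hM.isPrime
    rw [hM'.radical_le_iff]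
    let _ : Algebra R' (S ⊗[R] R') := (Algebra.TensorProduct.includeRight : R' →ₐ[R] S ⊗[R] R').toRingHom.toAlgebra
    have : Algebra.IsIntegral R' (S ⊗[R] R') := ⟨hint⟩
    have h1 : (M.comap (algebraMap R' (S ⊗[R] R'))).IsMaximal := Ideal.isMaximal_comap_of_isIntegral_of_isMaximal M
    have h2 := IsLocalRing.eq_maximalIdeal h1
    unfold mB
    rw [Ideal.map_le_iff_le_comap, ← h2]
    exact le_rfl
  refine IsLocalRing.of_isUnit_or_isUnit_one_sub_self (fun b => ?_)
  obtain ⟨n, c, hc⟩ := exists_pow_sub_mem R S R' p hS b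
  by_cases hu : IsUnit c
  · left
    have h1 : IsUnit (b ^ p ^ n) := by
      have h2 : IsUnit ((Algebra.TensorProduct.includeRight : R' →ₐ[R] S ⊗[R] R') c) := hu.map _
      obtain ⟨v, hv⟩ := h2
      have h3 := Ideal.mem_jacobson_bot.mp (hJac hc) (↑v⁻¹ : S ⊗[R] R')
      have h4 : b ^ p ^ n = (v : S ⊗[R] R') * ((b ^ p ^ n - (Algebra.TensorProduct.includeRight : R' →ₐ[R] S ⊗[R] R') c) * (↑v⁻¹ : S ⊗[R] R') + 1) := by
        rw [← hv, mul_add, mul_one, mul_comm (b ^ p ^ n - (v : S ⊗[R] R')) _, ← mul_assoc, Units.mul_inv, one_mul,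
          sub_add_cancel]
      rw [h4]
      exact v.isUnit.mul h3
    exact (isUnit_pow_iff (pow_pos hp n).ne').mp h1
  · right
    have h1 : (Algebra.TensorProduct.includeRight : R' →ₐ[R] S ⊗[R] R') c ∈ (mB R S R').radical :=
      Ideal.le_radical (Ideal.mem_map_of_mem _ ((mem_maximalIdeal c).mpr hu))
    have h2 : b ^ p ^ n ∈ (mB R S R').radical := by
      have := Ideal.add_mem _ hc h1
      rwa [sub_add_cancel] at this
    have h3 : b ∈ (mB R S R').radical := by
      have h4 : b ∈ (mB R S R').radical.radical := ⟨_, h2⟩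
      rwa [Ideal.radical_idem] at h4
    have h4 := Ideal.mem_jacobson_bot.mp (hJac h3) (-1)
    rwa [mul_neg_one, neg_add_eq_sub] at h4

end Groth.Agent.Sga4h.NcLocalTensor
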