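import Groth.Agent.Sga4h.NcHull
import Groth.Agent.Sga4h.NcLocalTensor
import Groth.Agent.Sga4h.NcDefs

set_option autoImplicit false
set_option linter.unusedSectionVars false
set_option linter.overlappingInstances false
set_option linter.style.haveILetI false

universe u

noncomputable section

namespace Groth.Agent.Sga4h.NcHull

open IsLocalRing Polynomial
open scoped TensorProduct
open Groth.Agent.Sga4h.NcDefs

section purelyInseparable

variable (R : Type u) [CommRing R] (S : Type u) [CommRing S] [IsDomain S] [Algebra R S] [Algebra.IsIntegral R S]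

theorem exists_pow_sub_mem_of_integral [IsLocalRing R] (hR : EtCoh.IsStrictlyHenselianLocalRing R)
    (p : ℕ) [ExpChar (ResidueField R) p] (s : S) : ∃ (n : ℕ) (r : R) (d : ℕ),
      (s ^ p ^ n - algebraMap R S r) ^ d ∈ (maximalIdeal R).map (algebraMap R S) := by
  obtain ⟨h1, h2⟩ := hR
  obtain ⟨h3, h4, h5⟩ := Groth.Agent.S1964.result R S
  have hpi := (h5 h2).2 h4
  let _ := (ResidueField.map (algebraMap R S)).toAlgebra
  obtain ⟨n, x, hx⟩ := IsPurelyInseparable.pow_mem (ResidueField R) p (residue S s)
  obtain ⟨r, rfl⟩ := residue_surjective x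
  have h6 : residue S (s ^ p ^ n - algebraMap R S r) = 0 := by
    rw [map_sub, map_pow, ← hx, sub_eq_zero]
    rfl
  rw [residue_eq_zero_iff] at h6
  rcases Groth.Agent.S1964.isUnit_or_pow_mem R S (s ^ p ^ n - algebraMap R S r) with h7 | ⟨d, hd⟩
  · exact absurd h7 ((mem_maximalIdeal _).mp h6)
  · exact ⟨n, r, d, hd⟩

end purelyInseparable

section hull

variable (R : Type u) [CommRing R] [IsDomain R] [IsDiscreteValuationRing R]
  (R' : Type u) [CommRing R'] [IsLocalRing R'] [Algebra (O R) R'] [IsLocalHom (algebraMap (O R) R')]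
  [Hensel.IsStrictHenselization (O R) R'] [Algebra R R'] [IsScalarTower R (O R) R']

theorem isLocalHom : IsLocalHom (algebraMap R R') := by
  obtain ⟨π, hπ⟩ := IsDiscreteValuationRing.exists_irreducible R
  refine ((local_hom_TFAE (algebraMap R R')).out 0 2).mpr ?_
  rw [hπ.maximalIdeal_eq, maximalIdeal_hull R R' hπ, Ideal.map_span, Set.image_singleton]

theorem flat_hull : Module.Flat R R' := by
  have h1 : Module.Flat R[X] (O R) := IsLocalization.flat (O R) (P R).primeCompl
  have h2 := Groth.Agent.Hensel.HenselPerm.faithfullyFlat_of_lazardEtale (O R) R'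
    (Groth.Agent.Hensel.HenselPerm.lazardEtale_of_isStrictHenselization (O R) R')
  have h3 : Module.Flat (O R) R' := inferInstance
  have h4 : Module.Flat R (O R) := Module.Flat.trans R R[X] (O R)
  exact Module.Flat.trans R (O R) R'

variable (K : Type u) [Field K] [Algebra R K] [IsFractionRing R K]
  (L : Type u) [Field L] [Algebra K L] [Algebra R L] [IsScalarTower R K L] 

/-- The integral closure tensored with the hull. -/
abbrev BB : Type u := integralClosure R L ⊗[R] R'

include K in
theorem algebraMap_integralClosure_injective : Function.Injective (algebraMap R (integralClosure R L)) := by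
  have h : Function.Injective (algebraMap R L) := by
    rw [IsScalarTower.algebraMap_eq R K L]
    exact (algebraMap K L).injective.comp (IsFractionRing.injective R K)
  intro a b hab
  apply h
  have := congrArg (algebraMap (integralClosure R L) L) hab
  rwa [← IsScalarTower.algebraMap_apply, ← IsScalarTower.algebraMap_apply] at this

include K in
theorem includeRight_injective :
    Function.Injective (Algebra.TensorProduct.includeRight : R' →ₐ[R] BB R R' L) := by
  have := flat_hull R R'
  exact Algebra.TensorProduct.includeRight_injective (algebraMap_integralClosure_injective R K L)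

include K in
theorem nontrivial_BB : Nontrivial (BB R R' L) :=
  (includeRight_injective R R' K L).nontrivial

include K in
theorem isLocalRing_BB (hR : EtCoh.IsStrictlyHenselianLocalRing R) : IsLocalRing (BB R R' L) := by
  have := isLocalHom R R'
  have := nontrivial_BB R R' K L
  obtain ⟨p, hp⟩ := ExpChar.exists (ResidueField R)
  exact NcLocalTensor.isLocalRing R (integralClosure R L) R' p
    (exists_pow_sub_mem_of_integral R (integralClosure R L) hR p)

include K in
theorem isFractionRing_integralClosure [Algebra.IsAlgebraic K L] : IsFractionRing (integralClosure R L) L := by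
  have : Algebra.IsAlgebraic R L := (IsFractionRing.comap_isAlgebraic_iff (A := R) (K := K) (C := L)).mpr inferInstance
  refine integralClosure.isFractionRing_of_algebraic (A := R) (L := L) ?_
  intro x hx
  have h : Function.Injective (algebraMap R L) := by
    rw [IsScalarTower.algebraMap_eq R K L]
    exact (algebraMap K L).injective.comp (IsFractionRing.injective R K)
  exact h (by rw [hx, map_zero])

include K in
theorem isIntegrallyClosed_integralClosure [Algebra.IsAlgebraic K L] :
    IsIntegrallyClosed (integralClosure R L) := by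
  have := isFractionRing_integralClosure R K L
  exact (isIntegrallyClosed_iff_isIntegrallyClosedIn L).mpr inferInstance

variable [Algebra R[X] R'] [IsScalarTower R[X] (O R) R'] [IsScalarTower R R[X] R']

attribute [local instance] Polynomial.algebra in
include K in
theorem isDomain_BB (hR : EtCoh.IsStrictlyHenselianLocalRing R) [Algebra.IsAlgebraic K L] :
    IsDomain (BB R R' L) := by
  have h1 := isLocalRing_BB R R' K L hR
  let S := integralClosure R L
  let e : S[X] ⊗[R[X]] R' ≃ₐ[S] S ⊗[R] R' := Algebra.IsPushout.cancelBaseChangeAlg R S R[X] S[X] R'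
  have h2 : Groth.Agent.CalgC.IndEtale.IsIndEtale S[X] (S[X] ⊗[R[X]] R') :=
    Groth.Agent.CalgC.IndEtale.IsInd.baseChange Groth.Agent.CalgC.IndEtale.isGood_etale
      (isIndEtale R R') S[X]
  have h3 : IsLocalRing (S[X] ⊗[R[X]] R') := e.symm.toRingEquiv.isLocalRing
  have h5 : IsIntegrallyClosed S := isIntegrallyClosed_integralClosure R K L
  have h6 : IsIntegrallyClosed S[X] := inferInstance
  have h4 : IsDomain (S[X] ⊗[R[X]] R') :=
    Groth.Agent.Hensel.LazardPerm.LazardEtale.isDomain (R := S[X]) (S := S[X] ⊗[R[X]] R') h2
  exact e.symm.toMulEquiv.isDomain _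

/-- The base change of `L`. -/
abbrev TT : Type u := L ⊗[R] R'

/-- The map from the integral model. -/
def toTT : BB R R' L →ₐ[R] TT R R' L :=
  Algebra.TensorProduct.map (integralClosure R L).val (AlgHom.id R R')

theorem toTT_injective : Function.Injective (toTT R R' L) := by
  have := flat_hull R R'
  exact Module.Flat.rTensor_preserves_injective_linearMap (M := R')
    ((integralClosure R L).val.toLinearMap) Subtype.val_injective

include K in
theorem isUnit_algebraMap_TT {r : R} (hr : r ≠ 0) : IsUnit (algebraMap R (TT R R' L) r) := by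
  have h1 : IsUnit (algebraMap R L r) := by
    rw [IsScalarTower.algebraMap_apply R K L]
    refine IsUnit.map _ (IsUnit.mk0 _ ?_)
    exact fun h => hr (IsFractionRing.injective R K (by rw [h, map_zero]))
  have h2 := h1.map (Algebra.TensorProduct.includeLeft : L →ₐ[R] TT R R' L)
  rwa [AlgHom.commutes] at h2

include K in
theorem exists_toTT [Algebra.IsAlgebraic K L] (x : TT R R' L) :
    ∃ (r : R) (b : BB R R' L), r ≠ 0 ∧ toTT R R' L b = algebraMap R (TT R R' L) r * x := by
  induction x using TensorProduct.induction_on with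
  | zero => exact ⟨1, 0, one_ne_zero, by simp⟩
  | tmul l r' =>
    have : Algebra.IsAlgebraic R L := (IsFractionRing.comap_isAlgebraic_iff (A := R) (K := K) (C := L)).mpr inferInstance
    obtain ⟨r, hr, hint⟩ := (Algebra.IsAlgebraic.isAlgebraic (R := R) l).exists_integral_multiple
    refine ⟨r, ⟨r • l, hint⟩ ⊗ₜ r', hr, ?_⟩
    simp [toTT, Algebra.TensorProduct.algebraMap_apply, Algebra.smul_def]
  | add x y hx hy =>
    obtain ⟨r, b, hr, hb⟩ := hx
    obtain ⟨s, c, hs, hc⟩ := hy
    refine ⟨r * s, algebraMap R _ s * b + algebraMap R _ r * c, mul_ne_zero hr hs, ?_⟩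
    rw [map_add, map_mul, map_mul, hb, hc, AlgHom.commutes, AlgHom.commutes, map_mul]
    ring

include K in
theorem isField_TT (hR : EtCoh.IsStrictlyHenselianLocalRing R) [Algebra.IsAlgebraic K L] :
    IsField (TT R R' L) := by
  have hdom := isDomain_BB R R' K L hR
  have hR'dom : IsDomain R' := isDomain R R'
  have hDVR : IsDiscreteValuationRing R' := isDiscreteValuationRing R R'
  have hnt : Nontrivial (TT R R' L) := (toTT_injective R R' L).nontrivial
  refine ⟨exists_pair_ne _, mul_comm, fun {x} hx => ?_⟩
  suffices h : IsUnit x by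
    obtain ⟨v, rfl⟩ := h
    exact ⟨↑v⁻¹, v.mul_inv⟩
  obtain ⟨r, b, hr, hb⟩ := exists_toTT R R' K L x
  have hru := isUnit_algebraMap_TT R R' K L hr
  have hb0 : b ≠ 0 := by
    rintro rfl
    rw [map_zero] at hb
    exact hx ((hru.mul_right_eq_zero).mp hb.symm)
  obtain ⟨π, hπ⟩ := IsDiscreteValuationRing.exists_irreducible R
  have hπ' : Irreducible (algebraMap R R' π) := by
    rw [IsDiscreteValuationRing.irreducible_iff_uniformizer, maximalIdeal_hull R R' hπ]
  have hπu : IsUnit ((Algebra.TensorProduct.includeRight : R' →ₐ[R] TT R R' L) (algebraMap R R' π)) := by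
    rw [AlgHom.commutes]
    exact isUnit_algebraMap_TT R R' K L hπ.ne_zero
  have hcu : ∀ c : R', c ≠ 0 → IsUnit ((Algebra.TensorProduct.includeRight : R' →ₐ[R] TT R R' L) c) := by
    intro c hc
    obtain ⟨m, u, hu⟩ := IsDiscreteValuationRing.eq_unit_mul_pow_irreducible hc hπ'
    rw [hu, map_mul, map_pow]
    exact (u.isUnit.map _).mul (hπu.pow _)
  -- `b` divides a nonzero element of `R'`
  have hdvd : ∃ c : R', c ≠ 0 ∧ b ∣ (Algebra.TensorProduct.includeRight : R' →ₐ[R] BB R R' L) c := by
    let _ : Algebra R' (BB R R' L) :=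
      (Algebra.TensorProduct.includeRight : R' →ₐ[R] BB R R' L).toRingHom.toAlgebra
    have hint : IsIntegral R' b := NcLocalTensor.isIntegral_tensor R (integralClosure R L) R' b
    have hmem : b ∈ Ideal.span {b} := Ideal.mem_span_singleton_self b
    have h1 := Ideal.comap_ne_bot_of_integral_mem (R := R') hb0 hmem hint
    obtain ⟨c, hc, hc0⟩ := Submodule.exists_mem_ne_zero_of_ne_bot h1
    exact ⟨c, hc0, Ideal.mem_span_singleton.mp hc⟩
  obtain ⟨c, hc0, d, hd⟩ := hdvd
  have h2 := hcu c hc0
  have h3 : (Algebra.TensorProduct.includeRight : R' →ₐ[R] TT R R' L) c =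
      toTT R R' L ((Algebra.TensorProduct.includeRight : R' →ₐ[R] BB R R' L) c) := by
    simp [toTT]
  rw [h3, hd, map_mul, hb] at h2
  exact (isUnit_of_mul_isUnit_left h2 |> isUnit_of_mul_isUnit_right)


/-- The field `L'`. -/
abbrev L' : Type u := FractionRing (TT R R' L)

end hull

section more

variable (R : Type u) [CommRing R] [IsDomain R] [IsDiscreteValuationRing R]
  (R' : Type u) [CommRing R'] [IsLocalRing R'] [Algebra (O R) R'] [IsLocalHom (algebraMap (O R) R')]
  [Hensel.IsStrictHenselization (O R) R'] [Algebra R R'] [IsScalarTower R (O R) R'] [IsDomain R']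
  [IsDiscreteValuationRing R']
variable (K : Type u) [Field K] [Algebra R K] [IsFractionRing R K]
  (L : Type u) [Field L] [Algebra K L] [Algebra R L] [IsScalarTower R K L]
variable [IsDomain (TT R R' L)]

/-- The map `R' → L'`. -/
def toL' : R' →+* L' R R' L :=
  (algebraMap (TT R R' L) (L' R R' L)).comp
    ((Algebra.TensorProduct.includeRight : R' →ₐ[R] TT R R' L) : R' →+* TT R R' L)

include K in
theorem toL'_injective : Function.Injective (toL' R R' L) := by
  have := flat_hull R R'
  have h1 : Function.Injective (Algebra.TensorProduct.includeRight : R' →ₐ[R] TT R R' L) :=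
    Algebra.TensorProduct.includeRight_injective (by
      rw [IsScalarTower.algebraMap_eq R K L]
      exact (algebraMap K L).injective.comp (IsFractionRing.injective R K))
  exact (IsFractionRing.injective (TT R R' L) (L' R R' L)).comp h1

/-- The map `K' → L'`. -/
def kToL' : FractionRing R' →+* L' R R' L := IsFractionRing.lift (toL'_injective R R' K L)

theorem kToL'_algebraMap (r : R') : kToL' R R' K L (algebraMap R' (FractionRing R') r) = toL' R R' L r :=
  IsFractionRing.lift_algebraMap (toL'_injective R R' K L) r

/-- The map `L → L'`. -/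
def lToL' : L →+* L' R R' L :=
  (algebraMap (TT R R' L) (L' R R' L)).comp
    ((Algebra.TensorProduct.includeLeft : L →ₐ[R] TT R R' L) : L →+* TT R R' L)

/-- The map `K → K'`. -/
def kToK' : K →+* FractionRing R' :=
  IsFractionRing.lift (A := R) (K := K) (g := (algebraMap R' (FractionRing R')).comp (algebraMap R R'))
    ((IsFractionRing.injective R' (FractionRing R')).comp (algebraMap_hull_injective R R'))

theorem kToK'_algebraMap (r : R) : kToK' R R' K (algebraMap R K r) = algebraMap R' (FractionRing R') (algebraMap R R' r) :=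
  IsFractionRing.lift_algebraMap _ r

theorem comp_eq : (lToL' R R' L).comp (algebraMap K L) = (kToL' R R' K L).comp (kToK' R R' K) := by
  apply IsLocalization.ringHom_ext (nonZeroDivisors R)
  ext r
  simp only [RingHom.comp_apply]
  rw [kToK'_algebraMap, kToL'_algebraMap, ← IsScalarTower.algebraMap_apply]
  simp [lToL', toL']

include K in
theorem isSeparable [Algebra.IsSeparable K L] (hT : IsField (TT R R' L)) :
    letI := (kToL' R R' K L).toAlgebra
    Algebra.IsSeparable (FractionRing R') (L' R R' L) := by
  letI := (kToL' R R' K L).toAlgebra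
  have hl : ∀ l : L, IsSeparable (FractionRing R') (lToL' R R' L l) := by
    intro l
    have h0 : (minpoly K l).Separable := Algebra.IsSeparable.isSeparable K l
    have h1 : ((minpoly K l).map (kToK' R R' K)).Separable := h0.map
    refine Separable.of_dvd h1 (minpoly.dvd _ _ ?_)
    rw [aeval_def, eval₂_map]
    have h2 : (algebraMap (FractionRing R') (L' R R' L)).comp (kToK' R R' K) = (lToL' R R' L).comp (algebraMap K L) :=
      (comp_eq R R' K L).symm
    rw [h2, ← hom_eval₂, ← aeval_def, minpoly.aeval, map_zero]
  have htop : IntermediateField.adjoin (FractionRing R') (Set.range (lToL' R R' L)) = ⊤ := by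
    rw [eq_top_iff]
    rintro x -
    have hbij := IsField.localization_map_bijective (Rₘ := L' R R' L) (M := nonZeroDivisors (TT R R' L))
      (zero_notMem_nonZeroDivisors) hT
    obtain ⟨t, rfl⟩ := hbij.2 x
    induction t using TensorProduct.induction_on with
    | zero => rw [map_zero]; exact zero_mem _
    | tmul l r' =>
      have h3 : algebraMap (TT R R' L) (L' R R' L) (l ⊗ₜ r') = lToL' R R' L l *
          algebraMap (FractionRing R') (L' R R' L) (algebraMap R' (FractionRing R') r') := by
        have h4 : algebraMap (FractionRing R') (L' R R' L) (algebraMap R' (FractionRing R') r') = toL' R R' L r' :=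
          kToL'_algebraMap R R' K L r'
        rw [h4, lToL', toL', RingHom.comp_apply, RingHom.comp_apply, ← map_mul]
        simp
      rw [h3]
      exact mul_mem (IntermediateField.subset_adjoin _ _ ⟨l, rfl⟩) (IntermediateField.algebraMap_mem _ _)
    | add x y hx hy => rw [map_add]; exact add_mem hx hy
  have h5 : Algebra.IsSeparable (FractionRing R') (IntermediateField.adjoin (FractionRing R') (Set.range (lToL' R R' L))) := by
    rw [IntermediateField.isSeparable_adjoin_iff_isSeparable]
    rintro _ ⟨l, rfl⟩
    exact hl l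
  rw [htop] at h5
  exact Algebra.IsSeparable.of_algHom (FractionRing R') _ (IntermediateField.topEquiv (F := FractionRing R') (E := L' R R' L)).symm.toAlgHom

theorem rootClosed (n : ℕ) (hn : IsUnit (n : R)) (h : RootClosed n R L) :
    letI := (toL' R R' L).toAlgebra
    RootClosed n R' (L' R R' L) := by
  intro π' hπ' l hl hln a
  obtain ⟨π, hπ⟩ := IsDiscreteValuationRing.exists_irreducible R
  have hπ1 : Irreducible (algebraMap R R' π) := by
    rw [IsDiscreteValuationRing.irreducible_iff_uniformizer, maximalIdeal_hull R R' hπ]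
  obtain ⟨u, hu⟩ := IsDiscreteValuationRing.associated_of_irreducible R' hπ1 hπ'
  obtain ⟨y, hy⟩ := h π hπ l hl hln a
  obtain ⟨h1, h2⟩ := isStrictlyHenselianLocalRing R R'
  have hm : IsUnit ((l ^ a : ℕ) : R') := by
    obtain ⟨c, rfl⟩ := hln
    have h3 := hn.map (algebraMap R R')
    rw [map_natCast, Nat.cast_mul] at h3
    rw [Nat.cast_pow]
    exact (isUnit_of_mul_isUnit_left h3).pow a
  obtain ⟨v, hv⟩ := Groth.Agent.Sga4B.UnitsAway.exists_pow_eq R' (l ^ a) hm u
  refine ⟨lToL' R R' L y * toL' R R' L v, ?_⟩
  change (lToL' R R' L y * toL' R R' L v) ^ l ^ a = toL' R R' L π'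
  rw [← hu, mul_pow, ← map_pow, ← map_pow, hy, map_mul, ← Units.val_pow_eq_pow_val, hv]
  congr 1
  simp [lToL', toL']

end more

end Groth.Agent.Sga4h.NcHull
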