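import Groth.Agent.Cohder.RDLES
import Mathlib.Algebra.Homology.DerivedCategory.Ext.ExactSequences
import Mathlib.Algebra.Homology.DerivedCategory.Ext.EnoughInjectives
import Mathlib.CategoryTheory.Adjunction.Additive

/-!
# Finiteness of `H⁰(P, R^q T F)` from the Leray spectral sequence, abstract form

`L ⊣ T`, `T` left exact and preserving injectives.  If `Ext^q(L w, F)` is finite and
`Ext^p(w, R^m T F)` is finite for `m < q`, `p ≥ 1`, then `Hom(w, R^q T F)` is finite.
-/

set_option autoImplicit false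

universe w₁ w₂ v₁ v₂ u₁ u₂

open CategoryTheory CategoryTheory.Limits CategoryTheory.Abelian

namespace Groth.Agent.Sga4h.NcLerayAbs

lemma finite_of_exact {G H K : Type*} [AddCommGroup H] [AddCommGroup K]
    (f : G → H) (g : H →+ K) [Finite G] [Finite K] (h : ∀ x, g x = 0 → ∃ y, f y = x) : Finite H := by
  have hk : Set.Finite {x : H | g x = 0} := (Set.finite_range f).subset fun x hx => h x hx
  rw [← Set.finite_univ_iff]
  refine Set.Finite.of_finite_fibers g (Set.toFinite _) fun k _ => ?_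
  by_cases hk' : ∃ x₀, g x₀ = k
  · obtain ⟨x₀, rfl⟩ := hk'
    refine (hk.image fun x => x + x₀).subset fun x hx => ⟨x - x₀, ?_, sub_add_cancel _ _⟩
    have hx' : g x = g x₀ := hx.2
    simp [hx']
  · exact Set.Finite.subset Set.finite_empty fun x hx => hk' ⟨x, hx.2⟩

section

variable {B : Type u₂} [Category.{v₂} B] [Abelian B] [HasExt.{w₂} B]

lemma finite_of_iso {X Y Y' : B} (e : Y ≅ Y') (n : ℕ) (h : Finite (Ext.{w₂} X Y n)) :
    Finite (Ext.{w₂} X Y' n) := by
  refine Finite.of_surjective (fun x : Ext.{w₂} X Y n => x.comp (Ext.mk₀ e.hom) (add_zero n)) fun y =>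
    ⟨y.comp (Ext.mk₀ e.inv) (add_zero n), ?_⟩
  simp

lemma finite_ext_zero {X Y : B} (h : Finite (X ⟶ Y)) : Finite (Ext.{w₂} X Y 0) :=
  Finite.of_equiv _ (Ext.homEquiv₀ (X := X) (Y := Y)).symm

lemma finite_hom {X Y : B} (h : Finite (Ext.{w₂} X Y 0)) : Finite (X ⟶ Y) :=
  Finite.of_equiv _ (Ext.homEquiv₀ (X := X) (Y := Y))

/-- middle term -/
lemma finite_mid {S : ShortComplex B} (hS : S.ShortExact) (X : B) (n : ℕ)
    (h₁ : Finite (Ext.{w₂} X S.X₁ n)) (h₃ : Finite (Ext.{w₂} X S.X₃ n)) :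
    Finite (Ext.{w₂} X S.X₂ n) := by
  refine finite_of_exact (fun x : Ext.{w₂} X S.X₁ n => x.comp (Ext.mk₀ S.f) (add_zero n))
    ((Ext.mk₀ S.g).postcomp X (add_zero n)) fun x hx => ?_
  exact Ext.covariant_sequence_exact₂ X hS x hx

/-- third term, when the middle term is injective -/
lemma finite_third {S : ShortComplex B} (hS : S.ShortExact) (X : B) [Injective S.X₂] (n : ℕ)
    (hn : 1 ≤ n) (h₁ : Finite (Ext.{w₂} X S.X₁ (n + 1))) : Finite (Ext.{w₂} X S.X₃ n) := by
  obtain ⟨n, rfl⟩ : ∃ k, n = k + 1 := ⟨n - 1, by omega⟩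
  have : Subsingleton (Ext.{w₂} X S.X₂ (n + 1)) := Ext.subsingleton_of_injective X S.X₂ n
  refine finite_of_exact (fun x : Ext.{w₂} X S.X₂ (n + 1) => x.comp (Ext.mk₀ S.g) (add_zero _))
    (hS.extClass.postcomp X (rfl : n + 1 + 1 = n + 1 + 1)) fun x hx => ?_
  exact Ext.covariant_sequence_exact₃ X hS x rfl hx

end

variable {A : Type u₁} [Category.{v₁} A] [Abelian A] [HasExt.{w₁} A] [HasInjectiveResolutions A]
  {B : Type u₂} [Category.{v₂} B] [Abelian B] [HasExt.{w₂} B]
  (T : A ⥤ B) [T.Additive] [PreservesFiniteLimits T] (L : B ⥤ A) (adj : L ⊣ T)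

omit [HasExt.{w₁} A] [HasExt.{w₂} B] in
lemma additive_zero : (T.rightDerived 0).Additive :=
  Functor.additive_of_iso T.rightDerivedZeroIsoSelf.symm

omit [HasExt.{w₁} A] [HasExt.{w₂} B] in
lemma exists_data {S : ShortComplex A} (hS : S.ShortExact) [Injective S.X₂] :
    ∃ δ : ∀ n, (T.rightDerived n).obj S.X₃ ⟶ (T.rightDerived (n + 1)).obj S.X₁,
      (∀ n, IsIso (δ (n + 1))) ∧ Epi (δ 0) ∧
      ∃ (w : (T.rightDerived 0).map S.g ≫ δ 0 = 0)
        (w' : (T.rightDerived 0).map S.f ≫ kernel.lift (δ 0) ((T.rightDerived 0).map S.g) w = 0),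
        (ShortComplex.mk _ _ w').ShortExact ∧
        (ShortComplex.mk _ _ (kernel.condition (δ 0))).ShortExact := by
  have hadd := additive_zero T
  obtain ⟨m0, hmid, δ, hδ⟩ := Groth.Agent.Cohder.RDLES.exists_les T hS
  have hz (n : ℕ) : IsZero ((T.rightDerived (n + 1)).obj S.X₂) :=
    T.isZero_rightDerived_obj_injective_succ n S.X₂
  have he (n : ℕ) : Epi (δ n) := by
    obtain ⟨w₁, w₂, ex₁, ex₂⟩ := hδ n
    exact ex₂.epi_f ((hz n).eq_of_tgt _ _)
  have hm (n : ℕ) : Mono (δ (n + 1)) := by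
    obtain ⟨w₁, w₂, ex₁, ex₂⟩ := hδ (n + 1)
    exact ex₁.mono_g ((hz n).eq_of_src _ _)
  obtain ⟨w₁, w₂, ex₁, ex₂⟩ := hδ 0
  have w' : (T.rightDerived 0).map S.f ≫ kernel.lift (δ 0) ((T.rightDerived 0).map S.g) w₁ = 0 := by
    rw [← cancel_mono (kernel.ι (δ 0)), Category.assoc, kernel.lift_ι, ← Functor.map_comp, S.zero,
      Functor.map_zero, zero_comp]
  have w0 : (T.rightDerived 0).map S.f ≫ (T.rightDerived 0).map S.g = 0 := by
    rw [← Functor.map_comp, S.zero, Functor.map_zero]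
  have := he 0
  refine ⟨δ, fun n => ?_, he 0, w₁, w', ?_, ?_⟩
  · have := he (n + 1); have := hm n
    exact isIso_of_mono_of_epi _
  · have hmono : Mono (ShortComplex.mk _ _ w').f := m0
    have hepi : Epi (ShortComplex.mk _ _ w').g :=
      (ShortComplex.exact_iff_epi_kernel_lift _).1 ex₁
    refine { exact := ?_ }
    let φ : ShortComplex.mk _ _ w' ⟶ ShortComplex.mk _ _ w0 :=
      { τ₁ := 𝟙 _, τ₂ := 𝟙 _, τ₃ := kernel.ι (δ 0)
        comm₁₂ := by simp
        comm₂₃ := by simp }
    have : Epi φ.τ₁ := inferInstanceAs (Epi (𝟙 _))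
    have : IsIso φ.τ₂ := inferInstanceAs (IsIso (𝟙 _))
    have : Mono φ.τ₃ := inferInstanceAs (Mono (kernel.ι (δ 0)))
    exact (ShortComplex.exact_iff_of_epi_of_isIso_of_mono φ).2 (hmid 0 w0)
  · have hmono : Mono (ShortComplex.mk _ _ (kernel.condition (δ 0))).f :=
      inferInstanceAs (Mono (kernel.ι (δ 0)))
    have hepi : Epi (ShortComplex.mk _ _ (kernel.condition (δ 0))).g := he 0
    exact { exact := ShortComplex.exact_kernel (δ 0) }

include adj in
theorem main (hT : ∀ I : A, Injective I → Injective (T.obj I)) (w : B) : ∀ (q : ℕ) (F : A),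
    Finite (Ext.{w₁} (L.obj w) F q) →
    (∀ m < q, ∀ p, 1 ≤ p → Finite (Ext.{w₂} w ((T.rightDerived m).obj F) p)) →
    Finite (w ⟶ (T.rightDerived q).obj F)
  | 0, F, h1, _ => by
    have := finite_hom h1
    exact Finite.of_equiv (L.obj w ⟶ F) ((adj.homEquiv w F).trans
      (Iso.homCongr (Iso.refl w) (T.rightDerivedZeroIsoSelf.app F).symm))
  | 1, F, h1, h2 => by
    have := Groth.Agent.Cohder.RDLES.enoughInjectives (C := A)
    let S : ShortComplex A := ShortComplex.mk (Injective.ι F) (cokernel.π (Injective.ι F))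
      (cokernel.condition _)
    have hS : S.ShortExact :=
      { exact := ShortComplex.exact_cokernel _
        mono_f := inferInstanceAs (Mono (Injective.ι F))
        epi_g := inferInstanceAs (Epi (cokernel.π _)) }
    have : Injective S.X₂ := inferInstanceAs (Injective (Injective.under F))
    obtain ⟨δ, hiso, hepi, w₀, w', ses₁, ses₂⟩ := exists_data T hS
    have hinj : Injective ((T.rightDerived 0).obj S.X₂) :=
      have := hT S.X₂ inferInstance
      Injective.of_iso (T.rightDerivedZeroIsoSelf.app S.X₂).symm inferInstance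
    have hB : Finite (Ext.{w₂} w (kernel (δ 0)) 1) := by
      have : Injective (ShortComplex.mk _ _ w').X₂ := hinj
      exact finite_third ses₁ w 1 le_rfl (h2 0 one_pos 2 (by norm_num))
    -- the image of `Hom(w, T F')`
    have hD : Finite {f : w ⟶ (T.rightDerived 1).obj F // ∃ u : w ⟶ (T.rightDerived 0).obj S.X₃,
        u ≫ δ 0 = f} := by
      have hL : L.Additive := adj.left_adjoint_additive
      let e (X : A) (u : w ⟶ (T.rightDerived 0).obj X) : L.obj w ⟶ X :=
        (adj.homAddEquiv w X).symm (u ≫ T.rightDerivedZeroIsoSelf.hom.app X)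
      let b (u : w ⟶ (T.rightDerived 0).obj S.X₃) : Ext.{w₁} (L.obj w) F 1 :=
        (Ext.mk₀ (e S.X₃ u)).comp hS.extClass (zero_add 1)
      have hb : ∀ u u', b u = b u' → u ≫ δ 0 = u' ≫ δ 0 := by
        intro u u' huu
        have h3 : (Ext.mk₀ (e S.X₃ u - e S.X₃ u')).comp hS.extClass (zero_add 1) = 0 := by
          rw [sub_eq_add_neg, Ext.mk₀_add, Ext.mk₀_neg, Ext.add_comp, Ext.neg_comp]
          exact add_neg_eq_zero.2 huu
        obtain ⟨x₂, hx₂⟩ := Ext.covariant_sequence_exact₃ (L.obj w) hS _ (zero_add 1) h3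
        obtain ⟨v, rfl⟩ := (Ext.mk₀_bijective (L.obj w) S.X₂).2 x₂
        rw [Ext.mk₀_comp_mk₀] at hx₂
        have hv : v ≫ S.g = e S.X₃ u - e S.X₃ u' := (Ext.mk₀_bijective (L.obj w) S.X₃).1 hx₂
        have h4 : u - u' = (adj.homEquiv w S.X₂ v ≫ T.toRightDerivedZero.app S.X₂) ≫
            (T.rightDerived 0).map S.g := by
          rw [← cancel_mono (T.rightDerivedZeroIsoSelf.hom.app S.X₃), Category.assoc, Category.assoc,
            T.rightDerivedZeroIsoSelf.hom.naturality S.g]
          rw [T.rightDerivedZeroIsoSelf_inv_hom_id_app_assoc, ← adj.homEquiv_naturality_right, hv,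
            ← map_sub, ← Preadditive.sub_comp, ← adj.homAddEquiv_apply]
          exact ((adj.homAddEquiv w S.X₃).apply_symm_apply _).symm
        have h5 : (u - u') ≫ δ 0 = 0 := by
          rw [h4, Category.assoc, w₀, comp_zero]
        rwa [Preadditive.sub_comp, sub_eq_zero] at h5
      refine Finite.of_injective (fun f => b f.2.choose) fun f f' hff => Subtype.ext ?_
      have := hb _ _ hff
      rwa [f.2.choose_spec, f'.2.choose_spec] at this
    apply finite_hom.{w₂}
    refine finite_of_exact (fun f : {f : w ⟶ (T.rightDerived 1).obj F //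
        ∃ u : w ⟶ (T.rightDerived 0).obj S.X₃, u ≫ δ 0 = f} => Ext.mk₀.{w₂} f.1)
      (ses₂.extClass.postcomp w (zero_add 1)) fun x hx => ?_
    obtain ⟨x₂, hx₂⟩ := Ext.covariant_sequence_exact₃ w ses₂ x (zero_add 1) hx
    obtain ⟨u, rfl⟩ := (Ext.mk₀_bijective _ _).2 x₂
    rw [Ext.mk₀_comp_mk₀] at hx₂
    exact ⟨⟨u ≫ δ 0, u, rfl⟩, hx₂⟩
  | q + 2, F, h1, h2 => by
    have := Groth.Agent.Cohder.RDLES.enoughInjectives (C := A)
    let S : ShortComplex A := ShortComplex.mk (Injective.ι F) (cokernel.π (Injective.ι F))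
      (cokernel.condition _)
    have hS : S.ShortExact :=
      { exact := ShortComplex.exact_cokernel _
        mono_f := inferInstanceAs (Mono (Injective.ι F))
        epi_g := inferInstanceAs (Epi (cokernel.π _)) }
    have : Injective S.X₂ := inferInstanceAs (Injective (Injective.under F))
    obtain ⟨δ, hiso, hepi, w₀, w', ses₁, ses₂⟩ := exists_data T hS
    have hinj : Injective ((T.rightDerived 0).obj S.X₂) :=
      have := hT S.X₂ inferInstance
      Injective.of_iso (T.rightDerivedZeroIsoSelf.app S.X₂).symm inferInstance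
    have hB (p : ℕ) (hp : 1 ≤ p) : Finite (Ext.{w₂} w (kernel (δ 0)) p) := by
      have : Injective (ShortComplex.mk _ _ w').X₂ := hinj
      exact finite_third ses₁ w p hp (h2 0 (by omega) (p + 1) (by omega))
    have hF' : Finite (Ext.{w₁} (L.obj w) S.X₃ (q + 1)) :=
      finite_third hS (L.obj w) (q + 1) (by omega) h1
    have := main hT w (q + 1) S.X₃ hF' fun m hm p hp => by
      obtain _ | m := m
      · exact finite_mid ses₂ w p (hB p hp) (h2 1 (by omega) p hp)
      · have := hiso m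
        exact finite_of_iso (asIso (δ (m + 1))).symm p (h2 (m + 1 + 1) (by omega) p hp)
    have := hiso q
    exact Finite.of_equiv _ (Iso.homCongr (Iso.refl w) (asIso (δ (q + 1))))

end Groth.Agent.Sga4h.NcLerayAbs
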