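import Groth.Prelude.Def_SGA4h
import Groth.Prelude.Def_PBC
import Groth.Prelude.Def_EtCore
import Groth.Agent.S0171
import Groth.Agent.Sga4B.NoethCrit
import Groth.Agent.Sga4B.PointConst
import Groth.Agent.EtpbcA.ConsDescent
import Groth.Agent.EtpbcB.SepClosedPoint
import Groth.Agent.Etrest.ConstBasic
import Groth.Agent.CurvesA.BdMap
import Mathlib.AlgebraicGeometry.Morphisms.Proper
import Mathlib.AlgebraicGeometry.Morphisms.Etale
import Mathlib.AlgebraicGeometry.Noetherian

/-!
# Étale sheaves supported at closed points with finitely many global sections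

`isConstructible_of_finite_H_zero`: on a scheme of finite type over a separably closed field, an
abelian étale sheaf supported at closed points with finite `H⁰` is constructible.
-/

set_option autoImplicit false
universe u
open CategoryTheory CategoryTheory.Limits AlgebraicGeometry Opposite

namespace Groth.Agent.Sga4h.NcPunctual

open Groth.Agent.CurvesA.SkyPoint Groth.Agent.CurvesA.SkyAcyclic Groth.Agent.CurvesA.Punctual
  Groth.Agent.EtpbcA.Artin

variable {X : Scheme.{u}}

/-- The unit `F ⟶ sky (F_ξ)`. -/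
noncomputable def uSky {Ω : Type u} [Field Ω] [IsSepClosed Ω] (ξ : Spec (CommRingCat.of Ω) ⟶ X)
    (F : EtCoh.Ab X) : F ⟶ (sky ξ).obj ((EtCoh.stalk ξ).obj F) := (skyAdj ξ).unit.app F

/-- The unit `F ⟶ sky (F_ξ)` at a closed point with separably closed residue field is epi, and its
kernel is supported on `supp F`, which is contained in the union of that support and the point. -/
theorem unit_data {Ω : Type u} [Field Ω] [IsSepClosed Ω] (ξ : Spec (CommRingCat.of Ω) ⟶ X)
    (hcl : IsClosed ({ξ default} : Set X)) (hsc : IsSepClosed (X.residueField (ξ default)))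
    (F : EtCoh.Ab X) :
    Epi (uSky ξ F) ∧
      EtPBC.supp (kernel (uSky ξ F)) ⊆ EtPBC.supp F ∧
      EtPBC.supp F ⊆ insert (ξ default) (EtPBC.supp (kernel (uSky ξ F))) := by
  have htri : (EtCoh.stalk ξ).map (uSky ξ F) ≫
      (skyAdj ξ).counit.app ((EtCoh.stalk ξ).obj F) = 𝟙 _ :=
    (skyAdj ξ).left_triangle_components F
  have hinj := counit_injective ξ hcl hsc ((EtCoh.stalk ξ).obj F)
  have hepi : Epi (uSky ξ F) := Etcore.Stalks.epi_of_stalks _ fun y => by
    by_cases hy : ξ default = y
    · refine ⟨Ω, inferInstance, inferInstance, ξ, hy, fun p => ?_⟩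
      refine ⟨(skyAdj ξ).counit.app _ p, ?_⟩
      apply hinj
      exact ConcreteCategory.congr_hom htri ((skyAdj ξ).counit.app _ p)
    · obtain ⟨Ω', _, _, ζ, hζ⟩ := Etcore.Stalks.exists_geom y
      refine ⟨Ω', inferInstance, inferInstance, ζ, hζ, fun p => ⟨0, ?_⟩⟩
      have hz := isZero_stalk_sky ξ hcl ζ (by rw [hζ]; exact fun h => hy h.symm)
        ((EtCoh.stalk ξ).obj F)
      have := AddCommGrpCat.subsingleton_of_isZero hz
      exact Subsingleton.elim _ _
  refine ⟨hepi, fun y hy => ?_, fun y hy => ?_⟩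
  · by_contra hyF
    refine (not_mem_supp_iff _ y).2 ?_ hy
    obtain ⟨Ω', _, _, ζ, hζ⟩ := Etcore.Stalks.exists_geom y
    rw [← hζ, ← stalk_isZero_iff]
    exact IsZero.of_mono ((EtCoh.stalk ζ).map (kernel.ι _)) (isZero_stalk_of_not_mem hyF ζ hζ)
  · by_contra hyK
    rw [Set.mem_insert_iff, not_or] at hyK
    obtain ⟨Ω', _, _, ζ, hζ⟩ := Etcore.Stalks.exists_geom y
    have h1 : IsZero ((EtCoh.stalk ζ).obj (kernel (uSky ξ F))) :=
      isZero_stalk_of_not_mem hyK.2 ζ hζ
    have h2 : IsZero ((EtCoh.stalk ζ).obj ((sky ξ).obj ((EtCoh.stalk ξ).obj F))) :=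
      isZero_stalk_sky ξ hcl ζ (by rw [hζ]; exact hyK.1) _
    have hS : (ShortComplex.mk (kernel.ι (uSky ξ F)) (uSky ξ F)
      (kernel.condition _)).Exact := ShortComplex.exact_kernel _
    have hS' := hS.map (EtCoh.stalk ζ)
    have h3 : IsZero ((EtCoh.stalk ζ).obj F) :=
      hS'.isZero_X₂ (h1.eq_of_src _ _) (h2.eq_of_tgt _ _)
    exact (mem_supp_iff F y ζ ((range_eq_iff ζ y).2 hζ)).1 hy h3

/-- The tautological point of the fibre of the final object. -/
noncomputable def topPt {Ω : Type u} [Field Ω] [IsSepClosed Ω] (ξ : Spec (CommRingCat.of Ω) ⟶ X) :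
    (Scheme.pointSmallEtale ξ).fiber.obj (EtCoh.top X) :=
  Etcore.StalkSec.mkLift ξ (U := EtCoh.top X) ξ (Category.comp_id _)

section

variable {K : Type u} [Field K] [IsSepClosed K] (a : X ⟶ Spec (CommRingCat.of K))
  [LocallyOfFiniteType a] [QuasiCompact a]

include a

/-- For a sheaf supported at closed points, global sections of `F` surject onto those of the
skyscraper sheaf of its stalk at a closed point. -/
theorem surjective_unit_top {Ω : Type u} [Field Ω] [IsSepClosed Ω]
    (ξ : Spec (CommRingCat.of Ω) ⟶ X) (hcl : IsClosed ({ξ default} : Set X)) (F : EtCoh.Ab X)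
    (hF : ∀ x ∈ EtPBC.supp F, IsClosed ({x} : Set X)) :
    Function.Surjective ((uSky ξ F).hom.app (op (EtCoh.top X))) := by
  have hsc : IsSepClosed (X.residueField (ξ default)) :=
    CurvesA.ClosedPtSep.isSepClosed_residueField a _ hcl
  obtain ⟨hepi, h1, -⟩ := unit_data ξ hcl hsc F
  have hS : (ShortComplex.mk (kernel.ι (uSky ξ F)) (uSky ξ F)
      (kernel.condition _)).ShortExact := { exact := ShortComplex.exact_kernel _ }
  have hK : Subsingleton (EtCoh.H X (kernel (uSky ξ F)) 1) :=
    S0171.result X a _ (fun x hx => hF x (h1 hx)) 1 one_pos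
  exact CurvesA.CohBasic.surj_of_van hS hK

/-- The stalk at a geometric point over a closed point of a sheaf supported at closed points with
finitely many global sections is finite. -/
theorem finite_stalk {Ω : Type u} [Field Ω] [IsSepClosed Ω]
    (ξ : Spec (CommRingCat.of Ω) ⟶ X) (hcl : IsClosed ({ξ default} : Set X)) (F : EtCoh.Ab X)
    (hF : ∀ x ∈ EtPBC.supp F, IsClosed ({x} : Set X)) [Finite (EtCoh.sect F (EtCoh.top X))] :
    Finite ((EtCoh.stalk ξ).obj F : Type (u + 1)) := by
  refine Finite.of_surjective (fun s : EtCoh.sect F (EtCoh.top X) =>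
    comp ξ ((EtCoh.stalk ξ).obj F) (topPt ξ)
      ((uSky ξ F).hom.app (op (EtCoh.top X)) s)) fun p => ?_
  obtain ⟨s, hs⟩ := surjective_unit_top a ξ hcl F hF
    (mkSec ξ ((EtCoh.stalk ξ).obj F) (EtCoh.top X) fun _ => p)
  exact ⟨s, by simp only [hs]; exact comp_mkSec ξ _ _ _ _⟩

/-- A sheaf supported at closed points with finitely many global sections has finite support. -/
theorem finite_supp (N : ℕ) : ∀ (F : EtCoh.Ab X) (_ : ∀ x ∈ EtPBC.supp F, IsClosed ({x} : Set X))
    (_ : Finite (EtCoh.sect F (EtCoh.top X))) (_ : Nat.card (EtCoh.sect F (EtCoh.top X)) ≤ N),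
    (EtPBC.supp F).Finite := by
  induction N with
  | zero =>
    intro F _ _ h
    have : Nonempty (EtCoh.sect F (EtCoh.top X)) := ⟨0⟩
    exact absurd (Nat.card_pos (α := EtCoh.sect F (EtCoh.top X))) (by omega)
  | succ N ih =>
    intro F hF hfin hN
    by_cases he : EtPBC.supp F = ∅
    · rw [he]; exact Set.finite_empty
    obtain ⟨x, hx⟩ := Set.nonempty_iff_ne_empty.2 he
    obtain ⟨Ω, _, _, ξ, hξ⟩ := Etcore.Stalks.exists_geom x
    have hcl : IsClosed ({ξ default} : Set X) := by rw [hξ]; exact hF x hx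
    have hsc : IsSepClosed (X.residueField (ξ default)) :=
      CurvesA.ClosedPtSep.isSepClosed_residueField a _ hcl
    obtain ⟨-, h1, h2⟩ := unit_data ξ hcl hsc F
    have hsurj := surjective_unit_top a ξ hcl F hF
    set η := uSky ξ F with hη
    let i := (kernel.ι η).hom.app (op (EtCoh.top X))
    have hinj : Function.Injective i := by
      have : Mono ((sheafToPresheaf X.smallEtaleTopology AddCommGrpCat.{u + 1} ⋙
        (evaluation _ _).obj (op (EtCoh.top X))).map (kernel.ι η)) := inferInstance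
      exact (AddCommGrpCat.mono_iff_injective _).1 this
    have hcomp : ∀ s, η.hom.app (op (EtCoh.top X)) (i s) = 0 := by
      intro s
      have h : (kernel.ι η).hom.app (op (EtCoh.top X)) ≫ η.hom.app (op (EtCoh.top X)) = 0 := by
        have := congrArg (fun (φ : kernel η ⟶ (sky ξ).obj ((EtCoh.stalk ξ).obj F)) =>
          φ.hom.app (op (EtCoh.top X))) (kernel.condition η)
        exact this
      exact ConcreteCategory.congr_hom h s
    have hfinK : Finite (EtCoh.sect (kernel η) (EtCoh.top X)) := Finite.of_injective i hinj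
    -- a section of the skyscraper with nonzero component
    have hA : ¬ IsZero ((EtCoh.stalk ξ).obj F) := (mem_supp_iff F x ξ ((range_eq_iff ξ x).2 hξ)).1 hx
    obtain ⟨p, hp⟩ : ∃ p : ((EtCoh.stalk ξ).obj F : Type (u + 1)), p ≠ 0 := by
      by_contra h
      push Not at h
      exact hA (@AddCommGrpCat.isZero_of_subsingleton _ ⟨fun p q => by rw [h p, h q]⟩)
    obtain ⟨s, hs⟩ := hsurj (mkSec ξ ((EtCoh.stalk ξ).obj F) (EtCoh.top X) fun _ => p)
    have hs' : s ∉ Set.range i := by
      rintro ⟨t, rfl⟩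
      rw [hcomp t] at hs
      apply hp
      rw [← comp_mkSec ξ ((EtCoh.stalk ξ).obj F) (EtCoh.top X) (fun _ => p) (topPt ξ), ← hs, map_zero]
    have hlt : Nat.card (EtCoh.sect (kernel η) (EtCoh.top X)) <
        Nat.card (EtCoh.sect F (EtCoh.top X)) := by
      refine lt_of_le_of_ne (Nat.card_le_card_of_injective i hinj) fun h => hs' ?_
      exact ((Nat.bijective_iff_injective_and_card i).2 ⟨hinj, h⟩).surjective s
    exact ((ih (kernel η) (fun y hy => hF y (h1 hy)) hfinK (by omega)).insert _).subset h2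

end

/-- A sheaf on the spectrum of a separably closed field with finitely many global sections is killed
by their number. -/
theorem killedBy_card {k : Type u} [Field k] [IsSepClosed k]
    (F : EtCoh.Ab (Spec (CommRingCat.of k)))
    [Finite (EtCoh.sect F (EtCoh.top (Spec (CommRingCat.of k))))] :
    EtCoh.KilledBy (Nat.card (EtCoh.sect F (EtCoh.top (Spec (CommRingCat.of k))))) F := by
  intro V s
  refine Etbase.EtSections.eq_zero_of_vanishesAt F V _ fun v => ?_
  obtain ⟨t, w, hw⟩ := Sga4B.PointConst.exists_hom_top V v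
  refine ⟨_, t, w, hw, ?_⟩
  rw [map_nsmul]
  exact card_nsmul_eq_zero'

/-- A sheaf on the spectrum of a separably closed field with finitely many global sections is
constructible. -/
theorem isConstructible_point {k : Type u} [Field k] [IsSepClosed k]
    (F : EtCoh.Ab (Spec (CommRingCat.of k)))
    [Finite (EtCoh.sect F (EtCoh.top (Spec (CommRingCat.of k))))] : EtPBC.IsConstructible F := by
  obtain ⟨M, _, _, -, ⟨e⟩⟩ := Sga4B.PointConst.exists_iso_const F _ (killedBy_card F)
  exact EtpbcA.StrataGlob.isConstructible_of_iso e (Etrest.ConstBasic.isConstructible_const _ M)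

/-- On a scheme of finite type over a separably closed field, a sheaf supported at closed points with
finitely many global sections is constructible. -/
theorem isConstructible_of_finite_sect {K : Type u} [Field K] [IsSepClosed K]
    (a : X ⟶ Spec (CommRingCat.of K)) [LocallyOfFiniteType a] [QuasiCompact a] (F : EtCoh.Ab X)
    (hF : ∀ x ∈ EtPBC.supp F, IsClosed ({x} : Set X)) [Finite (EtCoh.sect F (EtCoh.top X))] :
    EtPBC.IsConstructible F := by
  have hN : IsNoetherian X := Groth.Agent.CurvesA.ClosedPtSep.isNoetherian a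
  have hfin : (EtPBC.supp F).Finite := finite_supp a _ F hF inferInstance le_rfl
  have hT : IsClosed (EtPBC.supp F) := by
    rw [← Set.biUnion_of_singleton (EtPBC.supp F)]
    exact hfin.isClosed_biUnion hF
  refine Sga4B.NoethCrit.isConstructible_of_generic F fun Z i hZ hi => ?_
  let U : Z.Opens := ⟨i ⁻¹' (EtPBC.supp F)ᶜ, hT.isOpen_compl.preimage i.continuous⟩
  by_cases hU : (U : Set Z).Nonempty
  · refine ⟨U, hU, EtpbcA.ConsExact.isConstructible_of_isZero ((isZero_iff _).2 ?_)⟩
    rw [supp_pull]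
    refine Set.eq_empty_iff_forall_notMem.2 fun z hz => ?_
    exact z.2 hz
  · have hall : ∀ z : Z, i z ∈ EtPBC.supp F := by
      intro z
      by_contra h
      exact hU ⟨z, h⟩
    have hcl0 : IsClosed ({i (genericPoint Z)} : Set X) := hF _ (hall _)
    have heq : ∀ z : Z, z = genericPoint Z := by
      intro z
      have h1 : z ∈ closure {genericPoint Z} := by rw [genericPoint_closure]; trivial
      have h2 : closure {genericPoint Z} ⊆ i ⁻¹' {i (genericPoint Z)} :=
        closure_minimal (by rintro _ rfl; rfl) (hcl0.preimage i.continuous)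
      exact i.isClosedEmbedding.injective (h2 h1)
    refine ⟨⊤, ⟨genericPoint Z, trivial⟩, ?_⟩
    obtain ⟨Ω, _, _, ζ, hζ⟩ := Etcore.Stalks.exists_geom
      (X := ((⊤ : Z.Opens) : Scheme.{u})) ⟨genericPoint Z, trivial⟩
    have hsur : Surjective ζ := ⟨fun z => ⟨default, by
      rw [hζ]; exact Subtype.ext (heq z.1).symm⟩⟩
    refine EtpbcA.ConsDescent.isConstructible_of_pull ζ _ ?_
    have hfinst : Finite ((EtCoh.stalk (ζ ≫ ((⊤ : Z.Opens).ι ≫ i))).obj F : Type (u + 1)) := by
      refine finite_stalk a _ ?_ F hF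
      have : (ζ ≫ ((⊤ : Z.Opens).ι ≫ i)) default = i (genericPoint Z) := by
        rw [Scheme.Hom.comp_apply, hζ]
        rfl
      rw [this]
      exact hcl0
    let e : (EtCoh.stalk (ζ ≫ ((⊤ : Z.Opens).ι ≫ i))).obj F ≅
        (EtpbcB.SepClosedPoint.Γtop (Spec (CommRingCat.of Ω))).obj ((EtCoh.pull ζ).obj
          ((EtCoh.pull ((⊤ : Z.Opens).ι ≫ i)).obj F)) :=
      (Etbase.StalkPull.stalkPullIso ((⊤ : Z.Opens).ι ≫ i) ζ).app F ≪≫
        (EtpbcB.SepClosedPoint.stalkIsoGammaPull (Ω := Ω) ζ).app _
    have hfin' : Finite (EtCoh.sect ((EtCoh.pull ζ).obj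
        ((EtCoh.pull ((⊤ : Z.Opens).ι ≫ i)).obj F)) (EtCoh.top (Spec (CommRingCat.of Ω)))) :=
      Finite.of_equiv _ e.addCommGroupIsoToAddEquiv.toEquiv
    exact isConstructible_point _

/-- On a scheme of finite type over a separably closed field, a sheaf supported at closed points with
finite `H⁰` is constructible. -/
theorem isConstructible_of_finite_H_zero (k : Type u) [Field k] [IsSepClosed k] (Y : Scheme.{u})
    (f : Y ⟶ Spec (CommRingCat.of k)) [LocallyOfFiniteType f] [QuasiCompact f] (Q : EtCoh.Ab Y)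
    (hsupp : ∀ y ∈ EtPBC.supp Q, IsClosed ({y} : Set Y)) (hfin : Finite (EtCoh.H Y Q 0)) :
    EtPBC.IsConstructible Q := by
  have : Finite (EtCoh.sect Q (EtCoh.top Y)) :=
    Finite.of_equiv _ (CurvesA.BdMap.h0 Q).symm.toEquiv
  exact isConstructible_of_finite_sect f Q hsupp

theorem W5 (k : Type u) [Field k] [IsSepClosed k] (Y : Scheme.{u})
    (f : Y ⟶ Spec (CommRingCat.of k)) [LocallyOfFiniteType f] [QuasiCompact f] (Q : EtCoh.Ab Y)
    (_hQ : EtCoh.IsTorsion Q)
    (hsupp : ∀ y ∈ EtPBC.supp Q, IsClosed ({y} : Set Y)) (hfin : Finite (EtCoh.H Y Q 0)) :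
    EtPBC.IsConstructible Q :=
  isConstructible_of_finite_H_zero k Y f Q hsupp hfin

end Groth.Agent.Sga4h.NcPunctual
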