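import Groth.Agent.Sga4h.WildPro
import Groth.Agent.Sga4h.ChartDVR
import Groth.Agent.Fdesc.SepClosedIn
import Mathlib.RingTheory.IsTensorProduct
import Mathlib.RingTheory.Localization.BaseChange
import Mathlib.FieldTheory.IsSepClosed
import Mathlib.RingTheory.Nakayama
import Mathlib.FieldTheory.PurelyInseparable.PerfectClosure

/-!
# Field theory over strictly henselian discrete valuation rings (for nearby cycles)

`R` strictly henselian DVR, `K = Frac R`, `L / K` separable algebraic.

* `coprime_finrank`: if `L` contains all `ℓ ^ a`-th roots of a uniformizer for the primes `ℓ ∣ n`,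
  then the finite Galois extensions of `L` have degree prime to `n`.
* `separableClosure_eq_bot`: `R → R'` local, uniformizer to uniformizer, residue field of `R`
  algebraically closed in that of `R'`: then `K` is separably closed in `K' = Frac R'`.
* `isField_tensor`: then `R' ⊗[R] L` is a field.
-/

set_option autoImplicit false

universe u

open TensorProduct

namespace Groth.Agent.Sga4h.WildField

open IsLocalRing

section coprime

open IntermediateField in
theorem coprime_finrank (R K L : Type u) [CommRing R] [IsDomain R] [IsDiscreteValuationRing R]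
    [Field K] [Algebra R K] [IsFractionRing R K] [Field L] [Algebra K L] [Algebra R L]
    [IsScalarTower R K L] [Algebra.IsSeparable K L]
    (hR : EtCoh.IsStrictlyHenselianLocalRing R) (n : ℕ) (hn : IsUnit (n : R)) {π : R}
    (hπ : Irreducible π)
    (h1 : ∀ ℓ : ℕ, ℓ.Prime → ℓ ∣ n → ∀ a : ℕ, ∃ z : L, z ^ (ℓ ^ a) = algebraMap R L π)
    (M : Type u) [Field M] [Algebra L M] [FiniteDimensional L M] [Algebra.IsSeparable L M] :
    (Module.finrank L M).Coprime n := by
  rw [Nat.coprime_iff_gcd_eq_one]
  by_contra hcon
  obtain ⟨ℓ, hℓ, hℓd⟩ := Nat.exists_prime_and_dvd hcon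
  have hℓM := hℓd.trans (Nat.gcd_dvd_left _ _)
  have hℓn := hℓd.trans (Nat.gcd_dvd_right _ _)
  have : Fact ℓ.Prime := ⟨hℓ⟩
  have hu : IsUnit (ℓ : R) := by
    obtain ⟨m, rfl⟩ := hℓn
    rw [Nat.cast_mul] at hn
    exact isUnit_of_mul_isUnit_left hn
  let Ω := SeparableClosure M
  let _ : Algebra L Ω := ((algebraMap M Ω).comp (algebraMap L M)).toAlgebra
  have : IsScalarTower L M Ω := .of_algebraMap_eq fun _ => rfl
  let _ : Algebra K Ω := ((algebraMap L Ω).comp (algebraMap K L)).toAlgebra
  have : IsScalarTower K L Ω := .of_algebraMap_eq fun _ => rfl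
  let _ : Algebra R Ω := ((algebraMap L Ω).comp (algebraMap R L)).toAlgebra
  have : IsScalarTower R L Ω := .of_algebraMap_eq fun _ => rfl
  have : IsScalarTower R K Ω := .of_algebraMap_eq fun r => by
    change algebraMap L Ω (algebraMap R L r) = algebraMap L Ω (algebraMap K L _)
    rw [← IsScalarTower.algebraMap_apply R K L]
  have : Algebra.IsSeparable L Ω := Algebra.IsSeparable.trans L M Ω
  have : Algebra.IsSeparable K Ω := Algebra.IsSeparable.trans K L Ω
  have : IsSepClosed Ω := inferInstance
  have : IsSepClosure K Ω := ⟨inferInstance, inferInstance⟩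
  have : IsGalois K Ω := IsSepClosure.isGalois
  let φ : L →ₐ[K] Ω := IsScalarTower.toAlgHom K L Ω
  let K₁ : IntermediateField K Ω := φ.fieldRange
  let eL : L ≃+* K₁ := (AlgEquiv.ofInjectiveField φ).toRingEquiv
  -- the image of `M`
  have hmem : ∀ x : K₁, (x : Ω) ∈ (algebraMap M Ω).fieldRange := by
    rintro ⟨x, y, rfl⟩
    exact ⟨algebraMap L M y, rfl⟩
  let M' : IntermediateField K₁ Ω :=
    { (algebraMap M Ω).fieldRange with
      algebraMap_mem' := fun x => hmem x
      inv_mem' := fun x hx => (algebraMap M Ω).fieldRange.inv_mem hx }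
  let eM : M ≃+* M' := (RingHom.rangeRestrictFieldEquiv (algebraMap M Ω))
  have hcomp : (algebraMap K₁ M').comp (eL : L →+* K₁) = (eM : M →+* M').comp (algebraMap L M) := by
    ext x
    rfl
  have hfr : Module.finrank L M = Module.finrank K₁ M' :=
    Algebra.finrank_eq_of_equiv_equiv eL eM hcomp
  have hfd : FiniteDimensional K₁ M' := by
    apply Module.finite_of_finrank_pos
    rw [← hfr]
    exact Module.finrank_pos
  have key := WildPro.not_dvd_finrank R K Ω hR ℓ hu hπ K₁ (fun a => by
    obtain ⟨z, hz⟩ := h1 ℓ hℓ hℓn a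
    refine ⟨algebraMap L Ω z, ⟨z, rfl⟩, ?_⟩
    rw [← map_pow, hz, ← IsScalarTower.algebraMap_apply]) M'
  rw [← hfr] at key
  exact key hℓM

end coprime

section sepclosed

variable (R K R' K' : Type u) [CommRing R] [IsDomain R] [IsDiscreteValuationRing R]
  [Field K] [Algebra R K] [IsFractionRing R K]
  [CommRing R'] [IsDomain R'] [IsDiscreteValuationRing R']
  [Field K'] [Algebra R' K'] [IsFractionRing R' K']
  [Algebra R R'] [Algebra K K'] [Algebra R K'] [IsScalarTower R K K'] [IsScalarTower R R' K']
  [IsLocalHom (algebraMap R R')]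

theorem separableClosure_eq_bot (hR : EtCoh.IsStrictlyHenselianLocalRing R)
    {π : R} (hπ : Irreducible π) (hπ' : Irreducible (algebraMap R R' π))
    (hres : ∀ x : ResidueField R', IsIntegral (ResidueField R) x →
      x ∈ Set.range (algebraMap (ResidueField R) (ResidueField R'))) :
    separableClosure K K' = ⊥ := by
  rw [eq_bot_iff]
  intro θ hθ
  rw [mem_separableClosure_iff] at hθ
  let L := IntermediateField.adjoin K {θ}
  have hsep : Algebra.IsSeparable K L := by
    exact (IntermediateField.isSeparable_adjoin_simple_iff_isSeparable K K').2 hθ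
  have hfd : FiniteDimensional K L :=
    IntermediateField.adjoin.finiteDimensional hθ.isIntegral
  have : IsScalarTower R K L := inferInstance
  let S := integralClosure R L
  have hDVR : IsDiscreteValuationRing S := TameExt.isDiscreteValuationRing R K L hR
  have hfin : Module.Finite R S := TameExt.module_finite R K L
  obtain ⟨e, f, hef, -, hram⟩ := TameExt.exists_ramification R K L hR
  -- the map `S → R'`
  have hex : ∀ s : S, ∃ r : R', algebraMap R' K' r = ((s : L) : K') := by
    intro s
    have h1 : IsIntegral R (s : L) := s.2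
    have h2 : IsIntegral R ((s : L) : K') := h1.map ((L.val.restrictScalars R : L →ₐ[R] K'))
    exact IsIntegrallyClosed.algebraMap_eq_of_integral h2.tower_top
  choose φ0 hφ0 using hex
  have hinj : Function.Injective (algebraMap R' K') := IsFractionRing.injective R' K'
  let φ : S →+* R' :=
    { toFun := φ0
      map_one' := hinj (by rw [hφ0, map_one]; rfl)
      map_mul' := fun a b => hinj (by rw [hφ0, map_mul, hφ0, hφ0]; rfl)
      map_zero' := hinj (by rw [hφ0, map_zero]; rfl)
      map_add' := fun a b => hinj (by rw [hφ0, map_add, hφ0, hφ0]; rfl) }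
  have hφ : ∀ s, algebraMap R' K' (φ s) = ((s : L) : K') := hφ0
  have hφR : ∀ r : R, φ (algebraMap R S r) = algebraMap R R' r := by
    intro r
    apply hinj
    rw [hφ, ← IsScalarTower.algebraMap_apply R R' K']
    rfl
  have hloc : IsLocalHom φ := by
    constructor
    intro a ha
    by_contra hna
    obtain ⟨ϖ, hϖ⟩ := IsDiscreteValuationRing.exists_irreducible S
    have h1 : ϖ ∣ a := by
      rw [← Ideal.mem_span_singleton, ← hϖ.maximalIdeal_eq]
      exact hna
    have h2 : IsUnit (φ ϖ) := isUnit_of_dvd_unit (map_dvd φ h1) ha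
    obtain ⟨u, hu⟩ := hram ϖ hϖ π hπ
    apply hπ'.not_isUnit
    rw [← hφR, hu, map_mul, map_pow]
    exact (u.isUnit.map φ).mul (h2.pow e)
  obtain ⟨ϖ, hϖ⟩ := IsDiscreteValuationRing.exists_irreducible S
  obtain ⟨u, hu⟩ := hram ϖ hϖ π hπ
  have he : e = 1 := by
    have h1 : Irreducible (φ u * φ ϖ ^ e) := by
      rw [← map_pow, ← map_mul, ← hu, hφR]
      exact hπ'
    have h2 : ¬ IsUnit (φ ϖ) := fun h => hϖ.not_isUnit (hloc.map_nonunit _ h)
    have h3 : Irreducible (φ ϖ ^ e) := by
      rwa [irreducible_isUnit_mul (u.isUnit.map φ)] at h1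
    rcases e with _ | _ | e
    · simp at h3
    · rfl
    · rw [pow_succ, pow_succ] at h3
      rcases h3.isUnit_or_isUnit rfl with h | h
      · exact absurd (isUnit_of_mul_isUnit_right h) h2
      · exact absurd h h2
  have hmax : maximalIdeal S = (maximalIdeal R).map (algebraMap R S) := by
    rw [hϖ.maximalIdeal_eq, hπ.maximalIdeal_eq, Ideal.map_span, Set.image_singleton,
      Ideal.span_singleton_eq_span_singleton, hu, he, pow_one]
    exact ⟨u, mul_comm _ _⟩
  -- residue fields
  have hsurj : Function.Surjective (algebraMap R S) := by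
    have htop : (⊤ : Submodule R S) ≤ LinearMap.range (Algebra.linearMap R S) ⊔
        maximalIdeal R • (⊤ : Submodule R S) := by
      intro s _
      have h1 : IsIntegral (ResidueField R) (residue R' (φ s)) := by
        have h2 : IsIntegral R (φ s) := by
          have : IsIntegral R s := Algebra.IsIntegral.isIntegral s
          let φa : S →ₐ[R] R' := { φ with commutes' := hφR }
          exact this.map φa
        have h3 : IsIntegral R (residue R' (φ s)) :=
          h2.map (IsScalarTower.toAlgHom R R' (ResidueField R'))
        exact h3.tower_top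
      obtain ⟨y, hy⟩ := hres _ h1
      obtain ⟨r, rfl⟩ := residue_surjective y
      have h4 : residue R' (φ (s - algebraMap R S r)) = 0 := by
        rw [map_sub, map_sub, hφR, ← hy, sub_eq_zero]
        rfl
      have h5 : s - algebraMap R S r ∈ maximalIdeal S := by
        rw [residue_eq_zero_iff] at h4
        intro hunit
        exact h4 (hunit.map φ)
      rw [hmax] at h5
      have h6 : s - algebraMap R S r ∈ maximalIdeal R • (⊤ : Submodule R S) := by
        rw [Ideal.smul_top_eq_map]
        exact h5
      rw [Submodule.mem_sup]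
      exact ⟨algebraMap R S r, ⟨r, rfl⟩, _, h6, by ring⟩
    have h7 := Submodule.le_of_le_smul_of_le_jacobson_bot
      (N := LinearMap.range (Algebra.linearMap R S)) (N' := (⊤ : Submodule R S)) hfin.fg_top
      (IsLocalRing.maximalIdeal_le_jacobson _) (by exact htop)
    intro s
    obtain ⟨r, hr⟩ := h7 (Submodule.mem_top (x := s))
    exact ⟨r, hr⟩
  have hfr : IsFractionRing S L := TameExt.isFractionRing R K L
  obtain ⟨a, b, hb, hab⟩ := IsFractionRing.div_surjective (A := S)
    (⟨θ, IntermediateField.mem_adjoin_simple_self K θ⟩ : L)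
  obtain ⟨a, rfl⟩ := hsurj a
  obtain ⟨b, rfl⟩ := hsurj b
  rw [IntermediateField.mem_bot]
  refine ⟨algebraMap R K a / algebraMap R K b, ?_⟩
  have h8 := congrArg (algebraMap L K') hab
  rw [map_div₀] at h8
  rw [map_div₀, ← IsScalarTower.algebraMap_apply, ← IsScalarTower.algebraMap_apply]
  exact h8

variable (L : Type u) [Field L] [Algebra K L] [Algebra R L] [IsScalarTower R K L]
  [Algebra.IsSeparable K L]

omit [IsLocalHom (algebraMap R R')] in
theorem isPushout_fractionRing {π : R} (hπ : Irreducible π) (hπ' : Irreducible (algebraMap R R' π)) :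
    Algebra.IsPushout R R' K K' := by
  have hloc : IsLocalization (Algebra.algebraMapSubmonoid R' (nonZeroDivisors R)) K' := by
    have hinj : Function.Injective (algebraMap R R') := by
      intro a b hab
      apply IsFractionRing.injective R K
      apply (algebraMap K K').injective
      rw [← IsScalarTower.algebraMap_apply, ← IsScalarTower.algebraMap_apply,
        IsScalarTower.algebraMap_apply R R' K', hab, ← IsScalarTower.algebraMap_apply]
    refine ⟨?_, ?_, ?_⟩
    · rintro ⟨_, r, hr, rfl⟩
      rw [isUnit_iff_ne_zero]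
      change algebraMap R' K' (algebraMap R R' r) ≠ 0
      rw [Ne, map_eq_zero_iff _ (IsFractionRing.injective R' K'), map_eq_zero_iff _ hinj]
      exact nonZeroDivisors.ne_zero hr
    · intro z
      obtain ⟨a, b, hb, rfl⟩ := IsFractionRing.div_surjective (A := R') z
      have hb0 := nonZeroDivisors.ne_zero hb
      obtain ⟨n, u, hu⟩ := IsDiscreteValuationRing.eq_unit_mul_pow_irreducible hb0 hπ'
      refine ⟨(a * (u⁻¹ : R'ˣ), ⟨algebraMap R R' (π ^ n), π ^ n,
        mem_nonZeroDivisors_of_ne_zero (pow_ne_zero _ hπ.ne_zero), rfl⟩), ?_⟩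
      have hbK : algebraMap R' K' b ≠ 0 := by
        rwa [Ne, map_eq_zero_iff _ (IsFractionRing.injective R' K')]
      have h1 : algebraMap R R' (π ^ n) = b * (u⁻¹ : R'ˣ) := by
        rw [hu, map_pow, mul_comm, ← mul_assoc, Units.inv_mul, one_mul]
      change algebraMap R' K' a / algebraMap R' K' b * algebraMap R' K' (algebraMap R R' (π ^ n)) =
        algebraMap R' K' (a * (u⁻¹ : R'ˣ))
      rw [h1, map_mul, map_mul]
      field_simp
    · intro x y hxy
      exact ⟨1, by rw [IsFractionRing.injective R' K' hxy]⟩
  exact (Algebra.isLocalization_iff_isPushout (nonZeroDivisors R) K).1 hloc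

omit [Algebra R L] [IsScalarTower R K L] in
theorem isField_tensor_fractionRing (hR : EtCoh.IsStrictlyHenselianLocalRing R)
    {π : R} (hπ : Irreducible π) (hπ' : Irreducible (algebraMap R R' π))
    (hres : ∀ x : ResidueField R', IsIntegral (ResidueField R) x →
      x ∈ Set.range (algebraMap (ResidueField R) (ResidueField R'))) :
    IsField (K' ⊗[K] L) :=
  Fdesc.SepClosedIn.isField_tensorProduct (separableClosure_eq_bot R K R' K' hR hπ hπ' hres)

/-- A pushout `L'` of `L` along `R → R'` which is a field, separable algebraic over `K'`. -/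
theorem exists_field (hR : EtCoh.IsStrictlyHenselianLocalRing R)
    {π : R} (hπ : Irreducible π) (hπ' : Irreducible (algebraMap R R' π))
    (hres : ∀ x : ResidueField R', IsIntegral (ResidueField R) x →
      x ∈ Set.range (algebraMap (ResidueField R) (ResidueField R'))) :
    ∃ (L' : Type u) (_ : Field L') (_ : Algebra K' L') (_ : Algebra L L') (_ : Algebra R L')
      (_ : Algebra R' L') (_ : Algebra K L') (_ : IsScalarTower R' K' L')
      (_ : IsScalarTower R L L') (_ : IsScalarTower R R' L') (_ : IsScalarTower K L L')
      (_ : IsScalarTower K K' L'),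
      Algebra.IsPushout R R' L L' ∧ Algebra.IsPushout K K' L L' ∧ Algebra.IsSeparable K' L' := by
  have hF := isField_tensor_fractionRing R K R' K' L hR hπ hπ' hres
  let _ : Field (K' ⊗[K] L) := hF.toField
  let _ : Algebra L (K' ⊗[K] L) := Algebra.TensorProduct.rightAlgebra
  have i1 : IsScalarTower R' K' (K' ⊗[K] L) := inferInstance
  have i3 : IsScalarTower K L (K' ⊗[K] L) := inferInstance
  have i5 : IsScalarTower K K' (K' ⊗[K] L) := inferInstance
  have i4 : IsScalarTower R K (K' ⊗[K] L) := .of_algebraMap_eq fun r => by
    change (algebraMap R K' r) ⊗ₜ[K] (1 : L) = (algebraMap K K' _) ⊗ₜ[K] (1 : L)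
    rw [← IsScalarTower.algebraMap_apply R K K']
  have i2 : IsScalarTower R L (K' ⊗[K] L) := .of_algebraMap_eq fun r => by
    rw [IsScalarTower.algebraMap_apply R K (K' ⊗[K] L),
      IsScalarTower.algebraMap_apply K L (K' ⊗[K] L), ← IsScalarTower.algebraMap_apply R K L]
  have i7 : IsScalarTower R R' (K' ⊗[K] L) := .of_algebraMap_eq fun r => by
    change (algebraMap R K' r) ⊗ₜ[K] (1 : L) = (algebraMap R' K' _) ⊗ₜ[K] (1 : L)
    rw [← IsScalarTower.algebraMap_apply R R' K']
  have p1 : Algebra.IsPushout R R' K K' := isPushout_fractionRing R K R' K' hπ hπ'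
  have p2 : Algebra.IsPushout K K' L (K' ⊗[K] L) := inferInstance
  refine ⟨K' ⊗[K] L, inferInstance, inferInstance, inferInstance, inferInstance, inferInstance,
    inferInstance, i1, i2, i7, i3, i5, ?_, p2, ?_⟩
  · have p1' : Algebra.IsPushout R K R' K' := p1.symm
    have p2' : Algebra.IsPushout K L K' (K' ⊗[K] L) := p2.symm
    exact ((Algebra.IsPushout.comp_iff R K R' K').2 p2').symm
  · rw [← separableClosure.eq_top_iff, eq_top_iff]
    intro x _
    induction x using TensorProduct.induction_on with
    | zero => exact zero_mem _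
    | add x y hx hy =>
      exact add_mem (hx (IntermediateField.mem_top)) (hy (IntermediateField.mem_top))
    | tmul a b =>
      have h1 : (a ⊗ₜ[K] b : K' ⊗[K] L) = algebraMap K' (K' ⊗[K] L) a * algebraMap L (K' ⊗[K] L) b := by
        change _ = (a ⊗ₜ[K] (1 : L) : K' ⊗[K] L) * ((1 : K') ⊗ₜ[K] b)
        rw [Algebra.TensorProduct.tmul_mul_tmul, mul_one, one_mul]
      rw [h1]
      refine mul_mem ((separableClosure K' _).algebraMap_mem a) ?_
      rw [mem_separableClosure_iff]
      have h2 : IsSeparable K b := Algebra.IsSeparable.isSeparable K b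
      have h3 : IsSeparable K (algebraMap L (K' ⊗[K] L) b) :=
        h2.map (IsScalarTower.toAlgHom K L (K' ⊗[K] L)) (algebraMap L (K' ⊗[K] L)).injective
      exact h3.tower_top K'

end sepclosed

section residue

open Polynomial ChartDVR

theorem isLocalHom_gauss (R : Type u) [CommRing R] [IsDomain R] [IsDiscreteValuationRing R] :
    IsLocalHom (algebraMap R (Gauss R)) := by
  constructor
  intro a ha
  by_contra hna
  obtain ⟨p, hp⟩ := IsDiscreteValuationRing.exists_irreducible R
  have h1 : p ∣ a := by
    rw [← Ideal.mem_span_singleton, ← hp.maximalIdeal_eq]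
    exact hna
  exact (irreducible_gauss R hp).not_isUnit (isUnit_of_dvd_unit (map_dvd _ h1) ha)

/-- The residue field of `R` is algebraically closed in that of `R[t]_(π)`. -/
theorem mem_range_gauss (R : Type u) [CommRing R] [IsDomain R] [IsDiscreteValuationRing R]
    [IsLocalHom (algebraMap R (Gauss R))] (y : ResidueField (Gauss R))
    (hy : IsIntegral (ResidueField R) y) :
    y ∈ Set.range (algebraMap (ResidueField R) (ResidueField (Gauss R))) := by
  let k := ResidueField R
  let e : k[X] ≃+* (R[X] ⧸ primeIdeal R) :=
    (maximalIdeal R).polynomialQuotientEquivQuotientPolynomial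
  let _ : Algebra k[X] (ResidueField (Gauss R)) :=
    ((algebraMap (R[X] ⧸ primeIdeal R) ((primeIdeal R).ResidueField)).comp (e : k[X] →+* _)).toAlgebra
  have hfrac : IsFractionRing k[X] (ResidueField (Gauss R)) := by
    have h0 : IsFractionRing (R[X] ⧸ primeIdeal R) ((primeIdeal R).ResidueField) := inferInstance
    exact IsFractionRing.of_ringEquiv_left e (fun _ => rfl)
  have htow : IsScalarTower k k[X] (ResidueField (Gauss R)) := .of_algebraMap_eq fun x => by
    obtain ⟨r, rfl⟩ := residue_surjective x
    change residue (Gauss R) (algebraMap R (Gauss R) r) =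
      algebraMap (R[X] ⧸ primeIdeal R) ((primeIdeal R).ResidueField) (e (C (residue R r)))
    have h1 : e (C (residue R r)) = Ideal.Quotient.mk (primeIdeal R) (C r) := by
      have := (maximalIdeal R).polynomialQuotientEquivQuotientPolynomial_map_mk (C r)
      rw [Polynomial.map_C] at this
      exact this
    rw [h1]
    rfl
  have h2 : IsIntegral k[X] y := hy.tower_top
  obtain ⟨p, hp⟩ := IsIntegrallyClosed.algebraMap_eq_of_integral h2
  have h3 : IsIntegral k p := by
    rw [← hp] at hy
    exact (isIntegral_algHom_iff (IsScalarTower.toAlgHom k k[X] (ResidueField (Gauss R)))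
      (IsFractionRing.injective k[X] (ResidueField (Gauss R)))).1 hy
  have h4 : ∃ c : k, p = C c := by
    by_contra hcon
    push Not at hcon
    have h5 : p.natDegree ≠ 0 := fun h =>
      hcon _ (Polynomial.eq_C_of_natDegree_eq_zero h)
    have h6 : Transcendental k p := by
      refine Polynomial.transcendental p h5 ?_
      exact mem_nonZeroDivisors_of_ne_zero (by
        rw [Ne, Polynomial.leadingCoeff_eq_zero]
        rintro rfl
        exact h5 natDegree_zero)
    exact h6 h3.isAlgebraic
  obtain ⟨c, rfl⟩ := h4
  refine ⟨c, ?_⟩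
  rw [← hp, ← Polynomial.algebraMap_eq, ← IsScalarTower.algebraMap_apply]

/-- The residue field of `R` is algebraically closed in that of the strict henselization of
`R[t]_(π)`. -/
theorem mem_range_of_isStrictHenselization (R : Type u) [CommRing R] [IsDomain R]
    [IsDiscreteValuationRing R] [IsSepClosed (ResidueField R)] (S : Type u) [CommRing S]
    [IsLocalRing S] [Algebra (Gauss R) S] [IsLocalHom (algebraMap (Gauss R) S)]
    [Hensel.IsStrictHenselization (Gauss R) S] [Algebra R S] [IsScalarTower R (Gauss R) S]
    [IsLocalHom (algebraMap R S)] (x : ResidueField S) (hx : IsIntegral (ResidueField R) x) :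
    x ∈ Set.range (algebraMap (ResidueField R) (ResidueField S)) := by
  have := isLocalHom_gauss R
  have htow : IsScalarTower (ResidueField R) (ResidueField (Gauss R)) (ResidueField S) :=
    .of_algebraMap_eq fun z => by
      obtain ⟨r, rfl⟩ := residue_surjective z
      change residue S (algebraMap R S r) = residue S (algebraMap (Gauss R) S (algebraMap R (Gauss R) r))
      rw [← IsScalarTower.algebraMap_apply]
  have hsep : IsSepClosure (ResidueField (Gauss R)) (ResidueField S) :=
    Hensel.IsStrictHenselization.isSepClosure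
  have h1 : x ∈ separableClosure (ResidueField (Gauss R)) (ResidueField S) := by
    rw [mem_separableClosure_iff]
    have := hsep.separable
    exact Algebra.IsSeparable.isSeparable _ x
  have h2 : x ∈ perfectClosure (ResidueField (Gauss R)) (ResidueField S) := by
    let q := ringExpChar (ResidueField R)
    have : ExpChar (ResidueField R) q := ringExpChar.expChar _
    have : ExpChar (ResidueField (Gauss R)) q :=
      expChar_of_injective_algebraMap (algebraMap (ResidueField R) (ResidueField (Gauss R))).injective q
    rw [mem_perfectClosure_iff_pow_mem q]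
    let A := IntermediateField.adjoin (ResidueField R) {x}
    have : FiniteDimensional (ResidueField R) A := IntermediateField.adjoin.finiteDimensional hx
    have hpi : IsPurelyInseparable (ResidueField R) A := inferInstance
    obtain ⟨n, z, hz⟩ := (isPurelyInseparable_iff_pow_mem (ResidueField R) q).1 hpi
      ⟨x, IntermediateField.mem_adjoin_simple_self _ x⟩
    refine ⟨n, algebraMap _ _ z, ?_⟩
    rw [← IsScalarTower.algebraMap_apply]
    exact congrArg (algebraMap A (ResidueField S)) hz
  have h3 : x ∈ (⊥ : IntermediateField (ResidueField (Gauss R)) (ResidueField S)) := by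
    rw [← separableClosure_inf_perfectClosure]
    exact ⟨h1, h2⟩
  rw [IntermediateField.mem_bot] at h3
  obtain ⟨y, rfl⟩ := h3
  have hy : IsIntegral (ResidueField R) y :=
    (isIntegral_algHom_iff (IsScalarTower.toAlgHom (ResidueField R) (ResidueField (Gauss R))
      (ResidueField S)) (algebraMap (ResidueField (Gauss R)) (ResidueField S)).injective).1 hx
  obtain ⟨z, rfl⟩ := mem_range_gauss R y hy
  exact ⟨z, IsScalarTower.algebraMap_apply _ _ _ _⟩

end residue

end Groth.Agent.Sga4h.WildField
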