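import Groth.Agent.Sga4h.NcDefs
import Groth.Agent.Sga4h.WildField

/-!
# Root closed extensions (input (A1) of S3132)
-/

set_option autoImplicit false

universe u

open Groth.Agent.Sga4h.NcDefs

namespace Groth.Agent.Sga4h.NcRootA

/-- (A1): all finite separable extensions of a root closed separable algebraic extension of the
fraction field of a strictly henselian discrete valuation ring have degree prime to `n`. -/
theorem A1 (R : Type u) [CommRing R] [IsDomain R] [IsDiscreteValuationRing R]
    (hR : EtCoh.IsStrictlyHenselianLocalRing R) (K L : Type u) [Field K] [Algebra R K]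
    [IsFractionRing R K] [Field L] [Algebra K L] [Algebra R L] [IsScalarTower R K L]
    [Algebra.IsSeparable K L] (n : ℕ) (hn : IsUnit (n : R)) (hrc : RootClosed n R L)
    (M : Type u) [Field M] [Algebra L M] [FiniteDimensional L M] [Algebra.IsSeparable L M] :
    (Module.finrank L M).Coprime n := by
  obtain ⟨π, hπ⟩ := IsDiscreteValuationRing.exists_irreducible R
  exact WildField.coprime_finrank R K L hR n hn hπ (hrc π hπ) M

end Groth.Agent.Sga4h.NcRootA
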