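import Groth.Prelude.Def_SGA4h
import Groth.Prelude.Def_PBC
import Groth.Prelude.Def_EtCore
import Groth.Agent.S0134
import Groth.Agent.S0141
import Groth.Agent.EtpbcA.SuppCons
import Groth.Agent.EtpbcA.Compact2
import Mathlib.AlgebraicGeometry.Noetherian

/-!
# Constructible subsheaves of a torsion sheaf exhausting constructible pullbacks
-/

set_option autoImplicit false
universe u
open CategoryTheory CategoryTheory.Limits AlgebraicGeometry Opposite

namespace Groth.Agent.Sga4h.NcSubCons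

open EtpbcA

/-- A constructible sheaf which is a filtered colimit is a retract of one of the terms. -/
theorem exists_section {X : Scheme.{u}} [CompactSpace X] [QuasiSeparatedSpace X]
    {J : Type (u + 1)} [SmallCategory J] [IsFiltered J] {D : J ⥤ EtCoh.Ab X} {c : Cocone D} (hc : IsColimit c)
    (h : EtPBC.IsConstructible c.pt) : ∃ (j : J) (s : c.pt ⟶ D.obj j), s ≫ c.ι.app j = 𝟙 c.pt := by
  have h1 : PreservesColimitsOfShape J (coyoneda.obj (op c.pt)) :=
    Compact2.preservesColimitsOfShape_of_isConstructible.{u, u + 1, u + 1} J h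
  have h2 := isColimitOfPreserves (coyoneda.obj (op c.pt)) hc
  obtain ⟨j, s, hs⟩ := Types.jointly_surjective _ h2 (𝟙 c.pt)
  exact ⟨j, s, hs⟩

theorem exists_constructible_subsheaf (Y : Scheme.{u}) [IsNoetherian Y] (P : EtCoh.Ab Y) (hP : EtCoh.IsTorsion P)
    {ι : Type} [Finite ι] (Z : ι → Scheme.{u}) [∀ i, IsNoetherian (Z i)] (g : ∀ i, Z i ⟶ Y)
    (hc : ∀ i, EtPBC.IsConstructible ((EtCoh.pull (g i)).obj P)) :
    ∃ (G : EtCoh.Ab Y) (a : G ⟶ P), Mono a ∧ EtPBC.IsConstructible G ∧
      ∀ i, IsZero ((EtCoh.pull (g i)).obj (cokernel a)) := by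
  obtain ⟨J, i1, i2, D, c, hcol, hD, ⟨e⟩⟩ := S0134.result Y P hP
  have hcons : ∀ j, EtPBC.IsConstructible ((SuppCons.imD c).obj j) := fun j => by
    obtain ⟨n, hn, hDn⟩ := KilledBy.exists_killedBy_of_isConstructible (hD j)
    exact S0141.result Y (SuppCons.imE c j) n hn hDn (hD j)
  have him := SuppCons.imCIsColimit hcol
  -- one index for every `i`
  have hpc : ∀ i, PreservesColimitsOfSize.{u + 1, u + 1} (EtCoh.pull (g i)) := fun i =>
    (EtCoh.pullPushAdj (g i)).leftAdjoint_preservesColimits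
  have hpc' : ∀ i, PreservesColimitsOfSize.{0, 0} (EtCoh.pull (g i)) := fun i =>
    (EtCoh.pullPushAdj (g i)).leftAdjoint_preservesColimits
  have key : ∀ i, ∃ j, Epi ((EtCoh.pull (g i)).map ((SuppCons.imC c).ι.app j)) := by
    intro i
    have := hpc i
    have h1 := isColimitOfPreserves (EtCoh.pull (g i)) him
    have h2 : EtPBC.IsConstructible ((EtCoh.pull (g i)).mapCocone (SuppCons.imC c)).pt :=
      StrataGlob.isConstructible_of_iso ((EtCoh.pull (g i)).mapIso e.symm) (hc i)
    obtain ⟨j, s, hs⟩ := exists_section h1 h2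
    refine ⟨j, ?_⟩
    have : Epi (s ≫ ((EtCoh.pull (g i)).mapCocone (SuppCons.imC c)).ι.app j) := by
      rw [hs]; infer_instance
    exact epi_of_epi s (((EtCoh.pull (g i)).mapCocone (SuppCons.imC c)).ι.app j)
  choose j hj using key
  obtain ⟨k, hk⟩ : ∃ k : J, ∀ i, Nonempty (j i ⟶ k) := by
    classical
    have := Fintype.ofFinite ι
    obtain ⟨k, hk⟩ := IsFiltered.sup_objs_exists (Finset.univ.image j)
    exact ⟨k, fun i => hk (Finset.mem_image_of_mem j (Finset.mem_univ i))⟩
  have hepi : ∀ i, Epi ((EtCoh.pull (g i)).map ((SuppCons.imC c).ι.app k)) := by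
    intro i
    obtain ⟨f⟩ := hk i
    have h1 : (EtCoh.pull (g i)).map ((SuppCons.imC c).ι.app (j i)) =
      (EtCoh.pull (g i)).map ((SuppCons.imD c).map f) ≫ (EtCoh.pull (g i)).map ((SuppCons.imC c).ι.app k) := by
      rw [← Functor.map_comp, (SuppCons.imC c).w]
    have h2 := hj i
    rw [h1] at h2
    exact epi_of_epi ((EtCoh.pull (g i)).map ((SuppCons.imD c).map f))
      ((EtCoh.pull (g i)).map ((SuppCons.imC c).ι.app k))
  refine ⟨(SuppCons.imD c).obj k, (SuppCons.imC c).ι.app k ≫ e.hom, mono_comp _ _, hcons k, fun i => ?_⟩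
  have h1 : Epi ((EtCoh.pull (g i)).map ((SuppCons.imC c).ι.app k ≫ e.hom)) := by
    rw [Functor.map_comp]
    have := hepi i
    exact epi_comp _ _
  have h2 : IsZero (cokernel ((EtCoh.pull (g i)).map ((SuppCons.imC c).ι.app k ≫ e.hom))) :=
    isZero_cokernel_of_epi _
  have := hpc' i
  exact h2.of_iso (PreservesCokernel.iso (EtCoh.pull (g i)) ((SuppCons.imC c).ι.app k ≫ e.hom))

end Groth.Agent.Sga4h.NcSubCons
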