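import Groth.Agent.Sga4h.NcHull2
import Groth.Prelude.Def_PBC
import Groth.Agent.Proet.IndEtale
import Groth.Agent.Hensel.Exist

/-!
# Traits with a root-closed extension of the generic point, and the hull of the affine line
-/

set_option autoImplicit false
set_option linter.unusedSectionVars false
set_option linter.overlappingInstances false
set_option linter.style.haveILetI false

universe u

noncomputable section

namespace Groth.Agent.Sga4h.NcTD

open IsLocalRing Polynomial CategoryTheory CategoryTheory.Limits AlgebraicGeometry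
open scoped TensorProduct
open Groth.Agent.Sga4h.NcDefs Groth.Agent.Sga4h.NcHull

/-- Strictly henselian traits `R` with `n` invertible and a separable algebraic extension `L` of the
fraction field `K` in which uniformizers of `R` have `ℓ ^ a`-th roots for `ℓ ∣ n`. -/
structure TD (n : ℕ) where
  /-- the discrete valuation ring -/
  R : Type u
  /-- its fraction field -/
  K : Type u
  /-- the extension -/
  L : Type u
  [cR : CommRing R]
  [dR : IsDomain R]
  [vR : IsDiscreteValuationRing R]
  [fK : Field K]
  [aRK : Algebra R K]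
  [frK : IsFractionRing R K]
  [fL : Field L]
  [aKL : Algebra K L]
  [aRL : Algebra R L]
  [st : IsScalarTower R K L]
  [sep : Algebra.IsSeparable K L]
  hR : EtCoh.IsStrictlyHenselianLocalRing R
  hn : IsUnit (n : R)
  hrc : RootClosed n R L

attribute [instance] TD.cR TD.dR TD.vR TD.fK TD.aRK TD.frK TD.fL TD.aKL TD.aRL TD.st TD.sep

variable {n : ℕ}

/-- The strict localisation of the affine line at the generic point of the special fibre. -/
structure Hull (T : TD.{u} n) where
  /-- the new trait -/
  T' : TD.{u} n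
  /-- coordinate -/
  ρ : T.R[X] →+* T'.R
  /-- fraction fields -/
  κ : T.K →+* T'.K
  /-- extensions -/
  lam : T.L →+* T'.L
  h1 : κ.comp (algebraMap T.R T.K) = (algebraMap T'.R T'.K).comp (ρ.comp C)
  h2 : lam.comp (algebraMap T.K T.L) = (algebraMap T'.K T'.L).comp κ
  h3 : IsPushout (CommRingCat.ofHom (algebraMap T.R T.L)) (CommRingCat.ofHom (ρ.comp C))
    (CommRingCat.ofHom lam) (CommRingCat.ofHom (algebraMap T'.R T'.L))
  h4 : letI := ρ.toAlgebra
    EtPBC.IsIndEtale T.R[X] T'.R
  h5 : (maximalIdeal T'.R).comap ρ = (maximalIdeal T.R).map C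

theorem exists_hull (T : TD.{u} n) : Nonempty (Hull T) := by
  obtain ⟨R', i1, i2, i3, i4, i5, -⟩ :=
    Groth.Agent.Hensel.Exist.exists_isStrictHenselization (O T.R)
  let i6 : Algebra T.R[X] R' := ((algebraMap (O T.R) R').comp (algebraMap T.R[X] (O T.R))).toAlgebra
  have i7 : IsScalarTower T.R[X] (O T.R) R' := IsScalarTower.of_algebraMap_eq fun _ => rfl
  let i8 : Algebra T.R R' := ((algebraMap T.R[X] R').comp C).toAlgebra
  have i9 : IsScalarTower T.R T.R[X] R' := IsScalarTower.of_algebraMap_eq fun _ => rfl
  have i10 : IsScalarTower T.R (O T.R) R' := IsScalarTower.of_algebraMap_eq fun _ => rfl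
  have i11 : IsDomain R' := isDomain T.R R'
  have i12 : IsDiscreteValuationRing R' := isDiscreteValuationRing T.R R'
  have hT : IsField (TT T.R R' T.L) := isField_TT T.R R' T.K T.L T.hR
  have i13 : IsDomain (TT T.R R' T.L) := hT.isDomain
  let i14 : Algebra (FractionRing R') (L' T.R R' T.L) := (kToL' T.R R' T.K T.L).toAlgebra
  let i15 : Algebra R' (L' T.R R' T.L) := (toL' T.R R' T.L).toAlgebra
  have i16 : IsScalarTower R' (FractionRing R') (L' T.R R' T.L) :=
    IsScalarTower.of_algebraMap_eq fun r => (kToL'_algebraMap T.R R' T.K T.L r).symm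
  have i17 : Algebra.IsSeparable (FractionRing R') (L' T.R R' T.L) := isSeparable T.R R' T.K T.L hT
  have hn' : IsUnit (n : R') := by
    have := T.hn.map (algebraMap T.R R')
    rwa [map_natCast] at this
  let T' : TD.{u} n :=
    { R := R'
      K := FractionRing R'
      L := L' T.R R' T.L
      hR := isStrictlyHenselianLocalRing T.R R'
      hn := hn'
      hrc := rootClosed T.R R' T.L n T.hn T.hrc }
  refine ⟨⟨T', algebraMap T.R[X] R', kToK' T.R R' T.K, lToL' T.R R' T.L, ?_, ?_, ?_, ?_, ?_⟩⟩
  · ext r
    exact kToK'_algebraMap T.R R' T.K r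
  · exact comp_eq T.R R' T.K T.L
  · have hbij := IsField.localization_map_bijective (Rₘ := L' T.R R' T.L)
      (M := nonZeroDivisors (TT T.R R' T.L)) (zero_notMem_nonZeroDivisors) hT
    let e : CommRingCat.of (TT T.R R' T.L) ≅ CommRingCat.of (L' T.R R' T.L) :=
      (RingEquiv.ofBijective _ hbij).toCommRingCatIso
    refine IsPushout.of_iso (CommRingCat.isPushout_tensorProduct T.R T.L R') (Iso.refl _) (Iso.refl _)
      (Iso.refl _) e ?_ ?_ ?_ ?_
    · simp
    · simp; rfl
    · simp; rfl
    · simp; rfl
  · exact (Groth.Agent.Proet.IndEtale.isIndEtale_iff_factor T.R[X] R').mpr (fun Z _ _ hZ g => by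
      obtain ⟨E, j1, j2, j3, a, b, hab⟩ := isIndEtale T.R R' Z g
      exact ⟨E, j1, j2, a, b, j3, hab⟩)
  · change (maximalIdeal R').comap ((algebraMap (O T.R) R').comp (algebraMap T.R[X] (O T.R))) = P T.R
    rw [← Ideal.comap_comap]
    have h6 : (maximalIdeal R').comap (algebraMap (O T.R) R') = maximalIdeal (O T.R) :=
      ((local_hom_TFAE (algebraMap (O T.R) R')).out 0 4).mp i4
    rw [h6]
    exact Localization.AtPrime.comap_maximalIdeal

end Groth.Agent.Sga4h.NcTD
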