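import Groth.Agent.S3106
import Groth.Agent.Etbase.FinLiftSch
import Groth.Agent.Etcore.ExtAdj
import Groth.Agent.Etcore.HpullComp
import Groth.Agent.CurvesA.EtKilled
import Groth.Prelude.Def_EtCore

/-!
# Transfer for finite locally free morphisms

* `smul_eq_zero_of_hp`: if `π : X' ⟶ X` is finite, flat, locally of finite presentation of constant rank `d`
  and `x ∈ H^q(X, F)` dies in `H^q(X', π⁻¹ F)` then `d • x = 0`.
-/

set_option autoImplicit false
universe u
open CategoryTheory CategoryTheory.Limits AlgebraicGeometry Opposite Abelian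
open scoped Groth.Agent.Etcore.EtInst
open Groth.Agent.Etcore.EtInst Groth.Agent.Etcore.HpullCalc

namespace Groth.Agent.Sga4h.NcTransfer

variable {X X' : Scheme.{u}}

/-- If `π_*` is exact then a class dying on `X'` is killed by the unit `F → π_* π⁻¹ F`. -/
theorem unit_eq_zero_of_hp (π : X' ⟶ X) [PreservesFiniteLimits (EtCoh.pull π)]
    [PreservesFiniteColimits (EtCoh.push π)] (F : EtCoh.Ab X) (q : ℕ) (x : HH X F q)
    (hx : hp π F q x = 0) : HHmap ((EtCoh.pullPushAdj π).unit.app F) q x = 0 := by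
  have h1 : (x.mapExactFunctor (EtCoh.pull π)) = 0 := by
    have h2 : (Ext.mk₀ (EtCore.pullConst π ℤ).inv).comp (x.mapExactFunctor (EtCoh.pull π))
        (zero_add q) = 0 := hx
    have h3 := congrArg (fun e => (Ext.mk₀ (EtCore.pullConst π ℤ).hom).comp e (zero_add q)) h2
    simp only [Ext.comp_zero] at h3
    rw [← Ext.comp_assoc_of_second_deg_zero, Ext.mk₀_comp_mk₀, Iso.hom_inv_id, Ext.mk₀_id_comp] at h3
    exact h3
  have h4 : Etcore.ExtAdj.extAdj (EtCoh.pullPushAdj π) _ _ q (x.mapExactFunctor (EtCoh.pull π)) =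
      x.comp (Ext.mk₀ ((EtCoh.pullPushAdj π).unit.app F)) (add_zero q) := by
    rw [Etcore.ExtAdj.extAdj_apply]
    exact (Etcore.ExtAdj.unit_nat (EtCoh.pullPushAdj π) x).symm
  rw [HHmap_apply, ← h4, h1, map_zero]

theorem HHmap_nsmul_id (F : EtCoh.Ab X) (d q : ℕ) (x : HH X F q) : HHmap (d • 𝟙 F) q x = d • x := by
  let m : (F ⟶ F) →+ HH X F q := AddMonoidHom.mk' (fun φ => HHmap φ q x) (fun φ ψ => by
    simp only [HHmap_apply, Ext.mk₀_add, Ext.comp_add])
  have h : m (d • 𝟙 F) = d • m (𝟙 F) := map_nsmul m d _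
  refine h.trans ?_
  change d • HHmap (𝟙 F) q x = d • x
  rw [HHmap_id]

/-- The transfer. -/
theorem smul_eq_zero_of_hp (π : X' ⟶ X) [IsFinite π] [Flat π] [LocallyOfFinitePresentation π]
    (d : ℕ) (hd : ∀ s : X, π.finrank s = d) [PreservesFiniteLimits (EtCoh.pull π)]
    (F : EtCoh.Ab X) (q : ℕ) (x : HH X F q) (hx : hp π F q x = 0) : d • x = 0 := by
  obtain ⟨Tr, hTr⟩ := Groth.Agent.S3106.result π d hd
  have : PreservesFiniteColimits (EtCoh.push π) :=
    (Groth.Agent.Etbase.FinLiftSch.refines_of_isFinite π).preservesFiniteColimits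
  have h1 := unit_eq_zero_of_hp π F q x hx
  have h2 : HHmap (d • 𝟙 F) q x = 0 := by
    rw [← hTr F, HHmap_comp, h1]
    exact map_zero _
  rwa [HHmap_nsmul_id] at h2

/-- `H^q(X, F)` is killed by `n` if `F` is. -/
theorem nsmul_eq_zero (n : ℕ) (F : EtCoh.Ab X) (hF : EtCoh.KilledBy n F) (q : ℕ) (x : HH X F q) :
    n • x = 0 := by
  have h : n • 𝟙 F = 0 := (Groth.Agent.CurvesA.EtKilled.killedBy_iff n F).1 hF
  rw [← HHmap_nsmul_id, h, HHmap_apply, Ext.mk₀_zero, Ext.comp_zero]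

/-- The transfer for coprime torsion. -/
theorem eq_zero_of_hp (π : X' ⟶ X) [IsFinite π] [Flat π] [LocallyOfFinitePresentation π]
    (d : ℕ) (hd : ∀ s : X, π.finrank s = d) [PreservesFiniteLimits (EtCoh.pull π)]
    (n : ℕ) (hn : d.Coprime n) (F : EtCoh.Ab X) (hF : EtCoh.KilledBy n F) (q : ℕ) (x : HH X F q)
    (hx : hp π F q x = 0) : x = 0 := by
  have h1 := smul_eq_zero_of_hp π d hd F q x hx
  have h2 := nsmul_eq_zero n F hF q x
  have h3 : (addOrderOf x) ∣ Nat.gcd d n :=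
    Nat.dvd_gcd (addOrderOf_dvd_of_nsmul_eq_zero h1) (addOrderOf_dvd_of_nsmul_eq_zero h2)
  rw [Nat.Coprime] at hn
  rw [hn, Nat.dvd_one, AddMonoid.addOrderOf_eq_one_iff] at h3
  exact h3

end Groth.Agent.Sga4h.NcTransfer
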