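import Groth.Agent.S0646
import Groth.Agent.Etcore.HpullComp
import Groth.Agent.Etcore.HpullEq
import Groth.Agent.Etcore.HpullViaEq
import Groth.Prelude.Def_EtCore

/-!
# A class dying in the limit dies at a finite stage

* `hp_comp_eq_zero_iff`: `hp g (hp f x) = 0 ↔ hp (g ≫ f) x = 0`.
* `exists_hp_eq_zero` : a consequence of Stacks 09YQ (S0646).
-/

set_option autoImplicit false
universe u
open CategoryTheory CategoryTheory.Limits AlgebraicGeometry Opposite Abelian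
open scoped Groth.Agent.Etcore.EtInst
open Groth.Agent.Etcore.EtInst Groth.Agent.Etcore.HpullCalc

namespace Groth.Agent.Sga4h.NcTransfer

theorem hp_comp_eq_zero_iff {W X Y : Scheme.{u}} (g : W ⟶ X) (f : X ⟶ Y) (gf : W ⟶ Y)
    (w : g ≫ f = gf) [PreservesFiniteLimits (EtCoh.pull g)] [PreservesFiniteLimits (EtCoh.pull f)]
    [PreservesFiniteLimits (EtCoh.pull gf)] (F : EtCoh.Ab Y) (p : ℕ) (x : HH Y F p) :
    hp g _ p (hp f F p x) = 0 ↔ hp gf F p x = 0 := by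
  rw [← hpVia_hp g f gf w F p x, hpVia_eq_zero_iff]

theorem exists_hp_eq_zero {ι : Type u} [Preorder ι] [IsDirected ι (· ≤ ·)] (Xs : ιᵒᵖ ⥤ Scheme.{u})
    (haff : ∀ ⦃a b : ιᵒᵖ⦄ (h : a ⟶ b), IsAffineHom (Xs.map h))
    (hqc : ∀ a, CompactSpace ↥(Xs.obj a)) (hqs : ∀ a, QuasiSeparatedSpace ↥(Xs.obj a))
    (c : Cone Xs) (hc : IsLimit c) (i₀ : ι) (F₀ : EtCoh.Ab (Xs.obj (op i₀))) (p : ℕ)
    [∀ a, PreservesFiniteLimits (EtCoh.pull (c.π.app a))]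
    [∀ ⦃a b : ιᵒᵖ⦄ (h : a ⟶ b), PreservesFiniteLimits (EtCoh.pull (Xs.map h))]
    (x : HH (Xs.obj (op i₀)) F₀ p) (hx : hp (c.π.app (op i₀)) F₀ p x = 0) :
    ∃ (k : ι) (hk : i₀ ≤ k), hp (Xs.map (homOfLE hk).op) F₀ p x = 0 := by
  obtain ⟨k, hk, h⟩ := (Groth.Agent.S0646.result Xs haff hqc hqs c hc i₀ F₀ p).2 i₀ le_rfl
    (hp (Xs.map (homOfLE le_rfl).op) F₀ p x) (by
      refine (HpullVia_apply_eq_hpVia (c.π.app (op i₀)) (Xs.map (homOfLE (le_refl i₀)).op)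
        (c.π.app (op i₀)) (c.w (homOfLE (le_refl i₀)).op) F₀ p _).trans ?_
      rw [hpVia_hp]
      exact hx)
  refine ⟨k, hk, ?_⟩
  have h' := (Hpull_apply_eq_hp (Xs.map (homOfLE hk).op) _ p
    (hp (Xs.map (homOfLE (le_refl i₀)).op) F₀ p x)).symm.trans h
  have hw : Xs.map (homOfLE hk).op ≫ Xs.map (homOfLE (le_refl i₀)).op = Xs.map (homOfLE hk).op := by
    rw [← Xs.map_comp]
    rfl
  exact (hp_comp_eq_zero_iff _ _ _ hw F₀ p x).1 h'

end Groth.Agent.Sga4h.NcTransfer
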