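import Groth.Agent.Sga4h.WayOut
import Groth.Agent.Dcoh.DerAdj
import Groth.Agent.Dcoh.MapDer
import Groth.Agent.Etrest.RDer3

/-!
# The triangle `K ⟶ RR (L K) ⟶ C` for `L ⊣ R`, `L` exact and `R` fully faithful

`exists_triangle` : `C` is killed by `L`.
-/

set_option autoImplicit false
universe w w' v v' u u'
open CategoryTheory CategoryTheory.Limits

namespace Groth.Agent.Sga4h.OpenTri

open Pretriangulated DerivedCategory Groth.Agent.Etrest.RDer3

variable {A : Type u} [Category.{v} A] [Abelian A] [HasDerivedCategory.{w} A]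
  {B : Type u'} [Category.{v'} B] [Abelian B] [HasDerivedCategory.{w'} B]

theorem isZero_obj₃ {D : Type*} [Category* D] [HasZeroObject D] [HasShift D ℤ] [Preadditive D]
    [∀ n : ℤ, (shiftFunctor D n).Additive] [Pretriangulated D] (T : Triangle D) (hT : T ∈ distTriang D)
    (h : IsIso T.mor₁) : IsZero T.obj₃ :=
  (Triangle.isZero₃_iff_isIso₁ T hT).2 h

theorem exists_triangle {L : A ⥤ B} {R : B ⥤ A} (adj : L ⊣ R) [L.Additive] [R.Additive]
    [PreservesFiniteLimits L] [PreservesFiniteColimits L] (hc : ∀ Y, IsIso (adj.counit.app Y)) [HasKInj B]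
    (K : CochainComplex A ℤ) :
    ∃ (C : DerivedCategory A)
      (f : Q.obj K ⟶ (TR R).obj (Q.obj ((L.mapHomologicalComplex (.up ℤ)).obj K)))
      (g : (TR R).obj (Q.obj ((L.mapHomologicalComplex (.up ℤ)).obj K)) ⟶ C)
      (δ : C ⟶ (Q.obj K)⟦(1 : ℤ)⟧), Triangle.mk f g δ ∈ distTriang (DerivedCategory A) ∧
      ∀ q : ℤ, IsZero (L.obj ((homologyFunctor A q).obj C)) := by
  obtain ⟨I, s, hI, hs⟩ := HasKInj.out ((L.mapHomologicalComplex (.up ℤ)).obj K)
  let a := Groth.Agent.Dcoh.DerAdj.adjCx adj (ComplexShape.up ℤ)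
  let u : K ⟶ (R.mapHomologicalComplex (.up ℤ)).obj I := a.homEquiv K I s
  have hu : (L.mapHomologicalComplex (.up ℤ)).map u ≫ a.counit.app I = s := by
    have := a.homEquiv_counit K I u
    rw [← this]
    exact (a.homEquiv K I).symm_apply_apply s
  have hci : IsIso (a.counit.app I) := by
    have : ∀ n, IsIso ((a.counit.app I).f n) := fun n => hc (I.X n)
    exact HomologicalComplex.Hom.isIso_of_components _
  have hLu : QuasiIso ((L.mapHomologicalComplex (.up ℤ)).map u) := by
    have h1 : QuasiIso ((L.mapHomologicalComplex (.up ℤ)).map u ≫ a.counit.app I) := by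
      rw [hu]; exact hs
    exact (quasiIso_iff_comp_right _ (a.counit.app I)).1 h1
  have hk := isIso_unitQ_of_isKInjective R I hI
  have hQs : IsIso (Q.map s) := inferInstance
  let f : Q.obj K ⟶ (TR R).obj (Q.obj ((L.mapHomologicalComplex (.up ℤ)).obj K)) :=
    Q.map u ≫ (unitQ R).app I ≫ (TR R).map (inv (Q.map s))
  have hf : IsIso (L.mapDerivedCategory.map f) := by
    have e : IsIso (L.mapDerivedCategory.map (Q.map u)) := by
      have h2 : IsIso (Q.map ((L.mapHomologicalComplex (.up ℤ)).map u)) := inferInstance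
      exact (NatIso.isIso_map_iff (L.mapDerivedCategoryFactors) u).2 h2
    have e2 : IsIso ((unitQ R).app I ≫ (TR R).map (inv (Q.map s))) := inferInstance
    have e3 : IsIso (L.mapDerivedCategory.map ((unitQ R).app I ≫ (TR R).map (inv (Q.map s)))) :=
      inferInstance
    have e4 : L.mapDerivedCategory.map f = L.mapDerivedCategory.map (Q.map u) ≫
      L.mapDerivedCategory.map ((unitQ R).app I ≫ (TR R).map (inv (Q.map s))) :=
        L.mapDerivedCategory.map_comp _ _
    rw [e4]
    infer_instance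
  obtain ⟨C, g, δ, hT⟩ := distinguished_cocone_triangle f
  refine ⟨C, f, g, δ, hT, fun q => ?_⟩
  have hT' := L.mapDerivedCategory.map_distinguished _ hT
  have h0 : IsZero (L.mapDerivedCategory.obj C) := isZero_obj₃ _ hT' hf
  exact IsZero.of_iso ((homologyFunctor B q).map_isZero h0)
    (Groth.Agent.Dcoh.MapDer.homologyMapDerApp L q C).symm

section comp

open Groth.Agent.Sga4h.WayOut

attribute [local instance] HasDerivedCategory.standard

/-- The class of zero objects is weak Serre. -/
theorem weakSerre_isZero {A : Type u} [Category.{v} A] [Abelian A] :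
    WeakSerre (IsZero : ObjectProperty A) where
  iso e h := h.of_iso e.symm
  zero _ h := h
  ker f h _ := IsZero.of_mono (kernel.ι f) h
  coker f _ h := IsZero.of_epi (cokernel.π f) h
  ext _ hS h1 h3 := hS.exact.isZero_X₂ (h1.eq_of_src _ _) (h3.eq_of_tgt _ _)

/-- Negative homology of `RG(K[0])`, and the value in degree `q`. -/
theorem homology_TR_single {A : Type u} [Category.{v} A] [Abelian A] {B : Type u'} [Category.{v'} B]
    [Abelian B] (G : A ⥤ B) [G.Additive] [EnoughInjectives A] [HasKInj A] {Q : ObjectProperty B}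
    (hQ : WeakSerre Q) (M : A) (h : ∀ q : ℕ, Q ((G.rightDerived q).obj M)) (q : ℤ) :
    Q ((homologyFunctor B q).obj ((TR G).obj ((singleFunctor A 0).obj M))) := by
  by_cases hq : q < 0
  · exact hQ.zero _ (isZero_HTRsingle G M q hq)
  · obtain ⟨n, rfl⟩ := Int.eq_ofNat_of_zero_le (not_lt.1 hq)
    exact hQ.iso ((HTRsingle G n).app M).symm (h n)

theorem homology_single {A : Type u} [Category.{v} A] [Abelian A] {P : ObjectProperty A}
    (hP : WeakSerre P) (M : A) (h : P M) (q : ℤ) :
    P ((homologyFunctor A q).obj ((singleFunctor A 0).obj M)) := by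
  by_cases hq : q = 0
  · subst hq
    exact hP.iso ((singleFunctorCompHomologyFunctorIso A 0).app M).symm h
  · rcases lt_or_gt_of_ne hq with hq | hq
    · exact hP.zero _ (isZero_of_isGE _ 0 q hq)
    · exact hP.zero _ (isZero_of_isLE _ 0 q hq)

/-- Devissage along `L ⊣ R`, `L` exact, `R` fully faithful. -/
theorem rightDerived_of_triangle {A : Type u} [Category.{v} A] [Abelian A] {B : Type u'}
    [Category.{v'} B] [Abelian B] {E : Type u'} [Category.{v'} E] [Abelian E] {L : A ⥤ B} {R : B ⥤ A}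
    (adj : L ⊣ R) [L.Additive] [R.Additive] [PreservesFiniteLimits L] [PreservesFiniteColimits L]
    (hc : ∀ Y, IsIso (adj.counit.app Y)) [EnoughInjectives A] [EnoughInjectives B] [HasKInj A] [HasKInj B]
    (hR : ∀ I : CochainComplex B ℤ, I.IsKInjective →
      CochainComplex.IsKInjective ((R.mapHomologicalComplex (.up ℤ)).obj I))
    (G : A ⥤ E) [G.Additive] {P : ObjectProperty A} (hP : WeakSerre P) {P' : ObjectProperty E}
    (hP' : WeakSerre P') (M : A) (hM : P M) (hJ : ∀ q : ℕ, P ((R.rightDerived q).obj (L.obj M)))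
    (h1 : ∀ q : ℕ, P' (((R ⋙ G).rightDerived q).obj (L.obj M)))
    (h0 : ∀ N : A, P N → IsZero (L.obj N) → ∀ q : ℕ, P' ((G.rightDerived q).obj N)) (q : ℕ) :
    P' ((G.rightDerived q).obj M) := by
  obtain ⟨C, a, b, δ, hT, hC⟩ := exists_triangle adj hc ((CochainComplex.singleFunctor A 0).obj M)
  let Z : CochainComplex B ℤ := (L.mapHomologicalComplex (.up ℤ)).obj ((CochainComplex.singleFunctor A 0).obj M)
  let eZ : Q.obj Z ≅ (singleFunctor B 0).obj (L.obj M) :=
    DerivedCategory.Q.mapIso ((HomologicalComplex.singleMapHomologicalComplex L (.up ℤ) 0).app M)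
  let W : DerivedCategory A := (TR R).obj (Q.obj Z)
  let eW : W ≅ (TR R).obj ((singleFunctor B 0).obj (L.obj M)) := (TR R).mapIso eZ
  have hW : ∀ q : ℤ, P ((homologyFunctor A q).obj W) := fun q =>
    hP.iso ((homologyFunctor A q).mapIso eW.symm) (homology_TR_single R hP _ hJ q)
  have hS : ∀ q : ℤ, P ((homologyFunctor A q).obj ((singleFunctor A 0).obj M)) :=
    homology_single hP M hM
  have hPC : ∀ q : ℤ, P ((homologyFunctor A q).obj C) := fun q =>
    homology_mid₃ hP _ hT q (hS q) (hW q) (hS (q + 1)) (hW (q + 1))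
  have hGE : C.IsGE (-1) := by
    rw [DerivedCategory.isGE_iff]
    intro i hi
    have hW0 : W.IsGE 0 := by
      have : ((TR R).obj ((singleFunctor B 0).obj (L.obj M))).IsGE 0 := TR_isGE R _ 0
      exact TStructure.t.isGE_of_iso eW.symm 0
    have hz1 : ∀ j : ℤ, j < 0 → IsZero ((homologyFunctor A j).obj W) := fun j hj =>
      isZero_of_isGE _ 0 j hj
    have hz2 : ∀ j : ℤ, j < 0 → IsZero ((homologyFunctor A j).obj ((singleFunctor A 0).obj M)) :=
      fun j hj => isZero_of_isGE _ 0 j hj
    exact homology_mid₃ weakSerre_isZero _ hT i (hz2 i (by lia)) (hz1 i (by lia)) (hz2 (i + 1) (by lia))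
      (hz1 (i + 1) (by lia))
  have hGC : ∀ q : ℤ, P' ((homologyFunctor E q).obj ((TR G).obj C)) := fun q =>
    homology_TR G (P := fun N => P N ∧ IsZero (L.obj N)) hP'
      (fun e h => ⟨hP.iso e h.1, h.2.of_iso (L.mapIso e.symm)⟩)
      (fun N hN q => h0 N hN.1 hN.2 q) C (-1) (fun i _ => ⟨hPC i, hC i⟩) q
  have hGW : ∀ q : ℤ, P' ((homologyFunctor E q).obj ((TR G).obj W)) := fun q =>
    hP'.iso ((homologyFunctor E q).mapIso ((TR G).mapIso eW ≪≫ ((TRcomp R G hR).app _).symm)).symm
      (homology_TR_single (R ⋙ G) hP' _ h1 q)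
  have hGT := (TR G).map_distinguished _ hT
  have key := homology_mid₁ hP' _ hGT (q : ℤ) (hGW (q - 1)) (hGC (q - 1)) (hGW q) (hGC q)
  exact hP'.iso ((HTRsingle G q).app M) key

end comp

end Groth.Agent.Sga4h.OpenTri
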