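import Groth.Agent.Etbase.StrictHensPoint
import Groth.Agent.Etcore.Stalks
import Groth.Agent.Etrest.SHPoint
import Groth.Agent.Sga4h.PushDer
import Groth.Agent.EtpbcB.ConstKer
import Groth.Agent.EtpbcB.GeomPointIndep
import Groth.Agent.Sga5.HcConst
import Groth.Agent.Sga4B.ConsEmbed

/-!
# Sheaves on the spectrum of a separably closed field are constant; embedding constructible sheaves
-/

set_option autoImplicit false
universe u

open CategoryTheory CategoryTheory.Limits AlgebraicGeometry Opposite IsLocalRing

namespace Groth.Agent.Sga4h.PointConst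

open Groth.Agent.Etbase

variable (K : Type u) [Field K] [IsSepClosed K]

instance : IsSepClosed (ResidueField K) := Groth.Agent.Etrest.SHPoint.isSepClosed_residueField K

/-- the spectrum of `K` -/
noncomputable abbrev S : Scheme.{u} := Spec (CommRingCat.of K)

/-- the geometric point of `Spec K` -/
noncomputable abbrev Φ : GrothendieckTopology.Point.{u} (S K).smallEtaleTopology :=
  Scheme.pointSmallEtale (StrictHensPoint.pt K)

variable {K}

/-- sections over `Spec K` are the stalk, for presheaves -/
noncomputable def g (P : (S K).Etaleᵒᵖ ⥤ AddCommGrpCat.{u + 1}) :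
    P.obj (op (EtCoh.top (S K))) ⟶ (Φ K).presheafFiber.obj P :=
  (Φ K).toPresheafFiber (EtCoh.top (S K)) (StrictHensPoint.elt K) P

instance (P : (S K).Etaleᵒᵖ ⥤ AddCommGrpCat.{u + 1}) : IsIso (g P) :=
  (ConcreteCategory.isIso_iff_bijective _).2 (StrictHensPoint.bijective_toPresheafFiber K P)

theorem g_naturality {P Q : (S K).Etaleᵒᵖ ⥤ AddCommGrpCat.{u + 1}} (a : P ⟶ Q) :
    g P ≫ (Φ K).presheafFiber.map a = a.app (op (EtCoh.top (S K))) ≫ g Q := by
  exact (Φ K).toPresheafFiber_naturality a _ _

theorem isIso_app_iff {P Q : (S K).Etaleᵒᵖ ⥤ AddCommGrpCat.{u + 1}} (a : P ⟶ Q) :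
    IsIso (a.app (op (EtCoh.top (S K)))) ↔ IsIso ((Φ K).presheafFiber.map a) := by
  have h := g_naturality a
  constructor
  · intro h1
    have : IsIso (g P ≫ (Φ K).presheafFiber.map a) := by rw [h]; infer_instance
    exact IsIso.of_isIso_comp_left (g P) _
  · intro h1
    have : IsIso (a.app (op (EtCoh.top (S K))) ≫ g Q) := by rw [← h]; infer_instance
    exact IsIso.of_isIso_comp_right _ (g Q)

theorem isIso_of_top {F G : EtCoh.Ab (S K)} (a : F ⟶ G)
    (h : IsIso (a.hom.app (op (EtCoh.top (S K))))) : IsIso a := by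
  refine Groth.Agent.Etcore.Stalks.isIso_of_stalks a fun x => ?_
  refine ⟨ResidueField K, inferInstance, inferInstance, StrictHensPoint.pt K,
    @Subsingleton.elim (PrimeSpectrum K) _ _ _, ?_⟩
  exact (isIso_app_iff a.hom).1 h

/-- the terminal object -/
noncomputable abbrev hT : IsTerminal (EtCoh.top (S K)) := EtCore.topIsTerminal (S K)

/-- the constant sheaf adjunction on `Spec K` -/
noncomputable abbrev adj : constantSheaf (S K).smallEtaleTopology AddCommGrpCat.{u + 1} ⊣
    (sheafSections (S K).smallEtaleTopology AddCommGrpCat.{u + 1}).obj (op (EtCoh.top (S K))) :=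
  constantSheafAdj (S K).smallEtaleTopology AddCommGrpCat.{u + 1} hT

instance isIso_unit (M : AddCommGrpCat.{u + 1}) : IsIso ((adj (K := K)).unit.app M) := by
  have h1 : IsIso ((toSheafify (S K).smallEtaleTopology ((Functor.const _).obj M)).app
      (op (EtCoh.top (S K)))) := by
    rw [isIso_app_iff]
    exact GrothendieckTopology.Point.W_isInvertedBy_presheafFiber _ _ (GrothendieckTopology.W_toSheafify _ _)
  have h2 : (adj (K := K)).unit.app M = (toSheafify (S K).smallEtaleTopology ((Functor.const _).obj M)).app
      (op (EtCoh.top (S K))) := by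
    simp [constantSheafAdj, constantPresheafAdj]
  rw [h2]
  exact h1

instance isIso_counit (F : EtCoh.Ab (S K)) : IsIso ((adj (K := K)).counit.app F) := by
  apply isIso_of_top
  have h := (adj (K := K)).right_triangle_components F
  have h1 := isIso_unit (K := K) (F.obj.obj (op (EtCoh.top (S K))))
  have h3 : inv ((adj (K := K)).unit.app (F.obj.obj (op (EtCoh.top (S K))))) =
      ((adj (K := K)).counit.app F).hom.app (op (EtCoh.top (S K))) := by
    apply IsIso.inv_eq_of_hom_inv_id
    exact h
  rw [← h3]
  infer_instance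

end Groth.Agent.Sga4h.PointConst
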