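import Groth.Agent.S0657
import Groth.Agent.S3106
import Groth.Agent.Etbase.FinLiftSch
import Groth.Agent.EtpbcA.FLCExact
import Groth.Agent.UnramA.FiniteEtaleCount

/-!
# Dévissage of finite locally constant sheaves to `ρ_* ℤ/ℓ`, `ρ` finite étale
-/

set_option autoImplicit false
universe u
open CategoryTheory CategoryTheory.Limits AlgebraicGeometry Opposite

namespace Groth.Agent.Sga4h.PrimeDev219

variable {X : Scheme.{u}}

/-- Closure conditions. -/
structure Cl (P : EtCoh.Ab X → Prop) : Prop where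
  retract : ∀ {F G : EtCoh.Ab X} (i : F ⟶ G) (r : G ⟶ F), i ≫ r = 𝟙 F → P G → P F
  ext : ∀ {S : ShortComplex (EtCoh.Ab X)}, S.ShortExact → P S.X₁ → P S.X₃ → P S.X₂

theorem Cl.of_iso {P : EtCoh.Ab X → Prop} (h : Cl P) {F G : EtCoh.Ab X} (e : F ≅ G) (hG : P G) :
    P F := h.retract e.hom e.inv e.hom_inv_id hG

theorem Cl.of_isZero {P : EtCoh.Ab X → Prop} (h : Cl P) {F G : EtCoh.Ab X} (hF : IsZero F)
    (hG : P G) : P F := h.retract (hF.to_ G) (hF.from_ G) (hF.eq_of_src _ _) hG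

theorem Cl.push {T : Scheme.{u}} (ρ : T ⟶ X) [IsFinite ρ] {P : EtCoh.Ab X → Prop} (h : Cl P) :
    Cl (fun F : EtCoh.Ab T => P ((EtCoh.push ρ).obj F)) where
  retract i r w hG := h.retract ((EtCoh.push ρ).map i) ((EtCoh.push ρ).map r)
    (by rw [← CategoryTheory.Functor.map_comp, w, CategoryTheory.Functor.map_id]) hG
  ext {S} hS h₁ h₃ := by
    have : PreservesFiniteColimits (EtCoh.push ρ) :=
      (Groth.Agent.Etbase.FinLiftSch.refines_of_isFinite ρ).preservesFiniteColimits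
    have : PreservesFiniteLimits (EtCoh.push ρ) := by
      have : PreservesLimitsOfSize.{0, 0} (EtCoh.push ρ) :=
        (EtCoh.pullPushAdj ρ).rightAdjoint_preservesLimits
      exact PreservesLimitsOfSize.preservesFiniteLimits _
    exact h.ext (hS.map_of_exact (EtCoh.push ρ)) h₁ h₃

/-- Filtrations. -/
theorem of_chain {P : EtCoh.Ab X → Prop} (h : Cl P) (C : EtCoh.Ab X) (hC : P C) (n : ℕ)
    (G : ℕ → EtCoh.Ab X) (φ : ∀ i, G i ⟶ G (i + 1)) (h0 : IsZero (G 0))
    (hG : ∀ i, i < n → Mono (φ i) ∧ Nonempty (cokernel (φ i) ≅ C)) : P (G n) := by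
  induction n with
  | zero => exact h.of_isZero h0 hC
  | succ n ih =>
    obtain ⟨h1, ⟨e⟩⟩ := hG n (Nat.lt_succ_self n)
    have hses : (ShortComplex.mk (φ n) (cokernel.π (φ n)) (cokernel.condition (φ n))).ShortExact :=
      ShortComplex.ShortExact.mk' (ShortComplex.exact_of_g_is_cokernel _ (cokernelIsCokernel (φ n)))
        h1 inferInstance
    exact h.ext hses (ih fun i hi => hG i (hi.trans (Nat.lt_succ_self n))) (h.of_iso e hC)

theorem card_eq_finrank {T : Scheme.{u}} (f : T ⟶ X) [IsFinite f] [Etale f] {Ω : Type u} [Field Ω]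
    [IsSepClosed Ω] (η : Spec (CommRingCat.of Ω) ⟶ X) (z : Spec (CommRingCat.of Ω)) :
    Nat.card {t : Spec (CommRingCat.of Ω) ⟶ T // t ≫ f = η} = f.finrank (η z) := by
  have h1 := Groth.Agent.UnramA.FiniteEtaleCount.card_sections (pullback.snd f η) z
  rw [Scheme.Hom.finrank_pullback_snd] at h1
  rw [← h1]
  refine Nat.card_congr
    { toFun := fun t => ⟨pullback.lift t.1 (𝟙 _) (by rw [Category.id_comp]; exact t.2),
        pullback.lift_snd _ _ _⟩
      invFun := fun s => ⟨s.1 ≫ pullback.fst f η, by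
        rw [Category.assoc, pullback.condition, reassoc_of% s.2]⟩
      left_inv := fun t => Subtype.ext (pullback.lift_fst _ _ _)
      right_inv := fun s => Subtype.ext (pullback.hom_ext (pullback.lift_fst _ _ _) (by
        rw [pullback.lift_snd]; exact s.2.symm)) }

/-- Sheaves killed by a prime. -/
theorem of_prime [ConnectedSpace X] (ℓ : ℕ) [Fact ℓ.Prime] {P : EtCoh.Ab X → Prop} (h : Cl P)
    (hb : ∀ {T : Scheme.{u}} (ρ : T ⟶ X) [IsFinite ρ] [Etale ρ],
      P ((EtCoh.push ρ).obj (EtCoh.const T (ZMod ℓ))))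
    (F : EtCoh.Ab X) (hF : EtCoh.IsFiniteLocallyConstant F) (hℓ : EtCoh.KilledBy ℓ F) : P F := by
  obtain ⟨T, f, hf1, hf2, d, hd, hc, n, G, φ, h0, ⟨e⟩, hG⟩ := S0657.result X ℓ F hF hℓ
  have h1 : P ((EtCoh.push f).obj (G n)) := of_chain (h.push f) (EtCoh.const T (ZMod ℓ)) (hb f) n G φ h0 hG
  have h2 : P ((EtCoh.push f).obj ((EtCoh.pull f).obj F)) :=
    h.of_iso ((EtCoh.push f).mapIso e.symm) h1
  have hr : ∀ s : X, f.finrank s = d := by
    intro s
    obtain ⟨Ω, _, _, η, hη⟩ : ∃ (Ω : Type u) (_ : Field Ω) (_ : IsAlgClosed Ω)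
        (η : Spec (CommRingCat.of Ω) ⟶ X), η default = s := by
      refine ⟨AlgebraicClosure (X.residueField s), inferInstance, inferInstance,
        Spec.map (CommRingCat.ofHom (algebraMap (X.residueField s) _)) ≫
          X.fromSpecResidueField s, ?_⟩
      rw [Scheme.Hom.comp_apply, Scheme.fromSpecResidueField_apply]
    rw [← hη, ← card_eq_finrank f η default]
    exact hc Ω η
  obtain ⟨Tr, hTr⟩ := S3106.result f d hr
  obtain ⟨a, -, ha⟩ := Nat.exists_mul_mod_eq_one_of_coprime hd.symm (Fact.out : ℓ.Prime).one_lt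
  have hid : ℓ • 𝟙 F = 0 := (Groth.Agent.Etcore.PrimeFilt.killedBy_iff ℓ F).1 hℓ
  refine h.retract ((EtCoh.pullPushAdj f).unit.app F) (a • Tr.app F) ?_ h2
  rw [Preadditive.comp_nsmul, hTr F, ← mul_nsmul, ← Nat.mod_add_div (d * a) ℓ, ha, add_nsmul,
    one_nsmul, mul_nsmul, hid, nsmul_zero, add_zero]

/-- Sheaves killed by a positive integer. -/
theorem of_killed [ConnectedSpace X] (m : ℕ) (hm : m ≠ 0) {P : EtCoh.Ab X → Prop} (h : Cl P)
    (hz : ∀ F : EtCoh.Ab X, IsZero F → P F)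
    (hb : ∀ ℓ : ℕ, ℓ.Prime → ℓ ∣ m → ∀ {T : Scheme.{u}} (ρ : T ⟶ X) [IsFinite ρ] [Etale ρ],
      P ((EtCoh.push ρ).obj (EtCoh.const T (ZMod ℓ))))
    (F : EtCoh.Ab X) (hF : EtCoh.IsFiniteLocallyConstant F) (hk : EtCoh.KilledBy m F) : P F := by
  induction m using Nat.strong_induction_on generalizing F with
  | _ m ih =>
    rw [Groth.Agent.Etcore.PrimeFilt.killedBy_iff] at hk
    by_cases h1 : m = 1
    · subst h1
      rw [one_nsmul] at hk
      exact hz F ((IsZero.iff_id_eq_zero F).2 hk)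
    · obtain ⟨ℓ, hℓ, hdvd⟩ := Nat.exists_prime_and_dvd h1
      obtain ⟨b, rfl⟩ := hdvd
      have : Fact ℓ.Prime := ⟨hℓ⟩
      have hb0 : b ≠ 0 := by rintro rfl; exact hm (mul_zero _)
      -- `F[ℓ] ⟶ F ⟶ F / F[ℓ]`
      let K := kernel (ℓ • 𝟙 F)
      let i : K ⟶ F := kernel.ι (ℓ • 𝟙 F)
      have hses : (ShortComplex.mk i (cokernel.π i) (cokernel.condition i)).ShortExact :=
        ShortComplex.ShortExact.mk' (ShortComplex.exact_of_g_is_cokernel _ (cokernelIsCokernel i))
          inferInstance inferInstance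
      have hK : EtCoh.IsFiniteLocallyConstant K :=
        Groth.Agent.EtpbcA.FLCExact.flc_kernel _ hF hF
      have hQ : EtCoh.IsFiniteLocallyConstant (cokernel i) :=
        Groth.Agent.EtpbcA.FLCExact.flc_cokernel _ hK hF
      have hKk : ℓ • 𝟙 K = 0 := by
        rw [← cancel_mono i, zero_comp, Preadditive.nsmul_comp, Category.id_comp]
        have h2 : i ≫ (ℓ • 𝟙 F) = 0 := kernel.condition _
        rwa [Preadditive.comp_nsmul, Category.comp_id] at h2
      have hQk : b • 𝟙 (cokernel i) = 0 := by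
        rw [← cancel_epi (cokernel.π i), comp_zero, Preadditive.comp_nsmul, Category.comp_id]
        have h3 : (b • 𝟙 F) ≫ (ℓ • 𝟙 F) = 0 := by
          rw [Preadditive.comp_nsmul, Category.comp_id, ← mul_nsmul, mul_comm]
          exact hk
        have h4 : b • 𝟙 F = kernel.lift _ _ h3 ≫ i := (kernel.lift_ι _ _ _).symm
        have h5 : b • cokernel.π i = (b • 𝟙 F) ≫ cokernel.π i := by
          rw [Preadditive.nsmul_comp, Category.id_comp]
        rw [h5, h4, Category.assoc, cokernel.condition, comp_zero]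
      refine h.ext hses ?_ ?_
      · exact of_prime ℓ h (fun ρ => hb ℓ hℓ (dvd_mul_right _ _) ρ) K hK
          ((Groth.Agent.Etcore.PrimeFilt.killedBy_iff ℓ K).2 hKk)
      · refine ih b ?_ hb0 (fun q hq hqb => hb q hq (hqb.mul_left _)) _ hQ
          ((Groth.Agent.Etcore.PrimeFilt.killedBy_iff b _).2 hQk)
        exact lt_mul_left (Nat.pos_of_ne_zero hb0) hℓ.one_lt

end Groth.Agent.Sga4h.PrimeDev219
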