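import Groth.Agent.Sga4h.ModRestr
import Groth.Agent.Sga4h.LVanExact
import Mathlib.RingTheory.RegularLocalRing.Defs
import Mathlib.AlgebraicGeometry.Noetherian

/-!
# Classes of sheaves of `ℤ/n`-modules with the formal properties of reflexive sheaves

`RClass n R`: the class `R` is stable under isomorphisms, satisfies 2-of-3 for short exact sequences, is étale
local and contains the direct images `j_* F` of finite type locally constant sheaves `F` under dense open immersions
to Noetherian separated regular schemes of dimension `≤ 1` with `n` invertible.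
-/

set_option autoImplicit false

universe u

open CategoryTheory CategoryTheory.Limits AlgebraicGeometry

namespace Groth.Agent.Sga4h.RClass250

open Groth.Agent.Sga4h.ModRestr Groth.Agent.Etcore.LVan

/-- A class of sheaves of `ℤ/n`-modules with the formal properties of the class of reflexive sheaves. -/
structure RClass (n : ℕ) (R : ∀ X : Scheme.{u}, EtModW.Mod (ULift.{u + 1} (ZMod n)) X → Prop) : Prop where
  iso : ∀ {X : Scheme.{u}} {F G : EtModW.Mod (ULift.{u + 1} (ZMod n)) X}, (F ≅ G) → R X F → R X G
  zero : ∀ {X : Scheme.{u}} {F : EtModW.Mod (ULift.{u + 1} (ZMod n)) X}, IsZero F → R X F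
  ses₁ : ∀ {X : Scheme.{u}} {S : ShortComplex (EtModW.Mod (ULift.{u + 1} (ZMod n)) X)}, S.ShortExact →
    R X S.X₂ → R X S.X₃ → R X S.X₁
  ses₂ : ∀ {X : Scheme.{u}} {S : ShortComplex (EtModW.Mod (ULift.{u + 1} (ZMod n)) X)}, S.ShortExact →
    R X S.X₁ → R X S.X₃ → R X S.X₂
  ses₃ : ∀ {X : Scheme.{u}} {S : ShortComplex (EtModW.Mod (ULift.{u + 1} (ZMod n)) X)}, S.ShortExact →
    R X S.X₁ → R X S.X₂ → R X S.X₃
  loc : ∀ {X : Scheme.{u}} (F : EtModW.Mod (ULift.{u + 1} (ZMod n)) X),
    (∀ x : X, ∃ (V : Scheme.{u}) (g : V ⟶ X) (_ : Etale g) (v : V), g v = x ∧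
      R V ((res (ULift.{u + 1} (ZMod n)) g).obj F)) → R X F
  star : ∀ {X U : Scheme.{u}} [IsNoetherian X] [X.IsSeparated],
    (∀ s : X, IsRegularLocalRing (X.presheaf.stalk s)) →
    (∀ s : X, ringKrullDim (X.presheaf.stalk s) ≤ 1) → IsUnit (n : Γ(X, ⊤)) →
    ∀ (j : U ⟶ X) [IsOpenImmersion j], Dense (Set.range j.base) →
    ∀ (F : EtModW.Mod (ULift.{u + 1} (ZMod n)) U), EtModW.IsFTLocConst (ULift.{u + 1} (ZMod n)) F →
      R X ((EtModW.push (ULift.{u + 1} (ZMod n)) j).obj F)

variable {n : ℕ} {R : ∀ X : Scheme.{u}, EtModW.Mod (ULift.{u + 1} (ZMod n)) X → Prop}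

/-- The image of a morphism is in the class if the kernel and the source are. -/
theorem RClass.image (hR : RClass n R) {X : Scheme.{u}} {F G : EtModW.Mod (ULift.{u + 1} (ZMod n)) X}
    (f : F ⟶ G) (h1 : R X (kernel f)) (h2 : R X F) : R X (Abelian.image f) := by
  have hS : (ShortComplex.mk (kernel.ι f) (Abelian.factorThruImage f) (by
      rw [← cancel_mono (Abelian.image.ι f), Category.assoc, Abelian.image.fac, kernel.condition,
        zero_comp])).ShortExact :=
    { exact := by
        refine ShortComplex.exact_of_f_is_kernel _ ?_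
        exact isKernelOfComp (Abelian.image.ι f) f (kernelIsKernel f)
          (by
            rw [← cancel_mono (Abelian.image.ι f), Category.assoc, Abelian.image.fac]
            exact (kernel.condition f).trans zero_comp.symm) (Abelian.image.fac f)
      mono_f := inferInstance
      epi_g := inferInstance }
  exact hR.ses₃ hS h1 h2

/-- The cokernel of a morphism is in the class if the kernel, the source and the target are. -/
theorem RClass.cokernel (hR : RClass n R) {X : Scheme.{u}} {F G : EtModW.Mod (ULift.{u + 1} (ZMod n)) X}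
    (f : F ⟶ G) (h1 : R X (kernel f)) (h2 : R X F) (h3 : R X G) : R X (cokernel f) := by
  have hS : (ShortComplex.mk (Abelian.image.ι f) (cokernel.π f) (kernel.condition _)).ShortExact :=
    { exact := ShortComplex.exact_of_f_is_kernel _ (kernelIsKernel _)
      mono_f := inferInstance
      epi_g := inferInstance }
  exact hR.ses₃ hS (hR.image f h1 h2) h3

end Groth.Agent.Sga4h.RClass250
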