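import Groth.Prelude.Def_EtModD2
import Groth.Prelude.Def_Hens2
import Groth.Prelude.Def_EtCore
import Groth.Agent.Sga4h.HomRes
import Groth.Agent.Etrest.ModLoc
import Groth.Agent.Etrest.ModAb
import Mathlib.AlgebraicGeometry.Morphisms.OpenImmersion
import Mathlib.AlgebraicGeometry.Noetherian
import Mathlib.RingTheory.RegularLocalRing.Defs
import Mathlib.Order.KrullDimension
import Mathlib.RingTheory.DiscreteValuationRing.Basic

/-!
# Vanishing of sections of locally constant sheaves of modules on an irreducible scheme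

* `eq_zero_of_res` : `U` étale over `X` with `U` irreducible, `A` a finite type locally constant sheaf on `X`;
  a section of `A` over `U` which vanishes on a nonempty étale `V → U` is zero.
* `clopen`: a global section of a finite type locally constant sheaf on an irreducible scheme which is zero
  at one geometric point is zero.
* `irr_mono`: a map from a constant sheaf to the push forward of a finite type locally constant sheaf from a
  nonempty open of an irreducible scheme is injective as soon as it is injective on one geometric stalk.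
* `csec`, `res_csec`, `exists_csec`, `csec_injective`: sections of the constant sheaf of modules.
-/

set_option autoImplicit false

universe u

open CategoryTheory CategoryTheory.Limits AlgebraicGeometry Opposite
open Groth.Agent.Sga4h.ModRestr Groth.Agent.Sga4h.HomSh Groth.Agent.Etrest.ModGerm
  Groth.Agent.EtpbcA.Germ Groth.Agent.Etrest.ModAb

namespace Groth.Agent.Sga4h.X144Clopen

/-- Two nonempty étale schemes over an irreducible one have a common nonempty refinement. -/
theorem exists_common_irr {X : Scheme.{u}} {U V₁ V₂ : X.Etale} [hU : IrreducibleSpace U.left]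
    (g₁ : V₁ ⟶ U) (g₂ : V₂ ⟶ U) (v₁ : V₁.left) (v₂ : V₂.left) :
    ∃ (W : X.Etale) (a : W ⟶ V₁) (b : W ⟶ V₂), a ≫ g₁ = b ≫ g₂ ∧ Nonempty W.left := by
  have h₁ : IsOpen (X := U.left) (Set.range g₁.left) := g₁.left.isOpenMap.isOpen_range
  have h₂ : IsOpen (X := U.left) (Set.range g₂.left) := g₂.left.isOpenMap.isOpen_range
  obtain ⟨x, ⟨w₁, hw₁⟩, ⟨w₂, hw₂⟩⟩ :=
    nonempty_preirreducible_inter (X := U.left) h₁ h₂ ⟨_, v₁, rfl⟩ ⟨_, v₂, rfl⟩
  obtain ⟨Ω, _, _, ξ, t, ht⟩ := exists_geomPt (U := V₁) w₁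
  obtain ⟨t', ht', -⟩ := exists_lift ξ g₂ (fmap ξ g₁ t) w₂ (by
      rw [pt_fmap, ht]
      exact hw₂.trans hw₁.symm)
  let e₁ : (Scheme.pointSmallEtale ξ).fiber.Elements := ⟨V₁, t⟩
  let e₂ : (Scheme.pointSmallEtale ξ).fiber.Elements := ⟨V₂, t'⟩
  let e : (Scheme.pointSmallEtale ξ).fiber.Elements := ⟨U, fmap ξ g₁ t⟩
  let k₁ : e₁ ⟶ e := ⟨g₁, rfl⟩
  let k₂ : e₂ ⟶ e := ⟨g₂, ht'⟩
  obtain ⟨w, a, b, hab⟩ := IsCofiltered.cospan k₁ k₂
  exact ⟨w.1, a.1, b.1, congrArg (fun k => k.1) hab, ⟨pt ξ w.2⟩⟩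

/-- A section over an irreducible étale scheme of a finite type locally constant sheaf which vanishes on a
nonempty étale scheme is zero. -/
theorem eq_zero_of_res (Λ : Type (u+1)) [CommRing Λ] {X : Scheme.{u}} (A : EtModW.Mod Λ X)
    (hA : EtModW.IsFTLocConst _ A) {U V : X.Etale} [IrreducibleSpace U.left] (g : V ⟶ U) (v : V.left)
    (s : EtModW.sect Λ A U) (hs : Groth.Agent.Etrest.ModGerm.res Λ A g s = 0) : s = 0 := by
  rw [Groth.Agent.Etrest.ModLoc.ftlc_iff] at hA
  refine Groth.Agent.Etrest.ModGerm.sect_ext Λ A s 0 (fun x => ?_)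
  obtain ⟨U₁, u₁, M, _, _, _, φ, hu, hφ⟩ := hA (U.hom x)
  -- a common refinement of `U` and `U₁` at `x`
  obtain ⟨Ω, _, _, ξ, t, ht⟩ := exists_geomPt (U := U) x
  obtain ⟨t₁, -, -⟩ := exists_lift ξ (MorphismProperty.Over.homMk U₁.hom : U₁ ⟶ EtCoh.top X)
    (fmap ξ (MorphismProperty.Over.homMk U.hom : U ⟶ EtCoh.top X) t) u₁ (by
      rw [pt_fmap, ht]
      exact hu)
  obtain ⟨U₂, p, q, t₂, hp, hq⟩ := exists_common ξ U U₁ t t₁
  obtain ⟨U', k, w, m, hw, hm⟩ := hφ.surjective q (pt ξ t₂) (Groth.Agent.Etrest.ModGerm.res Λ A p s)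
  refine ⟨U', k ≫ p, ⟨w, ?_⟩, ?_⟩
  · change p.left (k.left w) = x
    rw [hw, ← pt_fmap, hp, ht]
  · obtain ⟨W, a, b, hab, ⟨w'⟩⟩ := exists_common_irr (k ≫ p) g w v
    have h0 : m = 0 := by
      refine hφ.injective (a ≫ k ≫ q) w' ?_
      rw [map_zero, map_zero, Groth.Agent.Etrest.ModGerm.res_comp, ← hm,
        ← Groth.Agent.Etrest.ModGerm.res_comp, ← Groth.Agent.Etrest.ModGerm.res_comp, Category.assoc, hab,
        Groth.Agent.Etrest.ModGerm.res_comp, hs, map_zero]
    rw [Groth.Agent.Etrest.ModGerm.res_comp, hm, h0, map_zero, map_zero, map_zero]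

theorem clopen (Λ : Type (u+1)) [CommRing Λ] {X : Scheme.{u}} [IrreducibleSpace X] (A : EtModW.Mod Λ X)
    (hA : EtModW.IsFTLocConst _ A)
    (s : EtModW.sect Λ A (EtCoh.top X)) {Ω : Type u} [Field Ω] [IsSepClosed Ω]
    (ξ : Spec (.of Ω) ⟶ X) (t : Fib ξ (EtCoh.top X))
    (hs : germ Λ ξ A t s = 0) : s = 0 := by
  rw [germ_eq_zero_iff] at hs
  obtain ⟨V, g, v, -, hv⟩ := hs
  have : IrreducibleSpace (EtCoh.top X).left := inferInstanceAs (IrreducibleSpace X)
  exact eq_zero_of_res Λ A hA g (pt ξ v) s hv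

section const

variable (Λ : Type (u+1)) [CommRing Λ] {X : Scheme.{u}} (M : Type (u + 1)) [AddCommGroup M] [Module Λ M]

/-- The constant presheaf of modules. -/
noncomputable abbrev cpre (X : Scheme.{u}) : X.Etaleᵒᵖ ⥤ ModuleCat.{u + 1} Λ :=
  (Functor.const X.Etaleᵒᵖ).obj (ModuleCat.of Λ M)

/-- The constant sections. -/
noncomputable def csec (U : X.Etale) : M →ₗ[Λ] EtModW.sect Λ (EtModW.constMod Λ X M) U :=
  ((toSheafify X.smallEtaleTopology (cpre Λ M X)).app (op U)).hom

variable {M}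

theorem res_csec {U V : X.Etale} (g : V ⟶ U) (m : M) :
    Groth.Agent.Etrest.ModGerm.res Λ (EtModW.constMod Λ X M) g (csec Λ M U m) = csec Λ M V m :=
  (NatTrans.naturality_apply (toSheafify X.smallEtaleTopology (cpre Λ M X)) g.op m).symm

theorem isLocallyBijective (X : Scheme.{u}) :
    Presheaf.IsLocallyInjective X.smallEtaleTopology (toSheafify X.smallEtaleTopology (cpre Λ M X)) ∧
    Presheaf.IsLocallySurjective X.smallEtaleTopology (toSheafify X.smallEtaleTopology (cpre Λ M X)) := by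
  have h := GrothendieckTopology.W_toSheafify X.smallEtaleTopology (cpre Λ M X)
  rwa [GrothendieckTopology.W_iff_isLocallyBijective] at h

/-- Every section of the constant sheaf is locally constant. -/
theorem exists_csec {U : X.Etale} (s : EtModW.sect Λ (EtModW.constMod Λ X M) U) (x : U.left) :
    ∃ (V : X.Etale) (g : V ⟶ U) (v : V.left) (m : M), g.left v = x ∧
      Groth.Agent.Etrest.ModGerm.res Λ (EtModW.constMod Λ X M) g s = csec Λ M V m := by
  have h := (isLocallyBijective Λ (M := M) X).2.imageSieve_mem s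
  rw [mem_iff] at h
  obtain ⟨V, g, ⟨m, hm⟩, v, hv⟩ := h x
  exact ⟨V, g, v, m, hv, hm.symm⟩

/-- Constant sections over a nonempty étale scheme are injective. -/
theorem csec_injective {U : X.Etale} (x : U.left) {m m' : M} (h : csec Λ M U m = csec Λ M U m') : m = m' := by
  have h := (isLocallyBijective Λ (M := M) X).1.equalizerSieve_mem (X := op U) m m' h
  rw [mem_iff] at h
  obtain ⟨V, g, hg, v, hv⟩ := h x
  exact hg

end const

/-- The base change of a nonempty étale scheme to a nonempty open of an irreducible scheme is nonempty. -/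
theorem nonempty_bc {X W : Scheme.{u}} [IrreducibleSpace X] [hW : Nonempty W] (j : W ⟶ X)
    [IsOpenImmersion j] (V : X.Etale) (v : V.left) : Nonempty ((EtCoh.bc j).obj V).left := by
  have h₁ : IsOpen (X := X) (Set.range V.hom) := V.hom.isOpenMap.isOpen_range
  have h₂ : IsOpen (X := X) (Set.range j) := j.isOpenEmbedding.isOpen_range
  obtain ⟨w⟩ := hW
  obtain ⟨x, ⟨w₁, hw₁⟩, ⟨w₂, hw₂⟩⟩ :=
    nonempty_preirreducible_inter (X := X) h₁ h₂ ⟨_, v, rfl⟩ ⟨_, w, rfl⟩
  obtain ⟨z, -, -⟩ := Scheme.Pullback.exists_preimage_pullback (f := V.hom) (g := j) w₁ w₂ (hw₁.trans hw₂.symm)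
  exact ⟨z⟩

theorem irreducibleSpace_of_isOpenEmbedding {A B : Type*} [TopologicalSpace A] [TopologicalSpace B]
    [IrreducibleSpace B] [hA : Nonempty A] {f : A → B} (hf : Topology.IsOpenEmbedding f) :
    IrreducibleSpace A where
  toNonempty := hA
  isPreirreducible_univ := by
    have h := (IrreducibleSpace.isIrreducible_univ B).isPreirreducible.preimage hf
    rwa [Set.preimage_univ] at h

theorem irreducible_bc_top {X W : Scheme.{u}} [IrreducibleSpace W] (j : W ⟶ X) :
    IrreducibleSpace ((EtCoh.bc j).obj (EtCoh.top X)).left := by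
  have h : IsIso (pullback.snd (𝟙 X) j) := inferInstance
  let e : pullback (𝟙 X) j ≅ W := @asIso _ _ _ _ (pullback.snd (𝟙 X) j) h
  have hn : Nonempty (pullback (𝟙 X) j : Scheme.{u}) :=
    Nonempty.map (Scheme.homeoOfIso e).symm (inferInstanceAs (Nonempty W))
  have h2 : IrreducibleSpace (pullback (𝟙 X) j : Scheme.{u}) :=
    irreducibleSpace_of_isOpenEmbedding (Scheme.homeoOfIso e).isOpenEmbedding
  exact h2

/-- A map from a constant sheaf to the push forward of a finite type locally constant sheaf from a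
nonempty open of an irreducible scheme is injective if it is injective on one geometric stalk. -/
theorem irr_mono (Λ : Type (u+1)) [CommRing Λ] {X W : Scheme.{u}} [IrreducibleSpace X] [Nonempty W]
    (j : W ⟶ X) [IsOpenImmersion j] (A : EtModW.Mod Λ W) (hA : EtModW.IsFTLocConst _ A)
    (M : Type (u + 1)) [AddCommGroup M] [Module Λ M]
    (φ : EtModW.constMod Λ X M ⟶ (EtModW.push Λ j).obj A) {Ω : Type u} [Field Ω] [IsSepClosed Ω]
    (ξ : Spec (.of Ω) ⟶ X) (h : Mono ((EtModW.stalk Λ ξ).map φ)) : Mono φ := by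
  have hW : IrreducibleSpace W := irreducibleSpace_of_isOpenEmbedding j.isOpenEmbedding
  have hT := irreducible_bc_top j
  have hφ : Function.Injective (stalkMap Λ ξ φ) := (ModuleCat.mono_iff_injective _).1 h
  -- a constant section which is killed somewhere is zero
  have key : ∀ (V : X.Etale) (_ : V.left) (m : M), ev Λ φ V (csec Λ M V m) = 0 → m = 0 := by
    intro V v m hm
    let g : V ⟶ EtCoh.top X := MorphismProperty.Over.homMk V.hom
    obtain ⟨v'⟩ := nonempty_bc j V v
    have h1 : ev Λ φ (EtCoh.top X) (csec Λ M (EtCoh.top X) m) = 0 := by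
      refine eq_zero_of_res Λ A hA (U := (EtCoh.bc j).obj (EtCoh.top X)) ((EtCoh.bc j).map g) v' _ ?_
      refine Eq.trans ?_ hm
      rw [← res_csec Λ g m, Groth.Agent.Etrest.ModGerm.ev_res]
      rfl
    obtain ⟨t⟩ : Nonempty (Fib ξ (EtCoh.top X)) := ⟨Over.homMk ξ (Category.comp_id _)⟩
    have h2 : stalkMap Λ ξ φ (germ Λ ξ _ t (csec Λ M (EtCoh.top X) m)) = 0 := by
      rw [Groth.Agent.Etrest.ModGerm.stalkMap_germ, h1, map_zero]
    have h3 : germ Λ ξ _ t (csec Λ M (EtCoh.top X) m) = 0 := hφ (h2.trans (map_zero _).symm)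
    rw [germ_eq_zero_iff] at h3
    obtain ⟨V', g', w, -, hw⟩ := h3
    rw [res_csec] at hw
    exact csec_injective Λ (pt ξ w) (hw.trans (map_zero _).symm)
  have h4 : ∀ V : (X.Etale)ᵒᵖ, Mono (((sheafToPresheaf _ _).map φ).app V) := by
    intro V
    rw [ModuleCat.mono_iff_injective, injective_iff_map_eq_zero]
    intro s hs
    refine Groth.Agent.Etrest.ModGerm.sect_ext Λ _ s 0 (fun x => ?_)
    obtain ⟨V', g, v, m, hv, hm⟩ := exists_csec Λ s x
    refine ⟨V', g, ⟨v, hv⟩, ?_⟩
    have h5 : ev Λ φ V' (csec Λ M V' m) = 0 := by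
      rw [← hm, Groth.Agent.Etrest.ModGerm.ev_res]
      exact (congrArg _ hs).trans (map_zero _)
    rw [hm, key V' v m h5, map_zero, map_zero]
  have h5 : Mono ((sheafToPresheaf _ _).map φ) := NatTrans.mono_of_mono_app _
  exact (sheafToPresheaf _ _).mono_of_mono_map h5

end Groth.Agent.Sga4h.X144Clopen
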