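import Groth.Prelude.Def_EtModD2
import Groth.Prelude.Def_EtCore
import Groth.Agent.Sga4h.X144Clopen
import Groth.Agent.Etcore.LFLC
import Groth.Agent.Etrest.ModLoc

/-!
# Maps from constant sheaves of modules (for S3144)

* `exists_constHom`: a linear map `M → G(X)` gives `f : constMod Λ X M ⟶ G` which is an isomorphism on
  the geometric stalks at the points where the linear map is bijective on germs.
* `nonempty_stalk_const`: the stalks of the constant sheaf.
-/

set_option autoImplicit false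
universe u
open CategoryTheory CategoryTheory.Limits AlgebraicGeometry Opposite
open Groth.Agent.Etcore

namespace Groth.Agent.Sga4h.X144Cst

open Groth.Agent.Sga4h.X144Clopen Groth.Agent.EtpbcA.Germ
open Groth.Agent.Etrest

variable (Λ : Type (u+1)) [CommRing Λ]

/-- The map to the final object. -/
noncomputable abbrev toTop {X : Scheme.{u}} (U : X.Etale) : U ⟶ EtCoh.top X :=
  MorphismProperty.Over.homMk U.hom

theorem comp_toTop {X : Scheme.{u}} {U V : X.Etale} (g : V ⟶ U) : g ≫ toTop U = toTop V := by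
  apply (Scheme.Etale.forget _ ⋙ Over.forget _).map_injective
  exact Over.w g.hom

variable {Λ}

/-- The map of presheaves attached to a linear map to the global sections. -/
noncomputable def preMap {X : Scheme.{u}} {G : EtModW.Mod Λ X} {M : Type (u+1)} [AddCommGroup M]
    [Module Λ M] (φ : M →ₗ[Λ] EtModW.sect Λ G (EtCoh.top X)) : cpre Λ M X ⟶ G.obj where
  app U := ModuleCat.ofHom ((ModGerm.res Λ G (toTop U.unop)).comp φ)
  naturality U V g := by
    ext m
    change ModGerm.res Λ G (toTop V.unop) (φ m) =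
      ModGerm.res Λ G g.unop (ModGerm.res Λ G (toTop U.unop) (φ m))
    rw [← ModGerm.res_comp, comp_toTop]

/-- The map of sheaves attached to a linear map to the global sections. -/
noncomputable def constHom {X : Scheme.{u}} {G : EtModW.Mod Λ X} {M : Type (u+1)} [AddCommGroup M]
    [Module Λ M] (φ : M →ₗ[Λ] EtModW.sect Λ G (EtCoh.top X)) : EtModW.constMod Λ X M ⟶ G :=
  ⟨sheafifyLift X.smallEtaleTopology (preMap φ) G.property⟩

theorem ev_constHom {X : Scheme.{u}} {G : EtModW.Mod Λ X} {M : Type (u+1)} [AddCommGroup M]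
    [Module Λ M] (φ : M →ₗ[Λ] EtModW.sect Λ G (EtCoh.top X)) (U : X.Etale) (m : M) :
    ModGerm.ev Λ (constHom φ) U (csec Λ M U m) = ModGerm.res Λ G (toTop U) (φ m) := by
  have h := toSheafify_sheafifyLift X.smallEtaleTopology (preMap φ) G.property
  have h1 := congrArg (fun k => k.app (op U)) h
  exact congrArg (fun k : (cpre Λ M X).obj (op U) ⟶ G.obj.obj (op U) => k m) h1

section stalk

variable {X : Scheme.{u}} {Ω : Type u} [Field Ω] [IsSepClosed Ω] (ξ : Spec (.of Ω) ⟶ X)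

/-- The point of the final object. -/
noncomputable def tpt : Fib ξ (EtCoh.top X) := Over.homMk ξ (Category.comp_id _)

theorem tpt_uniq (t : Fib ξ (EtCoh.top X)) : t = tpt ξ := by
  have h := Over.w t
  apply Over.OverMorphism.ext
  exact (Category.comp_id _).symm.trans h

theorem pt_tpt : pt ξ (tpt ξ) = ξ default := rfl

theorem exists_csec_stalk {M : Type (u+1)} [AddCommGroup M] [Module Λ M]
    (a : ((EtModW.stalk Λ ξ).obj (EtModW.constMod Λ X M) : Type (u + 1))) :
    ∃ m : M, ModGerm.germ Λ ξ _ (tpt ξ) (csec Λ M (EtCoh.top X) m) = a := by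
  obtain ⟨U, t, s, rfl⟩ := ModGerm.germ_surj Λ ξ _ a
  obtain ⟨V, g, v, m, hv, hm⟩ := exists_csec Λ s (pt ξ t)
  obtain ⟨t', ht', -⟩ := exists_lift ξ g t v hv
  refine ⟨m, ?_⟩
  rw [← ht', ← ModGerm.germ_res, hm, ← res_csec Λ (toTop V) m, ModGerm.germ_res]
  rw [tpt_uniq ξ (fmap ξ (toTop V) t')]

theorem csec_stalk_inj {M : Type (u+1)} [AddCommGroup M] [Module Λ M] (m : M)
    (h : ModGerm.germ Λ ξ _ (tpt ξ) (csec Λ M (EtCoh.top X) m) = 0) : m = 0 := by
  rw [ModGerm.germ_eq_zero_iff] at h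
  obtain ⟨V, g, v, -, hv⟩ := h
  rw [res_csec] at hv
  exact csec_injective Λ (pt ξ v) (hv.trans (map_zero _).symm)

theorem bijective_stalk {G : EtModW.Mod Λ X} {M : Type (u+1)} [AddCommGroup M] [Module Λ M]
    (φ : M →ₗ[Λ] EtModW.sect Λ G (EtCoh.top X)) (z : X) (hz : ξ default = z)
    (h1 : LVan.InjAt G φ z) (h2 : LVan.SurjAt G φ z) :
    Function.Bijective (ModGerm.stalkMap Λ ξ (constHom φ)) := by
  have key : ∀ m : M, ModGerm.stalkMap Λ ξ (constHom φ)
      (ModGerm.germ Λ ξ _ (tpt ξ) (csec Λ M (EtCoh.top X) m)) = ModGerm.germ Λ ξ G (tpt ξ) (φ m) := by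
    intro m
    rw [ModGerm.stalkMap_germ, ev_constHom, ModGerm.germ_res, tpt_uniq ξ (fmap ξ _ _)]
  constructor
  · rw [injective_iff_map_eq_zero]
    intro a ha
    obtain ⟨m, rfl⟩ := exists_csec_stalk ξ a
    rw [key, ModGerm.germ_eq_zero_iff] at ha
    obtain ⟨V, g, v, hv, hg⟩ := ha
    have h3 : m = 0 := h1 m ⟨V, g, pt ξ v, by
      rw [← pt_fmap, hv]
      exact hz, hg⟩
    rw [h3, map_zero, map_zero]
  · intro b
    obtain ⟨V, t, s, rfl⟩ := ModGerm.germ_surj Λ ξ _ b
    obtain ⟨m, W, g, w, hw, hg⟩ := h2 V (toTop V) (pt ξ t) (by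
      rw [← pt_fmap, tpt_uniq ξ (fmap ξ _ _)]
      exact hz) s
    obtain ⟨t', ht', -⟩ := exists_lift ξ g t w hw
    refine ⟨ModGerm.germ Λ ξ _ (tpt ξ) (csec Λ M (EtCoh.top X) m), ?_⟩
    rw [key]
    have h3 : ModGerm.germ Λ ξ G t (s - ModGerm.res Λ G (toTop V) (φ m)) = 0 := by
      rw [← ht', ← ModGerm.germ_res]
      exact (congrArg _ hg).trans (map_zero _)
    rw [map_sub, sub_eq_zero, ModGerm.germ_res, tpt_uniq ξ (fmap ξ _ _)] at h3
    exact h3.symm

end stalk

variable (Λ)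

/-- (CST1) -/
theorem exists_constHom {X : Scheme.{u}} (G : EtModW.Mod Λ X) (M : Type (u+1)) [AddCommGroup M] [Module Λ M]
    (φ : M →ₗ[Λ] EtModW.sect Λ G (EtCoh.top X)) : ∃ f : EtModW.constMod Λ X M ⟶ G,
      ∀ (z : X), (LVan.InjAt G φ z ∧ LVan.SurjAt G φ z) →
        ∀ (Ω : Type u) [Field Ω] [IsSepClosed Ω] (ξ : Spec (.of Ω) ⟶ X), (∀ t, ξ t = z) → IsIso ((EtModW.stalk Λ ξ).map f) := by
  refine ⟨constHom φ, fun z hz Ω _ _ ξ hξ => ?_⟩
  rw [ConcreteCategory.isIso_iff_bijective]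
  exact bijective_stalk ξ φ z (hξ _) hz.1 hz.2

/-- (CST2) -/
theorem nonempty_stalk_const {X : Scheme.{u}} (M : Type (u+1)) [AddCommGroup M] [Module Λ M]
    {Ω : Type u} [Field Ω] [IsSepClosed Ω] (ξ : Spec (.of Ω) ⟶ X) :
    Nonempty ((EtModW.stalk Λ ξ).obj (EtModW.constMod Λ X M) ≅ ModuleCat.of Λ M) := by
  let L : M →ₗ[Λ] ((EtModW.stalk Λ ξ).obj (EtModW.constMod Λ X M) : Type (u + 1)) :=
    (ModGerm.germ Λ ξ _ (tpt ξ)).comp (csec Λ M (EtCoh.top X))
  have hL : Function.Bijective L := by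
    constructor
    · rw [injective_iff_map_eq_zero]
      exact fun m hm => csec_stalk_inj ξ m hm
    · exact fun a => exists_csec_stalk ξ a
  exact ⟨(LinearEquiv.ofBijective L hL).toModuleIso.symm⟩

end Groth.Agent.Sga4h.X144Cst
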