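import Groth.Agent.Etcore.LFinite
import Groth.Agent.Etcore.ShriekBasic
import Groth.Agent.Sga5.FlcClopen
import Groth.Agent.Sga4h.X144Geo2
import Groth.Agent.Sga4h.EulerSpec
import Groth.Agent.EtpbcA.ConsCrit
import Mathlib.Algebra.Group.Shrink
import Mathlib.Data.Countable.Small
import Mathlib.SetTheory.Cardinal.Finite

/-!
# `j_*` of a finite locally constant sheaf on a regular scheme of dimension `≤ 1`

`j : U ⟶ S` a dense open immersion, `S` locally Noetherian, regular of dimension `≤ 1`.

* `isConstructible_push_ab`: `j_* A` is constructible for `A` finite locally constant (abelian sheaves, no torsion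
  hypothesis).
* `isConstructible_push`: the same for finite type locally constant sheaves of `ℤ/n`-modules.
-/

set_option autoImplicit false
universe u

open CategoryTheory CategoryTheory.Limits AlgebraicGeometry Opposite Topology

namespace Groth.Agent.Sga4h.PushCons937

open Groth.Agent.Etbase Groth.Agent.Etcore Groth.Agent.EtpbcA
open Groth.Agent.EtpbcA.ConsVan

variable {S U : Scheme.{u}}

theorem isOpenMap_hom (V : S.Etale) : IsOpenMap V.hom.base := by
  have : AlgebraicGeometry.Etale V.hom := V.prop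
  exact Cover.isOpenMap_of_etale V.hom

theorem hom_left_apply {V W : S.Etale} (g : W ⟶ V) (w : W.left) : V.hom (g.left w) = W.hom w := by
  have e : g.left ≫ V.hom = W.hom := MorphismProperty.Over.w g
  exact congrArg (fun (q : W.left ⟶ S) => q w) e

variable (j : U ⟶ S) [IsOpenImmersion j]

omit [IsOpenImmersion j] in
/-- A nonempty étale `S`-scheme has a point over the dense open `U`. -/
theorem exists_point_over (hU : Dense (Set.range j.base)) (V : S.Etale) [Nonempty V.left] :
    Nonempty ((EtCoh.bc j).obj V).left := by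
  have h1 : Dense (X := V.left) (V.hom.base ⁻¹' (Set.range j.base)) := hU.preimage (isOpenMap_hom V)
  obtain ⟨v, u, hu⟩ := h1.nonempty
  obtain ⟨z, -, -⟩ := Scheme.Pullback.exists_preimage_pullback (f := V.hom) (g := j) v u hu.symm
  exact ⟨z⟩

instance isOpenImmersion_fst (V : S.Etale) : IsOpenImmersion (pullback.fst V.hom j) :=
  MorphismProperty.pullback_fst (P := @IsOpenImmersion) _ _ inferInstance

theorem isIntegral_bc (hU : Dense (Set.range j.base)) (V : S.Etale) [IsIntegral V.left] :
    IsIntegral ((EtCoh.bc j).obj V).left := by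
  obtain ⟨y⟩ := exists_point_over j hU V
  have h1 : Nonempty (pullback V.hom j : Scheme.{u}) := ⟨y⟩
  have h2 : IsIntegral ((𝟭 Scheme).obj V.left) := inferInstanceAs (IsIntegral V.left)
  exact @isIntegral_of_isOpenImmersion _ _ (pullback.fst V.hom j) (isOpenImmersion_fst j V) h2 h1

variable {A : EtCoh.Ab U} (hA : EtCoh.IsFiniteLocallyConstant A)

include hA in
/-- A section of a finite locally constant sheaf over an irreducible scheme vanishing near one point is zero. -/
theorem eq_zero_of_van_point {T : U.Etale} [IsIntegral T.left] (s : EtCoh.sect A T) (y : T.left)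
    (h : Van A s y) : s = 0 := by
  have hc := Groth.Agent.Sga5.FlcClopen.isClopen_van hA s
  have h1 : {v | Van A s v} = Set.univ := by
    rcases isClopen_iff.1 hc with h2 | h2
    · exact absurd (h2 ▸ h : y ∈ (∅ : Set T.left)) (Set.notMem_empty y)
    · exact h2
  apply eq_zero_of_van
  intro x
  have : x ∈ {v | Van A s v} := h1 ▸ Set.mem_univ x
  exact this

include hA in
theorem injective_res (hU : Dense (Set.range j.base)) {V W : S.Etale} (g : W ⟶ V) [IsIntegral V.left]
    [Nonempty W.left] : Function.Injective (res ((EtCoh.push j).obj A) g) := by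
  rw [injective_iff_map_eq_zero]
  intro s hs
  obtain ⟨y⟩ := exists_point_over j hU W
  have := isIntegral_bc j hU V
  refine eq_zero_of_van_point hA (T := (EtCoh.bc j).obj V) s (((EtCoh.bc j).map g).left y) ?_
  exact ⟨(EtCoh.bc j).obj W, (EtCoh.bc j).map g, y, rfl, hs⟩

include hA in
/-- The sections over small connected étale schemes are bounded. -/
theorem exists_bound (hU : Dense (Set.range j.base)) (V₀ : S.Etale) [IsIntegral V₀.left] :
    ∃ N : ℕ, ∀ (W : S.Etale) (_ : W ⟶ V₀) [IsIntegral W.left],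
      Finite (EtCoh.sect ((EtCoh.push j).obj A) W) ∧
        Nat.card (EtCoh.sect ((EtCoh.push j).obj A) W) ≤ N := by
  obtain ⟨y₀⟩ := exists_point_over j hU V₀
  obtain ⟨T, k, t, ht, N, _, _, β, hβ⟩ := Groth.Agent.Sga5.FlcClopen.exists_triv hA ((EtCoh.bc j).obj V₀) y₀
  refine ⟨Nat.card N, fun W g _ => ?_⟩
  have hi := isIntegral_bc j hU W
  have hi0 := isIntegral_bc j hU V₀
  -- a common point of `T` and `W ×_S U`
  let g' : (EtCoh.bc j).obj W ⟶ (EtCoh.bc j).obj V₀ := (EtCoh.bc j).map g
  obtain ⟨y₁⟩ := exists_point_over j hU W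
  have h1 : (Set.range g'.left.base ∩ Set.range k.left.base).Nonempty := by
    have := (inferInstance : IrreducibleSpace ((EtCoh.bc j).obj V₀).left)
    exact nonempty_preirreducible_inter (Cover.isOpenMap_left g').isOpen_range
      (Cover.isOpenMap_left k).isOpen_range ⟨_, y₁, rfl⟩ ⟨_, t, rfl⟩
  obtain ⟨_, ⟨y, rfl⟩, ⟨t', ht'⟩⟩ := h1
  obtain ⟨P, a, b, p, hab, ha, hb⟩ := EtSite.exists_pullback g' k y t' ht'.symm
  have hS : SurjAt A (resHom b β) p := (surjAt_res_iff b p β).2 (by rw [hb]; exact (hβ t').2)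
  have hm : ∀ s : EtCoh.sect A ((EtCoh.bc j).obj W), ∃ m : N, Van A (res A a s - res A b (β m)) p := by
    intro s
    obtain ⟨m, hm⟩ := hS P (𝟙 P) p rfl (res A a s)
    rw [res_id] at hm
    exact ⟨m, hm⟩
  choose f hf using hm
  have hinj : Function.Injective f := by
    intro s s' hss
    have h2 := hf s
    have h3 := hf s'
    rw [← hss] at h3
    have h4 := h2.trans h3.symm
    rw [← map_sub, van_res_iff, ha] at h4
    exact sub_eq_zero.1 (eq_zero_of_van_point hA _ y h4)
  have hfin : Finite (EtCoh.sect ((EtCoh.push j).obj A) W) := Finite.of_injective _ hinj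
  exact ⟨hfin, Nat.card_le_card_of_injective _ hinj⟩

include hA in
/-- Around a bad point the sections over a small étale neighbourhood compute the stalk of `j_* A`. -/
theorem exists_good [IsLocallyNoetherian S]
    (hreg : ∀ s : S, IsRegularLocalRing (S.presheaf.stalk s))
    (hdim : ∀ s : S, ringKrullDim (S.presheaf.stalk s) ≤ 1)
    (hU : Dense (Set.range j.base)) (z : S) (hz : z ∉ Set.range j.base) :
    ∃ (V : S.Etale) (v : V.left) (_ : V.hom v = z) (M : Type) (_ : AddCommGroup M)
      (_ : Finite M) (φ : M →+ EtCoh.sect ((EtCoh.push j).obj A) V),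
      IsLocallyConstructible ({v} : Set V.left) ∧ InjAt ((EtCoh.push j).obj A) φ v ∧
        SurjAt ((EtCoh.push j).obj A) φ v := by
  classical
  -- refinement by integral neighbourhoods
  have ref : ∀ (V : S.Etale) (v : V.left), V.hom v = z → ∃ (W : S.Etale) (g : W ⟶ V) (w : W.left),
      g.left w = v ∧ IsIntegral W.left ∧ IsNoetherian W.left ∧
        ∀ w' : W.left, W.hom w' ∉ Set.range j.base ↔ w' = w := by
    intro V v hv
    obtain ⟨W, g, w, h1, -, h2, -, h4, h5⟩ := X144Geo2.geo3 hreg hdim j hU z hz V v hv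
    exact ⟨W, g, w, h1, h2, h4, h5⟩
  let G := (EtCoh.push j).obj A
  obtain ⟨V₀, g₀, v₀, hv₀, hV₀, hV₀n, hV₀'⟩ := ref (EtCoh.top S) z rfl
  have hz₀ : V₀.hom v₀ = z := (hom_left_apply g₀ v₀).symm.trans (congrArg (EtCoh.top S).hom hv₀)
  obtain ⟨N, hN⟩ := exists_bound j hA hU V₀
  -- an integral neighbourhood with the largest number of sections
  let Q : ℕ → Prop := fun m => ∃ (W : S.Etale) (w : W.left) (_ : W ⟶ V₀), W.hom w = z ∧
    IsIntegral W.left ∧ IsNoetherian W.left ∧ (∀ w' : W.left, W.hom w' ∉ Set.range j.base ↔ w' = w) ∧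
      Nat.card (EtCoh.sect G W) = m
  have hQ0 : Q (Nat.card (EtCoh.sect G V₀)) := ⟨V₀, v₀, 𝟙 _, hz₀, hV₀, hV₀n, hV₀', rfl⟩
  have hQb : ∀ m, Q m → m ≤ N := by
    rintro m ⟨W, w, g, -, hW, -, -, rfl⟩
    exact (hN W g).2
  obtain ⟨V, v, gV, hv, hVi, hVn, hVu, hVm⟩ : Q (Nat.findGreatest Q N) :=
    Nat.findGreatest_spec (hQb _ hQ0) hQ0
  have hVf : Finite (EtCoh.sect G V) := (hN V gV).1
  -- restriction to smaller neighbourhoods is bijective
  have key : ∀ (W : S.Etale) (g : W ⟶ V) (w : W.left), g.left w = v →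
      ∃ (W' : S.Etale) (k : W' ⟶ W) (w' : W'.left), k.left w' = w ∧
        Function.Bijective (res G (k ≫ g)) := by
    intro W g w hw
    have hwz : W.hom w = z := by rw [← hom_left_apply g w, hw, hv]
    obtain ⟨W', k, w', hk, h1, h2, h3⟩ := ref W w hwz
    refine ⟨W', k, w', hk, ?_⟩
    have hw'z : W'.hom w' = z := by rw [← hom_left_apply k w', hk, hwz]
    have hne : Nonempty W'.left := ⟨w'⟩
    have hfin := (hN W' (k ≫ g ≫ gV)).1
    refine (injective_res j hA hU (k ≫ g)).bijective_of_nat_card_le ?_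
    rw [hVm]
    exact Nat.le_findGreatest ((hN W' (k ≫ g ≫ gV)).2)
      ⟨W', w', k ≫ g ≫ gV, hw'z, h1, h2, h3, rfl⟩
  have : Small.{0} (EtCoh.sect G V) := Countable.toSmall _
  let e : Shrink.{0} (EtCoh.sect G V) ≃+ EtCoh.sect G V := Shrink.addEquiv
  have hMf : Finite (Shrink.{0} (EtCoh.sect G V)) := Finite.of_equiv _ e.symm.toEquiv
  refine ⟨V, v, hv, Shrink.{0} (EtCoh.sect G V), inferInstance, hMf, e.toAddMonoidHom, ?_, ?_, ?_⟩
  · have hcl : IsClosed ({v} : Set V.left) := by
      have h1 : ({v} : Set V.left) = (V.hom.base ⁻¹' (Set.range j.base))ᶜ := by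
        ext w
        exact (hVu w).symm
      rw [h1]
      exact ((j.isOpenEmbedding.isOpen_range).preimage V.hom.continuous).isClosed_compl
    have hr : IsRetrocompact ({v} : Set V.left)ᶜ := fun _ _ _ => TopologicalSpace.NoetherianSpace.isCompact _
    have h2 : IsConstructible ({v} : Set V.left)ᶜ := hr.isConstructible hcl.isOpen_compl
    have h3 := h2.compl
    rw [compl_compl] at h3
    exact h3.isLocallyConstructible
  · rintro m ⟨W, g, w, hw, h0⟩
    obtain ⟨W', k, w', -, hb⟩ := key W g w hw
    have h1 : res G (k ≫ g) (e m) = 0 := by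
      rw [res_comp]
      exact (congrArg (res G k) h0).trans (map_zero _)
    have h2 : e m = 0 := hb.1 (h1.trans (map_zero _).symm)
    exact (EmbeddingLike.map_eq_zero_iff (f := e)).1 h2
  · intro W g w hw t
    obtain ⟨W', k, w', hk, hb⟩ := key W g w hw
    obtain ⟨s, hs⟩ := hb.2 (res G k t)
    obtain ⟨m, rfl⟩ := e.surjective s
    refine ⟨m, W', k, w', hk, ?_⟩
    rw [map_sub, sub_eq_zero, ← res_comp]
    exact hs.symm

include hA in
/-- `j_* A` is constructible. -/
theorem isConstructible_push_ab [IsLocallyNoetherian S]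
    (hreg : ∀ s : S, IsRegularLocalRing (S.presheaf.stalk s))
    (hdim : ∀ s : S, ringKrullDim (S.presheaf.stalk s) ≤ 1)
    (hU : Dense (Set.range j.base)) : EtPBC.IsConstructible ((EtCoh.push j).obj A) := by
  refine Strata.isConstructible_of_local' _ fun x => ?_
  by_cases hx : x ∈ Set.range j.base
  · refine ⟨j.opensRange, hx, U, j, inferInstance, subset_rfl, hx, ?_, ?_⟩
    · have h1 : (Subtype.val : ((j.opensRange : Set S) : Type u) → S) ⁻¹' (Set.range j) = Set.univ := by
        ext a
        exact ⟨fun _ => trivial, fun _ => a.2⟩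
      rw [h1]
      exact IsConstructible.univ
    · exact PullFLC.isFLC_of_iso (asIso ((EtCoh.pullPushAdj j).counit.app A)).symm hA
  · obtain ⟨V, v, rfl, M, _, _, φ, h1, h2, h3⟩ := exists_good j hA hreg hdim hU x hx
    exact ConsCrit.localStratum_of_good _ V v φ {v} h1 rfl (by
      rintro c rfl
      exact ⟨h2, h3⟩)

/-- `j_* F` is constructible for `F` a finite type locally constant sheaf of `ℤ/n`-modules. -/
theorem isConstructible_push (n : ℕ) {S U : Scheme.{u}} [IsLocallyNoetherian S]
    (hreg : ∀ s : S, IsRegularLocalRing (S.presheaf.stalk s)) (hdim : ∀ s : S, ringKrullDim (S.presheaf.stalk s) ≤ 1)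
    (hn : IsUnit (n : Γ(S, ⊤))) (j : U ⟶ S) [IsOpenImmersion j] (hU : Dense (Set.range j.base))
    (F : EtModW.Mod (ULift.{u+1} (ZMod n)) U) (hF : EtModW.IsFTLocConst _ F) :
    EtModW.IsConstructible _ ((EtModW.push _ j).obj F) := by
  by_cases hn0 : n = 0
  · refine LCrit.isConstructible_of_good _ fun x => ?_
    exfalso
    have h1 := hn.map (S.presheaf.germ ⊤ x trivial).hom
    rw [map_natCast, hn0, Nat.cast_zero] at h1
    exact not_isUnit_zero h1
  · have : NeZero n := ⟨hn0⟩
    rw [LFinite.isConstructible_iff_ab]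
    exact isConstructible_push_ab j (Groth.Agent.Sga4h.EulerSpec.flc_ab n F hF) hreg hdim hU

end Groth.Agent.Sga4h.PushCons937
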