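import Mathlib.CategoryTheory.Triangulated.Functor
import Mathlib.CategoryTheory.Triangulated.Yoneda
import Mathlib.CategoryTheory.Adjunction.Basic

/-!
# Universal pairs (derived direct images by universal property)

`Φ : A ⥤ B` (think of `Φ = f^* : D(Y) ⥤ D(X)`), `K : B`. A pair `(M, ε : Φ.obj M ⟶ K)` is *universal*,
`IsUniv Φ ε`, if `φ ↦ Φ.map φ ≫ ε` is a bijection `(N ⟶ M) ≃ (Φ.obj N ⟶ K)` for all `N : A`
(think of `M = Rf_* K`).
-/

set_option autoImplicit false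

namespace Groth.Agent.Sga4h.RPair

open CategoryTheory Category Limits

universe v₁ v₂ v₃ v₄ u₁ u₂ u₃ u₄

section general

variable {A : Type u₁} [Category.{v₁} A] {B : Type u₂} [Category.{v₂} B]
  {C : Type u₃} [Category.{v₃} C] {D : Type u₄} [Category.{v₄} D]

/-- `(M, ε)` represents `N ↦ Hom(Φ N, K)`. -/
def IsUniv (Φ : A ⥤ B) {M : A} {K : B} (ε : Φ.obj M ⟶ K) : Prop :=
  ∀ N : A, Function.Bijective (fun φ : N ⟶ M => Φ.map φ ≫ ε)

namespace IsUniv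

variable {Φ : A ⥤ B} {M : A} {K : B} {ε : Φ.obj M ⟶ K}

/-- The factorisation through a universal pair. -/
noncomputable def lift (h : IsUniv Φ ε) {N : A} (x : Φ.obj N ⟶ K) : N ⟶ M := ((h N).2 x).choose

@[reassoc]
lemma fac (h : IsUniv Φ ε) {N : A} (x : Φ.obj N ⟶ K) : Φ.map (h.lift x) ≫ ε = x :=
  ((h N).2 x).choose_spec

lemma hom_ext (h : IsUniv Φ ε) {N : A} {a b : N ⟶ M} (hab : Φ.map a ≫ ε = Φ.map b ≫ ε) : a = b :=
  (h N).1 hab

lemma lift_unique (h : IsUniv Φ ε) {N : A} (x : Φ.obj N ⟶ K) (a : N ⟶ M) (ha : Φ.map a ≫ ε = x) :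
    a = h.lift x := h.hom_ext (by rw [ha, h.fac])

lemma comp_lift (h : IsUniv Φ ε) {N N' : A} (x : Φ.obj N ⟶ K) (a : N' ⟶ N) :
    a ≫ h.lift x = h.lift (Φ.map a ≫ x) :=
  h.lift_unique _ _ (by rw [Φ.map_comp, assoc, h.fac])

/-- Two universal pairs for the same object are canonically isomorphic. -/
noncomputable def iso (h : IsUniv Φ ε) {M' : A} {ε' : Φ.obj M' ⟶ K} (h' : IsUniv Φ ε') : M ≅ M' where
  hom := h'.lift ε
  inv := h.lift ε'
  hom_inv_id := h.hom_ext (by rw [Φ.map_comp, assoc, h.fac, h'.fac, Φ.map_id, id_comp])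
  inv_hom_id := h'.hom_ext (by rw [Φ.map_comp, assoc, h'.fac, h.fac, Φ.map_id, id_comp])

@[reassoc]
lemma iso_hom_fac (h : IsUniv Φ ε) {M' : A} {ε' : Φ.obj M' ⟶ K} (h' : IsUniv Φ ε') :
    Φ.map (h.iso h').hom ≫ ε' = ε := h'.fac ε

@[reassoc]
lemma iso_inv_fac (h : IsUniv Φ ε) {M' : A} {ε' : Φ.obj M' ⟶ K} (h' : IsUniv Φ ε') :
    Φ.map (h.iso h').inv ≫ ε = ε' := h.fac ε'

/-- A map to a universal pair which is compatible with `ε` is an isomorphism iff the source is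
universal. -/
theorem isIso_iff (h : IsUniv Φ ε) {M' : A} (u : M' ⟶ M) : IsIso u ↔ IsUniv Φ (Φ.map u ≫ ε) := by
  constructor
  · intro hu N
    have : (fun φ : N ⟶ M' => Φ.map φ ≫ Φ.map u ≫ ε) = (fun φ : N ⟶ M => Φ.map φ ≫ ε) ∘ (fun φ => φ ≫ u) := by
      funext φ
      simp
    rw [this]
    refine (h N).comp ⟨fun a b hab => (cancel_mono u).1 hab, fun c => ⟨c ≫ inv u, by simp⟩⟩
  · intro h'
    have : u = (h'.iso h).hom := (h.lift_unique _ _ rfl)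
    rw [this]
    infer_instance

theorem of_iso_left (h : IsUniv Φ ε) {M' : A} (u : M' ≅ M) : IsUniv Φ (Φ.map u.hom ≫ ε) :=
  (h.isIso_iff u.hom).1 inferInstance

/-- Transport along an isomorphism of pairs. -/
theorem of_iso (h : IsUniv Φ ε) {M' : A} {K' : B} (u : M ≅ M') (v : K ≅ K') (ε' : Φ.obj M' ⟶ K')
    (w : Φ.map u.hom ≫ ε' = ε ≫ v.hom) : IsUniv Φ ε' := by
  intro N
  have : (fun φ : N ⟶ M' => Φ.map φ ≫ ε') =
      (fun x : Φ.obj N ⟶ K => x ≫ v.hom) ∘ (fun φ : N ⟶ M => Φ.map φ ≫ ε) ∘ (fun φ => φ ≫ u.inv) := by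
    funext φ
    dsimp
    rw [assoc, ← w, ← assoc, ← Φ.map_comp, assoc, u.inv_hom_id, comp_id]
  rw [this]
  exact (Equiv.bijective ⟨fun x => x ≫ v.hom, fun x => x ≫ v.inv, fun x => by simp, fun x => by simp⟩).comp
    ((h N).comp (Equiv.bijective ⟨fun x => x ≫ u.inv, fun x => x ≫ u.hom, fun x => by simp, fun x => by simp⟩))

/-- Transport along a natural isomorphism of functors. -/
theorem of_natIso (h : IsUniv Φ ε) {Φ' : A ⥤ B} (e : Φ' ≅ Φ) : IsUniv Φ' (e.hom.app M ≫ ε) := by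
  intro N
  have : (fun φ : N ⟶ M => Φ'.map φ ≫ e.hom.app M ≫ ε) =
      (fun x : Φ.obj N ⟶ K => e.hom.app N ≫ x) ∘ (fun φ : N ⟶ M => Φ.map φ ≫ ε) := by
    funext φ
    simp
  rw [this]
  exact (Equiv.bijective ⟨fun x => e.hom.app N ≫ x, fun x => e.inv.app N ≫ x, fun x => by simp,
    fun x => by simp⟩).comp (h N)

/-- The counit of an adjunction is universal. -/
theorem of_adjunction {Ψ : B ⥤ A} (adj : Φ ⊣ Ψ) (K : B) : IsUniv Φ (adj.counit.app K) := by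
  intro N
  have : (fun φ : N ⟶ Ψ.obj K => Φ.map φ ≫ adj.counit.app K) = (adj.homEquiv N K).symm := by
    funext φ
    rw [Adjunction.homEquiv_counit]
  rw [this]
  exact Equiv.bijective _

section comp

variable {Ψ : B ⥤ C} {L : C} {δ : Ψ.obj K ⟶ L}

/-- Composition of universal pairs: if `(M, ε)` is universal for `K` and `(K, δ)` for `L` then `M` is
universal for `L` with respect to the composite functor. -/
theorem comp (h : IsUniv Φ ε) (h' : IsUniv Ψ δ) : IsUniv (Φ ⋙ Ψ) (M := M) (Ψ.map ε ≫ δ) := by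
  intro N
  have : (fun φ : N ⟶ M => (Φ ⋙ Ψ).map φ ≫ Ψ.map ε ≫ δ) =
      (fun x : Φ.obj N ⟶ K => Ψ.map x ≫ δ) ∘ (fun φ : N ⟶ M => Φ.map φ ≫ ε) := by
    funext φ
    simp
  rw [this]
  exact (h' _).comp (h N)

/-- Cancellation: if the composite pair and the second one are universal, so is the first. -/
theorem of_comp (h' : IsUniv Ψ δ) (h : IsUniv (Φ ⋙ Ψ) (M := M) (Ψ.map ε ≫ δ)) : IsUniv Φ ε := by
  intro N
  have : (fun φ : N ⟶ M => (Φ ⋙ Ψ).map φ ≫ Ψ.map ε ≫ δ) =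
      (fun x : Φ.obj N ⟶ K => Ψ.map x ≫ δ) ∘ (fun φ : N ⟶ M => Φ.map φ ≫ ε) := by
    funext φ
    simp
  have h2 := h N
  rw [this] at h2
  exact (Function.Bijective.of_comp_iff' (h' _) _).1 h2

end comp

end IsUniv

/-- `K` has a universal pair. -/
def HasUniv (Φ : A ⥤ B) (K : B) : Prop := ∃ (M : A) (ε : Φ.obj M ⟶ K), IsUniv Φ ε

/-- The chosen representing object, think `Rf_* K`. -/
noncomputable def R (Φ : A ⥤ B) (K : B) (h : HasUniv Φ K) : A := h.choose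

end general

/-! ### Base change -/

section bc

variable {A : Type u₁} [Category.{v₁} A] {B : Type u₂} [Category.{v₂} B]
  {A' : Type u₃} [Category.{v₃} A'] {B' : Type u₄} [Category.{v₄} B']

/-- A square of "inverse image functors": `Φ = f^*`, `G = g^*`, `G' = g'^*`, `Φ' = f'^*` with
`Φ ⋙ G' ≅ G ⋙ Φ'`. -/
structure Sq (Φ : A ⥤ B) (G : A ⥤ A') (G' : B ⥤ B') (Φ' : A' ⥤ B') where
  σ : G ⋙ Φ' ≅ Φ ⋙ G'

variable {Φ : A ⥤ B} {G : A ⥤ A'} {G' : B ⥤ B'} {Φ' : A' ⥤ B'}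

namespace Sq

variable (s : Sq Φ G G' Φ')

/-- The pullback of the pair `(M, ε)`. -/
def bc {M : A} {K : B} (ε : Φ.obj M ⟶ K) : Φ'.obj (G.obj M) ⟶ G'.obj K := s.σ.hom.app M ≫ G'.map ε

/-- Base change holds for `K`: the pullback of a (= every) universal pair for `K` is universal. -/
def BC (K : B) : Prop := ∃ (M : A) (ε : Φ.obj M ⟶ K), IsUniv Φ ε ∧ IsUniv Φ' (s.bc ε)

variable {s}

theorem BC.hasUniv {K : B} (h : s.BC K) : HasUniv Φ K := ⟨h.choose, h.choose_spec.choose, h.choose_spec.choose_spec.1⟩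

lemma bc_naturality {M M₁ : A} {K K₁ : B} {ε : Φ.obj M ⟶ K} {ε₁ : Φ.obj M₁ ⟶ K₁} (u : M ⟶ M₁) (v : K ⟶ K₁)
    (w : Φ.map u ≫ ε₁ = ε ≫ v) : Φ'.map (G.map u) ≫ s.bc ε₁ = s.bc ε ≫ G'.map v := by
  have h := s.σ.hom.naturality u
  dsimp at h
  rw [bc, bc, reassoc_of% h, ← G'.map_comp, w, assoc, G'.map_comp]

theorem BC.isUniv {K : B} (h : s.BC K) {M : A} {ε : Φ.obj M ⟶ K} (hε : IsUniv Φ ε) :
    IsUniv Φ' (s.bc ε) := by
  obtain ⟨M₁, ε₁, h₁, h₂⟩ := h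
  refine h₂.of_iso (G.mapIso (h₁.iso hε)) (Iso.refl _) _ ?_
  have := s.bc_naturality (h₁.iso hε).hom (𝟙 K) (ε := ε₁) (ε₁ := ε)
    (by rw [comp_id, h₁.iso_hom_fac hε])
  simpa using this

theorem BC.of_iso {K K₁ : B} (h : s.BC K) (e : K ≅ K₁) : s.BC K₁ := by
  obtain ⟨M, ε, h₁, h₂⟩ := h
  refine ⟨M, ε ≫ e.hom, h₁.of_iso (Iso.refl _) e _ (by simp), h₂.of_iso (Iso.refl _) (G'.mapIso e) _ ?_⟩
  simp [bc]

theorem BC.iff_of_iso {K K₁ : B} (e : K ≅ K₁) : s.BC K ↔ s.BC K₁ :=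
  ⟨fun h => h.of_iso e, fun h => h.of_iso e.symm⟩

end Sq

end bc

end Groth.Agent.Sga4h.RPair
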