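import Groth.Agent.Sga4h.RPairWay
import Groth.Agent.Etrest.RDer5
import Groth.Agent.Dcoh.MapDer

/-!
# Universal pairs in derived categories

* `nondeg`, `lex`, `gex`: the canonical t-structure is nondegenerate, functors induced by exact functors
  are t-exact;
* `commShift_cD`: the derived square transformations `RDer5.cD` commute with shifts;
* `sq c`: the square of derived functors of a square of exact functors;
* `hasUniv`: existence of universal pairs (derived direct image);
* `bc_iff`: base change holds iff the derived base change transformation is an isomorphism;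
* `devissage`, `bc_of_homology`: way-out.
-/

set_option autoImplicit false
set_option linter.unusedSectionVars false

noncomputable section

namespace Groth.Agent.Sga4h.RPair

open CategoryTheory Category Limits Pretriangulated Triangulated DerivedCategory ZeroObject
open Groth.Agent.Etrest Groth.Agent.Etrest.RDer3 Groth.Agent.Etrest.RDer4 Groth.Agent.Etrest.RDer5

universe w w' w'' w''' v v' v'' v''' u u' u'' u'''

section tstruct

variable (A : Type u) [Category.{v} A] [Abelian A] [HasDerivedCategory.{w} A]
  {B : Type u'} [Category.{v'} B] [Abelian B] [HasDerivedCategory.{w'} B]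

theorem nondeg : Nondeg (TStructure.t : TStructure (DerivedCategory A)) := by
  intro X hX
  rw [IsZero.iff_id_eq_zero]
  have : ∀ n : ℤ, IsZero ((homologyFunctor A n).obj X) := fun n =>
    have := hX (n + 1)
    isZero_of_isGE X (n + 1) n (by lia)
  have h0 : IsIso (0 : (0 : DerivedCategory A) ⟶ X) := by
    rw [isIso_iff]
    intro n
    exact (IsZero.isIso ((homologyFunctor A n).map_isZero (isZero_zero _)) (this n) _)
  have := (asIso (0 : (0 : DerivedCategory A) ⟶ X))
  exact ((isZero_zero (DerivedCategory A)).of_iso this.symm).eq_of_src _ _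

variable {A} (F : A ⥤ B) [F.Additive] [PreservesFiniteLimits F] [PreservesFiniteColimits F]

theorem lex : LEx (TStructure.t : TStructure (DerivedCategory A)) (TStructure.t : TStructure (DerivedCategory B))
    F.mapDerivedCategory := fun X n h => by
  have h' : X.IsLE n := h
  rw [isLE_iff] at h'
  change IsLE _ _
  rw [isLE_iff]
  intro i hi
  exact (F.map_isZero (h' i hi)).of_iso (Groth.Agent.Dcoh.MapDer.homologyMapDerApp F i X)

theorem gex : GEx (TStructure.t : TStructure (DerivedCategory A)) (TStructure.t : TStructure (DerivedCategory B))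
    F.mapDerivedCategory := fun X n h => by
  have h' : X.IsGE n := h
  rw [isGE_iff] at h'
  change IsGE _ _
  rw [isGE_iff]
  intro i hi
  exact (F.map_isZero (h' i hi)).of_iso (Groth.Agent.Dcoh.MapDer.homologyMapDerApp F i X)

end tstruct

section devissage

variable {A : Type u} [Category.{v} A] [Abelian A] [HasDerivedCategory.{w} A]

/-- Devissage of a bounded object along its cohomology. -/
theorem devissage (P : ObjectProperty (DerivedCategory A)) [P.IsClosedUnderIsomorphisms]
    (hP0 : ∀ X, IsZero X → P X)
    (hP : ∀ T : Triangle (DerivedCategory A), T ∈ distTriang _ → P T.obj₁ → P T.obj₃ → P T.obj₂)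
    (K : DerivedCategory A) (a b : ℤ) [K.IsGE a] [K.IsLE b]
    (h : ∀ n : ℤ, P ((singleFunctor A n).obj ((homologyFunctor A n).obj K))) : P K := by
  by_cases hab : b < a
  · exact hP0 K (TStructure.t.isZero K b a hab)
  obtain ⟨m, hm⟩ : ∃ m : ℕ, b = a + m := ⟨(b - a).toNat, by omega⟩
  subst hm
  clear hab
  induction m generalizing K with
  | zero =>
    have : K.IsLE a := by
      have : K.IsLE (a + (0 : ℕ)) := inferInstance
      simpa using this
    obtain ⟨e⟩ := Groth.Agent.CohtopB.DTrunc.exists_iso_single K a
    exact P.prop_of_iso e.symm (h a)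
  | succ m ih =>
    let b := a + (m + 1 : ℕ)
    have hT := TStructure.t.triangleLTGE_distinguished b K
    refine hP _ hT ?_ ?_
    · change P ((TStructure.t.truncLT b).obj K)
      have h1 : ((TStructure.t.truncLT b).obj K).IsLE (a + m) := by
        have : TStructure.t.IsLE ((TStructure.t.truncLT b).obj K) (b - 1) := inferInstance
        have h2 : b - 1 = a + m := by
          dsimp [b]
          push_cast
          ring
        rwa [h2] at this
      have h2 : ((TStructure.t.truncLT b).obj K).IsGE a := by
        rw [isGE_iff]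
        intro i hi
        have := Groth.Agent.CohtopB.DTrunc.isIso_homology_map_truncLTι K b i (by
          dsimp [b]
          lia)
        exact (isZero_of_isGE K a i hi).of_iso (asIso ((homologyFunctor A i).map ((TStructure.t.truncLTι b).app K)))
      refine ih ((TStructure.t.truncLT b).obj K) (fun n => ?_)
      by_cases hn : n < b
      · have := Groth.Agent.CohtopB.DTrunc.isIso_homology_map_truncLTι K b n hn
        exact P.prop_of_iso ((singleFunctor A n).mapIso
          (asIso ((homologyFunctor A n).map ((TStructure.t.truncLTι b).app K))).symm) (h n)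
      · apply hP0
        apply Functor.map_isZero
        exact isZero_of_isLE ((TStructure.t.truncLT b).obj K) (a + m) n (by
          dsimp [b] at hn
          lia)
    · change P ((TStructure.t.truncGE b).obj K)
      have h1 : ((TStructure.t.truncGE b).obj K).IsLE b := by
        rw [isLE_iff]
        intro i hi
        have := Groth.Agent.CohtopB.DTrunc.isIso_homology_map_truncGEπ K b i hi.le
        exact (isZero_of_isLE K b i hi).of_iso
          (asIso ((homologyFunctor A i).map ((TStructure.t.truncGEπ b).app K))).symm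
      have h2 : ((TStructure.t.truncGE b).obj K).IsGE b := inferInstance
      obtain ⟨e⟩ := Groth.Agent.CohtopB.DTrunc.exists_iso_single ((TStructure.t.truncGE b).obj K) b
      have := Groth.Agent.CohtopB.DTrunc.isIso_homology_map_truncGEπ K b b le_rfl
      refine P.prop_of_iso (e ≪≫ (singleFunctor A b).mapIso
        (asIso ((homologyFunctor A b).map ((TStructure.t.truncGEπ b).app K))).symm).symm (h b)

end devissage

section commShift

variable {A : Type u} [Category.{v} A] [Abelian A] [HasDerivedCategory.{w} A]
  {H : Type u'} [Category.{v'} H] [HasShift H ℤ]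

/-- Compatibility with shifts can be checked after composition with `Q`. -/
theorem commShift_of_Q {S T : DerivedCategory A ⥤ H} [S.CommShift ℤ] [T.CommShift ℤ] (τ : S ⟶ T)
    (h : NatTrans.CommShift (Functor.whiskerLeft DerivedCategory.Q τ) ℤ) : NatTrans.CommShift τ ℤ where
  shift_comm n := by
    apply ext_Q
    intro K
    have h1 := congrArg (fun x => x.app K) (h.shift_comm n)
    simp only [NatTrans.comp_app, Functor.whiskerRight_app, Functor.whiskerLeft_app,
      Functor.commShiftIso_comp_hom_app] at h1 ⊢
    have h2 := τ.naturality ((Functor.commShiftIso DerivedCategory.Q n).hom.app K)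
    rw [assoc, ← reassoc_of% h2] at h1
    exact (cancel_epi _).1 h1

end commShift

section cD

variable {A : Type u} [Category.{v} A] [Abelian A] [HasDerivedCategory.{w} A]
  {B : Type u'} [Category.{v'} B] [Abelian B] [HasDerivedCategory.{w'} B]
  {A₂ : Type u''} [Category.{v''} A₂] [Abelian A₂] [HasDerivedCategory.{w''} A₂]
  {B₂ : Type u'''} [Category.{v'''} B₂] [Abelian B₂] [HasDerivedCategory.{w'''} B₂]
  {L : B ⥤ A} [L.Additive] [PreservesFiniteLimits L] [PreservesFiniteColimits L]
  {L₂ : B₂ ⥤ A₂} [L₂.Additive] [PreservesFiniteLimits L₂] [PreservesFiniteColimits L₂]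
  {E : A ⥤ A₂} [E.Additive] [PreservesFiniteLimits E] [PreservesFiniteColimits E]
  {E' : B ⥤ B₂} [E'.Additive] [PreservesFiniteLimits E'] [PreservesFiniteColimits E']

instance commShift_bcCx (c : E' ⋙ L₂ ⟶ L ⋙ E) : NatTrans.CommShift (bcCx c) ℤ where
  shift_comm n := by
    ext K i
    simp [Functor.commShiftIso_comp_hom_app]
    erw [CategoryTheory.Functor.map_id, CategoryTheory.Functor.map_id, id_comp, id_comp, id_comp, comp_id]

instance commShift_cD (c : E' ⋙ L₂ ⟶ L ⋙ E) : NatTrans.CommShift (cD c) ℤ := by
  apply commShift_of_Q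
  have : Functor.whiskerLeft DerivedCategory.Q (cD c) =
    (Functor.associator _ _ _).inv ≫
    Functor.whiskerRight E'.mapDerivedCategoryFactors.hom L₂.mapDerivedCategory ≫
    (Functor.associator _ _ _).hom ≫
    Functor.whiskerLeft (E'.mapHomologicalComplex (.up ℤ)) L₂.mapDerivedCategoryFactors.hom ≫
    (Functor.associator _ _ _).inv ≫
    Functor.whiskerRight (bcCx c) DerivedCategory.Q ≫
    (Functor.associator _ _ _).hom ≫
    Functor.whiskerLeft (L.mapHomologicalComplex (.up ℤ)) E.mapDerivedCategoryFactors.inv ≫
    (Functor.associator _ _ _).inv ≫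
    Functor.whiskerRight L.mapDerivedCategoryFactors.inv E.mapDerivedCategory ≫
    (Functor.associator _ _ _).hom := by
    ext K
    refine (ofQ_app _ K).trans ?_
    simp
  rw [this]
  infer_instance

/-- The square of derived inverse images. -/
def sq (c : E' ⋙ L₂ ≅ L ⋙ E) :
    Sq L.mapDerivedCategory E'.mapDerivedCategory E.mapDerivedCategory L₂.mapDerivedCategory where
  σ := asIso (cD c.hom)

@[simp]
lemma sq_σ_hom (c : E' ⋙ L₂ ≅ L ⋙ E) : (sq c).σ.hom = cD c.hom := rfl

instance (c : E' ⋙ L₂ ≅ L ⋙ E) : NatTrans.CommShift (sq c).σ.hom ℤ := commShift_cD c.hom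

section adj

variable [HasKInj A] {G : A ⥤ B} [G.Additive] (adj : L ⊣ G)

include adj

/-- The derived direct image is a universal pair. -/
theorem isUniv_TR (K : DerivedCategory A) : IsUniv L.mapDerivedCategory ((dAdj adj).counit.app K) :=
  IsUniv.of_adjunction _ K

theorem hasUniv (K : DerivedCategory A) : HasUniv L.mapDerivedCategory K := ⟨_, _, isUniv_TR adj K⟩

/-- The object of a universal pair is the derived direct image. -/
theorem nonempty_iso_TR {K : DerivedCategory A} {M : DerivedCategory B}
    {ε : L.mapDerivedCategory.obj M ⟶ K} (h : IsUniv L.mapDerivedCategory ε) :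
    Nonempty (M ≅ (TR G).obj K) := ⟨h.iso (isUniv_TR adj K)⟩

/-- The cohomology of the universal pair of an object placed in degree `0` is given by the right
derived functors. -/
theorem nonempty_homology_iso [EnoughInjectives A] {X : A} {M : DerivedCategory B}
    {ε : L.mapDerivedCategory.obj M ⟶ (singleFunctor A 0).obj X} (h : IsUniv L.mapDerivedCategory ε) (n : ℕ) :
    Nonempty ((homologyFunctor B (n : ℤ)).obj M ≅ (G.rightDerived n).obj X) := by
  obtain ⟨e⟩ := nonempty_iso_TR adj h
  exact ⟨(homologyFunctor B (n : ℤ)).mapIso e ≪≫ (HTRsingle G n).app X⟩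

variable [HasKInj A₂] {G₂ : A₂ ⥤ B₂} [G₂.Additive] (adj₂ : L₂ ⊣ G₂) (c : E' ⋙ L₂ ≅ L ⋙ E)

include adj₂

/-- Base change holds iff the derived base change transformation is an isomorphism. -/
theorem bc_iff (K : DerivedCategory A) :
    (sq c).BC K ↔ IsIso ((bcD (mate adj adj₂ c.hom)).app K) := by
  rw [bcD_mate]
  have h1 := mate_counit (dAdj adj) (dAdj adj₂) (cD c.hom) K
  have h2 : (sq c).bc ((dAdj adj).counit.app K) =
      L₂.mapDerivedCategory.map ((mate (dAdj adj) (dAdj adj₂) (cD c.hom)).app K) ≫
        (dAdj adj₂).counit.app (E.mapDerivedCategory.obj K) := h1.symm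
  rw [(isUniv_TR adj₂ (E.mapDerivedCategory.obj K)).isIso_iff, ← h2]
  exact ⟨fun h => h.isUniv (isUniv_TR adj K), fun h => ⟨_, _, isUniv_TR adj K, h⟩⟩

omit adj₂ in
/-- Base change in the derived sense gives isomorphisms on higher direct images. -/
theorem nonempty_baseChange_iso (adj₂ : L₂ ⊣ G₂) [EnoughInjectives A] [EnoughInjectives A₂] (X : A)
    (h : (sq c).BC ((singleFunctor A 0).obj X)) (n : ℕ) :
    Nonempty (E'.obj ((G.rightDerived n).obj X) ≅ (G₂.rightDerived n).obj (E.obj X)) := by
  obtain ⟨M, ε, h₁, h₂⟩ := h
  obtain ⟨e₁⟩ := nonempty_homology_iso adj h₁ n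
  have h₃ := h₂.of_iso (Iso.refl _) ((E.mapDerivedCategorySingleFunctor 0).app X) (_ ≫ _) (by simp; rfl)
  obtain ⟨e₂⟩ := nonempty_homology_iso adj₂ h₃ n
  exact ⟨E'.mapIso e₁.symm ≪≫ (Groth.Agent.Dcoh.MapDer.homologyMapDerApp E' n M).symm ≪≫ e₂⟩

/-- Way-out devissage for base change: `K` bounded below, base change for the cohomology objects. -/
theorem bc_of_homology (K : DerivedCategory A) (a : ℤ) [K.IsGE a]
    (h : ∀ n : ℤ, (sq c).BC ((singleFunctor A n).obj ((homologyFunctor A n).obj K))) : (sq c).BC K := by
  refine Sq.BC.of_truncLT (tA := TStructure.t) (tB := TStructure.t) (tA' := TStructure.t)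
    (tB' := TStructure.t) (lex L) (lex L₂) (gex E') (gex E) (nondeg B₂)
    (hasUniv adj K) (hasUniv adj₂ _) (fun b => ?_)
  let P : ObjectProperty (DerivedCategory A) := fun X => (sq c).BC X
  have hPiso : P.IsClosedUnderIsomorphisms := ⟨fun e h => Sq.BC.of_iso h e⟩
  have h0 : ∀ X, IsZero X → P X := by
    intro X hX
    refine ⟨0, 0, fun N => ⟨fun x y _ => (isZero_zero _).eq_of_tgt _ _, fun x => ⟨0, hX.eq_of_tgt _ _⟩⟩,
      fun N => ⟨fun x y _ => (Functor.map_isZero _ (isZero_zero _)).eq_of_tgt _ _,
        fun x => ⟨0, (Functor.map_isZero _ hX).eq_of_tgt _ _⟩⟩⟩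
  have hb : ((TStructure.t.truncLT b).obj K).IsLE (b - 1) :=
    (inferInstance : TStructure.t.IsLE ((TStructure.t.truncLT b).obj K) (b - 1))
  have ha : ((TStructure.t.truncLT b).obj K).IsGE a := by
    rw [isGE_iff]
    intro i hi
    by_cases hib : i < b
    · have := Groth.Agent.CohtopB.DTrunc.isIso_homology_map_truncLTι K b i hib
      exact (isZero_of_isGE K a i hi).of_iso (asIso ((homologyFunctor A i).map ((TStructure.t.truncLTι b).app K)))
    · exact isZero_of_isLE _ (b - 1) i (by lia)
  refine devissage P h0 (fun T hT h1 h3 => Sq.BC.two hT h1 h3) ((TStructure.t.truncLT b).obj K) a (b - 1)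
    (fun n => ?_)
  by_cases hn : n < b
  · have := Groth.Agent.CohtopB.DTrunc.isIso_homology_map_truncLTι K b n hn
    exact P.prop_of_iso ((singleFunctor A n).mapIso
      (asIso ((homologyFunctor A n).map ((TStructure.t.truncLTι b).app K))).symm) (h n)
  · apply h0
    apply Functor.map_isZero
    exact isZero_of_isLE ((TStructure.t.truncLT b).obj K) (b - 1) n (by lia)

end adj

end cD

end Groth.Agent.Sga4h.RPair
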