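import Groth.Agent.Sga4h.RPair

/-!
# Universal pairs and triangles

For a triangulated functor `Φ : A ⥤ B`: shifts of universal pairs are universal, in a morphism of
triangles `Φ T_M ⟶ T_K` two universal components force the third one to be universal.
-/

set_option autoImplicit false
set_option linter.unusedSectionVars false

namespace Groth.Agent.Sga4h.RPair

open CategoryTheory Category Limits Pretriangulated

universe v₁ v₂ v₃ v₄ u₁ u₂ u₃ u₄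

section

variable {A : Type u₁} [Category.{v₁} A] {B : Type u₂} [Category.{v₂} B]

/-- `φ ↦ Φ.map φ ≫ ε` is bijective on maps from `N`. -/
def BijAt (Φ : A ⥤ B) {M : A} {K : B} (ε : Φ.obj M ⟶ K) (N : A) : Prop :=
  Function.Bijective (fun φ : N ⟶ M => Φ.map φ ≫ ε)

lemma isUniv_iff {Φ : A ⥤ B} {M : A} {K : B} {ε : Φ.obj M ⟶ K} : IsUniv Φ ε ↔ ∀ N, BijAt Φ ε N := Iff.rfl

lemma BijAt.of_iso {Φ : A ⥤ B} {M : A} {K : B} {ε : Φ.obj M ⟶ K} {N N' : A} (h : BijAt Φ ε N) (e : N ≅ N') :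
    BijAt Φ ε N' := by
  have : (fun φ : N' ⟶ M => Φ.map φ ≫ ε) =
      (fun x : Φ.obj N ⟶ K => Φ.map e.inv ≫ x) ∘ (fun φ : N ⟶ M => Φ.map φ ≫ ε) ∘ (fun φ => e.hom ≫ φ) := by
    funext φ
    dsimp
    rw [Φ.map_comp, assoc, ← assoc (Φ.map e.inv), ← Φ.map_comp, e.inv_hom_id, Φ.map_id, id_comp]
  unfold BijAt
  rw [this]
  exact (Equiv.bijective ⟨fun x => Φ.map e.inv ≫ x, fun x => Φ.map e.hom ≫ x,
      fun x => by
        dsimp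
        rw [← assoc, ← Φ.map_comp, e.hom_inv_id, Φ.map_id, id_comp],
      fun x => by
        dsimp
        rw [← assoc, ← Φ.map_comp, e.inv_hom_id, Φ.map_id, id_comp]⟩).comp
    (h.comp (Equiv.bijective ⟨fun x => e.hom ≫ x, fun x => e.inv ≫ x, fun x => by simp, fun x => by simp⟩))

/-- Transport along an isomorphism of pairs. -/
theorem BijAt.of_iso_right {Φ : A ⥤ B} {M : A} {K : B} {ε : Φ.obj M ⟶ K} {N : A} (h : BijAt Φ ε N)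
    {M' : A} {K' : B} (u : M ≅ M') (v : K ≅ K') (ε' : Φ.obj M' ⟶ K')
    (w : Φ.map u.hom ≫ ε' = ε ≫ v.hom) : BijAt Φ ε' N := by
  have : (fun φ : N ⟶ M' => Φ.map φ ≫ ε') =
      (fun x : Φ.obj N ⟶ K => x ≫ v.hom) ∘ (fun φ : N ⟶ M => Φ.map φ ≫ ε) ∘ (fun φ => φ ≫ u.inv) := by
    funext φ
    dsimp
    rw [assoc, ← w, ← assoc, ← Φ.map_comp, assoc, u.inv_hom_id, comp_id]
  unfold BijAt
  rw [this]
  exact (Equiv.bijective ⟨fun x => x ≫ v.hom, fun x => x ≫ v.inv, fun x => by simp, fun x => by simp⟩).comp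
    (h.comp (Equiv.bijective ⟨fun x => x ≫ u.inv, fun x => x ≫ u.hom, fun x => by simp, fun x => by simp⟩))

variable [HasShift A ℤ] [HasShift B ℤ] (Φ : A ⥤ B) [Φ.CommShift ℤ]

/-- The shifted pair. -/
def shiftPair {M : A} {K : B} (ε : Φ.obj M ⟶ K) (n : ℤ) : Φ.obj (M⟦n⟧) ⟶ K⟦n⟧ :=
  (Φ.commShiftIso n).hom.app M ≫ ε⟦n⟧'

variable {Φ}

theorem bijAt_shiftPair_shift {M : A} {K : B} {ε : Φ.obj M ⟶ K} (n : ℤ) {N : A} :
    BijAt Φ (shiftPair Φ ε n) (N⟦n⟧) ↔ BijAt Φ ε N := by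
  have hA : Function.Bijective (fun φ : N ⟶ M => φ⟦n⟧') :=
    ⟨fun a b h => (shiftFunctor A n).map_injective h, fun x => (shiftFunctor A n).map_surjective x⟩
  have hB : Function.Bijective (fun φ : Φ.obj N ⟶ K => φ⟦n⟧') :=
    ⟨fun a b h => (shiftFunctor B n).map_injective h, fun x => (shiftFunctor B n).map_surjective x⟩
  have key : (fun x : (Φ.obj N)⟦n⟧ ⟶ K⟦n⟧ => (Φ.commShiftIso n).hom.app N ≫ x) ∘
        (fun x : Φ.obj N ⟶ K => x⟦n⟧') ∘ (fun φ : N ⟶ M => Φ.map φ ≫ ε) =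
      (fun φ : N⟦n⟧ ⟶ M⟦n⟧ => Φ.map φ ≫ shiftPair Φ ε n) ∘ (fun φ : N ⟶ M => φ⟦n⟧') := by
    funext φ
    dsimp [shiftPair]
    have := (Φ.commShiftIso n).hom.naturality φ
    dsimp at this
    rw [Functor.map_comp, reassoc_of% this]
  have hC : Function.Bijective (fun x : (Φ.obj N)⟦n⟧ ⟶ K⟦n⟧ => (Φ.commShiftIso n).hom.app N ≫ x) :=
    Equiv.bijective ⟨fun x => (Φ.commShiftIso n).hom.app N ≫ x, fun x => (Φ.commShiftIso n).inv.app N ≫ x,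
      fun x => by simp, fun x => by simp⟩
  have h1 : BijAt Φ (shiftPair Φ ε n) (N⟦n⟧) ↔ Function.Bijective
      ((fun φ : N⟦n⟧ ⟶ M⟦n⟧ => Φ.map φ ≫ shiftPair Φ ε n) ∘ (fun φ : N ⟶ M => φ⟦n⟧')) :=
    ⟨fun h => Function.Bijective.comp h hA, fun h => (Function.Bijective.of_comp_iff _ hA).1 h⟩
  rw [h1, ← key, Function.Bijective.of_comp_iff' hC, Function.Bijective.of_comp_iff' hB]
  rfl

theorem bijAt_shiftPair {M : A} {K : B} {ε : Φ.obj M ⟶ K} (n : ℤ) {N : A} :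
    BijAt Φ (shiftPair Φ ε n) N ↔ BijAt Φ ε (N⟦-n⟧) := by
  have e : (N⟦-n⟧)⟦n⟧ ≅ N := (shiftFunctorCompIsoId A (-n) n (by simp)).app N
  rw [← bijAt_shiftPair_shift (N := N⟦-n⟧) n]
  exact ⟨fun h => BijAt.of_iso h e.symm, fun h => BijAt.of_iso h e⟩

theorem IsUniv.shift {M : A} {K : B} {ε : Φ.obj M ⟶ K} (h : IsUniv Φ ε) (n : ℤ) :
    IsUniv Φ (shiftPair Φ ε n) := fun N => (bijAt_shiftPair n).2 (h _)

end

section

variable {A : Type u₁} [Category.{v₁} A] {B : Type u₂} [Category.{v₂} B]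
  [HasShift A ℤ] [HasShift B ℤ] [Preadditive A] [Preadditive B] [HasZeroObject A] [HasZeroObject B]
  [∀ n : ℤ, (shiftFunctor A n).Additive] [∀ n : ℤ, (shiftFunctor B n).Additive]
  [Pretriangulated A] [Pretriangulated B]
  {Φ : A ⥤ B} [Φ.CommShift ℤ] [Φ.IsTriangulated]

/-- A morphism of triangles `Φ T ⟶ T'`, unfolded. -/
structure TriPair (Φ : A ⥤ B) [Φ.CommShift ℤ] (T : Triangle A) (T' : Triangle B) where
  ε₁ : Φ.obj T.obj₁ ⟶ T'.obj₁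
  ε₂ : Φ.obj T.obj₂ ⟶ T'.obj₂
  ε₃ : Φ.obj T.obj₃ ⟶ T'.obj₃
  comm₁ : Φ.map T.mor₁ ≫ ε₂ = ε₁ ≫ T'.mor₁
  comm₂ : Φ.map T.mor₂ ≫ ε₃ = ε₂ ≫ T'.mor₂
  comm₃ : Φ.map T.mor₃ ≫ shiftPair Φ ε₁ 1 = ε₃ ≫ T'.mor₃

attribute [reassoc] TriPair.comm₁ TriPair.comm₂ TriPair.comm₃

/-- From a morphism of triangles. -/
def TriPair.ofHom {T : Triangle A} {T' : Triangle B} (f : Φ.mapTriangle.obj T ⟶ T') : TriPair Φ T T' where
  ε₁ := f.hom₁
  ε₂ := f.hom₂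
  ε₃ := f.hom₃
  comm₁ := f.comm₁
  comm₂ := f.comm₂
  comm₃ := (assoc _ _ _).symm.trans f.comm₃

/-- To a morphism of triangles. -/
def TriPair.toHom {T : Triangle A} {T' : Triangle B} (ε : TriPair Φ T T') : Φ.mapTriangle.obj T ⟶ T' where
  hom₁ := ε.ε₁
  hom₂ := ε.ε₂
  hom₃ := ε.ε₃
  comm₁ := ε.comm₁
  comm₂ := ε.comm₂
  comm₃ := (assoc _ _ _).trans ε.comm₃

/-- Local five lemma, third component. -/
theorem TriPair.bijAt₃ {T : Triangle A} {T' : Triangle B} (hT : T ∈ distTriang A) (hT' : T' ∈ distTriang B)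
    (ε : TriPair Φ T T') (N : A) (h₁ : BijAt Φ ε.ε₁ N) (h₂ : BijAt Φ ε.ε₂ N)
    (h₄ : BijAt Φ ε.ε₁ (N⟦(-1 : ℤ)⟧)) (h₅ : BijAt Φ ε.ε₂ (N⟦(-1 : ℤ)⟧)) :
    BijAt Φ ε.ε₃ N := by
  have h₄' := (bijAt_shiftPair (1 : ℤ)).2 h₄
  have h₅' := (bijAt_shiftPair (1 : ℤ)).2 h₅
  constructor
  · intro φ φ' hφφ'
    rw [← sub_eq_zero]
    have hφ : Φ.map (φ - φ') ≫ ε.ε₃ = 0 := by
      rw [Φ.map_sub, Preadditive.sub_comp, sub_eq_zero]
      exact hφφ'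
    generalize φ - φ' = ψ at hφ
    have h1 : ψ ≫ T.mor₃ = 0 := by
      apply h₄'.1
      dsimp
      rw [Φ.map_comp, assoc, ε.comm₃, reassoc_of% hφ, zero_comp, Φ.map_zero, zero_comp]
    obtain ⟨χ, rfl⟩ := Triangle.coyoneda_exact₃ T hT ψ h1
    rw [Φ.map_comp, assoc, ε.comm₂, ← assoc] at hφ
    obtain ⟨y, hy⟩ := Triangle.coyoneda_exact₂ T' hT' _ hφ
    obtain ⟨z, hz⟩ := h₁.2 y
    have h2 : χ = z ≫ T.mor₁ := by
      apply h₂.1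
      dsimp at hz ⊢
      rw [hy, Φ.map_comp, assoc, ε.comm₁, ← hz, assoc]
    rw [h2, assoc, comp_distTriang_mor_zero₁₂ T hT, comp_zero]
  · intro x
    obtain ⟨a, ha⟩ := h₄'.2 (x ≫ T'.mor₃)
    dsimp at ha
    have h1 : a ≫ T.mor₁⟦(1 : ℤ)⟧' = 0 := by
      apply h₅'.1
      dsimp
      rw [Φ.map_zero, zero_comp, Φ.map_comp, assoc]
      have h3 : Φ.map (T.mor₁⟦(1 : ℤ)⟧') ≫ shiftPair Φ ε.ε₂ 1 =
          shiftPair Φ ε.ε₁ 1 ≫ T'.mor₁⟦(1 : ℤ)⟧' := by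
        have h4 := (Φ.commShiftIso (1 : ℤ)).hom.naturality T.mor₁
        dsimp at h4
        dsimp [shiftPair]
        rw [reassoc_of% h4, ← Functor.map_comp, ε.comm₁, Functor.map_comp, assoc]
      rw [h3, reassoc_of% ha, comp_distTriang_mor_zero₃₁ T' hT', comp_zero]
    obtain ⟨b, hb⟩ := Triangle.coyoneda_exact₁ T hT _ h1
    have h2 : (x - Φ.map b ≫ ε.ε₃) ≫ T'.mor₃ = 0 := by
      rw [Preadditive.sub_comp, assoc, ← ε.comm₃, ← assoc, ← Φ.map_comp, ← hb, ha, sub_self]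
    obtain ⟨y, hy⟩ := Triangle.coyoneda_exact₃ T' hT' _ h2
    obtain ⟨c, hc⟩ := h₂.2 y
    refine ⟨b + c ≫ T.mor₂, ?_⟩
    dsimp at hc ⊢
    rw [Φ.map_add, Preadditive.add_comp, Φ.map_comp, assoc, ε.comm₂, reassoc_of% hc, ← hy]
    abel

/-- Rotation. -/
def TriPair.rotate {T : Triangle A} {T' : Triangle B} (ε : TriPair Φ T T') :
    TriPair Φ T.rotate T'.rotate where
  ε₁ := ε.ε₂
  ε₂ := ε.ε₃
  ε₃ := shiftPair Φ ε.ε₁ 1
  comm₁ := ε.comm₂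
  comm₂ := ε.comm₃
  comm₃ := by
    have h4 := (Φ.commShiftIso (1 : ℤ)).hom.naturality T.mor₁
    dsimp at h4
    change Φ.map (-T.mor₁⟦(1 : ℤ)⟧') ≫ (Φ.commShiftIso (1 : ℤ)).hom.app T.obj₂ ≫ ε.ε₂⟦(1 : ℤ)⟧' =
      ((Φ.commShiftIso (1 : ℤ)).hom.app T.obj₁ ≫ ε.ε₁⟦(1 : ℤ)⟧') ≫ (-T'.mor₁⟦(1 : ℤ)⟧')
    rw [Φ.map_neg, Preadditive.neg_comp, Preadditive.comp_neg, reassoc_of% h4, ← Functor.map_comp, ε.comm₁,
      Functor.map_comp, assoc]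

theorem TriPair.isUniv₃ {T : Triangle A} {T' : Triangle B} (hT : T ∈ distTriang A) (hT' : T' ∈ distTriang B)
    (ε : TriPair Φ T T') (h₁ : IsUniv Φ ε.ε₁) (h₂ : IsUniv Φ ε.ε₂) : IsUniv Φ ε.ε₃ :=
  fun N => ε.bijAt₃ hT hT' N (h₁ _) (h₂ _) (h₁ _) (h₂ _)

theorem isUniv_shiftPair_iff {M : A} {K : B} {ε : Φ.obj M ⟶ K} (n : ℤ) :
    IsUniv Φ (shiftPair Φ ε n) ↔ IsUniv Φ ε :=
  ⟨fun h _ => (bijAt_shiftPair_shift n).1 (h _), fun h => h.shift n⟩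

theorem TriPair.isUniv₁ {T : Triangle A} {T' : Triangle B} (hT : T ∈ distTriang A) (hT' : T' ∈ distTriang B)
    (ε : TriPair Φ T T') (h₂ : IsUniv Φ ε.ε₂) (h₃ : IsUniv Φ ε.ε₃) : IsUniv Φ ε.ε₁ :=
  (isUniv_shiftPair_iff 1).1 (ε.rotate.isUniv₃ (rot_of_distTriang T hT) (rot_of_distTriang T' hT') h₂ h₃)

theorem TriPair.isUniv₂ {T : Triangle A} {T' : Triangle B} (hT : T ∈ distTriang A) (hT' : T' ∈ distTriang B)
    (ε : TriPair Φ T T') (h₁ : IsUniv Φ ε.ε₁) (h₃ : IsUniv Φ ε.ε₃) : IsUniv Φ ε.ε₂ :=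
  TriPair.isUniv₁ (rot_of_distTriang T hT) (rot_of_distTriang T' hT') ε.rotate h₃ (h₁.shift 1)

/-- Existence of a triangle of pairs above a distinguished triangle, given the first two
universal pairs. -/
theorem exists_triPair {T' : Triangle B} (hT' : T' ∈ distTriang B) {M₁ M₂ : A}
    {ε₁ : Φ.obj M₁ ⟶ T'.obj₁} {ε₂ : Φ.obj M₂ ⟶ T'.obj₂} (h₁ : IsUniv Φ ε₁) (h₂ : IsUniv Φ ε₂) :
    ∃ (M₃ : A) (f : M₁ ⟶ M₂) (g : M₂ ⟶ M₃) (h : M₃ ⟶ M₁⟦(1 : ℤ)⟧) (_ : Triangle.mk f g h ∈ distTriang A)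
      (ε : TriPair Φ (Triangle.mk f g h) T'), ε.ε₁ = ε₁ ∧ ε.ε₂ = ε₂ ∧ IsUniv Φ ε.ε₃ := by
  obtain ⟨M₃, g, h, hT⟩ := distinguished_cocone_triangle (h₂.lift (ε₁ ≫ T'.mor₁))
  have hT₁ := Φ.map_distinguished _ hT
  obtain ⟨ε₃, hε₃⟩ := complete_distinguished_triangle_morphism _ _ hT₁ hT' ε₁ ε₂ (h₂.fac _)
  let ε : TriPair Φ (Triangle.mk (h₂.lift (ε₁ ≫ T'.mor₁)) g h) T' :=
    { ε₁ := ε₁
      ε₂ := ε₂
      ε₃ := ε₃
      comm₁ := h₂.fac _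
      comm₂ := hε₃.1
      comm₃ := (assoc _ _ _).symm.trans hε₃.2 }
  exact ⟨M₃, _, g, h, hT, ε, rfl, rfl, ε.isUniv₃ hT hT' h₁ h₂⟩

theorem HasUniv.three {T' : Triangle B} (hT' : T' ∈ distTriang B)
    (h₁ : HasUniv Φ T'.obj₁) (h₂ : HasUniv Φ T'.obj₂) : HasUniv Φ T'.obj₃ := by
  obtain ⟨M₁, ε₁, h₁⟩ := h₁
  obtain ⟨M₂, ε₂, h₂⟩ := h₂
  obtain ⟨M₃, f, g, h, hT, ε, -, -, h₃⟩ := exists_triPair hT' h₁ h₂
  exact ⟨M₃, ε.ε₃, h₃⟩

end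

section bc

variable {A : Type u₁} [Category.{v₁} A] {B : Type u₂} [Category.{v₂} B]
  {A' : Type u₃} [Category.{v₃} A'] {B' : Type u₄} [Category.{v₄} B']
  [HasShift A ℤ] [HasShift B ℤ] [Preadditive A] [Preadditive B] [HasZeroObject A] [HasZeroObject B]
  [∀ n : ℤ, (shiftFunctor A n).Additive] [∀ n : ℤ, (shiftFunctor B n).Additive]
  [Pretriangulated A] [Pretriangulated B]
  [HasShift A' ℤ] [HasShift B' ℤ] [Preadditive A'] [Preadditive B'] [HasZeroObject A'] [HasZeroObject B']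
  [∀ n : ℤ, (shiftFunctor A' n).Additive] [∀ n : ℤ, (shiftFunctor B' n).Additive]
  [Pretriangulated A'] [Pretriangulated B']
  {Φ : A ⥤ B} {G : A ⥤ A'} {G' : B ⥤ B'} {Φ' : A' ⥤ B'}
  [Φ.CommShift ℤ] [G.CommShift ℤ] [G'.CommShift ℤ] [Φ'.CommShift ℤ]
  (s : Sq Φ G G' Φ') [NatTrans.CommShift s.σ.hom ℤ]

namespace Sq

lemma bc_shiftPair {M : A} {K : B} (ε : Φ.obj M ⟶ K) (n : ℤ) :
    Φ'.map ((G.commShiftIso n).hom.app M) ≫ shiftPair Φ' (s.bc ε) n =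
      s.bc (shiftPair Φ ε n) ≫ (G'.commShiftIso n).hom.app K := by
  have h1 := NatTrans.shift_app_comm s.σ.hom n M
  have h2 := (G'.commShiftIso n).hom.naturality ε
  dsimp at h2
  simp only [bc, shiftPair, Functor.map_comp, assoc, h2]
  rw [Functor.commShiftIso_comp_hom_app, Functor.commShiftIso_comp_hom_app] at h1
  simp only [assoc] at h1
  rw [reassoc_of% h1]

/-- Pulling back a triangle of pairs. -/
def triPair {T : Triangle A} {T' : Triangle B} (ε : TriPair Φ T T') :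
    TriPair Φ' (G.mapTriangle.obj T) (G'.mapTriangle.obj T') where
  ε₁ := s.bc ε.ε₁
  ε₂ := s.bc ε.ε₂
  ε₃ := s.bc ε.ε₃
  comm₁ := s.bc_naturality _ _ ε.comm₁
  comm₂ := s.bc_naturality _ _ ε.comm₂
  comm₃ := by
    have h1 := s.bc_shiftPair ε.ε₁ 1
    have h2 := s.bc_naturality _ _ ε.comm₃
    change Φ'.map (G.map T.mor₃ ≫ (G.commShiftIso (1 : ℤ)).hom.app T.obj₁) ≫ shiftPair Φ' (s.bc ε.ε₁) 1 =
      s.bc ε.ε₃ ≫ G'.map T'.mor₃ ≫ (G'.commShiftIso (1 : ℤ)).hom.app T'.obj₁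
    rw [Functor.map_comp, assoc, h1, reassoc_of% h2]

variable {s}

theorem BC.shift {K : B} (h : s.BC K) (n : ℤ) : s.BC (K⟦n⟧) := by
  obtain ⟨M, ε, h₁, h₂⟩ := h
  refine ⟨M⟦n⟧, shiftPair Φ ε n, h₁.shift n, ?_⟩
  refine (h₂.shift n).of_iso ((G.commShiftIso n).symm.app M) ((G'.commShiftIso n).symm.app K) _ ?_
  have := s.bc_shiftPair ε n
  rw [← cancel_mono ((G'.commShiftIso n).hom.app K), assoc, ← this, assoc]
  have h5 : ((G'.commShiftIso n).symm.app K).hom ≫ (G'.commShiftIso n).hom.app K = 𝟙 _ :=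
    Iso.inv_hom_id_app _ _
  have h6 : Φ'.map ((G.commShiftIso n).symm.app M).hom ≫ Φ'.map ((G.commShiftIso n).hom.app M) = 𝟙 _ := by
    rw [← Φ'.map_comp, ← Φ'.map_id]
    exact congrArg _ (Iso.inv_hom_id_app _ _)
  rw [h5, reassoc_of% h6]
  exact (comp_id _).symm

theorem BC.of_shift {K : B} {n : ℤ} (h : s.BC (K⟦n⟧)) : s.BC K :=
  (h.shift (-n)).of_iso ((shiftFunctorCompIsoId B n (-n) (by simp)).app K)

theorem BC.shift_iff {K : B} (n : ℤ) : s.BC (K⟦n⟧) ↔ s.BC K := ⟨fun h => h.of_shift, fun h => h.shift n⟩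

variable [Φ.IsTriangulated] [G.IsTriangulated] [G'.IsTriangulated] [Φ'.IsTriangulated]

/-- Base change is stable under cones. -/
theorem BC.three {T' : Triangle B} (hT' : T' ∈ distTriang B) (h₁ : s.BC T'.obj₁) (h₂ : s.BC T'.obj₂) :
    s.BC T'.obj₃ := by
  obtain ⟨M₁, ε₁, h₁, h₁'⟩ := h₁
  obtain ⟨M₂, ε₂, h₂, h₂'⟩ := h₂
  obtain ⟨M₃, f, g, h, hT, ε, he₁, he₂, h₃⟩ := exists_triPair hT' h₁ h₂
  subst he₁ he₂
  exact ⟨M₃, ε.ε₃, h₃, (s.triPair ε).isUniv₃ (G.map_distinguished _ hT) (G'.map_distinguished _ hT') h₁' h₂'⟩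

theorem BC.one {T' : Triangle B} (hT' : T' ∈ distTriang B) (h₂ : s.BC T'.obj₂) (h₃ : s.BC T'.obj₃) :
    s.BC T'.obj₁ :=
  BC.of_shift (n := 1) (BC.three (rot_of_distTriang _ hT') h₂ h₃)

theorem BC.two {T' : Triangle B} (hT' : T' ∈ distTriang B) (h₁ : s.BC T'.obj₁) (h₃ : s.BC T'.obj₃) :
    s.BC T'.obj₂ :=
  BC.one (rot_of_distTriang _ hT') h₃ (h₁.shift 1)

end Sq

end bc

/-! ### Pasting of squares -/

section paste

variable {A : Type u₁} [Category.{v₁} A] {B : Type u₂} [Category.{v₂} B]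
  {A' : Type u₃} [Category.{v₃} A'] {B' : Type u₄} [Category.{v₄} B']
  {Φ : A ⥤ B} {G : A ⥤ A'} {G' : B ⥤ B'} {Φ' : A' ⥤ B'} (s : Sq Φ G G' Φ')

universe v₅ v₆ u₅ u₆

namespace Sq

section horizontal

variable {A'' : Type u₅} [Category.{v₅} A''] {B'' : Type u₆} [Category.{v₆} B'']
  {H : A' ⥤ A''} {H' : B' ⥤ B''} {Φ'' : A'' ⥤ B''} (t : Sq Φ' H H' Φ'')

/-- Composition of two base changes. -/
def hcomp : Sq Φ (G ⋙ H) (G' ⋙ H') Φ'' where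
  σ := Functor.associator _ _ _ ≪≫ Functor.isoWhiskerLeft G t.σ ≪≫ (Functor.associator _ _ _).symm ≪≫
    Functor.isoWhiskerRight s.σ H' ≪≫ Functor.associator _ _ _

lemma hcomp_σ_hom_app (M : A) : (s.hcomp t).σ.hom.app M = t.σ.hom.app (G.obj M) ≫ H'.map (s.σ.hom.app M) := by
  simp [hcomp]

lemma hcomp_bc {M : A} {K : B} (ε : Φ.obj M ⟶ K) : (s.hcomp t).bc ε = t.bc (s.bc ε) := by
  simp [bc, hcomp_σ_hom_app]

variable {s t}

theorem BC.hcomp {K : B} (h : s.BC K) (h' : t.BC (G'.obj K)) : (s.hcomp t).BC K := by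
  obtain ⟨M, ε, h₁, h₂⟩ := h
  exact ⟨M, ε, h₁, by rw [hcomp_bc]; exact h'.isUniv h₂⟩

/-- If base change holds along `g` and along `g ∘ h` then it holds along `h` for the pulled back
object. -/
theorem BC.of_hcomp {K : B} (h : s.BC K) (h' : (s.hcomp t).BC K) : t.BC (G'.obj K) := by
  obtain ⟨M, ε, h₁, h₂⟩ := h
  exact ⟨_, _, h₂, by rw [← hcomp_bc]; exact h'.isUniv h₁⟩

end horizontal

section vertical

variable {C : Type u₅} [Category.{v₅} C] {C' : Type u₆} [Category.{v₆} C']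
  {Ψ : B ⥤ C} {G'' : C ⥤ C'} {Ψ' : B' ⥤ C'} (t : Sq Ψ G' G'' Ψ')

/-- Pasting along the composition of the morphisms we push forward along. -/
def vcomp : Sq (Φ ⋙ Ψ) G G'' (Φ' ⋙ Ψ') where
  σ := (Functor.associator _ _ _).symm ≪≫ Functor.isoWhiskerRight s.σ Ψ' ≪≫ Functor.associator _ _ _ ≪≫
    Functor.isoWhiskerLeft Φ t.σ ≪≫ (Functor.associator _ _ _).symm

lemma vcomp_σ_hom_app (M : A) : (s.vcomp t).σ.hom.app M = Ψ'.map (s.σ.hom.app M) ≫ t.σ.hom.app (Φ.obj M) := by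
  simp [vcomp]

lemma vcomp_bc {M : A} {K : B} {L : C} (ε : Φ.obj M ⟶ K) (δ : Ψ.obj K ⟶ L) :
    (s.vcomp t).bc (M := M) (Ψ.map ε ≫ δ) = Ψ'.map (s.bc ε) ≫ t.bc δ := by
  have h := t.σ.hom.naturality ε
  dsimp at h
  simp only [bc, vcomp_σ_hom_app, Functor.map_comp, assoc]
  rw [reassoc_of% h]

variable {s t}

theorem BC.vcomp {K : B} {L : C} {δ : Ψ.obj K ⟶ L} (hδ : IsUniv Ψ δ) (ht : t.BC L) (hs : s.BC K) :
    (s.vcomp t).BC L := by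
  obtain ⟨M, ε, h₁, h₂⟩ := hs
  exact ⟨M, _, h₁.comp hδ, by rw [vcomp_bc]; exact h₂.comp (ht.isUniv hδ)⟩

theorem BC.of_vcomp {K : B} {L : C} {δ : Ψ.obj K ⟶ L} (hδ : IsUniv Ψ δ) (ht : t.BC L)
    (hK : HasUniv Φ K) (h : (s.vcomp t).BC L) : s.BC K := by
  obtain ⟨M, ε, h₁⟩ := hK
  refine ⟨M, ε, h₁, ?_⟩
  have h₂ := h.isUniv (h₁.comp hδ)
  rw [vcomp_bc] at h₂
  exact IsUniv.of_comp (ht.isUniv hδ) h₂

end vertical

section congr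

variable {Φ₁ : A ⥤ B} {G₁ : A ⥤ A'} {G₁' : B ⥤ B'} {Φ₁' : A' ⥤ B'} (s₁ : Sq Φ₁ G₁ G₁' Φ₁')

/-- Base change only depends on the functors up to isomorphisms compatible with the squares. -/
theorem BC.congr (e : Φ ≅ Φ₁) (g : G ≅ G₁) (g' : G' ≅ G₁') (e' : Φ' ≅ Φ₁')
    (w : ∀ M : A, Φ'.map (g.hom.app M) ≫ e'.hom.app (G₁.obj M) ≫ s₁.σ.hom.app M =
      s.σ.hom.app M ≫ G'.map (e.hom.app M) ≫ g'.hom.app (Φ₁.obj M)) {K : B} (h : s.BC K) : s₁.BC K := by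
  obtain ⟨M, ε, h₁, h₂⟩ := h
  refine ⟨M, e.inv.app M ≫ ε, h₁.of_natIso e.symm, ?_⟩
  have h₃ := (h₂.of_natIso e'.symm)
  refine h₃.of_iso (g.app M) (g'.app K) _ ?_
  have h4 := w M
  have h5 := e'.inv.naturality (g.hom.app M)
  have h6 := g'.hom.naturality (e.inv.app M ≫ ε)
  rw [← cancel_epi (e'.hom.app (G.obj M))]
  simp only [bc, Iso.app_hom, Iso.symm_hom, assoc, Iso.hom_inv_id_app_assoc]
  have h7 := e'.hom.naturality (g.hom.app M)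
  rw [← reassoc_of% h7, reassoc_of% h4, ← h6, ← Functor.map_comp_assoc, Iso.hom_inv_id_app_assoc]

end congr

end Sq

end paste

end Groth.Agent.Sga4h.RPair
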