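import Groth.Agent.Sga4h.RPairTri
import Groth.Agent.CohtopB.DTrunc
import Mathlib.CategoryTheory.Triangulated.TStructure.TruncLTGE
import Mathlib.Algebra.Homology.DerivedCategory.TStructure

/-!
# Universal pairs and t-structures: way-out arguments
-/

set_option autoImplicit false
set_option linter.unusedSectionVars false

namespace Groth.Agent.Sga4h.RPair

open CategoryTheory Category Limits Pretriangulated Triangulated

universe v₁ v₂ v₃ v₄ u₁ u₂ u₃ u₄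

section

variable {A : Type u₁} [Category.{v₁} A] {B : Type u₂} [Category.{v₂} B]
  [HasShift A ℤ] [HasShift B ℤ] [Preadditive A] [Preadditive B] [HasZeroObject A] [HasZeroObject B]
  [∀ n : ℤ, (shiftFunctor A n).Additive] [∀ n : ℤ, (shiftFunctor B n).Additive]
  [Pretriangulated A] [Pretriangulated B]
  {Φ : A ⥤ B} [Φ.CommShift ℤ] [Φ.IsTriangulated] (tA : TStructure A) (tB : TStructure B)

/-- `F` is right t-exact: it preserves `≤ n`. -/
def LEx (F : A ⥤ B) : Prop := ∀ (X : A) (n : ℤ), tA.IsLE X n → tB.IsLE (F.obj X) n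

/-- `F` is left t-exact: it preserves `≥ n`. -/
def GEx (F : A ⥤ B) : Prop := ∀ (X : A) (n : ℤ), tA.IsGE X n → tB.IsGE (F.obj X) n

/-- Left nondegeneracy. -/
def Nondeg : Prop := ∀ X : A, (∀ n : ℤ, tA.IsGE X n) → IsZero X

variable {tA tB}

/-- The direct image is left t-exact. -/
theorem IsUniv.isGE (hΦ : LEx tA tB Φ) {M : A} {K : B} {ε : Φ.obj M ⟶ K} (h : IsUniv Φ ε) (n : ℤ)
    [hK : tB.IsGE K n] : tA.IsGE M n := by
  rw [tA.isGE_iff_orthogonal (n - 1) n (by lia)]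
  intro N f hN
  apply (h N).1
  dsimp
  rw [Φ.map_zero, zero_comp]
  have := hΦ N (n - 1) hN
  exact tB.zero _ (n - 1) n

/-- A morphism inducing bijections on maps from bounded above objects is an isomorphism. -/
theorem isIso_of_minus (hA : Nondeg tA) {M M' : A} (u : M ⟶ M')
    (hu : ∀ N : A, tA.minus N → Function.Bijective (fun φ : N ⟶ M => φ ≫ u)) : IsIso u := by
  obtain ⟨C, g, h, hT⟩ := distinguished_cocone_triangle u
  have key : ∀ (N : A), tA.minus N → ∀ f : N ⟶ C, f = 0 := by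
    intro N hN f
    have hN' : tA.minus (N⟦(-1 : ℤ)⟧) := ObjectProperty.le_shift tA.minus (-1 : ℤ) _ hN
    -- `f ≫ h : N ⟶ M⟦1⟧` is killed by `u⟦1⟧`
    have h1 : f ≫ h = 0 := by
      have e : (N⟦(-1 : ℤ)⟧)⟦(1 : ℤ)⟧ ≅ N := (shiftFunctorCompIsoId A (-1) 1 (by simp)).app N
      obtain ⟨x, hx⟩ := (shiftFunctor A (1 : ℤ)).map_surjective (e.hom ≫ f ≫ h)
      have h2 : x ≫ u = 0 := by
        apply (shiftFunctor A (1 : ℤ)).map_injective
        have h3 : h ≫ u⟦(1 : ℤ)⟧' = 0 := comp_distTriang_mor_zero₃₁ _ hT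
        rw [Functor.map_comp, hx, assoc, assoc, h3, Functor.map_zero, comp_zero, comp_zero]
      have h4 : x = 0 := (hu _ hN').1 (by dsimp; rw [h2, zero_comp])
      rw [← cancel_epi e.hom, ← hx, h4, Functor.map_zero, comp_zero]
    obtain ⟨y, hy⟩ : ∃ y : N ⟶ M', f = y ≫ g := Triangle.coyoneda_exact₃ _ hT f h1
    obtain ⟨z, hz⟩ := (hu N hN).2 y
    dsimp at hz
    have h5 : u ≫ g = 0 := comp_distTriang_mor_zero₁₂ _ hT
    rw [hy, ← hz, assoc, h5, comp_zero]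
  have hC : IsZero C := hA C fun n => by
    rw [tA.isGE_iff_orthogonal (n - 1) n (by lia)]
    intro Y f hY
    exact key Y ⟨_, hY⟩ f
  exact (Triangle.isZero₃_iff_isIso₁ _ hT).1 hC

/-- If the pair `(M, ε)` is universal for bounded above test objects and there is a universal pair
for `K` then `(M, ε)` is universal. -/
theorem isUniv_of_minus (hA : Nondeg tA) {M : A} {K : B} {ε : Φ.obj M ⟶ K} (hK : HasUniv Φ K)
    (h : ∀ N : A, tA.minus N → BijAt Φ ε N) : IsUniv Φ ε := by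
  obtain ⟨M₀, ε₀, h₀⟩ := hK
  have hfac := h₀.fac ε
  have : IsIso (h₀.lift ε) := by
    apply isIso_of_minus hA
    intro N hN
    have h1 := h N hN
    have h2 : (fun φ : N ⟶ M => Φ.map φ ≫ ε) =
        (fun φ : N ⟶ M₀ => Φ.map φ ≫ ε₀) ∘ (fun φ : N ⟶ M => φ ≫ h₀.lift ε) := by
      funext φ
      dsimp
      rw [Φ.map_comp, assoc, hfac]
    unfold BijAt at h1
    rw [h2] at h1
    exact (Function.Bijective.of_comp_iff' (h₀ N) _).1 h1
  have h3 := (h₀.isIso_iff (h₀.lift ε)).1 this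
  rwa [hfac] at h3

/-- Local five lemma, second component. -/
theorem TriPair.bijAt₂ {T : Triangle A} {T' : Triangle B} (hT : T ∈ distTriang A) (hT' : T' ∈ distTriang B)
    (ε : TriPair Φ T T') (N : A) (h₁ : BijAt Φ ε.ε₁ N) (h₁' : BijAt Φ ε.ε₁ (N⟦(-1 : ℤ)⟧))
    (h₃ : BijAt Φ ε.ε₃ N) (h₃' : BijAt Φ ε.ε₃ (N⟦(1 : ℤ)⟧)) : BijAt Φ ε.ε₂ N := by
  rw [← bijAt_shiftPair_shift (1 : ℤ)]
  have e : (N⟦(1 : ℤ)⟧)⟦(-1 : ℤ)⟧ ≅ N := (shiftFunctorCompIsoId A 1 (-1) (by simp)).app N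
  refine ε.rotate.rotate.bijAt₃ (rot_of_distTriang _ (rot_of_distTriang _ hT))
    (rot_of_distTriang _ (rot_of_distTriang _ hT')) (N⟦(1 : ℤ)⟧) h₃' ?_ (h₃.of_iso e.symm) ?_
  · exact (bijAt_shiftPair_shift (1 : ℤ)).2 h₁
  · refine (bijAt_shiftPair (1 : ℤ)).2 ?_
    refine BijAt.of_iso h₁' ?_
    exact (shiftFunctor A (-1 : ℤ)).mapIso e.symm

/-- A pair which lives in degrees above the test object is bijective for trivial reasons. -/
theorem bijAt_of_isGE (hΦ : LEx tA tB Φ) {M : A} {K : B} (ε : Φ.obj M ⟶ K) (N : A) (n₀ n₁ : ℤ) (h : n₀ < n₁)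
    [tA.IsLE N n₀] [tA.IsGE M n₁] [tB.IsGE K n₁] : BijAt Φ ε N := by
  have := hΦ N n₀ inferInstance
  refine ⟨fun a b _ => ?_, fun x => ⟨0, ?_⟩⟩
  · rw [tA.zero a n₀ n₁ h, tA.zero b n₀ n₁ h]
  · dsimp
    rw [Φ.map_zero, zero_comp, tB.zero x n₀ n₁ h]

end

section bc

variable {A : Type u₁} [Category.{v₁} A] {B : Type u₂} [Category.{v₂} B]
  {A' : Type u₃} [Category.{v₃} A'] {B' : Type u₄} [Category.{v₄} B']
  [HasShift A ℤ] [HasShift B ℤ] [Preadditive A] [Preadditive B] [HasZeroObject A] [HasZeroObject B]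
  [∀ n : ℤ, (shiftFunctor A n).Additive] [∀ n : ℤ, (shiftFunctor B n).Additive]
  [Pretriangulated A] [Pretriangulated B]
  [HasShift A' ℤ] [HasShift B' ℤ] [Preadditive A'] [Preadditive B'] [HasZeroObject A'] [HasZeroObject B']
  [∀ n : ℤ, (shiftFunctor A' n).Additive] [∀ n : ℤ, (shiftFunctor B' n).Additive]
  [Pretriangulated A'] [Pretriangulated B']
  {Φ : A ⥤ B} {G : A ⥤ A'} {G' : B ⥤ B'} {Φ' : A' ⥤ B'}
  [Φ.CommShift ℤ] [G.CommShift ℤ] [G'.CommShift ℤ] [Φ'.CommShift ℤ]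
  [Φ.IsTriangulated] [G.IsTriangulated] [G'.IsTriangulated] [Φ'.IsTriangulated]
  {s : Sq Φ G G' Φ'} [NatTrans.CommShift s.σ.hom ℤ]
  {tA : TStructure A} {tB : TStructure B} {tA' : TStructure A'} {tB' : TStructure B'}

/-- Way-out: base change for all truncations `τ_{<c} K` implies base change for `K`. -/
theorem Sq.BC.of_truncLT (hΦ : LEx tA tB Φ) (hΦ' : LEx tA' tB' Φ') (hG : GEx tA tA' G)
    (hG' : GEx tB tB' G') (hnd : Nondeg tA') {K : B} (h₁ : HasUniv Φ K) (h₂ : HasUniv Φ' (G'.obj K))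
    (h : ∀ c : ℤ, s.BC ((tB.truncLT c).obj K)) : s.BC K := by
  obtain ⟨M, ε, hε⟩ := h₁
  refine ⟨M, ε, hε, isUniv_of_minus (tA := tA') hnd h₂ ?_⟩
  rintro N ⟨b, hb⟩
  have hN : tA'.IsLE N b := hb
  obtain ⟨M₁, ε₁, h₁, h₁'⟩ := h (b + 1)
  have hT' := tB.triangleLTGE_distinguished (b + 1) K
  obtain ⟨M₃, f, g, δ, hT, e, he₁, he₂, h₃⟩ := exists_triPair (T' := (tB.triangleLTGE (b + 1)).obj K) hT'
    (ε₁ := ε₁) (ε₂ := ε) h₁ hε
  have hK₃ : tB.IsGE ((tB.triangleLTGE (b + 1)).obj K).obj₃ (b + 1) := inferInstance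
  have hM₃ : tA.IsGE M₃ (b + 1) := IsUniv.isGE hΦ h₃ (b + 1)
  have hGM₃ := hG _ _ hM₃
  have hGK₃ := hG' _ _ hK₃
  have hN1 : tA'.IsLE (N⟦(1 : ℤ)⟧) (b - 1) := tA'.isLE_shift N b 1 (b - 1)
  have key := (s.triPair e).bijAt₂ (G.map_distinguished _ hT) (G'.map_distinguished _ hT') N
    (by
      change BijAt Φ' (s.bc e.ε₁) N
      rw [he₁]
      exact h₁' N)
    (by
      change BijAt Φ' (s.bc e.ε₁) _
      rw [he₁]
      exact h₁' _)
    (by
      change BijAt Φ' (M := G.obj M₃) (K := G'.obj ((tB.triangleLTGE (b + 1)).obj K).obj₃) (s.bc e.ε₃) N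
      exact bijAt_of_isGE hΦ' _ _ b (b + 1) (by lia))
    (by
      change BijAt Φ' (M := G.obj M₃) (K := G'.obj ((tB.triangleLTGE (b + 1)).obj K).obj₃) (s.bc e.ε₃) _
      exact bijAt_of_isGE hΦ' _ _ (b - 1) (b + 1) (by lia))
  have h5 : (s.triPair e).ε₂ = s.bc ε := congrArg (fun x : Φ.obj M ⟶ K => s.bc x) he₂
  rw [h5] at key
  exact key

end bc

end Groth.Agent.Sga4h.RPair
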