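import Groth.Agent.Sga4h.BidPtRefl
import Groth.Agent.Sga4h.X144Dual

/-!
# Constant sheaves are reflexive

* `refl_of_dual_class` (abstract): a class `K` of objects which are quotients of reflexive objects with kernel in
  `K` and such that the dual of `X[0]`, `X` in `K`, is `Y[0]` with `Y` in `K` in the derived category, consists
  of reflexive objects.
* `exists_shortExact_constMod`: `0 ⟶ K_X ⟶ (Λ^b)_X ⟶ M_X ⟶ 0`.
* `refl_pow`: `(Λ^b)_X` is reflexive.
* `refl_const_of_dual`: constant sheaves with finitely generated values are reflexive if their duals are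
  constant sheaves in degree `0`.
-/

set_option autoImplicit false

universe w v₁ u₁ u

open CategoryTheory CategoryTheory.Limits AlgebraicGeometry ZeroObject Opposite

attribute [local instance 5000] CategoryTheory.Abelian.toPreadditive
  CategoryTheory.Preadditive.preadditiveHasZeroMorphisms

namespace Groth.Agent.Sga4h.ReflConst657

section Abstract

open HomologicalComplex CochainComplex
open Groth.Agent.Dcoh.CxFun Groth.Agent.Sga4h.HomCx Groth.Agent.Sga4h.DualCx Groth.Agent.Sga4h.DualSelf
open Groth.Agent.Sga4h.Refl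

variable {C : Type u₁} [Category.{v₁} C] [Abelian C] {T : C ⥤ C ⥤ C} [T.Additive] [∀ X, (T.obj X).Additive]
  [∀ (K₁ K₂ : CochainComplex C ℤ), CochainComplex.HasMapBifunctor K₁ K₂ T]
  [∀ E : CochainComplex C ℤ, (T.map₂CochainComplex.flip.obj E).IsLeftAdjoint]
  [∀ (J : Type), HasColimitsOfShape (Discrete J) C]
  [∀ (J : Type), (colim : (Discrete J ⥤ C) ⥤ C).PreservesMonomorphisms] (A : DualData T)

omit [T.Additive] [∀ X, (T.obj X).Additive]
  [∀ (K₁ K₂ : CochainComplex C ℤ), CochainComplex.HasMapBifunctor K₁ K₂ T]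
  [∀ E : CochainComplex C ℤ, (T.map₂CochainComplex.flip.obj E).IsLeftAdjoint]
  [∀ (J : Type), HasColimitsOfShape (Discrete J) C]
  [∀ (J : Type), (colim : (Discrete J ⥤ C) ⥤ C).PreservesMonomorphisms] in
lemma isLE_iff_of_qis {K L : CochainComplex C ℤ} (f : K ⟶ L) [QuasiIso f] (n : ℤ) :
    K.IsLE n ↔ L.IsLE n :=
  isSupported_iff_of_quasiIso f (ComplexShape.embeddingUpIntLE n)

/-- The amplitude of the dual only depends on the class in the derived category. -/
lemma isLE_D_iff_of_isoD [HasDerivedCategory.{w} C] {K L : CochainComplex C ℤ}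
    (e : DerivedCategory.Q.obj K ≅ DerivedCategory.Q.obj L) (n : ℤ) :
    (A.D K).IsLE n ↔ (A.D L).IsLE n := by
  obtain ⟨M, s, hs, g, hg⟩ := DerivedCategory.right_fac e.hom
  have hs' : QuasiIso s := (DerivedCategory.isIso_Q_map_iff_quasiIso _ s).1 hs
  have hg' : IsIso (DerivedCategory.Q.map g) := by
    have : DerivedCategory.Q.map g = DerivedCategory.Q.map s ≫ e.hom := by
      rw [hg, IsIso.hom_inv_id_assoc]
    rw [this]
    infer_instance
  have hg'' : QuasiIso g := (DerivedCategory.isIso_Q_map_iff_quasiIso _ g).1 hg'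
  exact (isLE_iff_of_qis (A.Dmap s) n).trans (isLE_iff_of_qis (A.Dmap g) n).symm

/-- A class of objects, quotients of reflexive objects with kernel in the class, with duals in the class. -/
theorem refl_of_dual_class [HasDerivedCategory.{w} C] (P : ObjectProperty C)
    (hP : ∀ X, P X → ∃ (Y Z : C) (f : Y ⟶ Z) (g : Z ⟶ X) (w : f ≫ g = 0),
      (ShortComplex.mk f g w).ShortExact ∧ P Y ∧ A.Refl ((CochainComplex.singleFunctor C 0).obj Z))
    (hD : ∀ X, P X → ∃ Y, P Y ∧ Nonempty (DerivedCategory.Q.obj (A.D ((CochainComplex.singleFunctor C 0).obj X)) ≅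
      DerivedCategory.Q.obj ((CochainComplex.singleFunctor C 0).obj Y)))
    (X : C) (hX : P X) : A.Refl ((CochainComplex.singleFunctor C 0).obj X) := by
  refine ⟨BidWay.quasiIso_of_resolution (BidPt.evNat A) (fun S hS => hS) (BidPt.exactCx_dd A)
    (fun Z => A.Refl ((CochainComplex.singleFunctor C 0).obj Z)) P (fun Z hZ => hZ.qis) hP 0
    (fun X _ => ?_) (fun X hX => ?_) X hX⟩
  · change CochainComplex.IsLE ((CochainComplex.singleFunctor C 0).obj X) 0
    infer_instance
  · change CochainComplex.IsLE (A.D (A.D ((CochainComplex.singleFunctor C 0).obj X))) 0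
    obtain ⟨Y, hY, ⟨e⟩⟩ := hD X hX
    rw [isLE_D_iff_of_isoD A e]
    obtain ⟨Z, hZ, ⟨e'⟩⟩ := hD Y hY
    rw [← DerivedCategory.isLE_Q_obj_iff]
    have : CochainComplex.IsLE ((CochainComplex.singleFunctor C 0).obj Z) 0 := inferInstance
    rw [← DerivedCategory.isLE_Q_obj_iff] at this
    exact ⟨(DerivedCategory.TStructure.t.le 0).prop_of_iso e'.symm this.le⟩

end Abstract

section Const

variable (Λ : Type (u + 1)) [CommRing Λ] (X : Scheme.{u})

/-- The constant sheaf functor. -/
noncomputable abbrev cst : ModuleCat.{u + 1} Λ ⥤ EtModW.Mod Λ X :=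
  constantSheaf X.smallEtaleTopology (ModuleCat.{u + 1} Λ)

instance preservesFiniteLimits_cst : PreservesFiniteLimits (cst Λ X) := by
  delta cst constantSheaf
  infer_instance

instance preservesFiniteColimits_cst : PreservesFiniteColimits (cst Λ X) := by
  delta cst constantSheaf
  infer_instance

instance additive_cst : (cst Λ X).Additive :=
  Functor.additive_of_preserves_binary_products _

/-- `0 ⟶ K_X ⟶ (Λ^b)_X ⟶ M_X ⟶ 0`. -/
theorem exists_shortExact_constMod [IsNoetherianRing Λ] (M : Type (u + 1)) [AddCommGroup M] [Module Λ M]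
    [Module.Finite Λ M] :
    ∃ (b : ℕ) (K : Type (u + 1)) (_ : AddCommGroup K) (_ : Module Λ K) (_ : Module.Finite Λ K)
      (f : EtModW.constMod Λ X K ⟶ EtModW.constMod Λ X (Fin b → Λ))
      (g : EtModW.constMod Λ X (Fin b → Λ) ⟶ EtModW.constMod Λ X M) (w : f ≫ g = 0),
      (ShortComplex.mk f g w).ShortExact := by
  obtain ⟨b, π, hπ⟩ := Module.Finite.exists_fin' Λ M
  let S : ShortComplex (ModuleCat.{u + 1} Λ) := ShortComplex.mk (ModuleCat.ofHom (LinearMap.ker π).subtype)
    (ModuleCat.ofHom π) (by ext x; exact x.2)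
  have hS : S.ShortExact :=
    { exact := by
        rw [ShortComplex.moduleCat_exact_iff]
        intro x hx
        exact ⟨⟨x, hx⟩, rfl⟩
      mono_f := (ModuleCat.mono_iff_injective _).2 (Submodule.subtype_injective _)
      epi_g := (ModuleCat.epi_iff_surjective _).2 hπ }
  exact ⟨b, LinearMap.ker π, inferInstance, inferInstance, inferInstance, _, _, _, hS.map_of_exact (cst Λ X)⟩

/-- `0 ⟶ (Λ^b)_X ⟶ (Λ^{b+1})_X ⟶ Λ_X ⟶ 0`. -/
theorem exists_shortExact_pow (b : ℕ) :
    ∃ (f : EtModW.constMod Λ X (Fin b → Λ) ⟶ EtModW.constMod Λ X (Fin (b + 1) → Λ))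
      (g : EtModW.constMod Λ X (Fin (b + 1) → Λ) ⟶ EtModW.constMod Λ X Λ) (w : f ≫ g = 0),
      (ShortComplex.mk f g w).ShortExact := by
  let i : (Fin b → Λ) →ₗ[Λ] (Fin (b + 1) → Λ) :=
    { toFun := fun x => Fin.cons 0 x
      map_add' := fun x y => by
        ext k
        refine Fin.cases ?_ (fun k => ?_) k <;> simp
      map_smul' := fun a x => by
        ext k
        refine Fin.cases ?_ (fun k => ?_) k <;> simp }
  let S : ShortComplex (ModuleCat.{u + 1} Λ) := ShortComplex.mk (ModuleCat.ofHom i)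
    (ModuleCat.ofHom (LinearMap.proj (φ := fun _ : Fin (b + 1) => Λ) (R := Λ) 0)) (by ext x; rfl)
  have hS : S.ShortExact :=
    { exact := by
        rw [ShortComplex.moduleCat_exact_iff]
        intro x hx
        refine ⟨(fun k => (x : Fin (b + 1) → Λ) k.succ : Fin b → Λ), ?_⟩
        change (Fin.cons 0 (fun k => (x : Fin (b + 1) → Λ) k.succ) : Fin (b + 1) → Λ) = x
        ext k
        refine Fin.cases ?_ (fun k => ?_) k
        · exact (Eq.symm hx : (0 : Λ) = (x : Fin (b + 1) → Λ) 0)
        · simp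
      mono_f := (ModuleCat.mono_iff_injective _).2 (fun x y hxy => by
        ext k
        exact congrFun hxy k.succ)
      epi_g := (ModuleCat.epi_iff_surjective _).2 (fun a => ⟨(fun _ => a : Fin (b + 1) → Λ), rfl⟩) }
  exact ⟨_, _, _, hS.map_of_exact (cst Λ X)⟩

end Const

section Refl

open scoped Groth.Agent.Sga4h.ModInst
open Groth.Agent.Sga4h.ModDTensor Groth.Agent.Sga4h.DualSelf Groth.Agent.Sga4h.DualCx Groth.Agent.Sga4h.Refl

variable {Λ : Type (u + 1)} [CommRing Λ] {X : Scheme.{u}} (A : DualData (EtModD.tensorBi Λ X))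
  (j : (CochainComplex.singleFunctor (EtModW.Mod Λ X) 0).obj (EtModW.constMod Λ X Λ) ⟶ A.J)

include j in
theorem refl_pow (hj : QuasiIso j) (b : ℕ) :
    A.Refl ((CochainComplex.singleFunctor (EtModW.Mod Λ X) 0).obj (EtModW.constMod Λ X (Fin b → Λ))) := by
  induction b with
  | zero =>
    refine A.refl_of_acyclic (fun i => ShortComplex.exact_of_isZero_X₂ _
      ((HomologicalComplex.eval _ _ i).map_isZero
        ((CochainComplex.singleFunctor (EtModW.Mod Λ X) 0).map_isZero
          ((cst Λ X).map_isZero ?_))))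
    exact ModuleCat.isZero_of_subsingleton _
  | succ b ih =>
    obtain ⟨f, g, w, hS⟩ := exists_shortExact_pow Λ X b
    exact BidPt.refl_single₂' A hS ih (BidPtRefl.refl_constMod A j hj)

attribute [local instance] HasDerivedCategory.standard

/-- Constant sheaves with finitely generated values are reflexive if their duals are constant sheaves in
degree `0`. -/
theorem refl_const_of_dual [IsNoetherianRing Λ] (hj : QuasiIso j)
    (hD : ∀ (M : Type (u + 1)) [AddCommGroup M] [Module Λ M] [Module.Finite Λ M],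
      ∃ (N : Type (u + 1)) (_ : AddCommGroup N) (_ : Module Λ N) (_ : Module.Finite Λ N),
        Nonempty (DerivedCategory.Q.obj (A.D ((CochainComplex.singleFunctor (EtModW.Mod Λ X) 0).obj
          (EtModW.constMod Λ X M))) ≅
          DerivedCategory.Q.obj ((CochainComplex.singleFunctor (EtModW.Mod Λ X) 0).obj (EtModW.constMod Λ X N))))
    (M : Type (u + 1)) [AddCommGroup M] [Module Λ M] [Module.Finite Λ M] :
    A.Refl ((CochainComplex.singleFunctor (EtModW.Mod Λ X) 0).obj (EtModW.constMod Λ X M)) := by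
  refine refl_of_dual_class A (fun F => ∃ (M : Type (u + 1)) (_ : AddCommGroup M) (_ : Module Λ M)
    (_ : Module.Finite Λ M), F = EtModW.constMod Λ X M) ?_ ?_ _ ⟨M, inferInstance, inferInstance, inferInstance, rfl⟩
  · rintro _ ⟨M, _, _, _, rfl⟩
    obtain ⟨b, K, i1, i2, i3, f, g, w, hS⟩ := exists_shortExact_constMod Λ X M
    exact ⟨_, _, f, g, w, hS, ⟨K, i1, i2, i3, rfl⟩, refl_pow A j hj b⟩
  · rintro _ ⟨M, _, _, _, rfl⟩
    obtain ⟨N, i1, i2, i3, e⟩ := hD M
    exact ⟨_, ⟨N, i1, i2, i3, rfl⟩, e⟩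

end Refl

end Groth.Agent.Sga4h.ReflConst657
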