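import Groth.Agent.Sga4h.RegFinal
import Groth.Agent.Sga4h.ModRestr

/-!
# The class of sheaves `G` such that `G|_V` is reflexive with dual in `D^b_c` for all affine Noetherian `V` étale over `X`
-/

set_option autoImplicit false

universe w v u

open CategoryTheory CategoryTheory.Limits AlgebraicGeometry HomologicalComplex ZeroObject

namespace Groth.Agent.Sga4h.RegClass

open Groth.Agent.Sga4h.RegFinal

lemma tri_and {C : Type u} [Category.{v} C] [Abelian C] {P Q : CochainComplex C ℤ → Prop}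
    (h₁ : CxProp.Tri P) (h₂ : CxProp.Tri Q) : CxProp.Tri (fun K => P K ∧ Q K) where
  qi f _ := and_congr (h₁.qi f) (h₂.qi f)
  shift K := and_congr (h₁.shift K) (h₂.shift K)
  cone φ hK hL := ⟨h₁.cone φ hK.1 hL.1, h₂.cone φ hK.2 hL.2⟩
  zero := ⟨CochainComplex.mappingCone (𝟙 ((CochainComplex.singleFunctor C 0).obj (0 : C))),
    h₁.of_acyclic (CohtopA.KInjRes2.acyclic_mappingCone_id _),
    h₂.of_acyclic (CohtopA.KInjRes2.acyclic_mappingCone_id _)⟩

section B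

attribute [local instance] HasDerivedCategory.standard
attribute [local instance 5000] CategoryTheory.Abelian.toPreadditive
  CategoryTheory.Preadditive.preadditiveHasZeroMorphisms
open scoped Groth.Agent.Sga4h.ModInst

variable {Λ : Type (u + 1)} [CommRing Λ] [IsNoetherianRing Λ] {X : Scheme.{u}}

/-- "Reflexive with dual in `D^b_c`" is a triangulated property. -/
lemma tri_dual (A : Refl.DualData (EtModD.tensorBi Λ X)) :
    CxProp.Tri (fun K => A.Refl K ∧ EtModD.IsDbc (DerivedCategory.Q.obj (A.D K))) :=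
  tri_and A.tri_refl (A.tri_D (CxProp.tri_ofD (EtModD.IsDbc : ObjectProperty (EtModD.D Λ X))))

lemma Dualizing.iso {C F G : EtModW.Mod Λ X} (e : F ≅ G) (h : Dualizing C F) : Dualizing C G := by
  have H := fun J hJ hJ' i hi => ((tri_dual (DualEt.dualData J hJ hJ')).iso
    ((CochainComplex.singleFunctor (EtModW.Mod Λ X) 0).mapIso e)).1 ⟨h.refl J hJ hJ' i hi, h.isDbc J hJ hJ' i hi⟩
  exact ⟨fun J hJ hJ' i hi => (H J hJ hJ' i hi).1, fun J hJ hJ' i hi => (H J hJ hJ' i hi).2⟩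

lemma Dualizing.zero {C F : EtModW.Mod Λ X} (hF : IsZero F) : Dualizing C F := by
  have H := fun J hJ hJ' => (tri_dual (DualEt.dualData J hJ hJ')).of_acyclic
    (K := (CochainComplex.singleFunctor (EtModW.Mod Λ X) 0).obj F) (fun n => by
      rw [exactAt_iff_isZero_homology]
      exact (homologyFunctor (EtModW.Mod Λ X) (ComplexShape.up ℤ) n).map_isZero
        ((CochainComplex.singleFunctor (EtModW.Mod Λ X) 0).map_isZero hF))
  exact ⟨fun J hJ hJ' i hi => (H J hJ hJ').1, fun J hJ hJ' i hi => (H J hJ hJ').2⟩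

lemma Dualizing.ses₁ {C : EtModW.Mod Λ X} {S : ShortComplex (EtModW.Mod Λ X)} (hS : S.ShortExact)
    (h₂ : Dualizing C S.X₂) (h₃ : Dualizing C S.X₃) : Dualizing C S.X₁ := by
  have H := fun J hJ hJ' i hi => Dbc323.single₁ (tri_dual (DualEt.dualData J hJ hJ')) hS
    ⟨h₂.refl J hJ hJ' i hi, h₂.isDbc J hJ hJ' i hi⟩ ⟨h₃.refl J hJ hJ' i hi, h₃.isDbc J hJ hJ' i hi⟩
  exact ⟨fun J hJ hJ' i hi => (H J hJ hJ' i hi).1, fun J hJ hJ' i hi => (H J hJ hJ' i hi).2⟩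

lemma Dualizing.ses₂ {C : EtModW.Mod Λ X} {S : ShortComplex (EtModW.Mod Λ X)} (hS : S.ShortExact)
    (h₁ : Dualizing C S.X₁) (h₃ : Dualizing C S.X₃) : Dualizing C S.X₂ := by
  have H := fun J hJ hJ' i hi => Dbc323.single₂ (tri_dual (DualEt.dualData J hJ hJ')) hS
    ⟨h₁.refl J hJ hJ' i hi, h₁.isDbc J hJ hJ' i hi⟩ ⟨h₃.refl J hJ hJ' i hi, h₃.isDbc J hJ hJ' i hi⟩
  exact ⟨fun J hJ hJ' i hi => (H J hJ hJ' i hi).1, fun J hJ hJ' i hi => (H J hJ hJ' i hi).2⟩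

lemma Dualizing.ses₃ {C : EtModW.Mod Λ X} {S : ShortComplex (EtModW.Mod Λ X)} (hS : S.ShortExact)
    (h₁ : Dualizing C S.X₁) (h₂ : Dualizing C S.X₂) : Dualizing C S.X₃ := by
  have H := fun J hJ hJ' i hi => Dbc323.single₃ (tri_dual (DualEt.dualData J hJ hJ')) hS
    ⟨h₁.refl J hJ hJ' i hi, h₁.isDbc J hJ hJ' i hi⟩ ⟨h₂.refl J hJ hJ' i hi, h₂.isDbc J hJ hJ' i hi⟩
  exact ⟨fun J hJ hJ' i hi => (H J hJ hJ' i hi).1, fun J hJ hJ' i hi => (H J hJ hJ' i hi).2⟩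

/-- The class of the sheaves `G` on `X` such that `G|_V` is reflexive with dual in `D^b_c` (with respect to `Λ_V`),
for all affine Noetherian `V` étale over `X`. -/
def RDual (Λ : Type (u + 1)) [CommRing Λ] (X : Scheme.{u}) (G : EtModW.Mod Λ X) : Prop :=
  ∀ (V : Scheme.{u}) (g : V ⟶ X) [Etale g] [IsAffine V] [IsNoetherian V],
    Dualizing (EtModW.constMod Λ V Λ) ((ModRestr.res Λ g).obj G)

lemma RDual.iso {F G : EtModW.Mod Λ X} (e : F ≅ G) (h : RDual Λ X F) : RDual Λ X G := fun V g _ _ _ =>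
  Dualizing.iso ((ModRestr.res Λ g).mapIso e) (h V g)

lemma RDual.zero {F : EtModW.Mod Λ X} (hF : IsZero F) : RDual Λ X F := fun V g _ _ _ =>
  Dualizing.zero ((ModRestr.res Λ g).map_isZero hF)

lemma RDual.ses₁ {S : ShortComplex (EtModW.Mod Λ X)} (hS : S.ShortExact)
    (h₂ : RDual Λ X S.X₂) (h₃ : RDual Λ X S.X₃) : RDual Λ X S.X₁ := fun V g _ _ _ =>
  Dualizing.ses₁ (hS.map_of_exact (ModRestr.res Λ g)) (h₂ V g) (h₃ V g)

lemma RDual.ses₂ {S : ShortComplex (EtModW.Mod Λ X)} (hS : S.ShortExact)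
    (h₁ : RDual Λ X S.X₁) (h₃ : RDual Λ X S.X₃) : RDual Λ X S.X₂ := fun V g _ _ _ =>
  Dualizing.ses₂ (hS.map_of_exact (ModRestr.res Λ g)) (h₁ V g) (h₃ V g)

lemma RDual.ses₃ {S : ShortComplex (EtModW.Mod Λ X)} (hS : S.ShortExact)
    (h₁ : RDual Λ X S.X₁) (h₂ : RDual Λ X S.X₂) : RDual Λ X S.X₃ := fun V g _ _ _ =>
  Dualizing.ses₃ (hS.map_of_exact (ModRestr.res Λ g)) (h₁ V g) (h₂ V g)

end B

end Groth.Agent.Sga4h.RegClass
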