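import Groth.Agent.Sga4h.DualQ
import Groth.Agent.Sga4h.ReflHopf
import Groth.Agent.Sga4h.DbcDual323

/-!
# Biduality in the language of the prelude from reflexivity of constructible sheaves (any Noetherian `Λ`)
-/

set_option autoImplicit false

universe u

open CategoryTheory CategoryTheory.Limits AlgebraicGeometry HomologicalComplex

attribute [local instance] HasDerivedCategory.standard

namespace Groth.Agent.Sga4h.RegFinal

variable {Λ : Type (u + 1)} [CommRing Λ] {S : Scheme.{u}}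

section B

attribute [local instance 5000] CategoryTheory.Abelian.toPreadditive
  CategoryTheory.Preadditive.preadditiveHasZeroMorphisms
open scoped Groth.Agent.Sga4h.ModInst

/-- Reflexivity and constructibility of the dual, for a given dualizing sheaf `C` in degree zero. -/
structure Dualizing (C F : EtModW.Mod Λ S) : Prop where
  refl : ∀ (J : CochainComplex (EtModW.Mod Λ S) ℤ) (hJ : J.IsKInjective) (hJ' : ∀ n, Injective (J.X n))
    (i : (CochainComplex.singleFunctor (EtModW.Mod Λ S) 0).obj C ⟶ J) (_ : QuasiIso i),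
    (DualEt.dualData J hJ hJ').Refl ((CochainComplex.singleFunctor (EtModW.Mod Λ S) 0).obj F)
  isDbc : ∀ (J : CochainComplex (EtModW.Mod Λ S) ℤ) (hJ : J.IsKInjective) (hJ' : ∀ n, Injective (J.X n))
    (i : (CochainComplex.singleFunctor (EtModW.Mod Λ S) 0).obj C ⟶ J) (_ : QuasiIso i),
    EtModD.IsDbc (DerivedCategory.Q.obj
      ((DualEt.dualData J hJ hJ').D ((CochainComplex.singleFunctor (EtModW.Mod Λ S) 0).obj F)))

theorem final_B [IsNoetherianRing Λ] (C : EtModW.Mod Λ S)
    (H : ∀ F : EtModW.Mod Λ S, EtModW.IsConstructible Λ F → Dualizing C F)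
    (K : CochainComplex (EtModW.Mod Λ S) ℤ) (hK : EtModD.IsDbc (DerivedCategory.Q.obj K))
    [EtModD.HasLTensorCx K] [EtModD.HasRHom K] (M : CochainComplex (EtModW.Mod Λ S) ℤ)
    (hM : Nonempty (DerivedCategory.Q.obj M ≅ EtModD.dual (DerivedCategory.Q.obj
      ((CochainComplex.singleFunctor (EtModW.Mod Λ S) 0).obj C)) K))
    [EtModD.HasLTensorCx M] [EtModD.HasRHom M] :
    EtModD.IsDbc (DerivedCategory.Q.obj M) ∧
      Nonempty (DerivedCategory.Q.obj K ≅ EtModD.dual (DerivedCategory.Q.obj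
        ((CochainComplex.singleFunctor (EtModW.Mod Λ S) 0).obj C)) M) := by
  obtain ⟨J, i, hJ, hJ', hi, -⟩ := DualEt.exists_kInj ((CochainComplex.singleFunctor (EtModW.Mod Λ S) 0).obj C)
  obtain ⟨e⟩ := hM
  obtain ⟨e₁⟩ := DualQ.nonempty_dualIso J hJ hJ' K
  obtain ⟨e₂⟩ := DualQ.nonempty_dualIso J hJ hJ' M
  have hi' : IsIso (DerivedCategory.Q.map i) := inferInstance
  let a : DerivedCategory.Q.obj M ≅ DerivedCategory.Q.obj ((DualEt.dualData J hJ hJ').D K) :=
    e ≪≫ (EtModD.RHom K).mapIso (asIso (DerivedCategory.Q.map i)) ≪≫ e₁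
  have h1 : EtModD.IsDbc (DerivedCategory.Q.obj ((DualEt.dualData J hJ hJ').D K)) :=
    DbcDual323.isDbc_D _ (fun F hF => (H F hF).isDbc J hJ hJ' i hi) K hK
  have h2 : (DualEt.dualData J hJ hJ').Refl K :=
    DbcDual323.refl_of_isDbc _ (fun F hF => (H F hF).refl J hJ hJ' i hi) K hK
  have h3 : QuasiIso ((DualEt.dualData J hJ hJ').ev K) := h2.qis
  obtain ⟨b⟩ := ReflHopf.nonempty_D_iso (DualEt.dualData J hJ hJ') ⟨a⟩
  refine ⟨ObjectProperty.prop_of_iso _ a.symm h1, ⟨?_⟩⟩
  exact asIso (DerivedCategory.Q.map ((DualEt.dualData J hJ hJ').ev K)) ≪≫ b.symm ≪≫ e₂.symm ≪≫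
    (EtModD.RHom M).mapIso (asIso (DerivedCategory.Q.map i)).symm

end B

/-- The statement in the form of the prelude. -/
theorem final [IsNoetherianRing Λ] (C : EtModW.Mod Λ S)
    (H : ∀ F : EtModW.Mod Λ S, EtModW.IsConstructible Λ F → Dualizing C F)
    (K : CochainComplex (EtModW.Mod Λ S) ℤ) (hK : EtModD.IsDbc (DerivedCategory.Q.obj K))
    [EtModD.HasLTensorCx K] [EtModD.HasRHom K] (M : CochainComplex (EtModW.Mod Λ S) ℤ)
    (hM : Nonempty (DerivedCategory.Q.obj M ≅ EtModD.dual (DerivedCategory.Q.obj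
      ((CochainComplex.singleFunctor (EtModW.Mod Λ S) 0).obj C)) K))
    [EtModD.HasLTensorCx M] [EtModD.HasRHom M] :
    EtModD.IsDbc (DerivedCategory.Q.obj M) ∧
      Nonempty (DerivedCategory.Q.obj K ≅ EtModD.dual (DerivedCategory.Q.obj
        ((CochainComplex.singleFunctor (EtModW.Mod Λ S) 0).obj C)) M) :=
  final_B C H K hK M hM

end Groth.Agent.Sga4h.RegFinal
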