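import Groth.Agent.EtpbcB.HLim
import Groth.Agent.Sga1.UlaRes2

/-!
# Restriction maps on étale cohomology and cofiltered limits

`exists_res`, `exists_res_zero`: étale cohomology of a limit with coefficients pulled back from a
fixed scheme `W`, in terms of the maps `UlaRes.res`.
`res_bijective_of_limit`: if `res G (φ a)` is bijective for a map `φ` of inverse systems then so is
`res G (lim φ)`.
-/

set_option autoImplicit false
universe u

open CategoryTheory CategoryTheory.Limits AlgebraicGeometry Opposite CategoryTheory.Abelian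

namespace Groth.Agent.Sga4h.ResLim817

open Groth.Agent.Etcore.PullCoh Groth.Agent.Sga4B.ExtCmp Groth.Agent.EtpbcB
  Groth.Agent.EtpbcB.HRel Groth.Agent.EtpbcB.HLim Groth.Agent.Sga1.UlaRes

section

variable {ι : Type u} [Preorder ι] [IsDirected ι (· ≤ ·)] (T : ιᵒᵖ ⥤ Scheme.{u})
  (haff : ∀ ⦃a b : ιᵒᵖ⦄ (h : a ⟶ b), IsAffineHom (T.map h))
  (hqc : ∀ a, CompactSpace ↥(T.obj a)) (hqs : ∀ a, QuasiSeparatedSpace ↥(T.obj a))
  (c : Cone T) (hc : IsLimit c) {W : Scheme.{u}} (G : EtCoh.Ab W)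
  (w : ∀ a : ιᵒᵖ, T.obj a ⟶ W) (hw : ∀ ⦃a b : ιᵒᵖ⦄ (h : a ⟶ b), T.map h ≫ w b = w a)
  (w' : c.pt ⟶ W) (hw' : ∀ a, c.π.app a ≫ w a = w') (q : ℕ)

include haff hqc hqs hc hw

/-- Every class on the limit comes from a finite stage. -/
theorem exists_res (i₀ : ι) (ξ : HT G w' q) :
    ∃ (j : ι) (_ : i₀ ≤ j) (η : HT G (w (op j)) q),
      res G (c.π.app (op j)) (w (op j)) w' (hw' (op j)) q η = ξ := by
  obtain ⟨j, hj, ξj, h⟩ := (S0646.result T haff hqc hqs c hc i₀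
    ((EtCoh.pull (w (op i₀))).obj G) q).1
    (ξ.comp (Ext.mk₀ (inv (th (c.π.app (op i₀)) (w (op i₀)) w' (hw' (op i₀)) G))) (add_zero q))
  refine ⟨j, hj, ξj.comp (Ext.mk₀ (th (T.map (homOfLE hj).op) (w (op i₀)) (w (op j))
    (hw (homOfLE hj).op) G)) (add_zero q), ?_⟩
  refine (HpullVia_change (c.π.app (op j)) (T.map (homOfLE hj).op) (w (op i₀))
    (c.π.app (op i₀)) (w (op j)) w' (c.w (homOfLE hj).op) (hw (homOfLE hj).op)
    (hw' (op j)) (hw' (op i₀)) G q ξj).trans ?_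
  refine (congrArg (fun z : EtCoh.H c.pt _ q => z.comp (Ext.mk₀ (th
    (c.π.app (op i₀)) (w (op i₀)) w' (hw' (op i₀)) G)) (add_zero q)) h).trans ?_
  exact comp_mk₀_inv_comp _ ξ

/-- A class at a finite stage vanishing in the limit vanishes at a finite stage. -/
theorem exists_res_zero (j : ι) (η : HT G (w (op j)) q)
    (hη : res G (c.π.app (op j)) (w (op j)) w' (hw' (op j)) q η = 0) :
    ∃ (k : ι) (hk : j ≤ k),
      res G (T.map (homOfLE hk).op) (w (op j)) (w (op k)) (hw (homOfLE hk).op) q η = 0 := by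
  let m : T.obj (op j) ⟶ T.obj (op j) := T.map (homOfLE (le_refl j)).op
  have hm : m ≫ w (op j) = w (op j) := hw _
  let η' : EtCoh.H (T.obj (op j)) ((EtCoh.pull m).obj ((EtCoh.pull (w (op j))).obj G)) q :=
    η.comp (Ext.mk₀ (inv (th m (w (op j)) (w (op j)) hm G))) (add_zero q)
  have e : η'.comp (Ext.mk₀ (th m (w (op j)) (w (op j)) hm G)) (add_zero q) = η :=
    comp_mk₀_inv_comp _ η
  have h1 : EtCore.HpullVia (c.π.app (op j)) m (c.π.app (op j)) (c.w _)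
      ((EtCoh.pull (w (op j))).obj G) q η' = 0 := by
    apply comp_mk₀_inj (th (c.π.app (op j)) (w (op j)) w' (hw' (op j)) G)
    rw [← HpullVia_change (c.π.app (op j)) m (w (op j)) (c.π.app (op j)) (w (op j)) w' (c.w _)
      hm (hw' (op j)), e, Ext.zero_comp]
    exact hη
  obtain ⟨k, hk, h⟩ := (S0646.result T haff hqc hqs c hc j
    ((EtCoh.pull (w (op j))).obj G) q).2 j le_rfl η' h1
  refine ⟨k, hk, ?_⟩
  have h2 : cmp (EtCoh.pull (T.map (homOfLE hk).op))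
      (EtCore.pullConst (T.map (homOfLE hk).op) ℤ).inv _ q η' = 0 := h
  change EtCore.HpullVia _ _ _ _ _ _ _ = _
  rw [← e, HpullVia_eq, cmp_mk₀, h2, Ext.zero_comp, Ext.zero_comp]

end

section

variable {ι : Type u} [Preorder ι] [IsDirected ι (· ≤ ·)] [Nonempty ι] (T T' : ιᵒᵖ ⥤ Scheme.{u})
  (haff : ∀ ⦃a b : ιᵒᵖ⦄ (h : a ⟶ b), IsAffineHom (T.map h))
  (hqc : ∀ a, CompactSpace ↥(T.obj a)) (hqs : ∀ a, QuasiSeparatedSpace ↥(T.obj a))
  (haff' : ∀ ⦃a b : ιᵒᵖ⦄ (h : a ⟶ b), IsAffineHom (T'.map h))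
  (hqc' : ∀ a, CompactSpace ↥(T'.obj a)) (hqs' : ∀ a, QuasiSeparatedSpace ↥(T'.obj a))
  (c : Cone T) (hc : IsLimit c) (c' : Cone T') (hc' : IsLimit c')
  (φ : ∀ a, T'.obj a ⟶ T.obj a) (hφ : ∀ ⦃a b : ιᵒᵖ⦄ (h : a ⟶ b), T'.map h ≫ φ b = φ a ≫ T.map h)
  (φ' : c'.pt ⟶ c.pt) (hφ' : ∀ a, c'.π.app a ≫ φ a = φ' ≫ c.π.app a)
  {W : Scheme.{u}} (G : EtCoh.Ab W)
  (w : ∀ a : ιᵒᵖ, T.obj a ⟶ W) (hw : ∀ ⦃a b : ιᵒᵖ⦄ (h : a ⟶ b), T.map h ≫ w b = w a)
  (w' : c.pt ⟶ W) (hw' : ∀ a, c.π.app a ≫ w a = w') (q : ℕ)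

include haff hqc hqs haff' hqc' hqs' hc hc' hφ hφ' hw hw' in
/-- Bijectivity of the restriction maps passes to the limit. -/
theorem res_bijective_of_limit
    (h : ∀ a, Function.Bijective (res G (φ a) (w a) (φ a ≫ w a) rfl q)) :
    Function.Bijective (res G φ' w' (φ' ≫ w') rfl q) := by
  -- the maps of the second system to `W`
  let v : ∀ a : ιᵒᵖ, T'.obj a ⟶ W := fun a => φ a ≫ w a
  have hv : ∀ ⦃a b : ιᵒᵖ⦄ (h : a ⟶ b), T'.map h ≫ v b = v a := fun a b h => by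
    change T'.map h ≫ φ b ≫ w b = φ a ≫ w a
    rw [← Category.assoc, hφ h, Category.assoc, hw h]
  have hv' : ∀ a, c'.π.app a ≫ v a = φ' ≫ w' := fun a => by
    change c'.π.app a ≫ φ a ≫ w a = φ' ≫ w'
    rw [← Category.assoc, hφ' a, Category.assoc, hw' a]
  constructor
  · rw [injective_iff_map_eq_zero]
    intro ξ hξ
    obtain ⟨j, -, η, rfl⟩ := exists_res T haff hqc hqs c hc G w hw w' hw' q
      (Classical.arbitrary ι) ξ
    -- the class at the stage `j` on `T'`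
    have h1 : res G (c'.π.app (op j)) (v (op j)) (φ' ≫ w') (hv' (op j)) q
        (res G (φ (op j)) (w (op j)) (v (op j)) rfl q η) = 0 := by
      rw [res_comp G (c'.π.app (op j)) (φ (op j)) (φ' ≫ c.π.app (op j)) (hφ' (op j)) (w (op j))
        (v (op j)) (φ' ≫ w') rfl (hv' (op j)) (by rw [Category.assoc, hw'])]
      rw [← res_comp G φ' (c.π.app (op j)) (φ' ≫ c.π.app (op j)) rfl (w (op j)) w' (φ' ≫ w')
        (hw' (op j)) rfl]
      exact hξ
    obtain ⟨k, hk, h2⟩ := exists_res_zero T' haff' hqc' hqs' c' hc' G v hv (φ' ≫ w') hv' q j _ h1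
    have h3 : res G (T.map (homOfLE hk).op) (w (op j)) (w (op k)) (hw _) q η = 0 := by
      apply (h (op k)).1
      rw [map_zero]
      refine Eq.trans ?_ h2
      rw [res_comp G (φ (op k)) (T.map (homOfLE hk).op) (φ (op k) ≫ T.map (homOfLE hk).op) rfl
        (w (op j)) (w (op k)) (φ (op k) ≫ w (op k)) (hw _) rfl (by rw [Category.assoc, hw])]
      exact (res_comp G (T'.map (homOfLE hk).op) (φ (op j)) (φ (op k) ≫ T.map (homOfLE hk).op)
        (hφ _) (w (op j)) (v (op j)) (v (op k)) rfl (hv _) _ q η).symm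
    rw [← res_comp G (c.π.app (op k)) (T.map (homOfLE hk).op) (c.π.app (op j)) (c.w _) (w (op j))
      (w (op k)) w' (hw _) (hw' _), h3, map_zero]
  · intro ξ
    obtain ⟨j, -, η, rfl⟩ := exists_res T' haff' hqc' hqs' c' hc' G v hv (φ' ≫ w') hv' q
      (Classical.arbitrary ι) ξ
    obtain ⟨ζ, rfl⟩ := (h (op j)).2 η
    refine ⟨res G (c.π.app (op j)) (w (op j)) w' (hw' (op j)) q ζ, ?_⟩
    rw [res_comp G φ' (c.π.app (op j)) (φ' ≫ c.π.app (op j)) rfl (w (op j)) w' (φ' ≫ w')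
        (hw' (op j)) rfl (by rw [Category.assoc, hw'])]
    exact (res_comp G (c'.π.app (op j)) (φ (op j)) (φ' ≫ c.π.app (op j)) (hφ' (op j)) (w (op j))
        (v (op j)) (φ' ≫ w') rfl (hv' (op j)) _ q ζ).symm

end

end Groth.Agent.Sga4h.ResLim817
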