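import Groth.Agent.Sga4h.FamTau
import Groth.Agent.EtpbcB.LimSec
import Groth.Agent.Etcore.PullbackSys

/-!
# The exact sequence `0 ⟶ F ⟶ t_* t^* F ⟶ t_* t^* F ⟶ 0` of a procyclic cover

`Cyc t n` : `t : Z' ⟶ Z` is the limit of finite étale cyclic covers `Z_a ⟶ Z` with compatible generators
`σ_a`, the degrees becoming more and more divisible by `n`.  For `F` killed by `n` the sequence
`0 ⟶ F ⟶ t_* t^* F --(σ - 1)--> t_* t^* F ⟶ 0` is exact (`shortExact`).
-/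

set_option autoImplicit false
set_option backward.isDefEq.respectTransparency.types false
set_option linter.unusedSectionVars false
universe u

open CategoryTheory CategoryTheory.Limits AlgebraicGeometry Opposite

namespace Groth.Agent.Sga4h.SigmaSeq

open Groth.Agent.EtpbcB.Big Groth.Agent.Sga4h.FamAdd Groth.Agent.Sga4h.FamTau

/-- Iterates of an endomorphism. -/
noncomputable def it {Y : Scheme.{u}} (s : Y ⟶ Y) : ℕ → (Y ⟶ Y)
  | 0 => 𝟙 Y
  | k + 1 => it s k ≫ s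

@[simp] theorem it_zero {Y : Scheme.{u}} (s : Y ⟶ Y) : it s 0 = 𝟙 Y := rfl
theorem it_succ {Y : Scheme.{u}} (s : Y ⟶ Y) (k : ℕ) : it s (k + 1) = it s k ≫ s := rfl

theorem it_add {Y : Scheme.{u}} (s : Y ⟶ Y) (k l : ℕ) : it s (k + l) = it s k ≫ it s l := by
  induction l with
  | zero => simp
  | succ l ih => rw [← Nat.add_assoc, it_succ, it_succ, ih, Category.assoc]

theorem it_comm {Y Y' : Scheme.{u}} (s : Y ⟶ Y) (s' : Y' ⟶ Y') (f : Y ⟶ Y') (h : s ≫ f = f ≫ s') (k : ℕ) :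
    it s k ≫ f = f ≫ it s' k := by
  induction k with
  | zero => simp
  | succ k ih => rw [it_succ, it_succ, Category.assoc, h, ← Category.assoc, ih, Category.assoc]

theorem it_comp_eq {Y Z : Scheme.{u}} (s : Y ⟶ Y) (f : Y ⟶ Z) (h : s ≫ f = f) (k : ℕ) : it s k ≫ f = f := by
  induction k with
  | zero => simp
  | succ k ih => rw [it_succ, Category.assoc, h, ih]

/-- A procyclic cover `t : c.pt ⟶ Z`, limit of the cyclic covers `τ a : T a ⟶ Z`. -/
structure CycData {K : Type u} [SmallCategory K] (T : K ⥤ Scheme.{u}) {Z : Scheme.{u}}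
    (τ : ∀ a, T.obj a ⟶ Z) (c : Cone T) (t : c.pt ⟶ Z) (n : ℕ) where
  hτ : ∀ ⦃a b : K⦄ (h : a ⟶ b), T.map h ≫ τ b = τ a
  hc : IsLimit c
  ht : ∀ a, c.π.app a ≫ τ a = t
  aff : ∀ a, IsAffineHom (τ a)
  et : ∀ a, Etale (τ a)
  surj : ∀ a, Surjective (τ a)
  σ : c.pt ⟶ c.pt
  σa : ∀ a, T.obj a ⟶ T.obj a
  hσ : ∀ a, σ ≫ c.π.app a = c.π.app a ≫ σa a
  hσT : ∀ ⦃a b : K⦄ (h : a ⟶ b), σa a ≫ T.map h = T.map h ≫ σa b
  hσt : σ ≫ t = t
  hστ : ∀ a, σa a ≫ τ a = τ a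
  N : K → ℕ
  N_pos : ∀ a, 0 < N a
  ord : ∀ a, it (σa a) (N a) = 𝟙 _
  trans : ∀ (a : K) (Ω : Type u) [Field Ω] [IsSepClosed Ω] (m m' : Spec (.of Ω) ⟶ T.obj a),
    m ≫ τ a = m' ≫ τ a → ∃ k < N a, m' = m ≫ it (σa a) k
  free : ∀ (a : K) (Ω : Type u) [Field Ω] [IsSepClosed Ω] (m : Spec (.of Ω) ⟶ T.obj a) (k k' : ℕ),
    k < N a → k' < N a → m ≫ it (σa a) k = m ≫ it (σa a) k' → k = k'
  lift : ∀ (a : K) (Ω : Type u) [Field Ω] [IsSepClosed Ω] (m : Spec (.of Ω) ⟶ T.obj a),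
    ∃ m' : Spec (.of Ω) ⟶ c.pt, m' ≫ c.π.app a = m
  grow : ∀ a, ∃ (b : K) (_ : b ⟶ a) (r : ℕ), N b = N a * r ∧ n ∣ r

section

variable {K : Type u} [SmallCategory K] [IsCofiltered K] {T : K ⥤ Scheme.{u}} {Z : Scheme.{u}}
  {τ : ∀ a, T.obj a ⟶ Z} {c : Cone T} {t : c.pt ⟶ Z} {n : ℕ} (D : CycData T τ c t n)
  (F : EtCoh.Ab Z)

include D

/-- Geometric points of `V` lift to `V ×_Z Z'`. -/
theorem exists_lift_V (V : Z.Etale) (Ω : Type u) [Field Ω] [IsSepClosed Ω] (l : Spec (.of Ω) ⟶ V.left) :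
    ∃ m : Spec (.of Ω) ⟶ ((EtCoh.bc t).obj V).left, m ≫ bcFst t V = l := by
  obtain ⟨a⟩ := (IsCofiltered.nonempty : Nonempty K)
  have := D.et a
  have := D.surj a
  obtain ⟨y, hy⟩ := (τ a).surjective ((l ≫ V.hom) default)
  obtain ⟨m0, hm0, -⟩ := exists_lift (τ a) (l ≫ V.hom) y hy
  obtain ⟨m1, hm1⟩ := D.lift a Ω m0
  refine ⟨bcPt t m1 l ?_, bcPt_fst _ _ _ _⟩
  rw [← D.ht a, ← Category.assoc, hm1, hm0]

/-- Geometric points of `V ×_Z T_a` lift to `V ×_Z Z'`. -/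
theorem exists_lift_a (a : K) (V : Z.Etale) (Ω : Type u) [Field Ω] [IsSepClosed Ω]
    (l : Spec (.of Ω) ⟶ ((EtCoh.bc (τ a)).obj V).left) :
    ∃ m : Spec (.of Ω) ⟶ ((EtCoh.bc t).obj V).left, m ≫ mV (c.π.app a) (D.ht a) V = l := by
  obtain ⟨m1, hm1⟩ := D.lift a Ω (l ≫ ((EtCoh.bc (τ a)).obj V).hom)
  refine ⟨bcPt t m1 (l ≫ bcFst (τ a) V) ?_, ?_⟩
  · rw [← D.ht a, ← Category.assoc, hm1, Category.assoc, Category.assoc, bc_condition]
  · apply hom_ext_bc
    · rw [Category.assoc, mV_fst, bcPt_fst]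
    · rw [Category.assoc, mV_hom, bcPt_hom_assoc, hm1]

/-- Geometric points of `V` lift to `V ×_Z T_a`. -/
theorem exists_lift_Va (a : K) (V : Z.Etale) (Ω : Type u) [Field Ω] [IsSepClosed Ω]
    (l : Spec (.of Ω) ⟶ V.left) :
    ∃ m : Spec (.of Ω) ⟶ ((EtCoh.bc (τ a)).obj V).left, m ≫ bcFst (τ a) V = l := by
  obtain ⟨m, hm⟩ := exists_lift_V D V Ω l
  exact ⟨m ≫ mV (c.π.app a) (D.ht a) V, by rw [Category.assoc, mV_fst, hm]⟩

theorem mono_unit : Mono ((EtCoh.pullPushAdj t).unit.app F) := by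
  refine mono_of_inj _ fun V s hs => ?_
  have h1 := vv_unit t F s
  rw [hs] at h1
  have h2 : (fam s).res (bcFst t V) (fst_hom t V) = (0 : Fam F V.hom).res (bcFst t V) (fst_hom t V) :=
    h1.symm.trans (map_zero _)
  have h3 := res_injective (bcFst t V) (fst_hom t V) (exists_lift_V D V) h2
  have h4 : fam (0 : EtCoh.sect F V) = 0 := by
    ext Ω _ _ l ξ hl
    exact map_zero (germ F l hl).hom
  exact fam_injective (h3.trans h4.symm)

/-- A local section over the limit comes from a finite level. -/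
theorem exists_level {V : Z.Etale} [IsAffine V.left] (v : Fam F (pc t V)) (hv : IsLoc v) :
    ∃ (a : K) (v' : Fam F (pc (τ a) V)), IsLoc v' ∧
      v'.res (mV (c.π.app a) (D.ht a) V) (mV_w _ _ V) = v := by
  let S : K ⥤ Scheme.{u} := Etcore.PullbackSys.sys T τ D.hτ V.hom
  have haT : ∀ {i j : K} (f : i ⟶ j), IsAffineHom (T.map f) := by
    intro i j f
    have h1 := D.aff i
    have h2 := D.aff j
    have h3 : IsAffineHom (T.map f ≫ τ j) := by rw [D.hτ f]; exact h1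
    exact IsAffineHom.of_comp (T.map f) (τ j)
  have h1 : ∀ {i j : K} (f : i ⟶ j), IsAffineHom (S.map f) := by
    intro i j f
    exact MorphismProperty.of_isPullback (Etcore.PullbackSys.isPullback_mapp T τ D.hτ V.hom f).flip (haT f)
  have hP : ∀ i, IsAffine (S.obj i) := by
    intro i
    have := D.aff i
    have h2 : IsAffineHom (pullback.fst V.hom (τ i)) := MorphismProperty.pullback_fst _ _ (D.aff i)
    exact @isAffine_of_isAffineHom _ _ (pullback.fst V.hom (τ i)) h2 ‹IsAffine V.left›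
  have h2 : ∀ i, CompactSpace (S.obj i) := fun i => inferInstance
  have h3 : ∀ i, QuasiSeparatedSpace (S.obj i) := fun i => inferInstance
  let cS : Cone S := Etcore.PullbackSys.cone T τ D.hτ V.hom c t D.ht
  have hcS : IsLimit cS := Etcore.PullbackSys.isLimitCone T τ D.hτ V.hom c t D.ht D.hc
  let tt : S ⟶ (Functor.const K).obj Z :=
    { app := fun a => pc (τ a) V
      naturality := fun a b f => by
        change Etcore.PullbackSys.mapp T τ D.hτ V.hom f ≫ pc (τ b) V = pc (τ a) V ≫ 𝟙 _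
        rw [Category.comp_id]
        change Etcore.PullbackSys.mapp T τ D.hτ V.hom f ≫ pullback.snd V.hom (τ b) ≫ τ b =
          pullback.snd V.hom (τ a) ≫ τ a
        rw [Etcore.PullbackSys.mapp_snd_assoc, D.hτ f] }
  obtain ⟨a, v', hv', hr⟩ := Groth.Agent.EtpbcB.LimSec.exists_ext cS hcS tt (q := pc t V)
    (fun j => mV_w (c.π.app j) (D.ht j) V) hv
  exact ⟨a, v', hv', hr⟩

/-- The action of `σ_a^k` on `V ×_Z T_a`. -/
noncomputable def sg (a : K) (k : ℕ) (V : Z.Etale) :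
    ((EtCoh.bc (τ a)).obj V).left ⟶ ((EtCoh.bc (τ a)).obj V).left :=
  mV (it (D.σa a) k) (it_comp_eq _ _ (D.hστ a) k) V

@[reassoc (attr := simp)]
theorem sg_fst (a : K) (k : ℕ) (V : Z.Etale) : sg D a k V ≫ bcFst (τ a) V = bcFst (τ a) V := mV_fst _ _ _

@[reassoc (attr := simp)]
theorem sg_hom (a : K) (k : ℕ) (V : Z.Etale) :
    sg D a k V ≫ ((EtCoh.bc (τ a)).obj V).hom = ((EtCoh.bc (τ a)).obj V).hom ≫ it (D.σa a) k :=
  mV_hom _ _ _

theorem sg_w (a : K) (k : ℕ) (V : Z.Etale) : sg D a k V ≫ pc (τ a) V = pc (τ a) V := mV_w _ _ _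

theorem sg_zero (a : K) (V : Z.Etale) : sg D a 0 V = 𝟙 _ := by
  apply hom_ext_bc
  · rw [sg_fst, Category.id_comp]
  · rw [sg_hom, it_zero]
    exact (Category.comp_id _).trans (Category.id_comp _).symm

theorem sg_N (a : K) (V : Z.Etale) : sg D a (D.N a) V = 𝟙 _ := by
  apply hom_ext_bc
  · rw [sg_fst, Category.id_comp]
  · rw [sg_hom, D.ord]
    exact (Category.comp_id _).trans (Category.id_comp _).symm

theorem sg_add (a : K) (k l : ℕ) (V : Z.Etale) : sg D a (k + l) V = sg D a k V ≫ sg D a l V := by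
  apply hom_ext_bc
  · rw [sg_fst, Category.assoc, sg_fst, sg_fst]
  · rw [sg_hom, Category.assoc, sg_hom, sg_hom_assoc, it_add]

theorem sg_comm {a b : K} (f : b ⟶ a) (k : ℕ) (V : Z.Etale) :
    sg D b k V ≫ mV (T.map f) (D.hτ f) V = mV (T.map f) (D.hτ f) V ≫ sg D a k V := by
  apply hom_ext_bc
  · rw [Category.assoc, mV_fst, sg_fst, Category.assoc, sg_fst, mV_fst]
  · rw [Category.assoc, mV_hom, sg_hom_assoc, Category.assoc, sg_hom, mV_hom_assoc,
      it_comm _ _ (T.map f) (D.hσT f) k]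

/-- The action of `σ` and the projections. -/
theorem mV_σ (a : K) (V : Z.Etale) : mV D.σ D.hσt V ≫ mV (c.π.app a) (D.ht a) V =
    mV (c.π.app a) (D.ht a) V ≫ sg D a 1 V := by
  apply hom_ext_bc
  · rw [Category.assoc, mV_fst, mV_fst, Category.assoc, sg_fst, mV_fst]
  · rw [Category.assoc, mV_hom, mV_hom_assoc, Category.assoc, sg_hom, mV_hom_assoc, D.hσ, it_succ,
      it_zero, Category.id_comp]

theorem mV_π {a b : K} (f : b ⟶ a) (V : Z.Etale) :
    mV (c.π.app b) (D.ht b) V ≫ mV (T.map f) (D.hτ f) V = mV (c.π.app a) (D.ht a) V := by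
  apply hom_ext_bc
  · rw [Category.assoc, mV_fst, mV_fst, mV_fst]
  · rw [Category.assoc, mV_hom, mV_hom_assoc, mV_hom, c.w]

/-- Invariant sections come from below. -/
theorem exists_of_invariant {V : Z.Etale} [IsAffine V.left] (s : EtCoh.sect (AA t F) V)
    (hs : (tau F D.σ D.hσt).hom.app (op V) s = s) :
    ∃ s₀ : EtCoh.sect F V, ((EtCoh.pullPushAdj t).unit.app F).hom.app (op V) s₀ = s := by
  obtain ⟨a, v, hv, hr⟩ := exists_level D F (vv t F V s) (vv_isLoc t F s)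
  have := D.et a
  -- invariance at level `a`
  have h1 : v.res (sg D a 1 V) (sg_w D a 1 V) = v := by
    refine res_injective (mV (c.π.app a) (D.ht a) V) (mV_w _ _ V) (exists_lift_a D a V) ?_
    have h2 := congrArg (vv t F V) hs
    rw [vv_tau, ← hr, Fam.res_res] at h2
    refine Eq.trans ?_ h2
    dsimp only
    rw [Fam.res_res]
    exact Fam.res_congr _ _ (mV_σ D a V).symm
  have h3 : ∀ k, v.res (sg D a k V) (sg_w D a k V) = v := by
    intro k
    induction k with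
    | zero =>
      have h4 : v.res (sg D a 0 V) (sg_w D a 0 V) = v.res (𝟙 _) (Category.id_comp _) :=
        Fam.res_congr v _ (sg_zero D a V)
      rw [h4, res_id]
    | succ k ih =>
      have h4 : v.res (sg D a (k + 1) V) (sg_w D a (k + 1) V) =
          (v.res (sg D a 1 V) (sg_w D a 1 V)).res (sg D a k V) (sg_w D a k V) := by
        rw [Fam.res_res]
        exact Fam.res_congr v _ (sg_add D a k 1 V)
      rw [h4, h1, ih]
  -- values on the fibres
  have h5 : ∀ (Ω : Type u) [Field Ω] [IsSepClosed Ω] (m m' : Spec (.of Ω) ⟶ ((EtCoh.bc (τ a)).obj V).left)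
      (_ : m ≫ bcFst (τ a) V = m' ≫ bcFst (τ a) V) (ξ : Spec (.of Ω) ⟶ Z) (h : m ≫ pc (τ a) V = ξ)
      (h' : m' ≫ pc (τ a) V = ξ), v Ω m ξ h = v Ω m' ξ h' := by
    intro Ω _ _ m m' hmm ξ h h'
    obtain ⟨k, -, hk⟩ := D.trans a Ω (m ≫ ((EtCoh.bc (τ a)).obj V).hom)
      (m' ≫ ((EtCoh.bc (τ a)).obj V).hom) (by
        rw [Category.assoc, Category.assoc]
        exact h.trans h'.symm)
    have h6 : m' = m ≫ sg D a k V := by
      apply hom_ext_bc
      · rw [Category.assoc, sg_fst, hmm]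
      · rw [Category.assoc, sg_hom, hk, Category.assoc]
    subst h6
    exact (Fam.congr_fun (h3 k) m h).symm
  choose lf hlf using fun (Ω : Type u) (i1 : Field Ω) (i2 : IsSepClosed Ω) (l : Spec (.of Ω) ⟶ V.left) =>
    exists_lift_Va D a V Ω l
  have hw : ∀ (Ω : Type u) [i1 : Field Ω] [i2 : IsSepClosed Ω] (l : Spec (.of Ω) ⟶ V.left)
      (ξ : Spec (.of Ω) ⟶ Z) (_ : l ≫ V.hom = ξ), lf Ω i1 i2 l ≫ pc (τ a) V = ξ := by
    intro Ω i1 i2 l ξ hl
    rw [← fst_hom, ← Category.assoc, hlf, hl]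
  let w : Fam F V.hom := fun Ω i1 i2 l ξ hl => v Ω (lf Ω i1 i2 l) ξ (hw Ω l ξ hl)
  have hwv : w.res (bcFst (τ a) V) (fst_hom (τ a) V) = v := by
    ext Ω i1 i2 m ξ hm
    exact h5 Ω _ m (hlf _ _ _ _) ξ _ hm
  have hwl : IsLoc w := by
    refine isLoc_of_etale fun z => ?_
    obtain ⟨Ω, i1, i2, l, rfl⟩ := exists_geomPoint V.left z
    have he : Etale (bcFst (τ a) V) := MorphismProperty.pullback_fst _ _ (D.et a)
    refine ⟨_, bcFst (τ a) V, he, lf Ω i1 i2 l default, ?_, ?_⟩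
    · rw [← Scheme.Hom.comp_apply, hlf]
    · have h7 : w.res (bcFst (τ a) V) rfl = v.res (𝟙 _) (by
          rw [Category.id_comp]; exact (fst_hom (τ a) V).symm) := by
        rw [← hwv, Fam.res_res]
        exact Fam.res_congr _ _ (Category.id_comp _).symm
      rw [h7]
      exact hv.res _ _
  obtain ⟨s₀, hs₀⟩ := exists_sect w hwl
  refine ⟨s₀, vv_injective t F V ?_⟩
  rw [vv_unit, hs₀, ← hr, ← hwv, Fam.res_res]
  exact Fam.res_congr _ _ (mV_fst _ _ V).symm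

omit D in
theorem sum_periodic {M : Type*} [AddCommGroup M] (g : ℕ → M) (N r : ℕ) (hp : ∀ j, g (j + N) = g j) :
    ∑ j ∈ Finset.range (N * r), g j = r • ∑ j ∈ Finset.range N, g j := by
  have hp' : ∀ r j, g (N * r + j) = g j := by
    intro r
    induction r with
    | zero => simp
    | succ r ih =>
      intro j
      rw [show N * (r + 1) + j = (N * r + j) + N by ring, hp, ih]
  induction r with
  | zero => simp
  | succ r ih =>
    rw [Nat.mul_succ, Finset.sum_range_add, ih, succ_nsmul]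
    congr 1
    exact Finset.sum_congr rfl fun j _ => hp' r j

omit D in
theorem nsmul_fam {X Y : Scheme.{u}} {q : Y ⟶ X} {G : EtCoh.Ab X} (hG : EtCoh.KilledBy n G)
    (v : Fam G q) : n • v = 0 := by
  ext Ω _ _ l ξ hl
  change n • (v Ω l ξ hl) = 0
  obtain ⟨U, m, hm, s, hs⟩ := exists_germ G (v Ω l ξ hl)
  rw [← hs]
  have h1 : germ G m hm (n • s) = n • germ G m hm s := map_nsmul (germ G m hm).hom n s
  rw [← h1, hG U s]
  exact map_zero (germ G m hm).hom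

/-- Partial sums over the orbit. -/
noncomputable def S (a : K) (V : Z.Etale) (v : Fam F (pc (τ a) V)) (k : ℕ) : Fam F (pc (τ a) V) :=
  ∑ j ∈ Finset.range k, v.res (sg D a j V) (sg_w D a j V)

theorem S_isLoc (a : K) (V : Z.Etale) (v : Fam F (pc (τ a) V)) (hv : IsLoc v) (k : ℕ) :
    IsLoc (S D F a V v k) := isLoc_sum _ _ fun _ _ => hv.res _ _

theorem S_succ (a : K) (V : Z.Etale) (v : Fam F (pc (τ a) V)) (k : ℕ) :
    S D F a V v (k + 1) = S D F a V v k + v.res (sg D a k V) (sg_w D a k V) :=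
  Finset.sum_range_succ _ _

theorem S_zero (a : K) (V : Z.Etale) (v : Fam F (pc (τ a) V)) : S D F a V v 0 = 0 :=
  Finset.sum_range_zero _

theorem S_N (hF : EtCoh.KilledBy n F) {a b : K} (f : b ⟶ a) (V : Z.Etale) (v : Fam F (pc (τ a) V)) (r : ℕ)
    (hr : D.N b = D.N a * r) (hn : n ∣ r) :
    S D F b V (v.res (mV (T.map f) (D.hτ f) V) (mV_w _ _ V)) (D.N b) = 0 := by
  have h1 : S D F b V (v.res (mV (T.map f) (D.hτ f) V) (mV_w _ _ V)) (D.N b) =
      resHom (F := F) (mV (T.map f) (D.hτ f) V) (mV_w _ _ V)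
        (∑ j ∈ Finset.range (D.N b), v.res (sg D a j V) (sg_w D a j V)) := by
    rw [map_sum]
    refine Finset.sum_congr rfl fun j _ => ?_
    change _ = (v.res (sg D a j V) (sg_w D a j V)).res (mV (T.map f) (D.hτ f) V) (mV_w _ _ V)
    rw [Fam.res_res, Fam.res_res]
    exact Fam.res_congr _ _ (sg_comm D f j V)
  have h2 : ∑ j ∈ Finset.range (D.N b), v.res (sg D a j V) (sg_w D a j V) = 0 := by
    rw [hr, sum_periodic]
    · obtain ⟨m, rfl⟩ := hn
      rw [mul_comm, mul_smul, nsmul_fam hF, smul_zero]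
    · intro j
      refine Fam.res_congr v _ ?_
      rw [sg_add, sg_N, Category.comp_id]
  rw [h1, h2, map_zero]

/-- `V ×_Z T_b` as an étale `Z`-scheme. -/
noncomputable def WW (b : K) (V : Z.Etale) : Z.Etale :=
  haveI := D.et b
  haveI : Etale (bcFst (τ b) V) := MorphismProperty.pullback_fst _ _ (D.et b)
  Scheme.Etale.mk (bcFst (τ b) V ≫ V.hom)

theorem WW_hom (b : K) (V : Z.Etale) : (WW D b V).hom = pc (τ b) V := fst_hom (τ b) V

/-- `V ×_Z T_b ⟶ V`. -/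
noncomputable def ww (b : K) (V : Z.Etale) : WW D b V ⟶ V := etHom (bcFst (τ b) V) rfl

/-- The first projection `(V ×_Z T_b) ×_Z T_b ⟶ V ×_Z T_b`. -/
noncomputable def y0 (b : K) (V : Z.Etale) :
    ((EtCoh.bc (τ b)).obj (WW D b V)).left ⟶ ((EtCoh.bc (τ b)).obj V).left := bcFst (τ b) (WW D b V)

theorem y0_w (b : K) (V : Z.Etale) : y0 D b V ≫ pc (τ b) V = pc (τ b) (WW D b V) := by
  rw [← WW_hom D b V]
  exact fst_hom (τ b) (WW D b V)

theorem exists_kk (b : K) (V : Z.Etale) (Ω : Type u) [Field Ω] [IsSepClosed Ω]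
    (y : Spec (.of Ω) ⟶ ((EtCoh.bc (τ b)).obj (WW D b V)).left) :
    ∃ k < D.N b, y ≫ ((EtCoh.bc (τ b)).obj (WW D b V)).hom =
      (y ≫ y0 D b V ≫ ((EtCoh.bc (τ b)).obj V).hom) ≫ it (D.σa b) k := by
  refine D.trans b Ω _ _ ?_
  have h1 := y0_w D b V
  rw [pc, pc] at h1
  rw [Category.assoc, Category.assoc, Category.assoc, h1]

/-- The orbit index. -/
noncomputable def kk (b : K) (V : Z.Etale) (Ω : Type u) [Field Ω] [IsSepClosed Ω]
    (y : Spec (.of Ω) ⟶ ((EtCoh.bc (τ b)).obj (WW D b V)).left) : ℕ := (exists_kk D b V Ω y).choose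

theorem kk_lt (b : K) (V : Z.Etale) (Ω : Type u) [Field Ω] [IsSepClosed Ω]
    (y : Spec (.of Ω) ⟶ ((EtCoh.bc (τ b)).obj (WW D b V)).left) : kk D b V Ω y < D.N b :=
  (exists_kk D b V Ω y).choose_spec.1

theorem kk_spec (b : K) (V : Z.Etale) (Ω : Type u) [Field Ω] [IsSepClosed Ω]
    (y : Spec (.of Ω) ⟶ ((EtCoh.bc (τ b)).obj (WW D b V)).left) :
    y ≫ ((EtCoh.bc (τ b)).obj (WW D b V)).hom =
      (y ≫ y0 D b V ≫ ((EtCoh.bc (τ b)).obj V).hom) ≫ it (D.σa b) (kk D b V Ω y) :=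
  (exists_kk D b V Ω y).choose_spec.2

theorem kk_eq (b : K) (V : Z.Etale) (Ω : Type u) [Field Ω] [IsSepClosed Ω]
    (y : Spec (.of Ω) ⟶ ((EtCoh.bc (τ b)).obj (WW D b V)).left) (k : ℕ) (hk : k < D.N b)
    (h : y ≫ ((EtCoh.bc (τ b)).obj (WW D b V)).hom =
      (y ≫ y0 D b V ≫ ((EtCoh.bc (τ b)).obj V).hom) ≫ it (D.σa b) k) : kk D b V Ω y = k :=
  D.free b Ω _ _ _ (kk_lt D b V Ω y) hk ((kk_spec D b V Ω y).symm.trans h)

/-- The primitive, as a family. -/
noncomputable def uu (b : K) (V : Z.Etale) (v : Fam F (pc (τ b) V)) : Fam F (pc (τ b) (WW D b V)) :=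
  fun Ω _ _ y ξ h => S D F b V v (kk D b V Ω y) Ω (y ≫ y0 D b V) ξ (by rw [Category.assoc, y0_w, h])

/-- The graph of `σ^k`. -/
noncomputable def γ (b : K) (V : Z.Etale) (k : ℕ) :
    ((EtCoh.bc (τ b)).obj V).left ⟶ ((EtCoh.bc (τ b)).obj (WW D b V)).left :=
  pullback.lift (𝟙 _) (((EtCoh.bc (τ b)).obj V).hom ≫ it (D.σa b) k)
    (by rw [Category.assoc, it_comp_eq _ _ (D.hστ b) k, WW_hom]; exact Category.id_comp _)

theorem γ_y0 (b : K) (V : Z.Etale) (k : ℕ) : γ D b V k ≫ y0 D b V = 𝟙 _ := pullback.lift_fst _ _ _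

theorem γ_hom (b : K) (V : Z.Etale) (k : ℕ) : γ D b V k ≫ ((EtCoh.bc (τ b)).obj (WW D b V)).hom =
    ((EtCoh.bc (τ b)).obj V).hom ≫ it (D.σa b) k := pullback.lift_snd _ _ _

theorem γ_w (b : K) (V : Z.Etale) (k : ℕ) : γ D b V k ≫ pc (τ b) (WW D b V) = pc (τ b) V := by
  rw [← y0_w, ← Category.assoc, γ_y0, Category.id_comp]

theorem etale_γ (b : K) (V : Z.Etale) (k : ℕ) : Etale (γ D b V k) := by
  have h1 : Etale (y0 D b V) := MorphismProperty.pullback_fst _ _ (D.et b)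
  have h2 : Etale (γ D b V k ≫ y0 D b V) := by
    rw [γ_y0]
    infer_instance
  exact Etale.of_comp (γ D b V k) (y0 D b V)

theorem uu_γ (b : K) (V : Z.Etale) (v : Fam F (pc (τ b) V)) (k : ℕ) (hk : k < D.N b) :
    (uu D F b V v).res (γ D b V k) (γ_w D b V k) = S D F b V v k := by
  ext Ω _ _ l ξ hl
  have h2 : (l ≫ γ D b V k) ≫ y0 D b V = l := by
    rw [Category.assoc, γ_y0, Category.comp_id]
  have h1 : kk D b V Ω (l ≫ γ D b V k) = k := by
    refine kk_eq D b V Ω _ k hk ?_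
    have h3 : (l ≫ γ D b V k) ≫ y0 D b V ≫ ((EtCoh.bc (τ b)).obj V).hom =
        l ≫ ((EtCoh.bc (τ b)).obj V).hom :=
      (Category.assoc _ _ _).symm.trans (congrArg (· ≫ ((EtCoh.bc (τ b)).obj V).hom) h2)
    rw [h3, Category.assoc, γ_hom]
    exact (Category.assoc _ _ _).symm
  change S D F b V v (kk D b V Ω (l ≫ γ D b V k)) Ω ((l ≫ γ D b V k) ≫ y0 D b V) ξ _ = _
  rw [h1]
  exact Fam.congr _ h2 _

theorem uu_isLoc (b : K) (V : Z.Etale) (v : Fam F (pc (τ b) V)) (hv : IsLoc v) : IsLoc (uu D F b V v) := by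
  refine isLoc_of_etale fun z => ?_
  obtain ⟨Ω, i1, i2, y, rfl⟩ := exists_geomPoint _ z
  have hy : (y ≫ y0 D b V) ≫ γ D b V (kk D b V Ω y) = y := by
    apply hom_ext_bc
    · have := γ_y0 D b V (kk D b V Ω y)
      rw [Category.assoc]
      change (y ≫ y0 D b V) ≫ γ D b V (kk D b V Ω y) ≫ y0 D b V = y ≫ y0 D b V
      rw [this, Category.comp_id]
    · rw [Category.assoc, γ_hom, kk_spec D b V Ω y, Category.assoc, Category.assoc, Category.assoc]
  refine ⟨_, γ D b V (kk D b V Ω y), etale_γ D b V _, (y ≫ y0 D b V) default, ?_, ?_⟩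
  · rw [← Scheme.Hom.comp_apply, hy]
  · have h1 := (S_isLoc D F b V v hv (kk D b V Ω y)).res (𝟙 _)
      (show 𝟙 _ ≫ pc (τ b) V = γ D b V (kk D b V Ω y) ≫ pc (τ b) (WW D b V) by
        rw [Category.id_comp, γ_w])
    rw [← uu_γ D F b V v _ (kk_lt D b V Ω y), Fam.res_res] at h1
    have h2 := Fam.res_congr (uu D F b V v) (r := 𝟙 _ ≫ γ D b V (kk D b V Ω y))
      (r' := γ D b V (kk D b V Ω y)) (by rw [Category.id_comp]) (Category.id_comp _)
    rw [h2] at h1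
    exact h1

theorem bcmap_ww (b : K) (V : Z.Etale) (Ω : Type u) [Field Ω] [IsSepClosed Ω]
    (y : Spec (.of Ω) ⟶ ((EtCoh.bc (τ b)).obj (WW D b V)).left) :
    y ≫ ((EtCoh.bc (τ b)).map (ww D b V)).left = (y ≫ y0 D b V) ≫ sg D b (kk D b V Ω y) V := by
  apply hom_ext_bc
  · rw [Category.assoc, bc_map_fst, Category.assoc, sg_fst]
    exact (Category.assoc y (y0 D b V) (bcFst (τ b) V)).symm
  · have h3 : (y ≫ y0 D b V) ≫ ((EtCoh.bc (τ b)).obj V).hom =
        y ≫ y0 D b V ≫ ((EtCoh.bc (τ b)).obj V).hom := Category.assoc _ _ _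
    rw [Category.assoc, bc_map_hom, kk_spec D b V Ω y, Category.assoc (y ≫ y0 D b V), sg_hom, ← h3]
    exact Category.assoc _ _ _

theorem sg_y0 (b : K) (V : Z.Etale) (k : ℕ) : sg D b k (WW D b V) ≫ y0 D b V = y0 D b V :=
  sg_fst D b k (WW D b V)

theorem kk_sg (b : K) (V : Z.Etale) (Ω : Type u) [Field Ω] [IsSepClosed Ω]
    (y : Spec (.of Ω) ⟶ ((EtCoh.bc (τ b)).obj (WW D b V)).left) (j : ℕ) (hj : j < D.N b)
    (h : it (D.σa b) j = it (D.σa b) (kk D b V Ω y + 1)) :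
    kk D b V Ω (y ≫ sg D b 1 (WW D b V)) = j := by
  refine kk_eq D b V Ω _ j hj ?_
  have h3 : (y ≫ sg D b 1 (WW D b V)) ≫ y0 D b V ≫ ((EtCoh.bc (τ b)).obj V).hom =
      y ≫ y0 D b V ≫ ((EtCoh.bc (τ b)).obj V).hom := by
    rw [Category.assoc]
    exact congrArg (y ≫ ·) ((Category.assoc _ _ _).symm.trans
      (congrArg (· ≫ ((EtCoh.bc (τ b)).obj V).hom) (sg_y0 D b V 1)))
  rw [h3, Category.assoc, sg_hom, ← Category.assoc, kk_spec D b V Ω y, h, it_add, Category.assoc]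

theorem uu_diff (hF : EtCoh.KilledBy n F) {a b : K} (f : b ⟶ a) (V : Z.Etale) (v' : Fam F (pc (τ a) V))
    (r : ℕ) (hr : D.N b = D.N a * r) (hn : n ∣ r) :
    (uu D F b V (v'.res (mV (T.map f) (D.hτ f) V) (mV_w _ _ V))).res (sg D b 1 (WW D b V))
      (sg_w D b 1 _) - uu D F b V (v'.res (mV (T.map f) (D.hτ f) V) (mV_w _ _ V)) =
    (v'.res (mV (T.map f) (D.hτ f) V) (mV_w _ _ V)).res ((EtCoh.bc (τ b)).map (ww D b V)).left
      (bcmap_w (τ b) (ww D b V)) := by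
  set v := v'.res (mV (T.map f) (D.hτ f) V) (mV_w _ _ V) with hv
  have hSN : S D F b V v (D.N b) = 0 := S_N D F hF f V v' r hr hn
  ext Ω _ _ y ξ hy
  have hy' : (y ≫ y0 D b V) ≫ pc (τ b) V = ξ := by rw [Category.assoc, y0_w, hy]
  have h0 : (y ≫ sg D b 1 (WW D b V)) ≫ y0 D b V = y ≫ y0 D b V := by
    rw [Category.assoc, sg_y0]
  have h1 : (uu D F b V v).res (sg D b 1 (WW D b V)) (sg_w D b 1 _) Ω y ξ hy =
      S D F b V v (kk D b V Ω y + 1) Ω (y ≫ y0 D b V) ξ hy' := by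
    change S D F b V v (kk D b V Ω (y ≫ sg D b 1 (WW D b V))) Ω
      ((y ≫ sg D b 1 (WW D b V)) ≫ y0 D b V) ξ _ = _
    rcases Nat.lt_or_ge (kk D b V Ω y + 1) (D.N b) with h | h
    · rw [kk_sg D b V Ω y _ h rfl]
      exact Fam.congr _ h0 _
    · have h2 : kk D b V Ω y + 1 = D.N b := le_antisymm (kk_lt D b V Ω y) h
      rw [kk_sg D b V Ω y 0 (D.N_pos b) (by rw [h2, D.ord]; rfl), h2, hSN, S_zero]
      rfl
  have h2 : uu D F b V v Ω y ξ hy = S D F b V v (kk D b V Ω y) Ω (y ≫ y0 D b V) ξ hy' := rfl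
  have h3 : v.res ((EtCoh.bc (τ b)).map (ww D b V)).left (bcmap_w (τ b) (ww D b V)) Ω y ξ hy =
      v.res (sg D b (kk D b V Ω y) V) (sg_w D b _ V) Ω (y ≫ y0 D b V) ξ hy' :=
    Fam.congr _ (bcmap_ww D b V Ω y) _
  rw [sub_apply, h1, h2, h3, S_succ, add_apply, add_sub_cancel_left]

/-- Every section is, locally, `(σ - 1) t`. -/
theorem exists_primitive (hF : EtCoh.KilledBy n F) {V : Z.Etale} [IsAffine V.left]
    (s : EtCoh.sect (AA t F) V) (x : V.left) :
    ∃ (V' : Z.Etale) (g : V' ⟶ V) (x' : V'.left) (t' : EtCoh.sect (AA t F) V'), g.left x' = x ∧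
      (tau F D.σ D.hσt - 𝟙 (AA t F)).hom.app (op V') t' = (AA t F).obj.map g.op s := by
  obtain ⟨a, v', hv', hr'⟩ := exists_level D F (vv t F V s) (vv_isLoc t F s)
  obtain ⟨b, f, r, hr, hn⟩ := D.grow a
  have := D.et b
  have := D.surj b
  set v := v'.res (mV (T.map f) (D.hτ f) V) (mV_w _ _ V) with hv
  have hvloc : IsLoc v := hv'.res _ _
  have huloc := uu_isLoc D F b V v hvloc
  obtain ⟨t', ht'⟩ := exists_vv t F (V := WW D b V)
    ((uu D F b V v).res (mV (c.π.app b) (D.ht b) (WW D b V)) (mV_w _ _ _)) (huloc.res _ _)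
  have hsurj : Surjective (bcFst (τ b) V) := MorphismProperty.pullback_fst _ _ (D.surj b)
  obtain ⟨x', hx'⟩ := (bcFst (τ b) V).surjective x
  refine ⟨WW D b V, ww D b V, x', t', hx', ?_⟩
  apply vv_injective t F (WW D b V)
  have h1 : (tau F D.σ D.hσt - 𝟙 (AA t F)).hom.app (op (WW D b V)) t' =
      (tau F D.σ D.hσt).hom.app (op (WW D b V)) t' - t' := rfl
  have h2 : (v'.res (mV (c.π.app a) (D.ht a) V) (mV_w _ _ V)).res ((EtCoh.bc t).map (ww D b V)).left
        (bcmap_w t (ww D b V)) =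
      (v.res ((EtCoh.bc (τ b)).map (ww D b V)).left (bcmap_w (τ b) (ww D b V))).res
        (mV (c.π.app b) (D.ht b) (WW D b V)) (mV_w _ _ _) := by
    rw [Fam.res_res, Fam.res_res, hv, Fam.res_res]
    refine Fam.res_congr _ _ ?_
    have e1 := mV_bcmap (c.π.app b) (D.ht b) (ww D b V)
    have e2 := mV_π D f V
    calc ((EtCoh.bc t).map (ww D b V)).left ≫ mV (c.π.app a) (D.ht a) V
        = ((EtCoh.bc t).map (ww D b V)).left ≫ mV (c.π.app b) (D.ht b) V ≫ mV (T.map f) (D.hτ f) V :=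
          congrArg (((EtCoh.bc t).map (ww D b V)).left ≫ ·) e2.symm
      _ = (((EtCoh.bc t).map (ww D b V)).left ≫ mV (c.π.app b) (D.ht b) V) ≫ mV (T.map f) (D.hτ f) V :=
          (Category.assoc _ _ _).symm
      _ = (mV (c.π.app b) (D.ht b) (WW D b V) ≫ ((EtCoh.bc (τ b)).map (ww D b V)).left) ≫
            mV (T.map f) (D.hτ f) V := congrArg (· ≫ mV (T.map f) (D.hτ f) V) e1.symm
      _ = _ := Category.assoc _ _ _
  rw [h1, map_sub, vv_tau, vv_map, ht', ← hr', h2, ← uu_diff D F hF f V v' r hr hn, res_sub,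
    Fam.res_res, Fam.res_res]
  congr 1
  exact Fam.res_congr _ _ (mV_σ D b (WW D b V))

omit D in
/-- Affine neighbourhoods in the small étale site. -/
theorem exists_affine (V : Z.Etale) (x : V.left) :
    ∃ (V' : Z.Etale) (g : V' ⟶ V) (x' : V'.left), g.left x' = x ∧ IsAffine V'.left := by
  obtain ⟨_, ⟨U, hU, rfl⟩, hxU, -⟩ :=
    V.left.isBasis_affineOpens.exists_subset_of_mem_open (Set.mem_univ x) isOpen_univ
  exact ⟨Scheme.Etale.mk (Scheme.Opens.ι U ≫ V.hom), etHom (Scheme.Opens.ι U) rfl, ⟨x, hxU⟩, rfl, hU⟩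

theorem comp_zero : (EtCoh.pullPushAdj t).unit.app F ≫ (tau F D.σ D.hσt - 𝟙 (AA t F)) = 0 := by
  rw [Preadditive.comp_sub, unit_tau]
  exact sub_eq_zero.2 (Category.comp_id _).symm

/-- The short exact sequence of a procyclic cover. -/
noncomputable abbrev seq : ShortComplex (EtCoh.Ab Z) := ShortComplex.mk _ _ (comp_zero D F)

theorem shortExact (hF : EtCoh.KilledBy n F) : (seq D F).ShortExact := by
  have hm : Mono (seq D F).f := mono_unit D F
  have he : Epi (seq D F).g := by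
    refine epi_of_loc _ fun V s x => ?_
    obtain ⟨V₁, g₁, x₁, hx₁, hV₁⟩ := exists_affine V x
    obtain ⟨V₂, g₂, x₂, t', hx₂, ht'⟩ := exists_primitive D F hF (V := V₁) ((AA t F).obj.map g₁.op s) x₁
    refine ⟨V₂, g₂ ≫ g₁, x₂, t', ?_, ?_⟩
    · change g₁.left (g₂.left x₂) = x
      rw [hx₂, hx₁]
    · refine ht'.trans ?_
      change _ = (AA t F).obj.map (g₂ ≫ g₁).op s
      rw [op_comp, Functor.map_comp]
      rfl
  have hx : (seq D F).Exact := by
    refine exact_of_loc _ _ (comp_zero D F) fun V s hs x => ?_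
    obtain ⟨V₁, g₁, x₁, hx₁, hV₁⟩ := exists_affine V x
    have h0 : (tau F D.σ D.hσt).hom.app (op V) s = s := sub_eq_zero.1 hs
    have h1 : (tau F D.σ D.hσt).hom.app (op V₁) ((AA t F).obj.map g₁.op s) = (AA t F).obj.map g₁.op s := by
      have h2 := ConcreteCategory.congr_hom ((tau F D.σ D.hσt).hom.naturality g₁.op) s
      refine h2.trans ?_
      change (AA t F).obj.map g₁.op ((tau F D.σ D.hσt).hom.app (op V) s) = _
      rw [h0]
    obtain ⟨s₀, hs₀⟩ := exists_of_invariant D F (V := V₁) _ h1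
    exact ⟨V₁, g₁, x₁, s₀, hx₁, hs₀⟩
  exact ⟨hx⟩

end

end Groth.Agent.Sga4h.SigmaSeq
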