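import Groth.Agent.Sga4h.TBGen
import Groth.Agent.Sga4h.ExtFree
import Groth.Agent.Etrest.ModEtLoc
import Groth.Agent.Etrest.ModCons

/-!
# A constructible sheaf of `Λ`-modules embeds in a finite sum of sheaves `p_* M`

`M` a finitely generated `Λ`-module, `p : V ⟶ X` of finite type, `V` affine, `X` Noetherian.
-/

set_option autoImplicit false
universe u

open CategoryTheory CategoryTheory.Limits AlgebraicGeometry Opposite Topology

namespace Groth.Agent.Sga4h.TBCoGen

open Groth.Agent.Etcore Groth.Agent.Etcore.LVan Groth.Agent.Etcore.LPull Groth.Agent.Etcore.LPullComp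
open Groth.Agent.Sga4h.LVanExact Groth.Agent.EtpbcA.OverSite
open Groth.Agent.EtpbcA.ConsPull (fstBc fst_bc_map_apply exists_bc_point)

variable {Λ : Type (u + 1)} [CommRing Λ] {X : Scheme.{u}} {F : EtModW.Mod Λ X}

/-- The inverse image of a constant sheaf along an étale morphism. -/
noncomputable def pullConst {V Y : Scheme.{u}} (p : V ⟶ Y) [Etale p] (M : Type (u + 1)) [AddCommGroup M]
    [Module Λ M] : (EtModW.pull Λ p).obj (EtModW.constMod Λ Y M) ≅ EtModW.constMod Λ V M :=
  (ExtFree.pullIsoRes p).app _ ≪≫ ModRestr.resConst Λ p M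

/-- A chart of a constructible sheaf. -/
theorem exists_chart (hF : EtModW.IsConstructible Λ F) (x : X) :
    ∃ (V : Scheme.{u}) (p : V ⟶ X) (_ : IsAffine V) (_ : LocallyOfFiniteType p) (M : Type (u + 1))
      (_ : AddCommGroup M) (_ : Module Λ M) (_ : Module.Finite Λ M),
      x ∈ Set.range p ∧ Nonempty ((EtModW.pull Λ p).obj F ≅ EtModW.constMod Λ V M) := by
  obtain ⟨W, hxW, T, g, h1, h2, ⟨t, ht⟩, h3, h4⟩ := (Etrest.ModCons.isConstructible_iff_local F).1 hF x
  obtain ⟨ι, U, hU, h5⟩ := (Etrest.ModEtLoc.isFTLC_iff_pull _).1 h4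
  obtain ⟨i, y, hy⟩ := hU t
  obtain ⟨M, _, _, _, ⟨e⟩⟩ := h5 i
  obtain ⟨V, hV, hyV, -⟩ := exists_isAffineOpen_mem_and_subset (X := (U i).left)
    (U := (⊤ : (U i).left.Opens)) (x := y) (by trivial)
  refine ⟨V.toScheme, V.ι ≫ (str (U i)) ≫ g, hV, inferInstance, M, inferInstance, inferInstance,
    inferInstance, ⟨⟨y, hyV⟩, ?_⟩, ⟨?_⟩⟩
  · change g ((str (U i)) (V.ι ⟨y, hyV⟩)) = x
    rw [← ht]
    exact congrArg g hy
  · exact ((pullComp Λ V.ι ((str (U i)) ≫ g)).app F).symm ≪≫
      (EtModW.pull Λ V.ι).mapIso (((pullComp Λ (str (U i)) g).app F).symm ≪≫ e) ≪≫ pullConst V.ι M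

theorem isConstructible_range [IsLocallyNoetherian X] [CompactSpace X] {V : Scheme.{u}} [IsAffine V]
    (p : V ⟶ X) [LocallyOfFiniteType p] : IsConstructible (Set.range p) := by
  have h0 : LocallyOfFinitePresentation p := inferInstance
  have h1 : QuasiCompact p := quasiCompact_of_compactSpace p
  rw [← Set.image_univ]
  exact p.isConstructible_image IsConstructible.univ

/-- If `η s` vanishes, `s` vanishes near the points of the image. -/
theorem van_of_eta {V : Scheme.{u}} (p : V ⟶ X) {U : X.Etale} (s : EtModW.sect Λ F U) (x : U.left)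
    (hx : U.hom x ∈ Set.range p) (h : eta p F U s = 0) : Van F s x := by
  obtain ⟨v, hv⟩ := hx
  obtain ⟨z, hz1, hz2⟩ := Scheme.Pullback.exists_preimage_pullback (f := U.hom) (g := p) x v hv.symm
  have h1 : fstBc p U z = x := hz1
  rw [← h1]
  exact (van_eta_iff p F s z).1 (van_zero_of_eq h z)

/-- A constructible sheaf embeds into a finite sum of sheaves `p_* M`. -/
theorem exists_mono [IsLocallyNoetherian X] [CompactSpace X]
    (P : EtModW.Mod Λ X → Prop) (h0 : ∀ A, IsZero A → P A) (hadd : ∀ A B, P A → P B → P (A ⊞ B))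
    (hiso : ∀ A B, Nonempty (A ≅ B) → P A → P B)
    (hP : ∀ (V : Scheme.{u}) (p : V ⟶ X), IsAffine V → LocallyOfFiniteType p →
      ∀ (M : Type (u + 1)) [AddCommGroup M] [Module Λ M] [Module.Finite Λ M],
        P ((EtModW.push Λ p).obj (EtModW.constMod Λ V M)))
    (hF : EtModW.IsConstructible Λ F) :
    ∃ (A : EtModW.Mod Λ X) (_ : P A) (α : F ⟶ A), Mono α := by
  choose V p hV hp M i1 i2 i3 hx e using exists_chart hF
  obtain ⟨t, ht⟩ := EtpbcA.ConstrTop.finite_subcover (fun x => (Set.range (p x) : Set X))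
    (fun x => isConstructible_range (p x))
    (Set.eq_univ_iff_forall.2 fun x => Set.mem_iUnion.2 ⟨x, hx x⟩)
  have hPx : ∀ x, P ((EtModW.push Λ (p x)).obj ((EtModW.pull Λ (p x)).obj F)) := fun x =>
    hiso _ _ ⟨(EtModW.push Λ (p x)).mapIso (e x).some.symm⟩ (hP (V x) (p x) (hV x) (hp x) (M x))
  obtain ⟨A, hA, α, h⟩ := TBGen.exists_cosum P h0 hadd t
    (fun x => (EtModW.push Λ (p x)).obj ((EtModW.pull Λ (p x)).obj F)) (fun x _ => hPx x)
    (F := F) (fun x => (pullPushAdj (p x)).unit.app F)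
  refine ⟨A, hA, α, mono_of_van α fun T s v hs => ?_⟩
  have hv := Set.eq_univ_iff_forall.1 ht (T.hom v)
  simp only [Set.mem_iUnion] at hv
  obtain ⟨x, hxt, hxv⟩ := hv
  obtain ⟨β, hβ⟩ := h x hxt
  refine van_of_eta (p x) s v hxv ?_
  have h1 : ev ((pullPushAdj (p x)).unit.app F) T s = 0 := by
    rw [← hβ, ev_comp, hs, map_zero]
  exact h1

end Groth.Agent.Sga4h.TBCoGen
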