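import Groth.Agent.Etrest.FinDev
import Groth.Agent.Etrest.ModCons
import Groth.Agent.EtpbcB.RDerLES
import Groth.Agent.Sga4h.LamSerreFin

/-!
# Dévissage for higher direct images of sheaves of `Λ`-modules

* `hasLES`: long exact sequences of `R^n f_*`;
* `edge`: `R^n (p ≫ g)_* F ∈ P` and `R^a g_* R^b p_* F ∈ P` for `a + b + 1 = n`, `b ≥ 1`, imply
  `R^n g_* (p_* F) ∈ P`, `P` a Serre class;
* `cons Λ X`: the Serre class of constructible sheaves (`X` locally Noetherian, `Λ` Noetherian).
-/

set_option autoImplicit false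
universe u

open CategoryTheory CategoryTheory.Limits AlgebraicGeometry Opposite

namespace Groth.Agent.Sga4h.TBComp

open Groth.Agent.Etrest.FinDev

variable {Λ : Type (u + 1)} [CommRing Λ] {X Y Z : Scheme.{u}}

theorem preservesFiniteLimits_push (f : X ⟶ Y) : PreservesFiniteLimits (EtModW.push Λ f) :=
  have : PreservesLimitsOfSize.{0, 0} (EtModW.push Λ f) :=
    (Etcore.LPull.pullPushAdj f).rightAdjoint_preservesLimits
  PreservesLimitsOfSize.preservesFiniteLimits (EtModW.push Λ f)

attribute [local instance] preservesFiniteLimits_push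

/-- The degree zero higher direct image is the direct image. -/
noncomputable def rpushZero (f : X ⟶ Y) : EtModW.Rpush Λ f 0 ≅ EtModW.push Λ f :=
  (EtModW.push Λ f).rightDerivedZeroIsoSelf

theorem hasLES (f : X ⟶ Y) : HasLES (fun n => EtModW.Rpush Λ f n) where
  mono S hS := by
    have := hS.mono_f
    have h : Mono ((EtModW.push Λ f).map S.f) := inferInstance
    have h2 := (rpushZero f).hom.naturality S.f
    have : Mono ((EtModW.Rpush Λ f 0).map S.f ≫ (rpushZero f).hom.app S.X₂) := by
      rw [h2]; infer_instance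
    exact mono_of_mono _ ((rpushZero f).hom.app S.X₂)
  mid S hS n := EtpbcB.RDerLES.exact₂ (EtModW.push Λ f) hS n
  les S hS n := ⟨EtpbcB.RDerLES.δ (EtModW.push Λ f) hS n, EtpbcB.RDerLES.comp_δ (EtModW.push Λ f) hS n,
    EtpbcB.RDerLES.δ_comp (EtModW.push Λ f) hS n, EtpbcB.RDerLES.exact₃ (EtModW.push Λ f) hS n,
    EtpbcB.RDerLES.exact₁ (EtModW.push Λ f) hS n⟩

theorem injective_push (f : X ⟶ Y) (I : EtModW.Mod Λ X) [Injective I] :
    Injective ((EtModW.push Λ f).obj I) :=
  have : (EtModW.pull Λ f).PreservesMonomorphisms := inferInstance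
  Injective.injective_of_adjoint (Etcore.LPull.pullPushAdj f) I

section

variable (p : X ⟶ Y) (g : Y ⟶ Z) (F : EtModW.Mod Λ X)

/-- The direct image of the injective resolution. -/
noncomputable abbrev res : CochainComplex (EtModW.Mod Λ Y) ℕ :=
  mapCx (EtModW.push Λ p) (injectiveResolution F).cocomplex

noncomputable def resIso (n : ℕ) : (res p F).homology n ≅ (EtModW.Rpush Λ p n).obj F :=
  ((injectiveResolution F).isoRightDerivedObj (EtModW.push Λ p) n).symm

noncomputable def resCompIso (n : ℕ) :
    (mapCx (EtModW.push Λ g) (res p F)).homology n ≅ (EtModW.Rpush Λ (p ≫ g) n).obj F :=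
  (HomologicalComplex.homologyFunctor _ _ n).mapIso
    ((NatIso.mapHomologicalComplex (Etcore.LPullComp.pushComp Λ g p) (ComplexShape.up ℕ)).app
      (injectiveResolution F).cocomplex) ≪≫
    ((injectiveResolution F).isoRightDerivedObj (EtModW.push Λ (p ≫ g)) n).symm

theorem res_acyclic (b n : ℕ) : IsZero ((EtModW.Rpush Λ g (n + 1)).obj ((res p F).X b)) := by
  have : Injective ((res p F).X b) :=
    injective_push p ((injectiveResolution F).cocomplex.X b)
  exact Functor.isZero_rightDerived_obj_injective_succ _ _ _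

variable (P : ObjectProperty (EtModW.Mod Λ Z)) [P.IsSerreClass]

theorem edge (n : ℕ) (hn : P ((EtModW.Rpush Λ (p ≫ g) n).obj F))
    (h : ∀ a b, a + b + 1 = n → 1 ≤ b → P ((EtModW.Rpush Λ g a).obj ((EtModW.Rpush Λ p b).obj F))) :
    P ((EtModW.Rpush Λ g n).obj ((EtModW.push Λ p).obj F)) := by
  refine (P.prop_iff_of_iso ((EtModW.Rpush Λ g n).mapIso (resIso p F 0 ≪≫ (rpushZero p).app F))).1
    (prop_edge (res p F) (hasLES g) P (res_acyclic p g F) (EtModW.push Λ g) (rpushZero g) n
      ((P.prop_iff_of_iso (resCompIso p g F n)).2 hn) ?_)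
  intro a b hab hb
  exact (P.prop_iff_of_iso ((EtModW.Rpush Λ g a).mapIso (resIso p F b))).2 (h a b hab hb)

end

section Cons

variable (Λ X) in
/-- Constructible sheaves. -/
def cons : ObjectProperty (EtModW.Mod Λ X) := fun F => EtModW.IsConstructible Λ F

theorem isSerreClass_cons [IsNoetherianRing Λ] [IsLocallyNoetherian X] : (cons Λ X).IsSerreClass where
  exists_zero := ⟨_, isZero_zero _, LamSerre.isConstructible_of_isZero (isZero_zero _)⟩
  prop_of_mono i _ h := LamSerre.isConstructible_of_mono i h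
  prop_of_epi q _ h := LamSerre.isConstructible_of_epi q h
  prop_X₂_of_shortExact hS h₁ h₃ := LamSerre.isConstructible_of_shortExact _ hS h₁ h₃

end Cons

end Groth.Agent.Sga4h.TBComp
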