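import Groth.Agent.Sga4h.LVanExact
import Groth.Agent.Etcore.LFreePull
import Groth.Agent.Etcore.LSpread

/-!
# A constructible sheaf of `Λ`-modules is a quotient of a finite sum of sheaves `Λ[U]`, `U` affine étale

* `exists_sum`, `exists_cosum` : collecting finitely many maps to (from) an object;
* `exists_epi` : for `F` constructible on a quasi-compact quasi-separated `X`, and a class of sheaves `P`
  containing `0`, the `Λ[U]` and closed under `⊞`, there is an epimorphism `A ⟶ F` with `A ∈ P`.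
-/

set_option autoImplicit false
universe u

open CategoryTheory CategoryTheory.Limits AlgebraicGeometry Opposite Topology

namespace Groth.Agent.Sga4h.TBGen

section Categorical

universe v w

variable {C : Type w} [Category.{v} C] [Preadditive C] [HasBinaryBiproducts C] [HasZeroObject C]

open ZeroObject in
theorem exists_sum (P : C → Prop) (h0 : ∀ A, IsZero A → P A) (hadd : ∀ A B, P A → P B → P (A ⊞ B))
    {ι : Type*} (t : Finset ι) (L : ι → C) (hL : ∀ i ∈ t, P (L i)) {F : C} (a : ∀ i, L i ⟶ F) :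
    ∃ (A : C) (_ : P A) (α : A ⟶ F), ∀ i ∈ t, ∃ β : L i ⟶ A, β ≫ α = a i := by
  classical
  induction t using Finset.induction_on with
  | empty => exact ⟨0, h0 _ (isZero_zero C), 0, by simp⟩
  | @insert j t hj ih =>
    obtain ⟨A, hA, α, h⟩ := ih fun i hi => hL i (Finset.mem_insert_of_mem hi)
    refine ⟨L j ⊞ A, hadd _ _ (hL j (Finset.mem_insert_self _ _)) hA, biprod.desc (a j) α,
      fun i hi => ?_⟩
    rcases Finset.mem_insert.1 hi with rfl | hi
    · exact ⟨biprod.inl, biprod.inl_desc _ _⟩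
    · obtain ⟨β, hβ⟩ := h i hi
      exact ⟨β ≫ biprod.inr, by rw [Category.assoc, biprod.inr_desc, hβ]⟩

open ZeroObject in
theorem exists_cosum (P : C → Prop) (h0 : ∀ A, IsZero A → P A) (hadd : ∀ A B, P A → P B → P (A ⊞ B))
    {ι : Type*} (t : Finset ι) (L : ι → C) (hL : ∀ i ∈ t, P (L i)) {F : C} (a : ∀ i, F ⟶ L i) :
    ∃ (A : C) (_ : P A) (α : F ⟶ A), ∀ i ∈ t, ∃ β : A ⟶ L i, α ≫ β = a i := by
  classical
  induction t using Finset.induction_on with
  | empty => exact ⟨0, h0 _ (isZero_zero C), 0, by simp⟩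
  | @insert j t hj ih =>
    obtain ⟨A, hA, α, h⟩ := ih fun i hi => hL i (Finset.mem_insert_of_mem hi)
    refine ⟨L j ⊞ A, hadd _ _ (hL j (Finset.mem_insert_self _ _)) hA, biprod.lift (a j) α,
      fun i hi => ?_⟩
    rcases Finset.mem_insert.1 hi with rfl | hi
    · exact ⟨biprod.fst, biprod.lift_fst _ _⟩
    · obtain ⟨β, hβ⟩ := h i hi
      exact ⟨biprod.snd ≫ β, by rw [← Category.assoc, biprod.lift_snd, hβ]⟩

end Categorical

open Groth.Agent.Etcore Groth.Agent.Etcore.LVan Groth.Agent.Etcore.LFree Groth.Agent.Sga4h.LVanExact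

variable {Λ : Type (u + 1)} [CommRing Λ] {X : Scheme.{u}} {F : EtModW.Mod Λ X}

/-- `(U, s)` generates `F` at a point of `U`. -/
def Gen {ι : Type*} (F : EtModW.Mod Λ X) (U : X.Etale) (s : ι → EtModW.sect Λ F U) (x : U.left) : Prop :=
  ∀ (V : X.Etale) (g : V ⟶ U) (v : V.left), g.left v = x → ∀ t : EtModW.sect Λ F V,
    ∃ c ∈ Submodule.span Λ (Set.range s), Van F (t - LVan.res F g c) v

theorem surjAt_iff_gen {ι : Type*} [Fintype ι] (U : X.Etale) (s : ι → EtModW.sect Λ F U) (x : U.left) :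
    SurjAt F (Fintype.linearCombination Λ s) x ↔ Gen F U s x := by
  refine forall_congr' fun V => forall_congr' fun g => forall_congr' fun v => forall_congr' fun _ =>
    forall_congr' fun t => ?_
  rw [← Fintype.range_linearCombination Λ s]
  constructor
  · rintro ⟨m, hm⟩
    exact ⟨_, ⟨m, rfl⟩, hm⟩
  · rintro ⟨_, ⟨m, rfl⟩, hm⟩
    exact ⟨m, hm⟩

theorem isLocallyConstructible_gen (hF : EtModW.IsConstructible Λ F) {ι : Type*} [Finite ι] (U : X.Etale)
    (s : ι → EtModW.sect Λ F U) : IsLocallyConstructible {x | Gen F U s x} := by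
  have := Fintype.ofFinite ι
  have h := Etcore.LLocus.isLocallyConstructible_surjAt hF U (Fintype.linearCombination Λ s)
  have h2 : {x | Gen F U s x} = {x | SurjAt F (Fintype.linearCombination Λ s) x} := by
    ext x
    exact (surjAt_iff_gen U s x).symm
  rw [h2]
  exact h

theorem exists_gen [IsNoetherianRing Λ] (hF : EtModW.IsConstructible Λ F) (x : X) :
    ∃ (U : X.Etale) (_ : IsAffine U.left) (u : U.left) (_ : U.hom u = x) (r : ℕ)
      (s : Fin r → EtModW.sect Λ F U), Gen F U s u := by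
  obtain ⟨U, u, hu, M, _, _, _, φ, -, hφ⟩ := Etcore.LSpread.exists_good F hF x
  obtain ⟨V, hV, huV, -⟩ := exists_isAffineOpen_mem_and_subset (X := U.left)
    (U := (⊤ : U.left.Opens)) (x := u) (by trivial)
  let V' : X.Etale := Scheme.Etale.mk (V.ι ≫ U.hom)
  let k : V' ⟶ U := MorphismProperty.Over.homMk V.ι rfl trivial
  let v : V'.left := ⟨u, huV⟩
  have hk : k.left v = u := rfl
  obtain ⟨r, g, hg⟩ := Module.Finite.exists_fin (R := Λ) (M := M)
  refine ⟨V', hV, v, ?_, r, fun j => resHom k φ (g j), ?_⟩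
  · rw [← hu, ← hk]
    exact (Etcore.Cover.hom_apply k v).symm
  · have h1 : SurjAt F (resHom k φ) v := by rw [surjAt_res_iff, hk]; exact hφ
    intro W a w haw t
    obtain ⟨m, hm⟩ := h1 W a w haw t
    refine ⟨resHom k φ m, ?_, hm⟩
    have h2 : m ∈ Submodule.span Λ (Set.range g) := by rw [hg]; trivial
    have h3 := Submodule.mem_map_of_mem (f := resHom k φ) h2
    rw [Submodule.map_span, ← Set.range_comp] at h3
    exact h3

theorem span_lift {A : EtModW.Mod Λ X} (α : A ⟶ F) {ι : Type*} (U : X.Etale) (s : ι → EtModW.sect Λ F U)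
    (h : ∀ i, ∃ β : LM Λ U ⟶ A, β ≫ α = desc (s i)) (c : EtModW.sect Λ F U)
    (hc : c ∈ Submodule.span Λ (Set.range s)) : ∃ b : EtModW.sect Λ A U, ev α U b = c := by
  have h1 : Submodule.span Λ (Set.range s) ≤ LinearMap.range (ev α U) := by
    rw [Submodule.span_le]
    rintro _ ⟨i, rfl⟩
    obtain ⟨β, hβ⟩ := h i
    refine ⟨ev β U (gen Λ U), ?_⟩
    rw [← comp_ev, hβ, desc_gen]
  exact h1 hc

/-- A constructible sheaf is a quotient of a finite sum of sheaves `Λ[U]` with `U` affine. -/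
theorem exists_epi [IsNoetherianRing Λ] [CompactSpace X] [QuasiSeparatedSpace X]
    (P : EtModW.Mod Λ X → Prop) (h0 : ∀ A, IsZero A → P A) (hadd : ∀ A B, P A → P B → P (A ⊞ B))
    (hP : ∀ U : X.Etale, IsAffine U.left → P (LM Λ U)) (hF : EtModW.IsConstructible Λ F) :
    ∃ (A : EtModW.Mod Λ X) (_ : P A) (α : A ⟶ F), Epi α := by
  choose U hU u hu r s hs using exists_gen hF
  have hC : ∀ x, IsConstructible ((U x).hom '' {c | Gen F (U x) (s x) c}) := by
    intro x
    have := hU x
    have h1 : QuasiCompact (U x).hom :=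
      quasiCompact_of_compactSpace (X := (U x).left) (Y := X) (U x).hom
    have h2 : LocallyOfFinitePresentation (U x).hom := inferInstance
    have h3 : IsConstructible {c | Gen F (U x) (s x) c} :=
      (isLocallyConstructible_gen hF (U x) (s x)).isConstructible
    have h4 : CompactSpace X := inferInstance
    have h5 : QuasiSeparatedSpace X := inferInstance
    exact @Scheme.Hom.isConstructible_image _ _ (U x).hom h2 h1 h4 h5 _ h3
  obtain ⟨t, ht⟩ := EtpbcA.ConstrTop.finite_subcover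
    (fun x => ((U x).hom '' {c | Gen F (U x) (s x) c} : Set X)) hC
    (Set.eq_univ_iff_forall.2 fun x => Set.mem_iUnion.2 ⟨x, u x, hs x, hu x⟩)
  obtain ⟨A, hA, α, h⟩ := exists_sum P h0 hadd (t.sigma fun x => (Finset.univ : Finset (Fin (r x))))
    (fun i => LM Λ (U i.1)) (fun i _ => hP _ (hU _)) (F := F) (fun i => desc (s i.1 i.2))
  refine ⟨A, hA, α, epi_of_local α fun T a v => ?_⟩
  have hv := Set.eq_univ_iff_forall.1 ht (T.hom v)
  simp only [Set.mem_iUnion] at hv
  obtain ⟨x, hxt, e, he, hev⟩ := hv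
  obtain ⟨W, p, q, w, hp, hq⟩ := exists_prod T (U x) v e hev.symm
  obtain ⟨c, hc, hcv⟩ := he W q w hq (LVan.res F p a)
  obtain ⟨b, rfl⟩ := span_lift α (U x) (s x) (fun j => h ⟨x, j⟩ (by simp [hxt])) c hc
  refine ⟨W, p, w, LVan.res A q b, hp, ?_⟩
  rw [← res_ev]
  exact hcv.symm

end Groth.Agent.Sga4h.TBGen
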