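import Groth.Agent.Sga4h.TBCoGen
import Groth.Agent.Sga4h.TBComp

/-!
# Finiteness of higher direct images of sheaves of `Λ`-modules: from constant to constructible sheaves

`main`: let `S` be Noetherian and assume that `R^q f_* M` is constructible for all `q`, all `S`-morphisms `f`
between `S`-schemes of finite type and all finitely generated `Λ`-modules `M`. Then `R^q f_* F` is constructible
for all constructible sheaves `F` of `Λ`-modules.
-/

set_option autoImplicit false
universe u

open CategoryTheory CategoryTheory.Limits AlgebraicGeometry Opposite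

namespace Groth.Agent.Sga4h.TBLam

open Groth.Agent.Etrest.FinDev Groth.Agent.Sga4h.TBComp

variable {S : Scheme.{u}} [IsNoetherian S] (Λ : Type (u + 1)) [CommRing Λ]

variable (S) in
/-- Finiteness for constant sheaves over `S`. -/
def FinConst : Prop :=
  ∀ {X Y : Scheme.{u}} (a : X ⟶ S) (b : Y ⟶ S) [LocallyOfFiniteType a] [QuasiCompact a]
    [LocallyOfFiniteType b] [QuasiCompact b] (f : X ⟶ Y) (_ : f ≫ b = a)
    (M : Type (u + 1)) [AddCommGroup M] [Module Λ M] [Module.Finite Λ M] (q : ℕ),
    EtModW.IsConstructible Λ ((EtModW.Rpush Λ f q).obj (EtModW.constMod Λ X M))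

theorem isNoetherian_of {X : Scheme.{u}} (a : X ⟶ S) [LocallyOfFiniteType a] [QuasiCompact a] :
    IsNoetherian X := by
  have h1 : IsLocallyNoetherian X := LocallyOfFiniteType.isLocallyNoetherian a
  have h2 : CompactSpace X := QuasiCompact.compactSpace_of_compactSpace a
  exact ⟨⟩

theorem isConstructible_push_of {X Y : Scheme.{u}} (f : X ⟶ Y) (F : EtModW.Mod Λ X)
    (h : EtModW.IsConstructible Λ ((EtModW.Rpush Λ f 0).obj F)) :
    EtModW.IsConstructible Λ ((EtModW.push Λ f).obj F) :=
  Etrest.ModCons.isConstructible_of_iso ((rpushZero f).app F) h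

theorem main [IsNoetherianRing Λ] (hK : FinConst S Λ) (q : ℕ) :
    ∀ {X Y : Scheme.{u}} (a : X ⟶ S) (b : Y ⟶ S) [LocallyOfFiniteType a] [QuasiCompact a]
      [LocallyOfFiniteType b] [QuasiCompact b] (f : X ⟶ Y) (_ : f ≫ b = a)
      (F : EtModW.Mod Λ X) (_ : EtModW.IsConstructible Λ F),
      EtModW.IsConstructible Λ ((EtModW.Rpush Λ f q).obj F) := by
  induction q using Nat.strong_induction_on with
  | _ q ih =>
    intro X Y a b _ _ _ _ f w F hF
    have hX : IsNoetherian X := isNoetherian_of a
    have hY : IsNoetherian Y := isNoetherian_of b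
    have hSY : (cons Λ Y).IsSerreClass := isSerreClass_cons
    obtain ⟨J, ⟨hJ, hJ'⟩, α, hα⟩ := TBCoGen.exists_mono (F := F)
      (fun A => EtModW.IsConstructible Λ A ∧ EtModW.IsConstructible Λ ((EtModW.Rpush Λ f q).obj A))
      (fun A hA => ⟨LamSerre.isConstructible_of_isZero hA,
        LamSerre.isConstructible_of_isZero ((EtModW.Rpush Λ f q).map_isZero hA)⟩)
      (fun A B hA hB => ⟨LamSerre.isConstructible_biprod hA.1 hB.1, by
        let K : ShortComplex (EtModW.Mod Λ X) :=
          ShortComplex.mk (biprod.inl : A ⟶ A ⊞ B) (biprod.snd : A ⊞ B ⟶ B) biprod.inl_snd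
        have s : K.Splitting :=
          { r := biprod.fst
            s := biprod.inr }
        exact prop_X₂ (hasLES f) (cons Λ Y) s.shortExact q hA.2 hB.2⟩)
      (fun A B ⟨e⟩ hA => ⟨Etrest.ModCons.isConstructible_of_iso e hA.1,
        Etrest.ModCons.isConstructible_of_iso ((EtModW.Rpush Λ f q).mapIso e) hA.2⟩)
      (fun V p hV hp M _ _ _ => by
        have h1 : QuasiCompact p := quasiCompact_of_compactSpace p
        have h2 : LocallyOfFiniteType (p ≫ a) := inferInstance
        have h3 : QuasiCompact (p ≫ a) := inferInstance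
        have h4 : ∀ n, EtModW.IsConstructible Λ ((EtModW.Rpush Λ p n).obj (EtModW.constMod Λ V M)) :=
          fun n => hK (p ≫ a) a p rfl M n
        refine ⟨isConstructible_push_of Λ p _ (h4 0), ?_⟩
        refine edge p f (EtModW.constMod Λ V M) (cons Λ Y) q
          (hK (p ≫ a) b (p ≫ f) (by rw [Category.assoc, w]) M q) fun c d hcd _ => ?_
        exact ih c (by omega) a b f w _ (h4 d)) hF
    let K : ShortComplex (EtModW.Mod Λ X) := ShortComplex.mk α (cokernel.π α) (cokernel.condition α)
    have hKS : K.ShortExact :=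
      { exact := ShortComplex.exact_of_g_is_cokernel _ (cokernelIsCokernel α)
        mono_f := hα
        epi_g := inferInstanceAs (Epi (cokernel.π α)) }
    cases q with
    | zero => exact prop_zero_X₁ (hasLES f) (cons Λ Y) hKS hJ'
    | succ n =>
      exact prop_succ_X₁ (hasLES f) (cons Λ Y) hKS n
        (ih n (by omega) a b f w _ (LamSerre.isConstructible_cokernel α hJ)) hJ'

end Groth.Agent.Sga4h.TBLam
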