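import Groth.Agent.Sga4h.TameExt
import Groth.Agent.Sga4h.CycloAlg
import Mathlib.FieldTheory.SeparableClosure
import Mathlib.FieldTheory.IsSepClosed
import Mathlib.FieldTheory.Normal.Basic
import Mathlib.FieldTheory.Galois.Basic
import Mathlib.FieldTheory.Galois.Infinite

/-!
# The tame tower of the fraction field of a strictly henselian DVR
-/

set_option autoImplicit false

universe u

open Polynomial IsLocalRing

namespace Groth.Agent.Sga4h.TameFieldAlg

/-- A strictly henselian local ring in which `n` is invertible contains a root of the `n`-th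
cyclotomic polynomial. -/
theorem exists_cyclotomic_root (R : Type u) [CommRing R] (hR : EtCoh.IsStrictlyHenselianLocalRing R)
    (n : ℕ) (hn : IsUnit (n : R)) : ∃ z : R, (cyclotomic n R).IsRoot z := by
  obtain ⟨h1, h2⟩ := hR
  have hn0 : n ≠ 0 := by
    rintro rfl
    simp at hn
  have hnk : IsUnit (n : ResidueField R) := by
    have := hn.map (residue R)
    rwa [map_natCast] at this
  have hsep : (cyclotomic n (ResidueField R)).Separable :=
    CycloAlg.separable_cyclotomic (ResidueField R) n hnk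
  obtain ⟨z, hz⟩ := IsSepClosed.exists_root (cyclotomic n (ResidueField R)) (by
    rw [degree_cyclotomic]
    exact_mod_cast (Nat.totient_pos.2 (Nat.pos_of_ne_zero hn0)).ne') hsep
  obtain ⟨b, rfl⟩ := residue_surjective z
  have e1 : (residue R) ((cyclotomic n R).eval b) = 0 := by
    rw [← eval_map_apply, map_cyclotomic]
    exact hz
  have e2 : IsUnit ((cyclotomic n R).derivative.eval b) := by
    by_contra hcon
    have h3 : (residue R) ((cyclotomic n R).derivative.eval b) = 0 := by
      rw [residue_eq_zero_iff]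
      exact hcon
    rw [← eval_map_apply, ← derivative_map, map_cyclotomic] at h3
    exact hsep.eval₂_derivative_ne_zero (RingHom.id _) (x := residue R b)
      (by rw [eval₂_id]; exact hz) (by rw [eval₂_id]; exact h3)
  obtain ⟨a, ha, -⟩ := HenselianLocalRing.is_henselian _ (cyclotomic.monic n R) b
    (by rw [← residue_eq_zero_iff]; exact e1) e2
  exact ⟨a, ha⟩

section

variable (R K : Type u) [CommRing R] [Nontrivial R] [Field K] [Algebra R K]

omit [Nontrivial R] in
theorem exists_primitiveRoot (hR : EtCoh.IsStrictlyHenselianLocalRing R) (n : ℕ)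
    (hn : IsUnit (n : R)) : ∃ z : K, IsPrimitiveRoot z n := by
  obtain ⟨z, hz⟩ := exists_cyclotomic_root R hR n hn
  exact ⟨_, CycloAlg.isPrimitiveRoot_map (algebraMap R K) n hn z hz⟩

/-- `n`-th roots of unity of an extension of `K` lie in `K`. -/
theorem mem_of_pow_eq_one (hR : EtCoh.IsStrictlyHenselianLocalRing R) (n : ℕ)
    (hn : IsUnit (n : R)) {Ω : Type*} [Field Ω] [Algebra K Ω] (y : Ω) (hy : y ^ n = 1) :
    ∃ r : K, algebraMap K Ω r = y := by
  obtain ⟨z, hz⟩ := exists_primitiveRoot R K hR n hn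
  have hn0 : n ≠ 0 := by
    rintro rfl
    simp at hn
  have : NeZero n := ⟨hn0⟩
  have hz' : IsPrimitiveRoot (algebraMap K Ω z) n := hz.map_of_injective (algebraMap K Ω).injective
  obtain ⟨i, -, hi⟩ := hz'.eq_pow_of_pow_eq_one hy
  exact ⟨z ^ i, by rw [map_pow, hi]⟩

end

/-- A compatible system of `ℓ^a`-th roots of `c`. -/
structure Tower (K : Type u) [Field K] (ℓ : ℕ) (c : K) where
  x : ℕ → SeparableClosure K
  zero : x 0 = algebraMap K _ c
  succ : ∀ a, x (a + 1) ^ ℓ = x a

namespace Tower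

variable {K : Type u} [Field K]

/-- Existence of towers. -/
theorem nonempty (ℓ : ℕ) (hℓ : (ℓ : K) ≠ 0) (c : K) : Nonempty (Tower K ℓ c) := by
  have hn : NeZero (ℓ : SeparableClosure K) := ⟨by
    rw [← map_natCast (algebraMap K (SeparableClosure K))]
    exact (_root_.map_ne_zero _).2 hℓ⟩
  choose f hf using fun y : SeparableClosure K => IsSepClosed.exists_pow_nat_eq y ℓ
  exact ⟨⟨fun a => a.rec (algebraMap K _ c) (fun _ y => f y), rfl, fun a => hf _⟩⟩

variable {ℓ : ℕ} {c : K} (T : Tower K ℓ c)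

theorem x_add (a b : ℕ) : T.x (a + b) ^ (ℓ ^ b) = T.x a := by
  induction b with
  | zero => simp
  | succ b ih => rw [pow_succ, mul_comm, pow_mul, ← add_assoc, T.succ, ih]

theorem x_pow (a : ℕ) : T.x a ^ (ℓ ^ a) = algebraMap K _ c := by
  have := T.x_add 0 a
  rwa [zero_add, T.zero] at this

theorem x_ne_zero (hc : c ≠ 0) (hℓ : ℓ ≠ 0) (a : ℕ) : T.x a ≠ 0 := by
  intro h
  have := T.x_pow a
  rw [h, zero_pow (pow_ne_zero a hℓ)] at this
  exact hc ((map_eq_zero _).1 this.symm)

/-- The layers of the tower. -/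
noncomputable def E (a : ℕ) : IntermediateField K (SeparableClosure K) :=
  IntermediateField.adjoin K {T.x a}

theorem mem_E (a : ℕ) : T.x a ∈ T.E a := IntermediateField.mem_adjoin_simple_self K _

theorem E_le_iff (a : ℕ) (M : IntermediateField K (SeparableClosure K)) :
    T.E a ≤ M ↔ T.x a ∈ M := IntermediateField.adjoin_simple_le_iff

theorem E_mono {a b : ℕ} (h : a ≤ b) : T.E a ≤ T.E b := by
  obtain ⟨k, rfl⟩ := Nat.exists_eq_add_of_le h
  rw [E_le_iff, ← T.x_add a k]
  exact pow_mem (T.mem_E _) _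

instance (a : ℕ) : FiniteDimensional K (T.E a) :=
  IntermediateField.adjoin.finiteDimensional (Algebra.IsIntegral.isIntegral _)

theorem E_zero : T.E 0 = ⊥ := by
  rw [eq_bot_iff, E_le_iff, T.zero]
  exact IntermediateField.algebraMap_mem _ _

section DVR

variable (R : Type u) [CommRing R] [Nontrivial R] [Algebra R K]

include R in
/-- An element whose `ℓ^a`-th power is `c` differs from `x a` by a root of unity of `K`. -/
theorem exists_mul (hR : EtCoh.IsStrictlyHenselianLocalRing R) (hu : IsUnit (ℓ : R)) (hc : c ≠ 0)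
    (a : ℕ) (z : SeparableClosure K) (hz : z ^ (ℓ ^ a) = algebraMap K _ c) :
    ∃ r : K, r ^ (ℓ ^ a) = 1 ∧ z = algebraMap K _ r * T.x a := by
  have hℓ : ℓ ≠ 0 := by
    rintro rfl
    simp at hu
  have hx := T.x_ne_zero hc hℓ a
  obtain ⟨r, hr⟩ := mem_of_pow_eq_one R K hR (ℓ ^ a) (by rw [Nat.cast_pow]; exact hu.pow a)
    (z / T.x a) (by rw [div_pow, hz, T.x_pow, div_self]; exact (_root_.map_ne_zero _).2 hc)
  refine ⟨r, ?_, ?_⟩
  · apply (algebraMap K (SeparableClosure K)).injective
    rw [map_pow, hr, map_one, div_pow, hz, T.x_pow, div_self]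
    exact (_root_.map_ne_zero _).2 hc
  · rw [hr, div_mul_cancel₀ _ hx]

include R in
theorem mem_of_pow_eq (hR : EtCoh.IsStrictlyHenselianLocalRing R) (hu : IsUnit (ℓ : R)) (hc : c ≠ 0)
    (a : ℕ) (z : SeparableClosure K) (hz : z ^ (ℓ ^ a) = algebraMap K _ c)
    (M : IntermediateField K (SeparableClosure K)) (hzM : z ∈ M) : T.E a ≤ M := by
  obtain ⟨r, hr, hzr⟩ := T.exists_mul R hR hu hc a z hz
  have hr0 : r ≠ 0 := by
    rintro rfl
    have hℓ : ℓ ≠ 0 := by
      rintro rfl
      simp at hu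
    rw [zero_pow (pow_ne_zero a hℓ)] at hr
    exact zero_ne_one hr
  rw [E_le_iff]
  have : T.x a = algebraMap K _ r⁻¹ * z := by
    rw [hzr, ← mul_assoc, ← map_mul, inv_mul_cancel₀ hr0, map_one, one_mul]
  rw [this]
  exact mul_mem (M.algebraMap_mem _) hzM

include R in
theorem normal_E (hR : EtCoh.IsStrictlyHenselianLocalRing R) (hu : IsUnit (ℓ : R)) (hc : c ≠ 0)
    (a : ℕ) : Normal K (T.E a) := by
  rw [IntermediateField.normal_iff_forall_map_le]
  intro σ
  rw [IntermediateField.map_le_iff_le_comap, E_le_iff]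
  change σ (T.x a) ∈ T.E a
  obtain ⟨r, -, hr⟩ := T.exists_mul R hR hu hc a (σ (T.x a)) (by
    rw [← map_pow, T.x_pow, AlgHom.commutes])
  rw [hr]
  exact mul_mem (IntermediateField.algebraMap_mem _ _) (T.mem_E a)

include R in
theorem isGalois_E (hR : EtCoh.IsStrictlyHenselianLocalRing R) (hu : IsUnit (ℓ : R)) (hc : c ≠ 0)
    (a : ℕ) : IsGalois K (T.E a) := by
  have := T.normal_E R hR hu hc a
  exact { }

end DVR

section DVR2

variable (R : Type u) [CommRing R] [Algebra R K] [IsDomain R] [IsDiscreteValuationRing R]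
  [IsFractionRing R K]

theorem finrank_E {π : R} (hπ : Irreducible π) (hcπ : algebraMap R K π = c) (hℓ : ℓ ≠ 0) (a : ℕ) :
    Module.finrank K (T.E a) = ℓ ^ a := by
  have h1 : minpoly K (T.x a) = Polynomial.X ^ (ℓ ^ a) - Polynomial.C (algebraMap R K π) := by
    symm
    apply minpoly.eq_of_irreducible_of_monic
      (TameExt.irreducible_X_pow_sub_C K (pow_ne_zero a hℓ) hπ)
    · simp [T.x_pow, hcπ]
    · exact Polynomial.monic_X_pow_sub_C _ (pow_ne_zero a hℓ)
  rw [E, IntermediateField.adjoin.finrank (Algebra.IsIntegral.isIntegral _), h1,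
    Polynomial.natDegree_X_pow_sub_C]

/-- The key fact on the tame tower. -/
theorem exists_layer (hR : EtCoh.IsStrictlyHenselianLocalRing R) (hℓ : ℓ.Prime)
    (hu : IsUnit (ℓ : R)) {π : R} (hπ : Irreducible π) (hcπ : algebraMap R K π = c)
    (M : IntermediateField K (SeparableClosure K)) [FiniteDimensional K M] [IsGalois K M] (a : ℕ)
    (ha : T.E a ≤ M) : ∃ b, a ≤ b ∧ T.E b ≤ M ∧ ∃ m, Module.finrank K M = ℓ ^ b * m ∧ ¬ ℓ ∣ m := by
  let _ : Algebra R (SeparableClosure K) :=
    ((algebraMap K (SeparableClosure K)).comp (algebraMap R K)).toAlgebra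
  have : IsScalarTower R K (SeparableClosure K) := IsScalarTower.of_algebraMap_eq fun _ => rfl
  have : Fact ℓ.Prime := ⟨hℓ⟩
  have hc : c ≠ 0 := by
    rw [← hcπ]
    intro h
    exact hπ.ne_zero ((IsFractionRing.injective R K) (by rw [h, map_zero]))
  obtain ⟨b, z, hz, hm⟩ := TameExt.exists_tame R K M hR ℓ hu hπ
  have hz' : (z : SeparableClosure K) ^ (ℓ ^ b) = algebraMap K _ c := by
    have := congrArg (algebraMap M (SeparableClosure K)) hz
    rw [map_pow] at this
    rw [← hcπ]
    exact this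
  have hb : T.E b ≤ M := T.mem_of_pow_eq R hR hu hc b z hz' M z.2
  have h1 := Module.finrank_mul_finrank K (IntermediateField.adjoin K {z}) M
  rw [TameExt.finrank_adjoin_root R K M (pow_ne_zero b hℓ.ne_zero) hπ hz] at h1
  refine ⟨b, ?_, hb, _, h1.symm, hm⟩
  by_contra hab
  have h2 : Module.finrank K (T.E a) ∣ Module.finrank K M := by
    let _ : Algebra (T.E a) M := (IntermediateField.inclusion ha).toRingHom.toAlgebra
    have : IsScalarTower K (T.E a) M := IsScalarTower.of_algebraMap_eq fun _ => rfl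
    exact ⟨_, (Module.finrank_mul_finrank K (T.E a) M).symm⟩
  rw [T.finrank_E R hπ hcπ hℓ.ne_zero, ← h1] at h2
  apply hm
  have h3 : ℓ ^ (b + 1) ∣ ℓ ^ b * Module.finrank (IntermediateField.adjoin K {z}) M :=
    (pow_dvd_pow ℓ (by omega)).trans h2
  rw [pow_succ] at h3
  exact Nat.dvd_of_mul_dvd_mul_left (pow_pos hℓ.pos b) h3

/-- There is an automorphism moving the first layer. -/
theorem exists_aut_ne {π : R} (hπ : Irreducible π) (hcπ : algebraMap R K π = c) (hℓ : ℓ.Prime) :
    ∃ σ : SeparableClosure K ≃ₐ[K] SeparableClosure K, σ (T.x 1) ≠ T.x 1 := by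
  by_contra! hcon
  have h1 : T.x 1 ∈ (⊥ : IntermediateField K (SeparableClosure K)) :=
    (InfiniteGalois.mem_bot_iff_fixed _).2 hcon
  have h2 : T.E 1 = ⊥ := by
    rw [eq_bot_iff, E_le_iff]
    exact h1
  have h3 := T.finrank_E R hπ hcπ hℓ.ne_zero 1
  rw [h2, IntermediateField.finrank_bot, pow_one] at h3
  exact hℓ.one_lt.ne h3

theorem exists_aut (hR : EtCoh.IsStrictlyHenselianLocalRing R) (hℓ : ℓ.Prime)
    (hu : IsUnit (ℓ : R)) {π : R} (hπ : Irreducible π) (hcπ : algebraMap R K π = c) :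
    ∃ s : ∀ a, (T.E a ≃ₐ[K] T.E a), (∀ a, orderOf (s a) = ℓ ^ a) ∧
      (∀ a (g : T.E a ≃ₐ[K] T.E a), ∃ i : ℕ, g = s a ^ i) ∧
      ∀ a b (h : a ≤ b) (y : T.E a), s b (IntermediateField.inclusion (T.E_mono h) y) =
        IntermediateField.inclusion (T.E_mono h) (s a y) := by
  have hc : c ≠ 0 := by
    rw [← hcπ]
    intro h
    exact hπ.ne_zero ((IsFractionRing.injective R K) (by rw [h, map_zero]))
  obtain ⟨σ, hσ⟩ := T.exists_aut_ne R hπ hcπ hℓ
  have hN : ∀ a, Normal K (T.E a) := T.normal_E R hR hu hc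
  have hG : ∀ a, IsGalois K (T.E a) := T.isGalois_E R hR hu hc
  let s : ∀ a, (T.E a ≃ₐ[K] T.E a) := fun a => σ.restrictNormal (T.E a)
  have hs : ∀ a (y : T.E a), ((s a y : T.E a) : SeparableClosure K) = σ y := fun a y =>
    σ.restrictNormal_commutes (T.E a) y
  have hcard : ∀ a, Nat.card (T.E a ≃ₐ[K] T.E a) = ℓ ^ a := fun a => by
    rw [IsGalois.card_aut_eq_finrank, T.finrank_E R hπ hcπ hℓ.ne_zero]
  have hord : ∀ a, orderOf (s a) = ℓ ^ a := by
    intro a
    rcases a with _ | n
    · have h1 : orderOf (s 0) ∣ 1 := by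
        rw [← pow_zero ℓ, ← hcard 0]
        exact orderOf_dvd_natCard _
      rw [pow_zero]
      exact Nat.dvd_one.1 h1
    · have : Fact ℓ.Prime := ⟨hℓ⟩
      apply orderOf_eq_prime_pow
      · intro h
        obtain ⟨r, hr, hσr⟩ := T.exists_mul R hR hu hc (n + 1) (σ (T.x (n + 1))) (by
          rw [← map_pow, T.x_pow, AlgEquiv.commutes])
        have h3 : ∀ k : ℕ, (((s (n + 1)) ^ k) ⟨T.x (n + 1), T.mem_E _⟩ : SeparableClosure K) =
            algebraMap K _ (r ^ k) * T.x (n + 1) := by
          intro k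
          induction k with
          | zero => simp
          | succ k ih =>
            rw [pow_succ', AlgEquiv.mul_apply, hs, ih, map_mul, AlgEquiv.commutes, hσr, ← mul_assoc,
              ← map_mul, pow_succ]
        have h4 := h3 (ℓ ^ n)
        rw [h] at h4
        have hx := T.x_ne_zero hc hℓ.ne_zero (n + 1)
        have h5 : r ^ (ℓ ^ n) = 1 := by
          apply (algebraMap K (SeparableClosure K)).injective
          rw [map_one]
          have h6 : (algebraMap K (SeparableClosure K) (r ^ ℓ ^ n)) * T.x (n + 1) = 1 * T.x (n + 1) := by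
            rw [← h4, one_mul]
            rfl
          exact mul_right_cancel₀ hx h6
        apply hσ
        have h7 : T.x (n + 1) ^ (ℓ ^ n) = T.x 1 := by
          rw [add_comm]
          exact T.x_add 1 n
        rw [← h7, map_pow, hσr, mul_pow, ← map_pow, h5, map_one, one_mul]
      · rw [← hcard (n + 1)]
        exact pow_card_eq_one'
  refine ⟨s, hord, ?_, ?_⟩
  · intro a g
    have h1 : Subgroup.zpowers (s a) = ⊤ := by
      apply Subgroup.eq_top_of_card_eq
      rw [Nat.card_zpowers, hord, hcard]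
    have h2 : g ∈ Subgroup.zpowers (s a) := by
      rw [h1]
      trivial
    have h3 : g ∈ Submonoid.powers (s a) := by
      rwa [mem_powers_iff_mem_zpowers]
    obtain ⟨i, hi⟩ := h3
    exact ⟨i, hi.symm⟩
  · intro a b h y
    apply Subtype.ext
    rw [hs, IntermediateField.coe_inclusion, IntermediateField.coe_inclusion, hs]

end DVR2

end Tower

end Groth.Agent.Sga4h.TameFieldAlg
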