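import Mathlib.GroupTheory.FiniteAbelian.Duality
import Mathlib.GroupTheory.SpecificGroups.Cyclic
import Mathlib.Data.ZMod.QuotientGroup
import Mathlib.Algebra.Group.TypeTags.Hom

/-!
# Duality for finite abelian groups killed by `n`
-/

set_option autoImplicit false

universe u v w

namespace Groth.Agent.Sga4h.TameFieldDual

variable {T : Type u} [AddCommGroup T] {n : ℕ}
  (hc : ∃ Φ : ℤ →+ T, Function.Surjective Φ) (hT : Nat.card T = n)

include hc hT in
theorem enough : HasEnoughRootsOfUnity (Multiplicative T) n := by
  obtain ⟨Φ, hΦ⟩ := hc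
  have h1 : IsAddCyclic T := by
    refine ⟨⟨Φ 1, fun x => ?_⟩⟩
    obtain ⟨k, rfl⟩ := hΦ x
    refine AddSubgroup.mem_zmultiples_iff.2 ⟨k, ?_⟩
    rw [← map_zsmul, smul_eq_mul, mul_one]
  have h2 : IsCyclic (Multiplicative T) := inferInstance
  have h3 : IsCyclic (Multiplicative T)ˣ :=
    isCyclic_of_surjective (toUnits (G := Multiplicative T)) toUnits.surjective
  refine ⟨?_, ?_⟩
  · obtain ⟨g, hg⟩ := IsCyclic.exists_generator (α := Multiplicative T)
    refine ⟨g, ?_⟩
    have h4 := IsPrimitiveRoot.orderOf g
    rw [orderOf_eq_card_of_forall_mem_zpowers hg] at h4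
    have h5 : Nat.card (Multiplicative T) = n := hT
    rwa [h5] at h4
  · infer_instance

/-- Additive homomorphisms into `T` as multiplicative ones. -/
noncomputable def homEquiv (G : Type v) [AddCommGroup G] :
    (G →+ T) ≃ (Multiplicative G →* (Multiplicative T)ˣ) :=
  (AddMonoidHom.toMultiplicative (α := G) (β := T)).trans
    { toFun := fun f => (toUnits (G := Multiplicative T)).toMonoidHom.comp f
      invFun := fun f => (toUnits (G := Multiplicative T)).symm.toMonoidHom.comp f
      left_inv := fun f => by ext; rfl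
      right_inv := fun f => by ext; rfl }

include hc hT in
/-- Duality preserves the order. -/
theorem card_hom (hn : 0 < n) (G : Type v) [AddCommGroup G] [Finite G] (hG : ∀ g : G, n • g = 0) :
    Nat.card (G →+ T) = Nat.card G := by
  have : HasEnoughRootsOfUnity (Multiplicative T) n := enough hc hT
  have hne : NeZero n := ⟨hn.ne'⟩
  have h1 : Monoid.exponent (Multiplicative G) ∣ n :=
    Monoid.exponent_dvd_of_forall_pow_eq_one fun g => hG g.toAdd
  have : HasEnoughRootsOfUnity (Multiplicative T) (Monoid.exponent (Multiplicative G)) :=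
    HasEnoughRootsOfUnity.of_dvd _ h1
  rw [Nat.card_congr (homEquiv (T := T) G)]
  exact CommGroup.card_monoidHom_of_hasEnoughRootsOfUnity (Multiplicative G) (Multiplicative T)

include hc hT in
/-- Homomorphisms extend. -/
theorem exists_extend (hn : 0 < n) {G : Type v} {H : Type w} [AddCommGroup G] [AddCommGroup H] [Finite G]
    (hG : ∀ g : G, n • g = 0) (i : H →+ G) (hi : Function.Injective i) (f : H →+ T) :
    ∃ g : G →+ T, g.comp i = f := by
  have : HasEnoughRootsOfUnity (Multiplicative T) n := enough hc hT
  have hne : NeZero n := ⟨hn.ne'⟩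
  have h1 : Monoid.exponent (Multiplicative G) ∣ n :=
    Monoid.exponent_dvd_of_forall_pow_eq_one fun g => hG g.toAdd
  have : HasEnoughRootsOfUnity (Multiplicative T) (Monoid.exponent (Multiplicative G)) :=
    HasEnoughRootsOfUnity.of_dvd _ h1
  let i' : Multiplicative H →* Multiplicative G := AddMonoidHom.toMultiplicative i
  let e : Multiplicative H ≃* i'.range := MonoidHom.ofInjective (f := i') hi
  obtain ⟨g, hg⟩ := MonoidHom.domRestrict_surjective (Multiplicative T) i'.range
    ((homEquiv (T := T) H f).comp e.symm.toMonoidHom)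
  refine ⟨(homEquiv (T := T) G).symm g, ?_⟩
  apply (homEquiv (T := T) H).injective
  ext x
  have h2 := DFunLike.congr_fun hg (e (Multiplicative.ofAdd x))
  have h3 : g (i' (Multiplicative.ofAdd x)) = homEquiv (T := T) H f (Multiplicative.ofAdd x) := by
    refine Eq.trans ?_ (h2.trans ?_)
    · rfl
    · exact congrArg (homEquiv (T := T) H f) (e.symm_apply_apply _)
  have h4 := congrArg Units.val h3
  exact h4

end Groth.Agent.Sga4h.TameFieldDual
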