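import Groth.Agent.CurvesA.ExtStep2
import Mathlib.Algebra.Homology.ShortComplex.ShortExact

/-!
# Abstract step for the cohomological dimension of tame fields

Three successive layers `Z_c → Z_b → Z_a → Q` of a tower of cyclic covers; if passing from the
layer `b` to the layer `c` multiplies the transfer by an integer killing `Ext(-, F)`, then a class
in `Ext^{r+2}(Q, F)` dying on `Z_a`, whose associated class on `Z_a` dies on `Z_b`, is zero.
-/

set_option autoImplicit false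

universe w v u

open CategoryTheory Category Limits Abelian
open Groth.Agent.CurvesA

namespace Groth.Agent.Sga4h.TameFieldStep

variable {𝒜 : Type u} [Category.{v} 𝒜] [Abelian 𝒜]

/-- The data attached to a cyclic cover `Z → Q` with generator `σ`, `D = σ - 1`, `N = Σ σ^i`. -/
structure Cyc {Z Q : 𝒜} (D N : Z ⟶ Z) (ε : Z ⟶ Q) where
  I : 𝒜
  i : I ⟶ Z
  w₁ : i ≫ ε = 0
  t : Q ⟶ Z
  d : Z ⟶ I
  w₂ : t ≫ d = 0
  h₁ : (ShortComplex.mk i ε w₁).ShortExact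
  h₂ : (ShortComplex.mk t d w₂).ShortExact
  hd : d ≫ i = D
  ht : ε ≫ t = N

/-- Existence of the cyclic data. -/
theorem exists_cyc {Z Q : 𝒜} (D N : Z ⟶ Z) (ε : Z ⟶ Q) [Epi ε] (hDε : D ≫ ε = 0)
    (h1 : (ShortComplex.mk D ε hDε).Exact) (hDN : D ≫ N = 0)
    (h2 : (ShortComplex.mk D N hDN).Exact) (hND : N ≫ D = 0)
    (h3 : (ShortComplex.mk N D hND).Exact) : Nonempty (Cyc D N ε) := by
  obtain ⟨A, i, w₁, t, p, w₂, h₁, h₂, hp, ht⟩ :=
    ExtStep2.exists_cyclic_data D N ε hDε h1 hDN h2 hND h3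
  exact ⟨⟨A, i, w₁, t, p, w₂, h₁, h₂, hp, ht⟩⟩

section

variable {Q Za Zb : 𝒜} {Da Na : Za ⟶ Za} {Db Nb : Zb ⟶ Zb} {εa : Za ⟶ Q} {εb : Zb ⟶ Q}
  (ca : Cyc Da Na εa) (cb : Cyc Db Nb εb) (p : Zb ⟶ Za)

/-- The map induced on the augmentation parts. -/
theorem exists_u (hε : p ≫ εa = εb) (hD : Db ≫ p = p ≫ Da) :
    ∃ u : cb.I ⟶ ca.I, u ≫ ca.i = cb.i ≫ p ∧ cb.d ≫ u = p ≫ ca.d := by
  have hm : Mono ca.i := ca.h₁.mono_f
  have hw : (cb.i ≫ p) ≫ εa = 0 := by rw [assoc, hε, cb.w₁]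
  refine ⟨ca.h₁.exact.lift (cb.i ≫ p) hw, ca.h₁.exact.lift_f _ _, ?_⟩
  rw [← cancel_mono ca.i, assoc, assoc, ca.hd]
  have := ca.h₁.exact.lift_f (cb.i ≫ p) hw
  refine (congrArg (fun f => cb.d ≫ f) this).trans ?_
  rw [← assoc, cb.hd, hD]

/-- The transfer is multiplied by `m`. -/
theorem t_comp (m : ℕ) (hε : p ≫ εa = εb) (hN : Nb ≫ p = m • (p ≫ Na)) :
    cb.t ≫ p = m • ca.t := by
  have he : Epi εb := cb.h₁.epi_g
  have h1 : εb ≫ ca.t = p ≫ Na := by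
    have := congrArg (fun f => p ≫ f) ca.ht
    refine Eq.trans ?_ this
    rw [← assoc, hε]
  rw [← cancel_epi εb, ← assoc, cb.ht, hN, Preadditive.comp_nsmul, h1]

end

variable [HasExt.{w} 𝒜]

variable {Q Za Zb Zc : 𝒜} {Da Na : Za ⟶ Za} {Db Nb : Zb ⟶ Zb} {Dc Nc : Zc ⟶ Zc}
  {εa : Za ⟶ Q} {εb : Zb ⟶ Q} {εc : Zc ⟶ Q}
  (ca : Cyc Da Na εa) (cb : Cyc Db Nb εb) (cc : Cyc Dc Nc εc)

/-- First part: a class dying on `Z_a` gives a class `y` on `I_a`. -/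
theorem exists_y {F : 𝒜} {r : ℕ} (x : Ext Q F (r + 2)) (hx : ExtStep.res εa F (r + 2) x = 0) :
    ∃ y : Ext ca.I F (r + 1), ca.h₁.extClass.comp y (by omega : 1 + (r + 1) = r + 2) = x :=
  Ext.contravariant_sequence_exact₃ ca.h₁ F x hx (by omega)

/-- Compatibility of the connecting maps with a map of short exact sequences. -/
theorem extClass_comp_eq {S₁ S₂ : ShortComplex 𝒜} (h₁ : S₁.ShortExact) (h₂ : S₂.ShortExact)
    (f : S₁ ⟶ S₂) {F : 𝒜} {r r' : ℕ} (hr : 1 + r = r') (y : Ext S₂.X₁ F r) :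
    (Ext.mk₀ f.τ₃).comp (h₂.extClass.comp y hr) (zero_add r') =
      h₁.extClass.comp (ExtStep.res f.τ₁ F r y) hr := by
  rw [ExtStep.res_apply, ← Ext.comp_assoc _ _ _ (zero_add 1) hr (by omega),
    ← ShortComplex.ShortExact.extClass_naturality h₁ h₂ f,
    Ext.comp_assoc _ _ _ (add_zero 1) (zero_add r) (by omega)]

include cb cc in
/-- Second part: if the pull back `w` of `y` to `Z_a` dies on `Z_b`, then `x = 0`. -/
theorem eq_zero {F : 𝒜} {r : ℕ} (y : Ext ca.I F (r + 1)) (p : Zb ⟶ Za) (p' : Zc ⟶ Zb)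
    (hε : p ≫ εa = εb) (hD : Db ≫ p = p ≫ Da) (hε' : p' ≫ εb = εc) (hD' : Dc ≫ p' = p' ≫ Db)
    (m : ℕ) (hN : Nc ≫ p' = m • (p' ≫ Nb)) (hm : ∀ e : Ext Q F r, m • e = 0)
    (hw : ExtStep.res p F (r + 1) (ExtStep.res ca.d F (r + 1) y) = 0) :
    ca.h₁.extClass.comp y (by omega : 1 + (r + 1) = r + 2) = 0 := by
  obtain ⟨u, hui, hud⟩ := exists_u ca cb p hε hD
  obtain ⟨u', hui', hud'⟩ := exists_u cb cc p' hε' hD'
  have ht := t_comp cb cc p' m hε' hN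
  -- `u^* y` comes from `e`
  have h1 : ExtStep.res cb.d F (r + 1) (ExtStep.res u F (r + 1) y) = 0 := by
    rw [ExtStep.res_res, hud, ← ExtStep.res_res, hw]
  obtain ⟨e, he⟩ := Ext.contravariant_sequence_exact₃ cb.h₂ F (ExtStep.res u F (r + 1) y) h1
    (by omega : 1 + r = r + 1)
  -- naturality of extension classes
  let φ : ShortComplex.mk cb.i εb cb.w₁ ⟶ ShortComplex.mk ca.i εa ca.w₁ :=
    { τ₁ := u, τ₂ := p, τ₃ := 𝟙 Q
      comm₁₂ := hui
      comm₂₃ := by simpa using hε }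
  let φ' : ShortComplex.mk cc.i εc cc.w₁ ⟶ ShortComplex.mk cb.i εb cb.w₁ :=
    { τ₁ := u', τ₂ := p', τ₃ := 𝟙 Q
      comm₁₂ := hui'
      comm₂₃ := by simpa using hε' }
  let ψ : ShortComplex.mk cc.t cc.d cc.w₂ ⟶ ShortComplex.mk cb.t cb.d cb.w₂ :=
    { τ₁ := m • 𝟙 Q, τ₂ := p', τ₃ := u'
      comm₁₂ := by
        change (m • 𝟙 Q) ≫ cb.t = cc.t ≫ p'
        rw [ht, Preadditive.nsmul_comp, id_comp]
      comm₂₃ := hud'.symm }
  have key1 : ∀ (z : Ext ca.I F (r + 1)), ca.h₁.extClass.comp z (by omega : 1 + (r + 1) = r + 2) =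
      cb.h₁.extClass.comp (ExtStep.res u F (r + 1) z) (by omega : 1 + (r + 1) = r + 2) := by
    intro z
    have := extClass_comp_eq cb.h₁ ca.h₁ φ (by omega : 1 + (r + 1) = r + 2) z
    exact (Ext.mk₀_id_comp _).symm.trans this
  have key2 : ∀ (z : Ext cb.I F (r + 1)), cb.h₁.extClass.comp z (by omega : 1 + (r + 1) = r + 2) =
      cc.h₁.extClass.comp (ExtStep.res u' F (r + 1) z) (by omega : 1 + (r + 1) = r + 2) := by
    intro z
    have := extClass_comp_eq cc.h₁ cb.h₁ φ' (by omega : 1 + (r + 1) = r + 2) z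
    exact (Ext.mk₀_id_comp _).symm.trans this
  have key3 : ExtStep.res u' F (r + 1) (cb.h₂.extClass.comp e (by omega : 1 + r = r + 1)) = 0 := by
    have := extClass_comp_eq cc.h₂ cb.h₂ ψ (by omega : 1 + r = r + 1) e
    refine Eq.trans this ?_
    have h0 : ExtStep.res (m • 𝟙 Q) F r e = 0 := by rw [ExtStep.res_nsmul_id, hm]
    exact (congrArg (fun z => cc.h₂.extClass.comp z (by omega : 1 + r = r + 1)) h0).trans
      (Ext.comp_zero _ _ _ _ _)
  rw [key1, key2, ← he, key3, Ext.comp_zero]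

end Groth.Agent.Sga4h.TameFieldStep
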