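import Groth.Agent.CurvesA.EtFieldTr
import Groth.Agent.Sga4h.TameFieldStep
import Groth.Agent.Sga4h.TameFieldAlg

/-!
# Cohomological dimension of the fraction field of a strictly henselian DVR
-/

set_option autoImplicit false

universe u

open CategoryTheory Category Limits Opposite AlgebraicGeometry Abelian
open Groth.Agent.CurvesA Groth.Agent.CurvesA.EtFieldObj Groth.Agent.CurvesA.EtFieldDesc
  Groth.Agent.CurvesA.EtFieldTr

namespace Groth.Agent.Sga4h.TameFieldK1

open TameFieldAlg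

variable {K : Type u} [Field K] {ℓ : ℕ} {c : K} (T : Tower K ℓ c)

/-- The free abelian sheaf on a layer. -/
noncomputable abbrev Z (a : ℕ) : EtCoh.Ab (Spec (CommRingCat.of K)) := ZL K (T.E a)

/-- The projection between layers. -/
noncomputable abbrev inc {a b : ℕ} (h : a ≤ b) : T.E a →ₐ[K] T.E b :=
  IntermediateField.inclusion (T.E_mono h)

noncomputable abbrev p {a b : ℕ} (h : a ≤ b) : Z T b ⟶ Z T a := Zm (etMap (inc T h))

noncomputable abbrev ε (a : ℕ) : Z T a ⟶ ZL K K := Zm (can K K (T.E a))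

theorem p_ε {a b : ℕ} (h : a ≤ b) : p T h ≫ ε T a = ε T b := by
  rw [← Functor.map_comp, ← etMap_comp]
  congr 2

variable (s : ∀ a, (T.E a ≃ₐ[K] T.E a))
  (hs : ∀ a b (h : a ≤ b) (y : T.E a), s b (inc T h y) = inc T h (s a y))

include hs in
theorem aut_p {a b : ℕ} (h : a ≤ b) :
    aut (K := K) (s b) ≫ etMap (inc T h) = etMap (inc T h) ≫ aut (K := K) (s a) := by
  rw [aut, aut, ← etMap_comp, ← etMap_comp]
  congr 1
  exact AlgHom.ext fun x => hs a b h x

include hs in
theorem aut_pow_p {a b : ℕ} (h : a ≤ b) (i : ℕ) :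
    aut (K := K) (s b ^ i) ≫ etMap (inc T h) = etMap (inc T h) ≫ aut (K := K) (s a ^ i) := by
  induction i with
  | zero => rw [pow_zero, pow_zero, aut_one, aut_one, id_comp, comp_id]
  | succ i ih =>
    rw [pow_succ, aut_mul, assoc, aut_p T s hs h, ← assoc, ih, assoc, ← aut_mul, ← pow_succ]

include hs in
theorem D_p {a b : ℕ} (h : a ≤ b) :
    EtFieldCyc.D (K := K) (s b) ≫ p T h = p T h ≫ EtFieldCyc.D (K := K) (s a) := by
  rw [EtFieldCyc.D, EtFieldCyc.D, Preadditive.sub_comp, Preadditive.comp_sub, id_comp, comp_id,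
    ← Functor.map_comp, ← Functor.map_comp, aut_p T s hs h]

theorem sum_mod {G : Type*} [AddCommMonoid G] (f : ℕ → G) (n : ℕ) (hf : ∀ i, f (i + n) = f i) (m : ℕ) :
    ∑ i ∈ Finset.range (m * n), f i = m • ∑ i ∈ Finset.range n, f i := by
  have hf' : ∀ j i, f (i + j * n) = f i := by
    intro j
    induction j with
    | zero => intro i; simp
    | succ j ih => intro i; rw [Nat.succ_mul, ← add_assoc, hf, ih]
  induction m with
  | zero => simp
  | succ m ih =>
    rw [Nat.succ_mul, Finset.sum_range_add, ih, succ_nsmul]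
    congr 1
    exact Finset.sum_congr rfl fun i _ => by rw [add_comm, hf']

include hs in
theorem N_p (hord : ∀ a, orderOf (s a) = ℓ ^ a) (b : ℕ) :
    EtFieldCyc.Nm (K := K) (s (b + 1)) ≫ p T (Nat.le_succ b) =
      ℓ • (p T (Nat.le_succ b) ≫ EtFieldCyc.Nm (K := K) (s b)) := by
  rw [EtFieldCyc.Nm, EtFieldCyc.Nm, Preadditive.sum_comp, Preadditive.comp_sum, hord, hord]
  have h1 : ∀ i ∈ Finset.range (ℓ ^ (b + 1)),
      Zm (aut (K := K) (s (b + 1) ^ i)) ≫ p T (Nat.le_succ b) =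
        p T (Nat.le_succ b) ≫ Zm (aut (K := K) (s b ^ i)) := by
    intro i _
    rw [← Functor.map_comp, ← Functor.map_comp, aut_pow_p T s hs]
  rw [Finset.sum_congr rfl h1, pow_succ, mul_comm]
  refine sum_mod _ _ (fun i => ?_) _
  have h2 : s b ^ (ℓ ^ b) = 1 := by
    rw [← hord b]
    exact pow_orderOf_eq_one _
  rw [pow_add, h2, mul_one]

theorem exists_cyc (hσ : ∀ a (g : T.E a ≃ₐ[K] T.E a), ∃ i : ℕ, g = s a ^ i)
    (hG : ∀ a, IsGalois K (T.E a)) (a : ℕ) :
    Nonempty (TameFieldStep.Cyc (EtFieldCyc.D (K := K) (s a)) (EtFieldCyc.Nm (K := K) (s a)) (ε T a)) :=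
  have := hG a
  TameFieldStep.exists_cyc _ _ _ (EtFieldCyc.D_can (s a)) (EtFieldCyc.exact_D_can (s a) (hσ a))
    (EtFieldCyc.D_Nm (s a)).1 (EtFieldCyc.exact_D_Nm (s a)) (EtFieldCyc.D_Nm (s a)).2
    (EtFieldCyc.exact_Nm_D (s a))

/-- A multiple of the identity annihilating the coefficients annihilates `Ext`. -/
theorem nsmul_ext_eq_zero {𝒜 : Type*} [Category* 𝒜] [Abelian 𝒜] [HasExt 𝒜] {A F : 𝒜} (m : ℕ)
    (hF : m • 𝟙 F = 0) {q : ℕ} (x : Ext A F q) : m • x = 0 := by
  have h1 : m • x = x.comp (Ext.mk₀ (m • 𝟙 F)) (add_zero q) := by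
    clear hF
    induction m with
    | zero => rw [zero_smul, zero_smul, Ext.mk₀_zero, Ext.comp_zero]
    | succ m ih => rw [succ_nsmul, succ_nsmul, Ext.mk₀_add, Ext.comp_add, ← ih, Ext.comp_mk₀_id]
  rw [h1, hF, Ext.mk₀_zero, Ext.comp_zero]

section Death

variable (R : Type u) [CommRing R] [IsDomain R] [IsDiscreteValuationRing R]
  [Algebra R K] [IsFractionRing R K]

/-- Every class of positive degree with coefficients killed by `ℓ` dies on a higher layer. -/
theorem death (hR : EtCoh.IsStrictlyHenselianLocalRing R) (hℓ : ℓ.Prime)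
    (hu : IsUnit (ℓ : R)) {π : R} (hπ : Irreducible π) (hcπ : algebraMap R K π = c)
    (F : EtCoh.Ab (Spec (CommRingCat.of K))) (hF : ℓ • 𝟙 F = 0) (q a : ℕ)
    (x : Ext (Z T a) F (q + 1)) : ∃ (b : ℕ) (h : a ≤ b), ExtStep.res (p T h) F (q + 1) x = 0 := by
  obtain ⟨S, hS, hx⟩ := SiteZU.exists_sieve_comp_eq_zero x
  obtain ⟨N, _, _, _, _, f, hf⟩ := exists_galois_mem S hS
  obtain ⟨φ, rfl⟩ := exists_etMap_eq f
  -- embed `N` in the separable closure over the layer `a`
  let _ : Algebra (T.E a) N := φ.toRingHom.toAlgebra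
  have : IsScalarTower K (T.E a) N := IsScalarTower.of_algebraMap_eq fun r => (φ.commutes r).symm
  have : FiniteDimensional (T.E a) N := Module.Finite.right K (T.E a) N
  have : IsGalois (T.E a) N := IsGalois.tower_top_of_isGalois K (T.E a) N
  let ψ : N →ₐ[T.E a] SeparableClosure K := IsSepClosed.lift
  let ψK : N →ₐ[K] SeparableClosure K := ψ.restrictScalars K
  let M : IntermediateField K (SeparableClosure K) := ψK.fieldRange
  let e : N ≃ₐ[K] M := AlgEquiv.ofInjectiveField ψK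
  have : FiniteDimensional K M := e.toLinearEquiv.finiteDimensional
  have : IsGalois K M := IsGalois.of_algEquiv e
  have haM : T.E a ≤ M := by
    rw [T.E_le_iff]
    exact ⟨φ ⟨T.x a, T.mem_E a⟩, ψ.commutes ⟨T.x a, T.mem_E a⟩⟩
  have heφ : e.toAlgHom.comp φ = IntermediateField.inclusion haM :=
    AlgHom.ext fun y => Subtype.ext (ψ.commutes y)
  have hxM : ExtStep.res (Zm (etMap (IntermediateField.inclusion haM))) F (q + 1) x = 0 := by
    rw [← heφ, etMap_comp]
    exact hx _ _ (S.downward_closed hf (etMap e.toAlgHom))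
  obtain ⟨b, hab, hbM, m, hm, hlm⟩ := T.exists_layer R hR hℓ hu hπ hcπ M a haM
  refine ⟨b, hab, ?_⟩
  let _ : Algebra (T.E b) M := (IntermediateField.inclusion hbM).toRingHom.toAlgebra
  have : IsScalarTower K (T.E b) M := IsScalarTower.of_algebraMap_eq fun _ => rfl
  have : FiniteDimensional (T.E b) M := Module.Finite.right K (T.E b) M
  have : IsGalois (T.E b) M := IsGalois.tower_top_of_isGalois K (T.E b) M
  have hmb : Module.finrank (T.E b) M = m := by
    have h1 := Module.finrank_mul_finrank K (T.E b) M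
    rw [hm, T.finrank_E R hπ hcπ hℓ.ne_zero] at h1
    exact Nat.eq_of_mul_eq_mul_left (pow_pos hℓ.pos b) h1
  obtain ⟨t, ht⟩ := exists_transfer (K := K) (L := T.E b) (L' := M) (M := M)
  have h1 : ExtStep.res (Zm (can K (T.E b) M)) F (q + 1) (ExtStep.res (p T hab) F (q + 1) x) = 0 := by
    rw [ExtStep.res_res, ← Functor.map_comp, ← etMap_comp]
    exact hxM
  have h2 := ExtStep.nsmul_eq_zero_of_transfer _ t _ ht F (q + 1) _ h1
  rw [hmb] at h2
  have h3 := nsmul_ext_eq_zero ℓ hF (ExtStep.res (p T hab) F (q + 1) x)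
  have h4 : addOrderOf (ExtStep.res (p T hab) F (q + 1) x) ∣ Nat.gcd ℓ m :=
    Nat.dvd_gcd (addOrderOf_dvd_of_nsmul_eq_zero h3) (addOrderOf_dvd_of_nsmul_eq_zero h2)
  rw [(hℓ.coprime_iff_not_dvd.2 hlm).gcd_eq_one, Nat.dvd_one, AddMonoid.addOrderOf_eq_one_iff] at h4
  exact h4

end Death

section Main

variable (R : Type u) [CommRing R] [IsDomain R] [IsDiscreteValuationRing R]
  [Algebra R K] [IsFractionRing R K]

include R in
/-- Vanishing of `Ext^{r+2}(Z, F)` for `F` killed by a prime invertible in `R`. -/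
theorem ext_eq_zero_of_prime (hR : EtCoh.IsStrictlyHenselianLocalRing R) (hℓ : ℓ.Prime)
    (hu : IsUnit (ℓ : R)) (F : EtCoh.Ab (Spec (CommRingCat.of K))) (hF : ℓ • 𝟙 F = 0) (r : ℕ)
    (x : Ext (ZL K K) F (r + 2)) : x = 0 := by
  obtain ⟨π, hπ⟩ := IsDiscreteValuationRing.exists_irreducible R
  have hc : algebraMap R K π ≠ 0 := by
    intro h
    exact hπ.ne_zero ((IsFractionRing.injective R K) (by rw [h, map_zero]))
  have hℓK : (ℓ : K) ≠ 0 := by
    have := (hu.map (algebraMap R K)).ne_zero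
    rwa [map_natCast] at this
  obtain ⟨T⟩ := Tower.nonempty ℓ hℓK (algebraMap R K π)
  obtain ⟨s, hord, hσ, hs⟩ := T.exists_aut R hR hℓ hu hπ rfl
  have hG := T.isGalois_E R hR hu hc
  obtain ⟨a, h0a, ha⟩ := death T R hR hℓ hu hπ rfl F hF (r + 1) 0 (ExtStep.res (ε T 0) F (r + 2) x)
  rw [ExtStep.res_res, p_ε] at ha
  obtain ⟨ca⟩ := exists_cyc T s hσ hG a
  obtain ⟨y, rfl⟩ := TameFieldStep.exists_y ca x ha
  obtain ⟨b, hab, hb⟩ := death T R hR hℓ hu hπ rfl F hF r a (ExtStep.res ca.d F (r + 1) y)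
  obtain ⟨cb⟩ := exists_cyc T s hσ hG b
  obtain ⟨cc⟩ := exists_cyc T s hσ hG (b + 1)
  exact TameFieldStep.eq_zero ca cb cc y (p T hab) (p T (Nat.le_succ b)) (p_ε T hab)
    (D_p T s hs hab) (p_ε T _) (D_p T s hs _) ℓ (N_p T s hs hord b)
    (fun e => nsmul_ext_eq_zero ℓ hF e) hb

include R in
/-- Vanishing of `Ext^{r+2}(Z, F)` for `F` killed by an integer invertible in `R`. -/
theorem ext_eq_zero (hR : EtCoh.IsStrictlyHenselianLocalRing R) (n : ℕ) :
    ∀ (_ : IsUnit (n : R)) (F : EtCoh.Ab (Spec (CommRingCat.of K))) (_ : n • 𝟙 F = 0) (r : ℕ)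
    (x : Ext (ZL K K) F (r + 2)), x = 0 := by
  induction n using Nat.strong_induction_on with
  | _ n ih =>
    intro hn F hF r x
    rcases Nat.lt_trichotomy n 1 with h1 | rfl | h1
    · obtain rfl : n = 0 := by omega
      simp at hn
    · have := nsmul_ext_eq_zero 1 hF x
      rwa [one_smul] at this
    · obtain ⟨ℓ, hℓ, m, rfl⟩ := Nat.exists_prime_and_dvd h1.ne'
      have hmn : m < ℓ * m := by
        have : 0 < m := Nat.pos_of_ne_zero (by rintro rfl; simp at h1)
        nlinarith [hℓ.two_le]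
      rw [Nat.cast_mul] at hn
      have hu1 : IsUnit (ℓ : R) := isUnit_of_mul_isUnit_left hn
      have hu2 : IsUnit (m : R) := isUnit_of_mul_isUnit_right hn
      let f : F ⟶ F := ℓ • 𝟙 F
      let S : ShortComplex (EtCoh.Ab (Spec (CommRingCat.of K))) :=
        ShortComplex.mk (kernel.ι f) (cokernel.π (kernel.ι f)) (cokernel.condition _)
      have hS : S.ShortExact :=
        { exact := ShortComplex.exact_of_g_is_cokernel _ (cokernelIsCokernel (kernel.ι f)) }
      have hk : ℓ • 𝟙 S.X₁ = 0 := by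
        have hc : kernel.ι f ≫ (ℓ • 𝟙 F) = 0 := kernel.condition f
        rw [Preadditive.comp_nsmul, comp_id] at hc
        rw [← cancel_mono (kernel.ι f), zero_comp, Preadditive.nsmul_comp]
        exact (congrArg (fun a => ℓ • a) (id_comp (kernel.ι f))).trans hc
      have hq : m • 𝟙 S.X₃ = 0 := by
        have h2 : (m • 𝟙 F) ≫ f = 0 := by
          change (m • 𝟙 F) ≫ (ℓ • 𝟙 F) = 0
          rw [Preadditive.comp_nsmul, comp_id, smul_smul, hF]
        have h3 : (m • 𝟙 F) ≫ cokernel.π (kernel.ι f) = 0 := by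
          rw [← kernel.lift_ι f (m • 𝟙 F) h2, assoc, cokernel.condition, comp_zero]
        rw [Preadditive.nsmul_comp, id_comp] at h3
        rw [← cancel_epi (cokernel.π (kernel.ι f)), comp_zero, Preadditive.comp_nsmul]
        exact (congrArg (fun a => m • a) (comp_id (cokernel.π (kernel.ι f)))).trans h3
      obtain ⟨y, rfl⟩ := Ext.covariant_sequence_exact₂ (ZL K K) hS x
        (ih m hmn hu2 S.X₃ hq r (x.comp (Ext.mk₀ S.g) (add_zero (r + 2))))
      rw [ext_eq_zero_of_prime R hR hℓ hu1 S.X₁ hk r y, Ext.zero_comp]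

end Main

end Groth.Agent.Sga4h.TameFieldK1
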