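import Groth.Agent.Sga4h.TameFieldK1
import Groth.Agent.CurvesA.EtFieldGm
import Groth.Agent.CurvesA.EtFieldH
import Groth.Agent.CurvesA.MuConst
import Groth.Agent.CurvesA.H1OfPic
import Groth.Agent.Dix.KummerLES
import Groth.Agent.Sga5.EtKilled
import Mathlib.Data.ZMod.QuotientGroup

/-!
# `H¹(K, ℤ/n)` for `K` the fraction field of a strictly henselian DVR
-/

set_option autoImplicit false

universe u

open CategoryTheory Category Limits Opposite AlgebraicGeometry Abelian
open Groth.Agent.CurvesA Groth.Agent.CurvesA.EtFieldObj Groth.Agent.CurvesA.EtFieldDesc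
  Groth.Agent.CurvesA.EtFieldTr

namespace Groth.Agent.Sga4h.TameFieldK2

open Groth.Agent.Fdesc.LocGen in
/-- Invertible modules over a field are trivial. -/
theorem pic_trivial {X : Scheme.{u}} [Subsingleton X] [Nonempty X] (L : X.Modules)
    (hL : PicF.IsInvertible L) : Nonempty (L ≅ Coh.structureModule X) := by
  obtain ⟨x⟩ := ‹Nonempty X›
  obtain ⟨U, e, hxU, he⟩ := (isInvertible_iff L).1 hL x
  obtain rfl : U = ⊤ := by
    ext y
    simpa [Subsingleton.elim y x] using hxU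
  have h1 : IsIso (homOf e) := by
    rw [isIso_iff_isGen]
    simpa using he
  exact ⟨(asIso (homOf e)).symm⟩

/-- Hilbert 90: `H¹(Spec K, G_m) = 0`. -/
theorem subsingleton_H1_Gm (K : Type u) [Field K] :
    Subsingleton (EtCoh.H (Spec (CommRingCat.of K)) (EtCoh.Gm (Spec (CommRingCat.of K))) 1) :=
  have : Subsingleton (Spec (CommRingCat.of K)) := inferInstanceAs (Subsingleton (PrimeSpectrum K))
  have : Nonempty (Spec (CommRingCat.of K)) := inferInstanceAs (Nonempty (PrimeSpectrum K))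
  H1OfPic.subsingleton_H1 fun L hL => pic_trivial L hL

/-- `H⁰(Spec K, G_m) = Kˣ`. -/
theorem exists_H0_Gm (K : Type u) [Field K] :
    Nonempty (EtCoh.H (Spec (CommRingCat.of K)) (EtCoh.Gm (Spec (CommRingCat.of K))) 0 ≃+
      Additive Kˣ) := by
  let e1 := EtFieldH.HEquiv (EtCoh.Gm (Spec (CommRingCat.of K))) 0
  let e2 : Ext (ZL K K) (EtCoh.Gm (Spec (CommRingCat.of K))) 0 ≃+
      (ZL K K ⟶ EtCoh.Gm (Spec (CommRingCat.of K))) := Ext.addEquiv₀
  let e3 := SiteZU.evEquiv.{u + 1} (J := (Spec (CommRingCat.of K)).smallEtaleTopology)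
    (etObj K K) (EtCoh.Gm (Spec (CommRingCat.of K)))
  let e4 := AddEquiv.ofBijective _ (EtFieldGm.gm_bijective (K := K) (L := K))
  exact ⟨e1.trans (e2.trans (e3.trans e4.symm))⟩

theorem card_of_int {G : Type*} [AddCommGroup G] (Φ : ℤ →+ G) (hs : Function.Surjective Φ) (n : ℕ)
    (hk : ∀ k, Φ k = 0 ↔ (n : ℤ) ∣ k) : Nat.card G = n := by
  have h1 : Φ.ker = AddSubgroup.zmultiples (n : ℤ) := by
    ext k
    rw [AddMonoidHom.mem_ker, hk, Int.mem_zmultiples_iff]
  have h2 : Nat.card (ℤ ⧸ Φ.ker) = Nat.card G :=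
    Nat.card_congr (QuotientAddGroup.quotientKerEquivOfSurjective Φ hs).toEquiv
  rw [← h2, ← AddSubgroup.index_eq_card, h1, Int.index_zmultiples, Int.natAbs_natCast]

section

variable (R K : Type u) [CommRing R] [IsDomain R] [IsDiscreteValuationRing R] [Field K]
  [Algebra R K] [IsFractionRing R K]

/-- Structure of `Kˣ` modulo `n`-th powers. -/
theorem exists_hom_int (hR : EtCoh.IsStrictlyHenselianLocalRing R) (n : ℕ) (hn : IsUnit (n : R)) :
    ∃ p : Kˣ, (∀ z : Kˣ, ∃ (k : ℤ) (w : Kˣ), z = p ^ k * w ^ n) ∧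
      ∀ (k : ℤ) (w : Kˣ), p ^ k = w ^ n → (n : ℤ) ∣ k := by
  obtain ⟨π, hπ⟩ := IsDiscreteValuationRing.exists_irreducible R
  have hinj : Function.Injective (algebraMap R K) := IsFractionRing.injective R K
  have hc : algebraMap R K π ≠ 0 := by
    intro h
    exact hπ.ne_zero (hinj (by rw [h, map_zero]))
  have hn0 : n ≠ 0 := by
    rintro rfl
    simp at hn
  have key : ∀ z : Kˣ, ∃ (k : ℤ) (u : Rˣ),
      z = (Units.mk0 _ hc) ^ k * Units.map (algebraMap R K).toMonoidHom u := by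
    intro z
    obtain ⟨k, u, hu⟩ :=
      IsDiscreteValuationRing.exists_units_eq_smul_zpow_of_irreducible (K := K) hπ z.ne_zero
    refine ⟨k, u, Units.ext ?_⟩
    rw [hu, Units.val_mul, Units.val_zpow_eq_zpow_val, Units.val_mk0, Units.smul_def,
      Algebra.smul_def, mul_comm]
    rfl
  refine ⟨Units.mk0 _ hc, ?_, ?_⟩
  · intro z
    obtain ⟨k, u, rfl⟩ := key z
    obtain ⟨h1, h2⟩ := hR
    obtain ⟨v, rfl⟩ := Groth.Agent.Sga4B.UnitsAway.exists_pow_eq R n hn u
    exact ⟨k, Units.map (algebraMap R K).toMonoidHom v, by rw [map_pow]⟩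
  · intro k w hw
    obtain ⟨j, u, rfl⟩ := key w
    -- `π ^ (k - n j)` is a unit of `R`
    have h3 : (Units.mk0 _ hc : Kˣ) ^ (k - n * j) =
        Units.map (algebraMap R K).toMonoidHom (u ^ n) := by
      rw [zpow_sub, hw, mul_pow, ← zpow_natCast, ← zpow_mul, mul_comm j, mul_right_comm,
        mul_inv_cancel, one_mul, map_pow]
    have h4 : ∀ (m : ℕ) (a : Rˣ), (Units.mk0 _ hc : Kˣ) ^ m =
        Units.map (algebraMap R K).toMonoidHom a → m = 0 := by
      intro m a h
      by_contra hm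
      have h5 : π ^ m = a := by
        apply hinj
        rw [map_pow]
        simpa using congrArg Units.val h
      have h6 : IsUnit (π ^ m) := h5 ▸ a.isUnit
      exact hπ.not_isUnit ((isUnit_pow_iff hm).1 h6)
    have h7 : k - n * j = 0 := by
      rcases Int.le_total 0 (k - n * j) with h | h
      · obtain ⟨m, hm⟩ := Int.eq_ofNat_of_zero_le h
        rw [hm, zpow_natCast] at h3
        rw [hm, h4 m _ h3]
        rfl
      · obtain ⟨m, hm⟩ := Int.eq_ofNat_of_zero_le (neg_nonneg.2 h)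
        have h8 : k - n * j = -(m : ℤ) := by omega
        rw [h8, zpow_neg, zpow_natCast, inv_eq_iff_eq_inv, ← map_inv] at h3
        rw [h8, h4 m _ h3]
        rfl
    exact ⟨j, by omega⟩

omit [IsDomain R] [IsDiscreteValuationRing R] [IsFractionRing R K] in
theorem isUnit_Γ (n : ℕ) (hn : IsUnit (n : R)) :
    IsUnit (n : Γ(Spec (CommRingCat.of K), ⊤)) := by
  have h1 : IsUnit ((Scheme.ΓSpecIso (CommRingCat.of K)).inv.hom (algebraMap R K (n : R))) :=
    (hn.map (algebraMap R K)).map _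
  rwa [map_natCast, map_natCast] at h1

include R in
theorem card_H1_mu (hR : EtCoh.IsStrictlyHenselianLocalRing R) (n : ℕ) (hn : IsUnit (n : R)) :
    Nat.card (EtCoh.H (Spec (CommRingCat.of K)) (EtCoh.mu (Spec (CommRingCat.of K)) n) 1) = n := by
  obtain ⟨p, hp1, hp2⟩ := exists_hom_int R K hR n hn
  obtain ⟨e⟩ := exists_H0_Gm K
  have hnΓ := isUnit_Γ R K n hn
  have hsub := subsingleton_H1_Gm K
  let δ := Dix.KummerLES.δ (X := Spec (CommRingCat.of K)) hnΓ 0
  let Φ : ℤ →+ EtCoh.H (Spec (CommRingCat.of K)) (EtCoh.mu (Spec (CommRingCat.of K)) n) 1 :=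
    (δ.comp e.symm.toAddMonoidHom).comp (zmultiplesHom _ (Additive.ofMul p))
  have hΦ : ∀ k : ℤ, Φ k = δ (e.symm (Additive.ofMul (p ^ k))) := fun k => rfl
  refine card_of_int Φ ?_ n ?_
  · intro y
    obtain ⟨x, hx⟩ := Dix.KummerLES.exists_δ_of_map_eq_zero hnΓ 0 y (Subsingleton.elim _ _)
    obtain ⟨k, w, hkw⟩ := hp1 (e x).toMul
    refine ⟨k, ?_⟩
    have h1 : x = e.symm (Additive.ofMul (p ^ k)) + n • e.symm (Additive.ofMul w) := by
      rw [← map_nsmul, ← map_add]
      apply e.injective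
      rw [AddEquiv.apply_symm_apply, ← ofMul_pow, ← ofMul_mul, ← hkw]
      rfl
    rw [hΦ, ← hx, h1, map_add]
    have h2 : δ (n • e.symm (Additive.ofMul w)) = 0 := Dix.KummerLES.δ_nsmul hnΓ 0 _
    exact (add_zero _).symm.trans (congrArg (fun a => δ (e.symm (Additive.ofMul (p ^ k))) + a) h2.symm)
  · intro k
    rw [hΦ]
    constructor
    · intro h
      obtain ⟨y, hy⟩ := Dix.KummerLES.exists_nsmul_of_δ_eq_zero hnΓ 0 _ h
      refine hp2 k (e y).toMul ?_
      have h1 := congrArg e hy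
      rw [AddEquiv.apply_symm_apply, map_nsmul] at h1
      exact (congrArg Additive.toMul h1).symm
    · rintro ⟨j, rfl⟩
      have h1 : e.symm (Additive.ofMul (p ^ ((n : ℤ) * j))) = n • e.symm (Additive.ofMul (p ^ j)) := by
        rw [← map_nsmul, ← ofMul_pow, ← zpow_natCast, ← zpow_mul, mul_comm]
      rw [h1]
      exact Dix.KummerLES.δ_nsmul hnΓ 0 _

/-- `|H¹(K, ℤ/n)| = n`. -/
theorem card_H1 (hR : EtCoh.IsStrictlyHenselianLocalRing R) (n : ℕ) (hn : IsUnit (n : R)) :
    Nat.card (EtCoh.H (Spec (CommRingCat.of K))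
      (EtCoh.const (Spec (CommRingCat.of K)) (ZMod n)) 1) = n := by
  obtain ⟨z, hz⟩ := TameFieldAlg.exists_primitiveRoot R K hR n hn
  have hnK : (n : K) ≠ 0 := by
    have := (hn.map (algebraMap R K)).ne_zero
    rwa [map_natCast] at this
  obtain ⟨i⟩ := MuConst.nonempty_iso_const_mu K n hnK z hz (𝟙 (Spec (CommRingCat.of K)))
  exact (Nat.card_congr
    ((EtCoh.HF (Spec (CommRingCat.of K)) 1).mapIso i).addCommGroupIsoToAddEquiv.toEquiv).trans
    (card_H1_mu R K hR n hn)

end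

end Groth.Agent.Sga4h.TameFieldK2
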