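import Groth.Agent.CurvesA.EtFieldFin
import Groth.Agent.CurvesA.EtFieldH
import Groth.Agent.Sga4B.ConstLC
import Groth.Agent.Sga5.EtKilled
import Mathlib.AlgebraicGeometry.Morphisms.FormallyUnramified
import Mathlib.AlgebraicGeometry.Morphisms.Separated

/-!
# The sequence `0 → Z_N → Z_N → π_* (ℤ/n) → 0` for `π : Spec N → Spec K`
-/

set_option autoImplicit false
set_option linter.unusedSectionVars false

universe u

open CategoryTheory Category Limits Opposite AlgebraicGeometry Abelian
open Groth.Agent.CurvesA Groth.Agent.CurvesA.EtFieldObj Groth.Agent.CurvesA.EtFieldDesc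
  Groth.Agent.CurvesA.EtFieldTr Groth.Agent.Sga4B.ConstLC

namespace Groth.Agent.Sga4h.TameFieldShap

variable (K : Type u) [Field K] (N : Type u) [Field N] [Algebra K N] [FiniteDimensional K N]
  [Algebra.IsSeparable K N]

/-- The structure map. -/
noncomputable abbrev πm : Spec (CommRingCat.of N) ⟶ Spec (CommRingCat.of K) :=
  Spec.map (CommRingCat.ofHom (algebraMap K N))

/-- The base change of `Spec M` to `N`. -/
noncomputable abbrev P (M : Type u) [Field M] [Algebra K M] [FiniteDimensional K M]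
    [Algebra.IsSeparable K M] : Scheme.{u} :=
  ((EtCoh.bc (πm K N)).obj (etObj K M)).left

variable {K N}
variable {M : Type u} [Field M] [Algebra K M] [FiniteDimensional K M] [Algebra.IsSeparable K M]
  {M' : Type u} [Field M'] [Algebra K M'] [FiniteDimensional K M'] [Algebra.IsSeparable K M']

/-- First projection. -/
noncomputable def pfst (K N M : Type u) [Field K] [Field N] [Algebra K N] [Field M] [Algebra K M]
    [FiniteDimensional K M] [Algebra.IsSeparable K M] : P K N M ⟶ Spec (CommRingCat.of M) :=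
  pullback.fst (etObj K M).hom (πm K N)

/-- Second projection. -/
noncomputable def psnd (K N M : Type u) [Field K] [Field N] [Algebra K N] [Field M] [Algebra K M]
    [FiniteDimensional K M] [Algebra.IsSeparable K M] : P K N M ⟶ Spec (CommRingCat.of N) :=
  pullback.snd (etObj K M).hom (πm K N)

theorem isPullback : IsPullback (pfst K N M) (psnd K N M)
    (Spec.map (CommRingCat.ofHom (algebraMap K M))) (πm K N) :=
  IsPullback.of_hasPullback (etObj K M).hom (πm K N)

section

variable {T : Type u} [Field T] [Algebra K T] (α : M →ₐ[K] T) (γ : N →ₐ[K] T)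

/-- The point of `Spec M ×_K Spec N` with components `α`, `γ`. -/
noncomputable def pt : Spec (CommRingCat.of T) ⟶ P K N M :=
  isPullback.lift (Spec.map (CommRingCat.ofHom α.toRingHom))
    (Spec.map (CommRingCat.ofHom γ.toRingHom)) (by rw [SpecMap_fac, SpecMap_fac])

theorem pt_fst : pt α γ ≫ pfst K N M = Spec.map (CommRingCat.ofHom α.toRingHom) :=
  isPullback.lift_fst _ _ _

theorem pt_snd : pt α γ ≫ psnd K N M = Spec.map (CommRingCat.ofHom γ.toRingHom) :=
  isPullback.lift_snd _ _ _

end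

/-- The map induced by an embedding. -/
noncomputable def bcm (β : M →ₐ[K] M') : P K N M' ⟶ P K N M :=
  ((EtCoh.bc (πm K N)).map (etMap β)).left

theorem bcm_fst (β : M →ₐ[K] M') : bcm (N := N) β ≫ pfst K N M =
    pfst K N M' ≫ Spec.map (CommRingCat.ofHom β.toRingHom) :=
  (EtCoh.isPullback_bc_map (πm K N) (etMap β)).w

theorem bcm_snd (β : M →ₐ[K] M') : bcm (N := N) β ≫ psnd K N M = psnd K N M' := by
  dsimp [EtCoh.bc, bcm, psnd]
  exact pullback.lift_snd _ _ _

theorem pt_bc (β : M →ₐ[K] M') {T : Type u} [Field T] [Algebra K T] (α : M' →ₐ[K] T)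
    (γ : N →ₐ[K] T) : pt α γ ≫ bcm β = pt (α.comp β) γ := by
  apply isPullback.hom_ext
  · rw [assoc, bcm_fst, ← assoc, pt_fst, pt_fst, ← Spec.map_comp]
    rfl
  · rw [assoc, bcm_snd, pt_snd, pt_snd]

/-- Every point of `Spec M ×_K Spec N` is `pt id γ`, for `M ⊇ N` Galois. -/
theorem exists_pt [IsGalois K M] (χ : N →ₐ[K] M) (y : P K N M) :
    ∃ γ : N →ₐ[K] M, ∀ z, pt (AlgHom.id K M) γ z = y := by
  let T := (P K N M).residueField y
  let i : Spec T ⟶ P K N M := (P K N M).fromSpecResidueField y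
  obtain ⟨a, ha⟩ := Spec.map_surjective (R := CommRingCat.of M) (S := T) (i ≫ pfst K N M)
  obtain ⟨c, hc⟩ := Spec.map_surjective (R := CommRingCat.of N) (S := T) (i ≫ psnd K N M)
  let _ : Algebra K T := (a.hom.comp (algebraMap K M)).toAlgebra
  have hac : CommRingCat.ofHom (algebraMap K M) ≫ a = CommRingCat.ofHom (algebraMap K N) ≫ c := by
    apply Spec.map_injective
    rw [Spec.map_comp, Spec.map_comp, ha, hc, assoc, assoc, isPullback.w]
  let α : M →ₐ[K] T := { a.hom with commutes' := fun r => rfl }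
  let γ : N →ₐ[K] T := { c.hom with
    commutes' := fun r => (ConcreteCategory.congr_hom hac r).symm }
  obtain ⟨θ, hθ⟩ := EtFieldFin.exists_factor χ α γ
  refine ⟨θ, fun z => ?_⟩
  have h1 : i = Spec.map (CommRingCat.ofHom α.toRingHom) ≫ pt (AlgHom.id K M) θ := by
    apply isPullback.hom_ext
    · rw [assoc, pt_fst, ← ha, ← Spec.map_comp]
      rfl
    · rw [assoc, pt_snd, ← hc, ← Spec.map_comp]
      congr 1
      ext x
      exact (DFunLike.congr_fun hθ x).symm
  have h2 : ∀ w, i w = y := (P K N M).fromSpecResidueField_apply y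
  obtain ⟨w⟩ : Nonempty (Spec T) := inferInstance
  rw [← h2 w, h1, Scheme.Hom.comp_apply]
  congr 1
  exact Subsingleton.elim (α := PrimeSpectrum M) _ _

/-- The diagonal point is the diagonal. -/
theorem pt_eq_diagonal : pt (AlgHom.id K N) (AlgHom.id K N) =
    (pullback.diagonal (πm K N) : Spec (CommRingCat.of N) ⟶ pullback (πm K N) (πm K N)) := by
  apply isPullback.hom_ext
  · rw [pt_fst]
    exact (Spec.map_id _).trans (pullback.diagonal_fst (πm K N)).symm
  · rw [pt_snd]
    exact (Spec.map_id _).trans (pullback.diagonal_snd (πm K N)).symm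

instance etale_πm : Etale (πm K N) := etale_SpecMap K N

theorem isOpenImmersion_pt : IsOpenImmersion (pt (AlgHom.id K N) (AlgHom.id K N)) := by
  rw [pt_eq_diagonal]
  exact (inferInstance : IsOpenImmersion (pullback.diagonal (πm K N)))

theorem isClosedImmersion_pt : IsClosedImmersion (pt (AlgHom.id K N) (AlgHom.id K N)) := by
  rw [pt_eq_diagonal]
  exact (inferInstance : IsClosedImmersion (pullback.diagonal (πm K N)))

/-- The diagonal is open and closed. -/
theorem isClopen_range : IsClopen (Set.range (pt (AlgHom.id K N) (AlgHom.id K N))) := by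
  have h1 := isOpenImmersion_pt (K := K) (N := N)
  have h2 := isClosedImmersion_pt (K := K) (N := N)
  exact ⟨(pt (AlgHom.id K N) (AlgHom.id K N)).isClosedEmbedding.isClosed_range,
    (pt (AlgHom.id K N) (AlgHom.id K N)).isOpenEmbedding.isOpen_range⟩

/-- A point lies on the diagonal iff its components agree. -/
theorem pt_mem_range_iff {T : Type u} [Field T] [Algebra K T] (α γ : N →ₐ[K] T)
    (z : Spec (CommRingCat.of T)) :
    pt α γ z ∈ Set.range (pt (AlgHom.id K N) (AlgHom.id K N)) ↔ α = γ := by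
  constructor
  · intro h
    have h1 := isOpenImmersion_pt (K := K) (N := N)
    have h2 : Set.range (pt α γ) ⊆ Set.range (pt (AlgHom.id K N) (AlgHom.id K N)) := by
      rintro _ ⟨w, rfl⟩
      rwa [Subsingleton.elim (α := PrimeSpectrum T) w z]
    have h3 := IsOpenImmersion.lift_fac (pt (AlgHom.id K N) (AlgHom.id K N)) (pt α γ) h2
    set l := IsOpenImmersion.lift (pt (AlgHom.id K N) (AlgHom.id K N)) (pt α γ) h2
    have h4 := congrArg (fun f => f ≫ pfst K N N) h3
    have h5 := congrArg (fun f => f ≫ psnd K N N) h3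
    simp only [assoc, pt_fst, pt_snd] at h4 h5
    have h6 := Spec.map_injective (h4.symm.trans h5)
    ext x
    exact ConcreteCategory.congr_hom h6 x
  · rintro rfl
    refine ⟨Spec.map (CommRingCat.ofHom α.toRingHom) z, ?_⟩
    have h1 : Spec.map (CommRingCat.ofHom α.toRingHom) ≫ pt (AlgHom.id K N) (AlgHom.id K N) =
        pt α α := by
      apply isPullback.hom_ext
      · rw [assoc, pt_fst, pt_fst, ← Spec.map_comp]
        rfl
      · rw [assoc, pt_snd, pt_snd, ← Spec.map_comp]
        rfl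
    rw [← h1, Scheme.Hom.comp_apply]

/-- The value group. -/
abbrev A (n : ℕ) : Type (u + 1) := ULift.{u + 1} (ZMod n)

variable (K N) in
/-- `π_* (ℤ/n)`. -/
noncomputable def J (n : ℕ) : EtCoh.Ab (Spec (CommRingCat.of K)) :=
  (EtCoh.push (πm K N)).obj (LC (Spec (CommRingCat.of N)) (A.{u} n))

/-- Evaluation of a section of `π_* (ℤ/n)` at a point. -/
noncomputable def evAt {n : ℕ} (y : P K N M) :
    (J K N n).obj.obj (op (etObj K M)) →+ A.{u} n where
  toFun f := DFunLike.coe (F := LocallyConstant (P K N M) (A.{u} n)) f y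
  map_zero' := rfl
  map_add' _ _ := rfl

theorem J_ext {n : ℕ} {f g : (J K N n).obj.obj (op (etObj K M))} (h : ∀ y, evAt y f = evAt y g) :
    f = g :=
  LocallyConstant.ext (f := (f : LocallyConstant (P K N M) (A.{u} n)))
    (g := (g : LocallyConstant (P K N M) (A.{u} n))) h

theorem evAt_map {n : ℕ} (β : M →ₐ[K] M') (y : P K N M')
    (f : (J K N n).obj.obj (op (etObj K M))) :
    evAt y ((J K N n).obj.map (etMap β).op f) = evAt (bcm β y) f := rfl

open Classical in
variable (K N) in
/-- The indicator of the diagonal. -/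
noncomputable def sec (n : ℕ) : (J K N n).obj.obj (op (etObj K N)) :=
  (LocallyConstant.charFn (A.{u} n) (isClopen_range (K := K) (N := N)) :
    LocallyConstant (P K N N) (A.{u} n))

open Classical in
theorem evAt_sec (n : ℕ) {T : Type u} [Field T] [Algebra K T] (α γ : N →ₐ[K] T)
    (z : Spec (CommRingCat.of T)) :
    evAt (pt α γ z) (sec K N n) = if α = γ then 1 else 0 := by
  have h : evAt (pt α γ z) (sec K N n) =
      Set.indicator (Set.range (pt (AlgHom.id K N) (AlgHom.id K N))) (1 : P K N N → A.{u} n)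
        (pt α γ z) := rfl
  rw [h, Set.indicator_apply]
  simp only [pt_mem_range_iff, Pi.one_apply]

section Free

variable (K N) in
/-- The map from the free abelian group on `Spec M ⟶ Spec N` to `π_* (ℤ/n) (Spec M)`. -/
noncomputable def fr (n : ℕ) (M : Type u) [Field M] [Algebra K M] [FiniteDimensional K M]
    [Algebra.IsSeparable K M] : FreeAbelianGroup (ULift.{u + 1} (etObj K M ⟶ etObj K N)) →+
      (J K N n).obj.obj (op (etObj K M)) :=
  FreeAbelianGroup.lift fun f => (J K N n).obj.map f.down.op (sec K N n)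

/-- The value of `fr x` at the point `γ` is the coefficient of `γ`. -/
theorem evAt_fr (n : ℕ) (γ : N →ₐ[K] M) (z : Spec (CommRingCat.of M))
    (x : FreeAbelianGroup (ULift.{u + 1} (etObj K M ⟶ etObj K N))) :
    evAt (pt (AlgHom.id K M) γ z) (fr K N n M x) =
      ((FreeAbelianGroup.coeff (ULift.up (etMap γ)) x : ℤ) : A.{u} n) := by
  classical
  induction x using FreeAbelianGroup.induction_on with
  | zero => simp
  | of f =>
    obtain ⟨f⟩ := f
    obtain ⟨β, rfl⟩ := exists_etMap_eq f
    rw [fr, FreeAbelianGroup.lift_apply_of]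
    have h1 := evAt_map (n := n) (N := N) β (pt (AlgHom.id K M) γ z) (sec K N n)
    rw [h1, ← Scheme.Hom.comp_apply, pt_bc, AlgHom.id_comp, evAt_sec]
    have h2 : FreeAbelianGroup.coeff (ULift.up (etMap γ) : ULift.{u + 1} (etObj K M ⟶ etObj K N))
        (FreeAbelianGroup.of (ULift.up (etMap β))) = if β = γ then 1 else 0 := by
      have h3 : (ULift.up (etMap β) : ULift.{u + 1} (etObj K M ⟶ etObj K N)) =
          ULift.up (etMap γ) ↔ β = γ :=
        ⟨fun h => etMap_injective (congrArg ULift.down h), fun h => by rw [h]⟩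
      rw [FreeAbelianGroup.coeff, AddMonoidHom.comp_apply, FreeAbelianGroup.toFinsupp_of,
        Finsupp.applyAddHom_apply, Finsupp.single_apply]
      simp only [h3]
    rw [h2]
    split_ifs <;> simp
  | neg x hx => rw [map_neg, map_neg, hx, map_neg, Int.cast_neg]
  | add x y hx hy => rw [map_add, map_add, hx, hy, map_add, Int.cast_add]

/-- `fr` is surjective on Galois extensions containing `N`. -/
theorem fr_surjective (n : ℕ) [IsGalois K M] (χ : N →ₐ[K] M) :
    Function.Surjective (fr K N n M) := by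
  intro f
  obtain ⟨z⟩ : Nonempty (Spec (CommRingCat.of M)) := inferInstance
  have hlift : ∀ a : A.{u} n, ∃ k : ℤ, (k : A.{u} n) = a := by
    rintro ⟨a⟩
    obtain ⟨k, hk⟩ := ZMod.intCast_surjective a
    exact ⟨k, ULift.ext _ _ (by simpa using hk)⟩
  choose k hk using fun γ : N →ₐ[K] M => hlift (evAt (pt (AlgHom.id K M) γ z) f)
  refine ⟨∑ γ : N →ₐ[K] M, k γ • FreeAbelianGroup.of (ULift.up (etMap γ)), ?_⟩
  apply J_ext
  intro y
  obtain ⟨γ, hγ⟩ := exists_pt χ y
  rw [← hγ z, evAt_fr, ← hk γ]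
  congr 1
  classical
  rw [map_sum, Finset.sum_eq_single γ]
  · rw [map_zsmul, FreeAbelianGroup.coeff, AddMonoidHom.comp_apply, FreeAbelianGroup.toFinsupp_of,
        Finsupp.applyAddHom_apply, Finsupp.single_eq_same]
    simp
  · intro β _ hβ
    rw [map_zsmul, FreeAbelianGroup.coeff, AddMonoidHom.comp_apply, FreeAbelianGroup.toFinsupp_of,
        Finsupp.applyAddHom_apply, Finsupp.single_eq_of_ne]
    · simp
    · intro h
      exact hβ (etMap_injective (congrArg ULift.down h)).symm
  · intro h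
    exact absurd (Finset.mem_univ _) h

/-- The kernel of `fr` consists of multiples of `n`. -/
theorem exists_nsmul_of_fr_eq_zero (n : ℕ)
    (x : FreeAbelianGroup (ULift.{u + 1} (etObj K M ⟶ etObj K N))) (hx : fr K N n M x = 0) :
    ∃ x', n • x' = x := by
  obtain ⟨z⟩ : Nonempty (Spec (CommRingCat.of M)) := inferInstance
  have h1 : ∀ g, (n : ℤ) ∣ FreeAbelianGroup.coeff g x := by
    rintro ⟨g⟩
    obtain ⟨γ, rfl⟩ := exists_etMap_eq g
    have h2 := evAt_fr n γ z x
    rw [hx, map_zero] at h2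
    have h3 : ((FreeAbelianGroup.coeff (ULift.up (etMap γ)) x : ℤ) : ZMod n) = 0 := by
      have := congrArg ULift.down h2
      simpa using this.symm
    rwa [ZMod.intCast_zmod_eq_zero_iff_dvd] at h3
  refine ⟨(FreeAbelianGroup.equivFinsupp _).symm
    (Finsupp.mapRange (fun a : ℤ => a / n) (by simp) (FreeAbelianGroup.equivFinsupp _ x)), ?_⟩
  rw [← map_nsmul, AddEquiv.symm_apply_eq]
  ext g
  rw [Finsupp.smul_apply, Finsupp.mapRange_apply, nsmul_eq_mul]
  exact Int.mul_ediv_cancel' (h1 g)

end Free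

section Sheaf

variable (K N) in
/-- The map `Z_N ⟶ π_* (ℤ/n)`. -/
noncomputable def σ (n : ℕ) : ZL K N ⟶ J K N n := SiteZU.lift.{u + 1} (sec K N n)

/-- The sheafification map of the free presheaf. -/
noncomputable abbrev τ (K N : Type u) [Field K] [Field N] [Algebra K N] [FiniteDimensional K N]
    [Algebra.IsSeparable K N] :=
  toSheafify (Spec (CommRingCat.of K)).smallEtaleTopology (SiteZU.PZ.{u + 1}.obj (etObj K N))

theorem τ_σ (n : ℕ) : τ K N ≫ (σ K N n).hom = SiteZU.pdesc (sec K N n) := by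
  have h := ((sheafificationAdjunction (Spec (CommRingCat.of K)).smallEtaleTopology
    AddCommGrpCat.{u + 1}).homEquiv (SiteZU.PZ.{u + 1}.obj (etObj K N)) (J K N n)).apply_symm_apply
      (SiteZU.pdesc (sec K N n))
  rw [Adjunction.homEquiv_unit] at h
  exact h

theorem σ_τ (n : ℕ) (x : FreeAbelianGroup (ULift.{u + 1} (etObj K M ⟶ etObj K N))) :
    (σ K N n).hom.app (op (etObj K M)) ((τ K N).app (op (etObj K M)) x) = fr K N n M x :=
  congrArg (fun a : SiteZU.PZ.{u + 1}.obj (etObj K N) ⟶ (J K N n).obj =>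
    a.app (op (etObj K M)) x) (τ_σ (K := K) (N := N) n)

theorem epi_σ (n : ℕ) : Epi (σ K N n) := by
  rw [← Sheaf.isLocallySurjective_iff_epi' (J := (Spec (CommRingCat.of K)).smallEtaleTopology)]
  refine ⟨fun {U} f => ?_⟩
  refine GrothendieckTopology.superset_covering _ ?_ (galSieve_mem N U)
  rintro V _ ⟨M, _, _, _, _, ⟨χ⟩, a, b, rfl⟩
  obtain ⟨x, hx⟩ := fr_surjective (N := N) n χ ((J K N n).obj.map b.op f)
  refine ⟨(ZL K N).obj.map a.op ((τ K N).app (op (etObj K M)) x), ?_⟩
  rw [NatTrans.naturality_apply]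
  refine (congrArg ((J K N n).obj.map a.op) ((σ_τ n x).trans hx)).trans ?_
  rw [op_comp, (J K N n).obj.map_comp]
  rfl

theorem w (n : ℕ) : (n • 𝟙 (ZL K N)) ≫ σ K N n = 0 := by
  apply SiteZU.ev_injective
  rw [Preadditive.nsmul_comp, id_comp, map_nsmul, map_zero]
  have h1 : SiteZU.ev.{u + 1} (σ K N n) = sec K N n := SiteZU.ev_lift _
  rw [h1]
  apply J_ext
  intro y
  rw [map_nsmul, map_zero]
  apply ULift.ext
  simp

theorem nsmul_sec (n : ℕ) : n • sec K N n = 0 := by
  apply J_ext
  intro y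
  rw [map_nsmul, map_zero]
  apply ULift.ext
  simp

theorem PZ_nsmul (n : ℕ) (U V : (Spec (CommRingCat.of K)).Etale)
    (x : (SiteZU.PZ.{u + 1}.obj U).obj (op V)) :
    (n • 𝟙 (SiteZU.PZ.{u + 1}.obj U)).app (op V) x = n • x := by
  induction n with
  | zero => simp only [zero_smul]; rfl
  | succ m ih =>
    rw [succ_nsmul, succ_nsmul, ← ih]
    rfl

theorem w₀ (n : ℕ) : (n • 𝟙 (SiteZU.PZ.{u + 1}.obj (etObj K N))) ≫
    SiteZU.pdesc (sec K N n) = 0 := by
  apply SiteZU.PZ_hom_ext
  refine (ConcreteCategory.comp_apply _ _ _).trans ?_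
  refine (congrArg ((SiteZU.pdesc (sec K N n)).app (op (etObj K N))) (PZ_nsmul n _ _ _)).trans ?_
  rw [map_nsmul, SiteZU.pdesc_app_pof, op_id, (J K N n).obj.map_id]
  exact nsmul_sec n

theorem exact₀ (n : ℕ) : ((ShortComplex.mk (n • 𝟙 (SiteZU.PZ.{u + 1}.obj (etObj K N)))
    (SiteZU.pdesc (sec K N n)) (w₀ n)).map
      (presheafToSheaf (Spec (CommRingCat.of K)).smallEtaleTopology AddCommGrpCat.{u + 1})).Exact := by
  refine SiteZU.exact_map_presheafToSheaf.{u + 1}
    (J := (Spec (CommRingCat.of K)).smallEtaleTopology) _ ?_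
  intro U x hx
  refine ⟨_, galSieve_mem N U, ?_⟩
  rintro V _ ⟨M, _, _, _, _, _, a, b, rfl⟩
  obtain ⟨y, hy⟩ := exists_nsmul_of_fr_eq_zero (N := N) n
    ((SiteZU.PZ.{u + 1}.obj (etObj K N)).map b.op x) (by
      refine Eq.trans ?_ ((congrArg ((J K N n).obj.map b.op) hx).trans (map_zero _))
      exact NatTrans.naturality_apply (SiteZU.pdesc (sec K N n)) b.op x)
  refine ⟨(SiteZU.PZ.{u + 1}.obj (etObj K N)).map a.op y, ?_⟩
  refine (PZ_nsmul n _ _ _).trans ?_
  rw [← map_nsmul]
  refine (congrArg _ hy).trans ?_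
  rw [op_comp, (SiteZU.PZ.{u + 1}.obj (etObj K N)).map_comp]
  rfl

theorem σ_eq (n : ℕ) : σ K N n =
    (presheafToSheaf (Spec (CommRingCat.of K)).smallEtaleTopology AddCommGrpCat.{u + 1}).map
      (SiteZU.pdesc (sec K N n)) ≫
    (sheafificationAdjunction (Spec (CommRingCat.of K)).smallEtaleTopology
      AddCommGrpCat.{u + 1}).counit.app (J K N n) :=
  (sheafificationAdjunction (Spec (CommRingCat.of K)).smallEtaleTopology
    AddCommGrpCat.{u + 1}).homEquiv_counit _ _ _

/-- `Z_N → Z_N → π_* (ℤ/n)` is exact. -/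
theorem exact (n : ℕ) : (ShortComplex.mk (n • 𝟙 (ZL K N)) (σ K N n) (w n)).Exact := by
  have : IsIso ((sheafificationAdjunction (Spec (CommRingCat.of K)).smallEtaleTopology
      AddCommGrpCat.{u + 1}).counit.app (J K N n)) := isIso_sheafificationAdjunction_counit _
  refine ShortComplex.exact_of_iso ?_ (exact₀ (K := K) (N := N) n)
  refine ShortComplex.isoMk (Iso.refl _) (Iso.refl _)
    (@asIso _ _ _ _ _ this) ?_ ?_
  · have h : (presheafToSheaf (Spec (CommRingCat.of K)).smallEtaleTopology AddCommGrpCat.{u + 1}).map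
        (n • 𝟙 (SiteZU.PZ.{u + 1}.obj (etObj K N))) = n • 𝟙 (ZL K N) := by
      rw [Functor.map_nsmul]
      exact congrArg (fun t => n • t) (CategoryTheory.Functor.map_id _ _)
    refine (id_comp _).trans (Eq.trans ?_ (comp_id _).symm)
    exact h.symm
  · exact (id_comp _).trans (σ_eq n)

/-- A map out of `Z_N` killed by `n` factors through `π_* (ℤ/n)`. -/
theorem exists_fac (n : ℕ) {F : EtCoh.Ab (Spec (CommRingCat.of K))} (hF : n • 𝟙 F = 0)
    (a : ZL K N ⟶ F) : ∃ b : J K N n ⟶ F, σ K N n ≫ b = a := by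
  have := epi_σ (K := K) (N := N) n
  refine ⟨(exact (K := K) (N := N) n).desc a ?_, (exact (K := K) (N := N) n).g_desc _ _⟩
  change (n • 𝟙 (ZL K N)) ≫ a = 0
  rw [Preadditive.nsmul_comp, id_comp, ← comp_id a, ← Preadditive.comp_nsmul, hF, comp_zero]

/-- `π_* (ℤ/n)` is killed by `n`. -/
theorem nsmul_J (n : ℕ) : n • 𝟙 (J K N n) = 0 := by
  have := epi_σ (K := K) (N := N) n
  rw [← cancel_epi (σ K N n), Preadditive.comp_nsmul, comp_id, comp_zero]
  have := w (K := K) (N := N) n
  rwa [Preadditive.nsmul_comp, id_comp] at this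

end Sheaf

end Groth.Agent.Sga4h.TameFieldShap
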