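import Groth.Agent.Sga4h.TameFieldShap

/-!
# The trace `π_* (ℤ/n) → ℤ/n` for `π : Spec N → Spec K`
-/

set_option autoImplicit false
set_option linter.unusedSectionVars false

universe u

open CategoryTheory Category Limits Opposite AlgebraicGeometry Abelian
open Groth.Agent.CurvesA Groth.Agent.CurvesA.EtFieldObj Groth.Agent.CurvesA.EtFieldDesc
  Groth.Agent.CurvesA.EtFieldTr Groth.Agent.Sga4B.ConstLC

namespace Groth.Agent.Sga4h.TameFieldShap

variable (K : Type u) [Field K] (N : Type u) [Field N] [Algebra K N] [FiniteDimensional K N]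
  [Algebra.IsSeparable K N]

/-- The constant sheaf. -/
noncomputable def C (n : ℕ) : EtCoh.Ab (Spec (CommRingCat.of K)) :=
  LC (Spec (CommRingCat.of K)) (A.{u} n)

variable {K N}
variable {M : Type u} [Field M] [Algebra K M] [FiniteDimensional K M] [Algebra.IsSeparable K M]

/-- Evaluation of a section of the constant sheaf. -/
noncomputable def evC {n : ℕ} {U : (Spec (CommRingCat.of K)).Etale} (y : U.left) :
    (C K n).obj.obj (op U) →+ A.{u} n where
  toFun f := DFunLike.coe (F := LocallyConstant U.left (A.{u} n)) f y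
  map_zero' := rfl
  map_add' _ _ := rfl

theorem C_ext {n : ℕ} {U : (Spec (CommRingCat.of K)).Etale} {f g : (C K n).obj.obj (op U)}
    (h : ∀ y, evC y f = evC y g) : f = g :=
  LocallyConstant.ext (f := (f : LocallyConstant U.left (A.{u} n)))
    (g := (g : LocallyConstant U.left (A.{u} n))) h

theorem evC_map {n : ℕ} {U V : (Spec (CommRingCat.of K)).Etale} (β : V ⟶ U) (y : V.left)
    (f : (C K n).obj.obj (op U)) : evC y ((C K n).obj.map β.op f) = evC (β.left y) f := rfl

/-- The constant section. -/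
noncomputable def cst (n : ℕ) (U : (Spec (CommRingCat.of K)).Etale) (a : A.{u} n) :
    (C K n).obj.obj (op U) :=
  (LocallyConstant.const U.left a : LocallyConstant U.left (A.{u} n))

theorem evC_cst (n : ℕ) (U : (Spec (CommRingCat.of K)).Etale) (a : A.{u} n) (y : U.left) :
    evC y (cst n U a) = a := rfl

theorem cst_map (n : ℕ) {U V : (Spec (CommRingCat.of K)).Etale} (β : V ⟶ U) (a : A.{u} n) :
    (C K n).obj.map β.op (cst n U a) = cst n V a := rfl

/-- Sections over a field are constants. -/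
theorem exists_zsmul (n : ℕ) (s : (C K n).obj.obj (op (etObj K M))) :
    ∃ k : ℤ, s = k • cst n (etObj K M) 1 := by
  obtain ⟨z⟩ : Nonempty (Spec (CommRingCat.of M)) := inferInstance
  obtain ⟨k, hk⟩ := ZMod.intCast_surjective (evC (U := etObj K M) z s).down
  refine ⟨k, C_ext fun y => ?_⟩
  obtain rfl : z = y := Subsingleton.elim (α := PrimeSpectrum M) _ _
  rw [map_zsmul, evC_cst]
  apply ULift.ext
  simpa using hk.symm

theorem nsmul_C (n : ℕ) : n • 𝟙 (C K n) = 0 := by
  ext U s
  refine C_ext fun y => ?_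
  have : ∀ m : ℕ, (m • 𝟙 (C K n)).hom.app U s = m • s := by
    intro m
    induction m with
    | zero => simp only [zero_smul]; rfl
    | succ m ih =>
      rw [succ_nsmul, succ_nsmul, ← ih]
      rfl
  refine (congrArg (evC y) (this n)).trans ?_
  rw [map_nsmul]
  apply ULift.ext
  simp

variable (K N) in
theorem exists_tr (n : ℕ) : ∃ tr : J K N n ⟶ C K n,
    σ K N n ≫ tr = SiteZU.lift.{u + 1} (cst n (etObj K N) 1) :=
  exists_fac n (nsmul_C n) _

variable (K N) in
/-- The trace. -/
noncomputable def tr (n : ℕ) : J K N n ⟶ C K n := (exists_tr K N n).choose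

theorem σ_tr (n : ℕ) : σ K N n ≫ tr K N n = SiteZU.lift.{u + 1} (cst n (etObj K N) 1) :=
  (exists_tr K N n).choose_spec

/-- Every map `π_* (ℤ/n) ⟶ ℤ/n` is a multiple of the trace. -/
theorem exists_zsmul_tr (n : ℕ) (φ : J K N n ⟶ C K n) : ∃ k : ℤ, φ = k • tr K N n := by
  obtain ⟨k, hk⟩ := exists_zsmul n (SiteZU.ev.{u + 1} (σ K N n ≫ φ))
  refine ⟨k, ?_⟩
  have := epi_σ (K := K) (N := N) n
  rw [← cancel_epi (σ K N n), Preadditive.comp_zsmul, σ_tr]
  apply SiteZU.ev_injective
  rw [hk, map_zsmul, SiteZU.ev_lift]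

/-- The trace is an epimorphism. -/
theorem epi_tr (n : ℕ) : Epi (tr K N n) := by
  suffices h : Epi (σ K N n ≫ tr K N n) from epi_of_epi (σ K N n) _
  rw [← Sheaf.isLocallySurjective_iff_epi' (J := (Spec (CommRingCat.of K)).smallEtaleTopology)]
  refine ⟨fun {U} f => ?_⟩
  refine GrothendieckTopology.superset_covering _ ?_ (galSieve_mem N U)
  rintro V _ ⟨M, _, _, _, _, ⟨χ⟩, a, b, rfl⟩
  obtain ⟨k, hk⟩ := exists_zsmul n ((C K n).obj.map b.op f)
  refine ⟨k • (ZL K N).obj.map (a ≫ etMap χ).op (SiteZU.univ.{u + 1} (etObj K N)), ?_⟩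
  rw [map_zsmul, NatTrans.naturality_apply]
  have h1 : (σ K N n ≫ tr K N n).hom.app (op (etObj K N)) (SiteZU.univ.{u + 1} (etObj K N)) =
      cst n (etObj K N) 1 := by
    rw [σ_tr]
    exact SiteZU.ev_lift _
  refine (congrArg (fun t => k • (C K n).obj.map (a ≫ etMap χ).op t) h1).trans ?_
  have h2 : (C K n).obj.map (a ≫ b).op f = (C K n).obj.map a.op ((C K n).obj.map b.op f) := by
    rw [op_comp, (C K n).obj.map_comp]
    rfl
  refine Eq.trans ?_ h2.symm
  rw [hk, map_zsmul]
  rfl

end Groth.Agent.Sga4h.TameFieldShap
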