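import Groth.Agent.Sga4h.TotCat

/-!
# Universal morphisms stable under base change

`UU b a` for `a : x ⟶ y` in the total category and `b : y.X ⟶ S`: for every base change `S' ⟶ S`, the pulled
back morphism is universal.
-/

set_option autoImplicit false
universe u
open CategoryTheory CategoryTheory.Limits AlgebraicGeometry Opposite DerivedCategory

namespace Groth.Agent.Sga4h.TotCat

open Groth.Agent.Sga4h.LPull

attribute [local instance] HasDerivedCategory.standard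

section iso

variable {x y z : Tot.{u}}

/-- A vertical morphism between cartesian morphisms with the same base is an isomorphism. -/
lemma IsC.isIso_of_fac {X : Scheme.{u}} {K M : D X} {a : (⟨X, K⟩ : Tot) ⟶ z}
    {b : (⟨X, M⟩ : Tot) ⟶ z} (ha : IsC a) (hb : IsC b) (e : (⟨X, K⟩ : Tot) ⟶ ⟨X, M⟩)
    (he : e.base = 𝟙 X) (h : e ≫ b = a) : IsU e ∧ IsIso e := by
  have hc : IsC e := IsC.of_comp hb (by rw [h]; exact ha)
  obtain ⟨φ, rfl⟩ := exists_v e he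
  have hφ : IsIso φ := (isC_v φ).1 hc
  refine ⟨(isU_v φ).2 hφ, ⟨v (x := ⟨X, M⟩) (inv φ), ?_, ?_⟩⟩
  · rw [v_comp (x := ⟨X, K⟩) φ (inv φ), IsIso.inv_hom_id]
    exact v_id ⟨X, K⟩
  · rw [v_comp (x := ⟨X, M⟩) (inv φ) φ, IsIso.hom_inv_id]
    exact v_id ⟨X, M⟩

lemma isU_of_isIso (a : x ⟶ y) [IsIso a] : IsU a := by
  have hb : a.base ≫ (inv a).base = 𝟙 _ := congrArg (fun t => t.base) (IsIso.hom_inv_id a)
  have hb' : (inv a).base ≫ a.base = 𝟙 _ := congrArg (fun t => t.base) (IsIso.inv_hom_id a)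
  rw [isU_iff]
  intro N
  refine ⟨fun b b' _ _ h => (cancel_epi a).1 h, fun c hc => ⟨inv a ≫ c, ?_, by simp⟩⟩
  rw [comp_base, hc, hb']

lemma IsC.isIso {a : x ⟶ y} (ha : IsC a) [IsIso a.base] : IsIso a := by
  obtain ⟨b, hb, hb'⟩ := ha.exists_lift (𝟙 y) (inv a.base) (by simp)
  refine ⟨b, ha.hom_ext ?_ ?_, hb'⟩
  · simp [hb]
  · rw [Category.assoc, hb', Category.comp_id, Category.id_comp]

/-- Transfer of universality between two base change squares with the same underlying square. -/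
lemma isU_transfer {X' Y' : Scheme.{u}} {K₁ K₂ : D X'} {M₁ M₂ : D Y'} {a : x ⟶ y}
    {γ₁' : (⟨X', K₁⟩ : Tot) ⟶ x} {γ₂' : (⟨X', K₂⟩ : Tot) ⟶ x}
    {γ₁ : (⟨Y', M₁⟩ : Tot) ⟶ y} {γ₂ : (⟨Y', M₂⟩ : Tot) ⟶ y}
    (h1 : IsC γ₁') (h2 : IsC γ₂') (h3 : IsC γ₁) (h4 : IsC γ₂)
    (e1 : γ₁'.base = γ₂'.base) (e2 : γ₁.base = γ₂.base)
    {a₁ : (⟨X', K₁⟩ : Tot) ⟶ ⟨Y', M₁⟩} {a₂ : (⟨X', K₂⟩ : Tot) ⟶ ⟨Y', M₂⟩}
    (w1 : a₁ ≫ γ₁ = γ₁' ≫ a) (w2 : a₂ ≫ γ₂ = γ₂' ≫ a) (e3 : a₁.base = a₂.base)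
    (h : IsU a₁) : IsU a₂ := by
  obtain ⟨e, he, he'⟩ := h1.exists_lift γ₂' (𝟙 X') (by rw [e1, Category.id_comp])
  obtain ⟨d, hd, hd'⟩ := h3.exists_lift γ₂ (𝟙 Y') (by rw [e2, Category.id_comp])
  have hU := h2.isIso_of_fac h1 e he he'
  have hU' := h4.isIso_of_fac h3 d hd hd'
  have sq : e ≫ a₁ = a₂ ≫ d := by
    apply h3.hom_ext
    · simp only [comp_base, he, hd, e3]
      exact (Category.id_comp _).trans (Category.comp_id _).symm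
    · rw [Category.assoc, Category.assoc, w1, hd', w2, reassoc_of% he']
  have h5 : IsU (a₂ ≫ d) := sq ▸ hU.1.comp h
  have := hU'.2
  have h6 : a₂ = (a₂ ≫ d) ≫ inv d := by rw [Category.assoc, IsIso.hom_inv_id, Category.comp_id]
  obtain ⟨φ, rfl⟩ := exists_v d hd
  have hφ : IsIso φ := (isU_v φ).1 hU'.1
  have h7 : a₂ = (a₂ ≫ v (x := ⟨Y', M₂⟩) φ) ≫ v (x := ⟨Y', M₁⟩) (inv φ) := by
    rw [Category.assoc, v_comp (x := ⟨Y', M₂⟩) φ (inv φ), IsIso.inv_hom_id]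
    exact ((congrArg (a₂ ≫ ·) (v_id ⟨Y', M₂⟩)).trans (Category.comp_id _)).symm
  rw [h7]
  exact h5.comp ((isU_v _).2 inferInstance)

end iso

/-- Universality, preserved by all base changes over `S`. -/
def UU {x y : Tot.{u}} {S : Scheme.{u}} (b : y.X ⟶ S) (a : x ⟶ y) : Prop :=
  ∀ ⦃S' X' Y' : Scheme.{u}⦄ (g : S' ⟶ S) (b' : Y' ⟶ S') (gY : Y' ⟶ y.X) (f' : X' ⟶ Y')
    (gX : X' ⟶ x.X), IsPullback gY b' b g → IsPullback gX f' a.base gY →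
    ∀ a' : (⟨X', (L gX).obj x.K⟩ : Tot) ⟶ ⟨Y', (L gY).obj y.K⟩, a'.base = f' →
      a' ≫ car y gY = car x gX ≫ a → IsU a'

section UU

variable {x y z : Tot.{u}} {S : Scheme.{u}}

/-- The lift of a morphism along standard cartesian morphisms. -/
lemma exists_bc (a : x ⟶ y) {X' Y' : Scheme.{u}} (gY : Y' ⟶ y.X) (f' : X' ⟶ Y') (gX : X' ⟶ x.X)
    (w : gX ≫ a.base = f' ≫ gY) :
    ∃ a' : (⟨X', (L gX).obj x.K⟩ : Tot) ⟶ ⟨Y', (L gY).obj y.K⟩, a'.base = f' ∧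
      a' ≫ car y gY = car x gX ≫ a :=
  (isC_car y gY).exists_lift (car x gX ≫ a) f' w.symm

/-- General form of `UU`. -/
lemma UU.isU {b : y.X ⟶ S} {a : x ⟶ y} (h : UU b a) {S' X' Y' : Scheme.{u}} {g : S' ⟶ S}
    {b' : Y' ⟶ S'} {gY : Y' ⟶ y.X} {gX : X' ⟶ x.X} (h1 : IsPullback gY b' b g)
    {K : D X'} {M : D Y'} {γ' : (⟨X', K⟩ : Tot) ⟶ x} {γ : (⟨Y', M⟩ : Tot) ⟶ y}
    (e1 : γ'.base = gX) (e2 : γ.base = gY) (hC' : IsC γ') (hC : IsC γ)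
    {a' : (⟨X', K⟩ : Tot) ⟶ ⟨Y', M⟩} (h2 : IsPullback gX a'.base a.base gY)
    (w : a' ≫ γ = γ' ≫ a) : IsU a' := by
  obtain ⟨a₁, e, w₁⟩ := exists_bc a gY a'.base gX h2.w
  exact isU_transfer (isC_car x gX) hC' (isC_car y gY) hC e1.symm e2.symm w₁ w e
    (h g b' gY _ gX h1 h2 a₁ e w₁)

lemma UU.isU_self {b : y.X ⟶ S} {a : x ⟶ y} (h : UU b a) : IsU a :=
  h.isU (g := 𝟙 S) (b' := b) (gY := 𝟙 y.X) (gX := 𝟙 x.X) (K := x.K) (M := y.K)
    (γ' := 𝟙 x) (γ := 𝟙 y) (a' := a)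
    (IsPullback.of_horiz_isIso ⟨by simp⟩) rfl rfl
    (by rw [← v_id]; exact (isC_v _).2 inferInstance)
    (by rw [← v_id]; exact (isC_v _).2 inferInstance) (IsPullback.of_horiz_isIso ⟨by simp⟩)
    (by simp)

/-- Composition. -/
lemma UU.comp {a : x ⟶ y} {c : y ⟶ z} {b : z.X ⟶ S} (ha : UU (c.base ≫ b) a) (hc : UU b c) :
    UU b (a ≫ c) := by
  intro S' X' Z' g b' gZ f' gX h1 h2 a' e w
  have hY : IsPullback (pullback.fst c.base gZ) (pullback.snd c.base gZ) c.base gZ :=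
    IsPullback.of_hasPullback _ _
  have w2 : (gX ≫ a.base) ≫ c.base = f' ≫ gZ := by
    rw [Category.assoc]; exact h2.w
  have hX : IsPullback gX (hY.lift (gX ≫ a.base) f' w2) a.base (pullback.fst c.base gZ) := by
    refine IsPullback.of_bot ?_ (hY.lift_fst _ _ _).symm hY
    rw [hY.lift_snd]
    exact h2
  obtain ⟨a₁, e₁, w₁⟩ := exists_bc a (pullback.fst c.base gZ) (hY.lift (gX ≫ a.base) f' w2) gX hX.w
  obtain ⟨c₁, e₂, w₃⟩ := exists_bc c gZ (pullback.snd c.base gZ) (pullback.fst c.base gZ) hY.w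
  have hc₁ : IsU c₁ := hc g b' gZ _ _ h1 hY c₁ e₂ w₃
  have ha₁ : IsU a₁ := ha g (pullback.snd c.base gZ ≫ b') _ _ _ (hY.paste_vert h1) hX a₁ e₁ w₁
  have : a' = a₁ ≫ c₁ := by
    apply (isC_car z gZ).hom_ext
    · rw [comp_base, e, e₁, e₂]
      exact (hY.lift_snd _ _ _).symm
    · rw [w, Category.assoc, w₃, ← Category.assoc, ← Category.assoc, w₁]
  rw [this]
  exact ha₁.comp hc₁

/-- Cancellation on the left. -/
lemma UU.of_comp {a : x ⟶ y} {c : y ⟶ z} {b : z.X ⟶ S} (ha : UU (c.base ≫ b) a)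
    (hac : UU b (a ≫ c)) : UU b c := by
  intro S' Y' Z' g b' gZ f' gY h1 h2 c' e w
  have hX : IsPullback (pullback.fst a.base gY) (pullback.snd a.base gY) a.base gY :=
    IsPullback.of_hasPullback _ _
  obtain ⟨a', e₁, w₁⟩ := exists_bc a gY (pullback.snd a.base gY) (pullback.fst a.base gY) hX.w
  have ha' : IsU a' := ha g (f' ≫ b') _ _ _ (h2.paste_vert h1) hX a' e₁ w₁
  refine ha'.of_comp (hac g b' gZ (pullback.snd a.base gY ≫ f') (pullback.fst a.base gY) h1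
    (hX.paste_vert h2) (a' ≫ c') ?_ ?_)
  · rw [comp_base, e₁, e]
  · rw [Category.assoc, w, ← Category.assoc, w₁, Category.assoc]

/-- Base change. -/
lemma UU.pull {b : y.X ⟶ S} {a : x ⟶ y} (h : UU b a) {S' X' Y' : Scheme.{u}} {g : S' ⟶ S}
    {b' : Y' ⟶ S'} {gY : Y' ⟶ y.X} {gX : X' ⟶ x.X} (h1 : IsPullback gY b' b g)
    {K : D X'} {M : D Y'} {γ' : (⟨X', K⟩ : Tot) ⟶ x} {γ : (⟨Y', M⟩ : Tot) ⟶ y}
    (e1 : γ'.base = gX) (e2 : γ.base = gY) (hC' : IsC γ') (hC : IsC γ)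
    {a' : (⟨X', K⟩ : Tot) ⟶ ⟨Y', M⟩} (h2 : IsPullback gX a'.base a.base gY)
    (w : a' ≫ γ = γ' ≫ a) : UU (y := ⟨Y', M⟩) b' a' := by
  intro S₂ X₂ Y₂ g₂ b₂ gY₂ f₂ gX₂ h₁ h₂ a₂ e₂ w₂
  refine h.isU (h₁.paste_horiz h1) (γ' := car _ gX₂ ≫ γ') (γ := car _ gY₂ ≫ γ)
    (congrArg (fun t => gX₂ ≫ t) e1) (congrArg (fun t => gY₂ ≫ t) e2)
    ((isC_car _ _).comp hC') ((isC_car _ _).comp hC) ?_ ?_
  · rw [e₂]
    exact h₂.paste_horiz h2
  · rw [← Category.assoc, w₂, Category.assoc, w, Category.assoc]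

/-- Change of the base scheme. -/
lemma UU.base {S₁ : Scheme.{u}} {b : y.X ⟶ S₁} (s : S₁ ⟶ S) {a : x ⟶ y} (h : UU b a) :
    UU (b ≫ s) a := by
  intro S' X' Y' g b' gY f' gX h1 h2 a' e w
  have hS : IsPullback (pullback.fst s g) (pullback.snd s g) s g := IsPullback.of_hasPullback _ _
  refine h (pullback.fst s g) (hS.lift (gY ≫ b) b' (by rw [Category.assoc]; exact h1.w)) gY f' gX
    ?_ h2 a' e w
  refine IsPullback.of_bot ?_ (hS.lift_fst _ _ _).symm hS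
  rw [hS.lift_snd]
  exact h1

/-- Invariance of the target morphism. -/
lemma UU.congr_base {b b' : y.X ⟶ S} {a : x ⟶ y} (h : UU b a) (e : b = b') : UU b' a := e ▸ h

/-- Cartesian morphisms over isomorphisms. -/
lemma IsC.uu {a : x ⟶ y} (ha : IsC a) [IsIso a.base] (b : y.X ⟶ S) : UU b a := by
  intro S' X' Y' g b' gY f' gX h1 h2 a' e w
  have hf' : IsIso f' := h2.isIso_snd_of_isIso
  have : IsIso a'.base := by rw [e]; exact hf'
  have hC : IsC a' := IsC.of_comp (isC_car y gY) (by rw [w]; exact (isC_car x gX).comp ha)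
  have := hC.isIso
  exact isU_of_isIso a'

lemma uu_v {x : Tot.{u}} {M : D x.X} (φ : M ⟶ x.K) [IsIso φ] (b : x.X ⟶ S) :
    UU (y := ⟨x.X, M⟩) b (v φ) :=
  have : IsIso (v φ).base := inferInstanceAs (IsIso (𝟙 x.X))
  ((isC_v φ).2 inferInstance).uu b

end UU

end Groth.Agent.Sga4h.TotCat
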