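import Groth.Agent.Sga4h.LPull

/-!
# The total category of derived categories of étale sheaves

Objects: pairs `(X, K)`, `K ∈ D(X_et)`. A morphism `(X, K) ⟶ (Y, M)` over `f : X ⟶ Y` is a morphism
`L f M ⟶ K` in `D X`.

* `IsC a` (cartesian): `L f M ⟶ K` is an isomorphism, i.e. `K = f^* M`;
* `IsU a` (universal): `Hom(N, M) ⟶ Hom(f^* N, K)` is bijective for all `N`, i.e. `M = R f_* K`.
-/

set_option autoImplicit false
universe u
open CategoryTheory CategoryTheory.Limits AlgebraicGeometry Opposite DerivedCategory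

namespace Groth.Agent.Sga4h.TotCat

open EtCoh Groth.Agent.Sga4h.LPull

attribute [local instance] HasDerivedCategory.standard

/-- Pairs of a scheme and an object of its derived category of étale sheaves. -/
structure Tot : Type (u + 2) where
  /-- the scheme -/
  X : Scheme.{u}
  /-- the object -/
  K : D X

/-- Morphisms of the total category. -/
structure Tot.Hom (a b : Tot.{u}) : Type (u + 2) where
  /-- the morphism of schemes -/
  base : a.X ⟶ b.X
  /-- the morphism `f^* M ⟶ K` -/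
  fib : (L base).obj b.K ⟶ a.K

variable {W X Y Z : Scheme.{u}}

/-- Composition of morphisms, with prescribed composite of the underlying morphisms. -/
noncomputable def compAux {a b c : Tot.{u}} (f : Tot.Hom a b) (g : Tot.Hom b c)
    (k : a.X ⟶ c.X) (w : f.base ≫ g.base = k) : Tot.Hom a c where
  base := k
  fib := (Lcomp w).inv.app c.K ≫ (L f.base).map g.fib ≫ f.fib

lemma compAux_eq {a b c : Tot.{u}} (f : Tot.Hom a b) (g : Tot.Hom b c)
    (k : a.X ⟶ c.X) (w : f.base ≫ g.base = k) : compAux f g _ rfl = compAux f g k w := by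
  subst w; rfl

noncomputable instance : Category.{u + 2} Tot.{u} where
  Hom := Tot.Hom
  id a := ⟨𝟙 a.X, (Lid a.X).hom.app a.K⟩
  comp f g := compAux f g _ rfl
  id_comp {a b} f := by
    rw [compAux_eq _ _ f.base (Category.id_comp _)]
    obtain ⟨f, φ⟩ := f
    dsimp only [compAux]
    congr 1
    have h := (Lid a.X).hom.naturality φ
    simp only [Functor.id_map] at h
    rw [h]
    have h2 := Lcomp_id_comp (Category.id_comp f) b.K
    rw [← h2]
    exact Iso.inv_hom_id_app_assoc _ _ _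
  comp_id {a b} f := by
    rw [compAux_eq _ _ f.base (Category.comp_id _)]
    obtain ⟨f, φ⟩ := f
    dsimp only [compAux]
    congr 1
    rw [← Lcomp_comp_id (Category.comp_id f) b.K]
    exact Iso.inv_hom_id_app_assoc _ _ _
  assoc {a b c d} f g h := by
    rw [compAux_eq (compAux f g _ rfl) h (f.base ≫ g.base ≫ h.base) (Category.assoc _ _ _)]
    obtain ⟨f, φ⟩ := f
    obtain ⟨g, ψ⟩ := g
    obtain ⟨h, χ⟩ := h
    dsimp only [compAux]
    congr 1
    have nat := (Lcomp (rfl : f ≫ g = f ≫ g)).inv.naturality χ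
    have ass := Lcomp_assoc_inv_assoc (rfl : f ≫ g = f ≫ g) (rfl : g ≫ h = g ≫ h)
      (Category.assoc f g h) (rfl : f ≫ g ≫ h = f ≫ g ≫ h) d.K
      ((L f).map ((L g).map χ) ≫ (L f).map ψ ≫ φ)
    rw [reassoc_of% nat]
    simp only [Functor.map_comp, Category.assoc]
    exact ass

@[simp] lemma comp_base {a b c : Tot.{u}} (f : a ⟶ b) (g : b ⟶ c) :
    (f ≫ g).base = f.base ≫ g.base := rfl

@[simp] lemma id_base (a : Tot.{u}) : (𝟙 a : a ⟶ a).base = 𝟙 a.X := rfl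

/-- The projection to schemes. -/
@[simps]
noncomputable def proj : Tot.{u} ⥤ Scheme.{u} where
  obj a := a.X
  map f := f.base

/-- Constructor for morphisms. -/
def arr {x y : Tot.{u}} (f : x.X ⟶ y.X) (φ : (L f).obj y.K ⟶ x.K) : x ⟶ y := ⟨f, φ⟩

@[simp] lemma arr_base {x y : Tot.{u}} (f : x.X ⟶ y.X) (φ : (L f).obj y.K ⟶ x.K) :
    (arr f φ).base = f := rfl

@[simp] lemma arr_fib {x y : Tot.{u}} (f : x.X ⟶ y.X) (φ : (L f).obj y.K ⟶ x.K) :
    (arr f φ).fib = φ := rfl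

lemma arr_eta {x y : Tot.{u}} (a : x ⟶ y) : arr a.base a.fib = a := rfl

lemma exists_arr {x y : Tot.{u}} (a : x ⟶ y) {f : x.X ⟶ y.X} (h : a.base = f) :
    ∃ φ, a = arr f φ := by
  subst h
  exact ⟨a.fib, rfl⟩

lemma arr_injective {x y : Tot.{u}} {f : x.X ⟶ y.X} {φ ψ : (L f).obj y.K ⟶ x.K}
    (h : (arr f φ : x ⟶ y) = arr f ψ) : φ = ψ := by
  injection h

lemma comp_arr {x y z : Tot.{u}} (a : x ⟶ y) (b : y ⟶ z) {k : x.X ⟶ z.X}
    (w : a.base ≫ b.base = k) :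
    a ≫ b = arr k ((Lcomp w).inv.app z.K ≫ (L a.base).map b.fib ≫ a.fib) :=
  compAux_eq _ _ k w

/-- Vertical morphisms. -/
noncomputable def v {x : Tot.{u}} {M : D x.X} (φ : M ⟶ x.K) : x ⟶ ⟨x.X, M⟩ :=
  arr (y := ⟨x.X, M⟩) (𝟙 x.X) ((Lid x.X).hom.app M ≫ φ)

@[simp] lemma v_base {x : Tot.{u}} {M : D x.X} (φ : M ⟶ x.K) : (v φ).base = 𝟙 x.X := rfl

lemma v_fib {x : Tot.{u}} {M : D x.X} (φ : M ⟶ x.K) :
    (v φ).fib = (Lid x.X).hom.app M ≫ φ := rfl

lemma exists_v {x : Tot.{u}} {M : D x.X} (a : x ⟶ ⟨x.X, M⟩) (h : a.base = 𝟙 x.X) :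
    ∃ φ, a = v φ := by
  obtain ⟨φ, rfl⟩ := exists_arr a h
  exact ⟨(Lid x.X).inv.app M ≫ φ,
    congrArg (arr (y := ⟨x.X, M⟩) (𝟙 x.X)) (Iso.hom_inv_id_app_assoc _ _ _).symm⟩

lemma v_injective {x : Tot.{u}} {M : D x.X} {φ ψ : M ⟶ x.K} (h : v φ = v ψ) : φ = ψ := by
  have := arr_injective h
  exact (cancel_epi _).1 this

lemma comp_v {x y : Tot.{u}} (a : x ⟶ y) {N : D y.X} (ψ : N ⟶ y.K) :
    a ≫ v ψ = arr (y := ⟨y.X, N⟩) a.base ((L a.base).map ψ ≫ a.fib) := by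
  refine (comp_arr a (v ψ) (Category.comp_id a.base)).trans
    (congrArg (arr (y := ⟨y.X, N⟩) a.base) ?_)
  change (Lcomp (Category.comp_id a.base)).inv.app N ≫
    (L a.base).map ((Lid y.X).hom.app N ≫ ψ) ≫ a.fib = (L a.base).map ψ ≫ a.fib
  rw [Functor.map_comp, Category.assoc, ← Lcomp_comp_id (Category.comp_id a.base)]
  exact Iso.inv_hom_id_app_assoc _ _ _

lemma v_comp' {x : Tot.{u}} {y : Tot.{u}} {K : D x.X} (ψ : K ⟶ x.K)
    (a : (⟨x.X, K⟩ : Tot) ⟶ y) : v ψ ≫ a = arr (x := x) a.base (a.fib ≫ ψ) := by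
  refine (comp_arr (v ψ) a (Category.id_comp a.base)).trans
    (congrArg (arr (x := x) a.base) ?_)
  have h := (Lid x.X).hom.naturality a.fib
  simp only [Functor.id_map] at h
  rw [v_fib]
  dsimp only [v_base]
  rw [reassoc_of% h, ← Lcomp_id_comp (Category.id_comp a.base)]
  exact Iso.inv_hom_id_app_assoc _ _ _

lemma v_comp {x : Tot.{u}} {K M : D x.X} (φ : K ⟶ x.K) (ψ : M ⟶ K) :
    v φ ≫ (v (x := ⟨x.X, K⟩) ψ : (⟨x.X, K⟩ : Tot) ⟶ ⟨x.X, M⟩) = v (ψ ≫ φ) := by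
  refine (v_comp' φ (v (x := ⟨x.X, K⟩) ψ)).trans (congrArg (arr (y := ⟨x.X, M⟩) (𝟙 x.X)) ?_)
  change ((Lid x.X).hom.app M ≫ ψ) ≫ φ = (Lid x.X).hom.app M ≫ ψ ≫ φ
  rw [Category.assoc]

lemma v_id (x : Tot.{u}) : v (𝟙 x.K) = 𝟙 x :=
  congrArg (arr (y := x) (𝟙 x.X)) (Category.comp_id _)

/-- Cartesian morphisms: `K = f^* M`. -/
def IsC {x y : Tot.{u}} (a : x ⟶ y) : Prop := IsIso a.fib

/-- Universal morphisms: `M = R f_* K`. -/
def IsU {x y : Tot.{u}} (a : x ⟶ y) : Prop :=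
  ∀ N : D y.X, Function.Bijective (fun b : N ⟶ y.K => (L a.base).map b ≫ a.fib)

section cartesian

variable {x y z : Tot.{u}}

/-- The standard cartesian morphism. -/
noncomputable def car {X : Scheme.{u}} (y : Tot.{u}) (f : X ⟶ y.X) :
    (⟨X, (L f).obj y.K⟩ : Tot) ⟶ y := arr (x := ⟨X, (L f).obj y.K⟩) f (𝟙 _)

@[simp] lemma car_base {X : Scheme.{u}} (y : Tot.{u}) (f : X ⟶ y.X) : (car y f).base = f := rfl

lemma isC_car {X : Scheme.{u}} (y : Tot.{u}) (f : X ⟶ y.X) : IsC (car y f) :=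
  inferInstanceAs (IsIso (𝟙 _))

lemma IsC.exists_lift {a : y ⟶ z} (ha : IsC a) (c : x ⟶ z) (g : x.X ⟶ y.X)
    (w : g ≫ a.base = c.base) : ∃ b : x ⟶ y, b.base = g ∧ b ≫ a = c := by
  have : IsIso a.fib := ha
  refine ⟨arr g ((L g).map (inv a.fib) ≫ (Lcomp w).hom.app z.K ≫ c.fib), rfl, ?_⟩
  refine (comp_arr _ a w).trans (congrArg (arr c.base) ?_)
  simp only [arr_fib, arr_base]
  rw [← Functor.map_comp_assoc, IsIso.hom_inv_id, CategoryTheory.Functor.map_id, Category.id_comp]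
  exact Iso.inv_hom_id_app_assoc _ _ _

lemma IsC.hom_ext {a : y ⟶ z} (ha : IsC a) {b b' : x ⟶ y} (h : b.base = b'.base)
    (h' : b ≫ a = b' ≫ a) : b = b' := by
  have : IsIso a.fib := ha
  obtain ⟨g, φ⟩ := b
  obtain ⟨g', φ'⟩ := b'
  dsimp only at h
  subst h
  rw [comp_arr _ a rfl, comp_arr _ a rfl] at h'
  have := arr_injective h'
  congr 1
  exact (cancel_epi _).1 ((cancel_epi _).1 this)

lemma IsC.comp {a : x ⟶ y} {b : y ⟶ z} (ha : IsC a) (hb : IsC b) : IsC (a ≫ b) := by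
  have : IsIso a.fib := ha
  have : IsIso b.fib := hb
  change IsIso ((Lcomp _).inv.app _ ≫ (L a.base).map b.fib ≫ a.fib)
  infer_instance

lemma IsC.of_comp {a : x ⟶ y} {b : y ⟶ z} (hb : IsC b) (hab : IsC (a ≫ b)) : IsC a := by
  have : IsIso b.fib := hb
  have h : IsIso ((Lcomp rfl).inv.app _ ≫ (L a.base).map b.fib ≫ a.fib) := hab
  have h2 := @IsIso.of_isIso_comp_left _ _ _ _ _ _ _ _ h
  exact @IsIso.of_isIso_comp_left _ _ _ _ _ _ _ _ h2

lemma isC_v {M : D x.X} (φ : M ⟶ x.K) : IsC (v φ) ↔ IsIso φ := by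
  constructor
  · intro h
    have : IsIso ((Lid x.X).hom.app M ≫ φ) := h
    exact IsIso.of_isIso_comp_left ((Lid x.X).hom.app M) φ
  · intro h
    change IsIso ((Lid x.X).hom.app M ≫ φ)
    infer_instance

end cartesian

section universal

variable {x y z : Tot.{u}}

lemma IsU.exists_desc {a : x ⟶ y} (ha : IsU a) (c : x ⟶ z) (g : y.X ⟶ z.X)
    (w : a.base ≫ g = c.base) : ∃ b : y ⟶ z, b.base = g ∧ a ≫ b = c := by
  obtain ⟨β, hβ⟩ := (ha ((L g).obj z.K)).2 ((Lcomp w).hom.app z.K ≫ c.fib)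
  refine ⟨arr g β, rfl, ?_⟩
  refine (comp_arr a _ w).trans (congrArg (arr c.base) ?_)
  dsimp only at hβ
  change (Lcomp w).inv.app z.K ≫ (L a.base).map β ≫ a.fib = c.fib
  rw [hβ]
  exact Iso.inv_hom_id_app_assoc _ _ _

lemma IsU.hom_ext {a : x ⟶ y} (ha : IsU a) {b b' : y ⟶ z} (h : b.base = b'.base)
    (h' : a ≫ b = a ≫ b') : b = b' := by
  obtain ⟨g, φ⟩ := b
  obtain ⟨g', φ'⟩ := b'
  dsimp only at h
  subst h
  rw [comp_arr a _ rfl, comp_arr a _ rfl] at h'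
  have := arr_injective h'
  congr 1
  exact (ha _).1 ((cancel_epi _).1 this)

/-- Reformulation in terms of vertical morphisms. -/
lemma isU_iff (a : x ⟶ y) : IsU a ↔ ∀ N : D y.X,
    (∀ b b' : y ⟶ ⟨y.X, N⟩, b.base = 𝟙 _ → b'.base = 𝟙 _ → a ≫ b = a ≫ b' → b = b') ∧
    (∀ c : x ⟶ ⟨y.X, N⟩, c.base = a.base → ∃ b : y ⟶ ⟨y.X, N⟩, b.base = 𝟙 _ ∧ a ≫ b = c) := by
  constructor
  · intro h N
    exact ⟨fun b b' hb hb' h' => h.hom_ext (hb.trans hb'.symm) h',
      fun c hc => h.exists_desc c (𝟙 _) (by rw [hc, Category.comp_id])⟩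
  · intro h N
    obtain ⟨h1, h2⟩ := h N
    constructor
    · intro b b' hb
      apply v_injective
      apply h1 _ _ rfl rfl
      rw [comp_v, comp_v]
      exact congrArg _ hb
    · intro c
      obtain ⟨b, hb, hb'⟩ := h2 (arr (y := ⟨y.X, N⟩) a.base c) rfl
      obtain ⟨φ, rfl⟩ := exists_v b hb
      refine ⟨φ, ?_⟩
      rw [comp_v] at hb'
      exact arr_injective hb'

lemma IsU.comp {a : x ⟶ y} {b : y ⟶ z} (ha : IsU a) (hb : IsU b) : IsU (a ≫ b) := by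
  rw [isU_iff]
  intro N
  refine ⟨fun c c' hc hc' h => hb.hom_ext (hc.trans hc'.symm)
    (ha.hom_ext ((congrArg (fun t => b.base ≫ t) (hc.trans hc'.symm))) (by simpa using h)),
    fun c hc => ?_⟩
  obtain ⟨d, hd, hd'⟩ := ha.exists_desc c b.base hc.symm
  obtain ⟨e, he, he'⟩ := hb.exists_desc d (𝟙 _) (by rw [hd, Category.comp_id])
  exact ⟨e, he, by rw [Category.assoc, he', hd']⟩

lemma IsU.of_comp {a : x ⟶ y} {b : y ⟶ z} (ha : IsU a) (hab : IsU (a ≫ b)) : IsU b := by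
  rw [isU_iff]
  intro N
  refine ⟨fun c c' hc hc' h => hab.hom_ext (hc.trans hc'.symm) (by
    rw [Category.assoc, Category.assoc, h]), fun c hc => ?_⟩
  obtain ⟨e, he, he'⟩ := hab.exists_desc (a ≫ c) (𝟙 _)
    ((Category.comp_id _).trans (congrArg (fun t => a.base ≫ t) hc).symm)
  exact ⟨e, he, ha.hom_ext ((congrArg (fun t => b.base ≫ t) he).trans
    ((Category.comp_id _).trans hc.symm)) (by rw [← he', Category.assoc])⟩

lemma isU_v {M : D x.X} (φ : M ⟶ x.K) : IsU (v φ) ↔ IsIso φ := by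
  have key : ∀ (N : D x.X), (fun b : N ⟶ M => (L (v φ).base).map b ≫ (v φ).fib) =
      (fun c => (Lid x.X).hom.app N ≫ c) ∘ (fun b : N ⟶ M => b ≫ φ) := by
    intro N
    funext b
    have h := (Lid x.X).hom.naturality b
    simp only [Functor.id_map] at h
    dsimp only [v_base, v_fib, Function.comp]
    rw [← reassoc_of% h]
  have key2 : ∀ (N : D x.X), Function.Bijective
      (fun c : N ⟶ x.K => (Lid x.X).hom.app N ≫ c) := fun N =>
    ⟨fun a b h => (cancel_epi _).1 h, fun c => ⟨(Lid x.X).inv.app N ≫ c,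
      Iso.hom_inv_id_app_assoc _ _ _⟩⟩
  have : IsU (v φ) ↔ ∀ N : D x.X, Function.Bijective (fun b : N ⟶ M => b ≫ φ) := by
    refine forall_congr' fun N => ?_
    rw [key N]
    exact (key2 N).of_comp_iff' _
  rw [this]
  exact (isIso_iff_yoneda_map_bijective φ).symm

end universal

end Groth.Agent.Sga4h.TotCat
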