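import Groth.Agent.Sga4h.UnivTri
import Groth.Agent.Sga4h.TotEt

/-!
# Triangles in the total category

* `sh n x`, `shm n a` : shifts; compatibility with composition, cartesian and universal morphisms;
* `UU.shift`;
* `exists_uu_hom₃` : in a distinguished triangle `K₁ ⟶ K₂ ⟶ K₃`, if the universal morphisms of `K₁`, `K₂` over `f`
  are stable under base change then so is the one of `K₃`, and the targets form a triangle.
-/

set_option autoImplicit false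
universe u
open CategoryTheory CategoryTheory.Limits AlgebraicGeometry Opposite DerivedCategory Pretriangulated

namespace Groth.Agent.Sga4h.TotCat

open Groth.Agent.Sga4h.LPull Groth.Agent.Sga4h.UnivTri

attribute [local instance] HasDerivedCategory.standard

/-- Shift of an object. -/
noncomputable abbrev sh (n : ℤ) (x : Tot.{u}) : Tot.{u} := ⟨x.X, x.K⟦n⟧⟩

/-- Shift of a morphism. -/
noncomputable def shm (n : ℤ) {x y : Tot.{u}} (a : x ⟶ y) : sh n x ⟶ sh n y :=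
  arr (x := sh n x) (y := sh n y) a.base (shiftArr a.fib n)

@[simp] lemma shm_base (n : ℤ) {x y : Tot.{u}} (a : x ⟶ y) : (shm n a).base = a.base := rfl

lemma shm_comp (n : ℤ) {x y z : Tot.{u}} (a : x ⟶ y) (c : y ⟶ z) :
    shm n (a ≫ c) = shm n a ≫ shm n c := by
  refine Eq.trans ?_ (comp_arr (shm n a) (shm n c) rfl).symm
  refine congrArg (arr (x := sh n x) (y := sh n z) (a.base ≫ c.base)) ?_
  change ((L (a.base ≫ c.base)).commShiftIso n).hom.app z.K ≫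
    ((Lcomp rfl).inv.app z.K ≫ (L a.base).map c.fib ≫ a.fib)⟦n⟧' =
    (Lcomp rfl).inv.app (z.K⟦n⟧) ≫ (L a.base).map (((L c.base).commShiftIso n).hom.app z.K ≫
      c.fib⟦n⟧') ≫ ((L a.base).commShiftIso n).hom.app y.K ≫ a.fib⟦n⟧'
  have h1 := NatTrans.shift_app_comm (Lcomp (rfl : a.base ≫ c.base = a.base ≫ c.base)).inv n z.K
  rw [Functor.commShiftIso_comp_hom_app] at h1
  have h2 := ((L a.base).commShiftIso n).hom.naturality c.fib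
  simp only [Functor.comp_map] at h2
  rw [Functor.map_comp, Functor.map_comp, Functor.map_comp]
  rw [reassoc_of% h1]
  simp only [Category.assoc]
  rw [reassoc_of% h2]

lemma isC_shm (n : ℤ) {x y : Tot.{u}} {a : x ⟶ y} (h : IsC a) : IsC (shm n a) := by
  have : IsIso a.fib := h
  change IsIso (((L a.base).commShiftIso n).hom.app y.K ≫ a.fib⟦n⟧')
  infer_instance

lemma isU_shm (n : ℤ) {x y : Tot.{u}} {a : x ⟶ y} (h : IsU a) : IsU (shm n a) :=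
  IsUF.shift h n

lemma UU.shm {x y : Tot.{u}} {S : Scheme.{u}} {b : y.X ⟶ S} {a : x ⟶ y} (h : UU b a) (n : ℤ) :
    UU (y := sh n y) b (shm n a) := by
  intro S' X' Y' g b' gY f' gX h1 h2 a' e w
  obtain ⟨a₁, e₁, w₁⟩ := exists_bc a gY f' gX h2.w
  have hU := isU_shm n (h g b' gY f' gX h1 h2 a₁ e₁ w₁)
  refine isU_transfer (a := TotCat.shm n a) (isC_shm n (isC_car x gX)) (isC_car (sh n x) gX)
    (isC_shm n (isC_car y gY)) (isC_car (sh n y) gY) rfl rfl ?_ w (e₁.trans e.symm) hU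
  rw [← shm_comp, ← shm_comp, w₁]

section triangle

variable {X Y S : Scheme.{u}}

/-- Naturality of the standard cartesian morphisms. -/
lemma car_v {X' : Scheme.{u}} (g : X' ⟶ X) {K M : D X} (φ : M ⟶ K) :
    car ⟨X, K⟩ g ≫ v (x := ⟨X, K⟩) φ =
      v (x := ⟨X', (L g).obj K⟩) ((L g).map φ) ≫ car ⟨X, M⟩ g := by
  refine (comp_v (car ⟨X, K⟩ g) φ).trans (Eq.trans ?_
    (v_comp' (x := ⟨X', (L g).obj K⟩) ((L g).map φ) (car ⟨X, M⟩ g)).symm)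
  refine congrArg (arr (x := ⟨X', (L g).obj K⟩) (y := ⟨X, M⟩) g) ?_
  change (L g).map φ ≫ 𝟙 _ = 𝟙 _ ≫ (L g).map φ
  rw [Category.comp_id, Category.id_comp]

/-- Compatibility of the standard cartesian morphisms with shifts. -/
lemma shm_car {X' : Scheme.{u}} (g : X' ⟶ X) (K : D X) (n : ℤ) :
    shm n (car ⟨X, K⟩ g) =
      v (x := sh n ⟨X', (L g).obj K⟩) (((L g).commShiftIso n).hom.app K) ≫
        car (sh n ⟨X, K⟩) g := by
  refine Eq.trans ?_ (v_comp' (x := sh n ⟨X', (L g).obj K⟩) (((L g).commShiftIso n).hom.app K)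
    (car (sh n ⟨X, K⟩) g)).symm
  refine congrArg (arr (x := sh n ⟨X', (L g).obj K⟩) (y := sh n ⟨X, K⟩) g) ?_
  change ((L g).commShiftIso n).hom.app K ≫ (𝟙 ((L g).obj K))⟦n⟧' =
    𝟙 _ ≫ ((L g).commShiftIso n).hom.app K
  rw [CategoryTheory.Functor.map_id, Category.id_comp]
  exact Category.comp_id _

/-- A square with vertical sides, in terms of fibres. -/
lemma comp_v_eq_iff {f : X ⟶ Y} {K K' : D X} {M M' : D Y} (ε : (L f).obj M ⟶ K)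
    (ε' : (L f).obj M' ⟶ K') (φ : K' ⟶ K) (ψ : M' ⟶ M) :
    (arr (x := ⟨X, K⟩) (y := ⟨Y, M⟩) f ε ≫ v (x := ⟨Y, M⟩) ψ =
      v (x := ⟨X, K⟩) φ ≫ arr (x := ⟨X, K'⟩) (y := ⟨Y, M'⟩) f ε') ↔
      (L f).map ψ ≫ ε = ε' ≫ φ := by
  constructor
  · intro h
    have h2 : arr (x := ⟨X, K⟩) (y := ⟨Y, M'⟩) f ((L f).map ψ ≫ ε) =
        arr (x := ⟨X, K⟩) (y := ⟨Y, M'⟩) f (ε' ≫ φ) :=
      (comp_v (arr (x := ⟨X, K⟩) (y := ⟨Y, M⟩) f ε) ψ).symm.trans (h.trans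
        (v_comp' (x := ⟨X, K⟩) φ (arr (x := ⟨X, K'⟩) (y := ⟨Y, M'⟩) f ε')))
    exact arr_injective h2
  · intro h
    exact (comp_v (arr (x := ⟨X, K⟩) (y := ⟨Y, M⟩) f ε) ψ).trans ((congrArg _ h).trans
        (v_comp' (x := ⟨X, K⟩) φ (arr (x := ⟨X, K'⟩) (y := ⟨Y, M'⟩) f ε')).symm)

/-- Base change of a square with vertical sides. -/
lemma bc_square_v {f : X ⟶ Y} {K K' : D X} {M M' : D Y} {ε : (L f).obj M ⟶ K}
    {ε' : (L f).obj M' ⟶ K'} {φ : K' ⟶ K} {ψ : M' ⟶ M} (h : (L f).map ψ ≫ ε = ε' ≫ φ)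
    {X' Y' : Scheme.{u}} {gY : Y' ⟶ Y} {f' : X' ⟶ Y'} {gX : X' ⟶ X}
    {δ : (L f').obj ((L gY).obj M) ⟶ (L gX).obj K}
    {δ' : (L f').obj ((L gY).obj M') ⟶ (L gX).obj K'}
    (w : arr (x := ⟨X', (L gX).obj K⟩) (y := ⟨Y', (L gY).obj M⟩) f' δ ≫ car ⟨Y, M⟩ gY =
      car ⟨X, K⟩ gX ≫ arr (x := ⟨X, K⟩) (y := ⟨Y, M⟩) f ε)
    (w' : arr (x := ⟨X', (L gX).obj K'⟩) (y := ⟨Y', (L gY).obj M'⟩) f' δ' ≫ car ⟨Y, M'⟩ gY =
      car ⟨X, K'⟩ gX ≫ arr (x := ⟨X, K'⟩) (y := ⟨Y, M'⟩) f ε') :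
    (L f').map ((L gY).map ψ) ≫ δ = δ' ≫ (L gX).map φ := by
  rw [← comp_v_eq_iff]
  apply (isC_car ⟨Y, M'⟩ gY).hom_ext
  · exact (Category.comp_id _).trans (Category.id_comp _).symm
  · rw [Category.assoc, ← car_v, ← Category.assoc, w, Category.assoc, (comp_v_eq_iff _ _ _ _).2 h,
      ← Category.assoc, car_v, Category.assoc, Category.assoc, w']

/-- Five lemma for morphisms stable under base change. -/
theorem exists_uu_hom₃ {f : X ⟶ Y} (b : Y ⟶ S) {T' : Triangle (D X)} (hT' : T' ∈ distTriang _)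
    {M₁ M₂ : D Y} (ε₁ : (L f).obj M₁ ⟶ T'.obj₁) (ε₂ : (L f).obj M₂ ⟶ T'.obj₂)
    (h₁ : UU (x := ⟨X, T'.obj₁⟩) (y := ⟨Y, M₁⟩) b (arr f ε₁))
    (h₂ : UU (x := ⟨X, T'.obj₂⟩) (y := ⟨Y, M₂⟩) b (arr f ε₂)) :
    ∃ (M₃ : D Y) (m₁ : M₁ ⟶ M₂) (m₂ : M₂ ⟶ M₃) (m₃ : M₃ ⟶ M₁⟦(1 : ℤ)⟧),
      Triangle.mk m₁ m₂ m₃ ∈ distTriang _ ∧
      ∃ ε₃ : (L f).obj M₃ ⟶ T'.obj₃, UU (x := ⟨X, T'.obj₃⟩) (y := ⟨Y, M₃⟩) b (arr f ε₃) := by
  obtain ⟨m₁, hm₁⟩ := (h₂.isU_self M₁).2 (ε₁ ≫ T'.mor₁)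
  obtain ⟨M₃, m₂, m₃, hT⟩ := distinguished_cocone_triangle m₁
  obtain ⟨ε₃, hc₂, hc₃⟩ := complete_distinguished_triangle_morphism
    ((L f).mapTriangle.obj (Triangle.mk m₁ m₂ m₃)) T' ((L f).map_distinguished _ hT) hT'
    ε₁ ε₂ hm₁
  refine ⟨M₃, m₁, m₂, m₃, hT, ε₃, ?_⟩
  intro S' X' Y' g b' gY f' gX hp₁ hp₂ a' e w
  obtain ⟨δ₃, rfl⟩ := exists_arr a' e
  obtain ⟨a₁, e₁, w₁⟩ := exists_bc (x := ⟨X, T'.obj₁⟩) (y := ⟨Y, M₁⟩) (arr f ε₁) gY f' gX hp₂.w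
  obtain ⟨a₂, e₂, w₂⟩ := exists_bc (x := ⟨X, T'.obj₂⟩) (y := ⟨Y, M₂⟩) (arr f ε₂) gY f' gX hp₂.w
  have U₁ := h₁ g b' gY f' gX hp₁ hp₂ a₁ e₁ w₁
  have U₂ := h₂ g b' gY f' gX hp₁ hp₂ a₂ e₂ w₂
  obtain ⟨δ₁, rfl⟩ := exists_arr a₁ e₁
  obtain ⟨δ₂, rfl⟩ := exists_arr a₂ e₂
  obtain ⟨as, es, ws⟩ := exists_bc (shm 1 (arr (x := ⟨X, T'.obj₁⟩) (y := ⟨Y, M₁⟩) f ε₁)) gY f' gX
    hp₂.w
  obtain ⟨δs, rfl⟩ := exists_arr as es
  have hcomm : (L f').map (((L gY).commShiftIso (1 : ℤ)).hom.app M₁) ≫ shiftArr δ₁ 1 =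
      δs ≫ ((L gX).commShiftIso (1 : ℤ)).hom.app T'.obj₁ := by
    rw [← comp_v_eq_iff]
    apply (isC_car ⟨Y, M₁⟦(1 : ℤ)⟧⟩ gY).hom_ext
    · exact (Category.comp_id _).trans (Category.id_comp _).symm
    · have k1 := shm_car gY M₁ 1
      have k2 := shm_car gX T'.obj₁ 1
      have k3 := congrArg (shm 1) w₁
      rw [shm_comp, shm_comp] at k3
      rw [Category.assoc, Category.assoc]
      refine (congrArg (fun t => arr (x := ⟨X', ((L gX).obj T'.obj₁)⟦(1 : ℤ)⟧⟩)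
        (y := ⟨Y', ((L gY).obj M₁)⟦(1 : ℤ)⟧⟩) f' (shiftArr δ₁ 1) ≫ t) k1.symm).trans ?_
      refine (k3.trans ?_).trans (congrArg (fun t => v (x := ⟨X', ((L gX).obj T'.obj₁)⟦(1 : ℤ)⟧⟩)
        (((L gX).commShiftIso (1 : ℤ)).hom.app T'.obj₁) ≫ t) ws.symm)
      rw [k2, Category.assoc]
  refine isUF_hom₃ (Φ := L f') (T := (L gY).mapTriangle.obj (Triangle.mk m₁ m₂ m₃))
    (T' := (L gX).mapTriangle.obj T') ((L gY).map_distinguished _ hT)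
    ((L gX).map_distinguished _ hT') δ₁ δ₂ δ₃ ?_ ?_ ?_ U₁ U₂
  · exact bc_square_v hm₁ w₂ w₁
  · exact bc_square_v hc₂ w w₂
  · have hc₃' : (L f).map m₃ ≫ shiftArr ε₁ 1 = ε₃ ≫ T'.mor₃ := by
      refine Eq.trans ?_ hc₃
      rw [shiftArr]
      exact (Category.assoc _ _ _).symm
    have := bc_square_v hc₃' ws w
    change (L f').map ((L gY).map m₃ ≫ ((L gY).commShiftIso (1 : ℤ)).hom.app M₁) ≫
      shiftArr δ₁ 1 = δ₃ ≫ (L gX).map T'.mor₃ ≫ ((L gX).commShiftIso (1 : ℤ)).hom.app T'.obj₁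
    rw [Functor.map_comp, Category.assoc, hcomm, reassoc_of% this]

end triangle

end Groth.Agent.Sga4h.TotCat
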