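import Groth.Agent.Etcore.IntUnivInj
import Groth.Agent.Etcore.OpenClosed
import Groth.Agent.Etcore.EtInst
import Groth.Agent.EtpbcA.CdExact
import Groth.Agent.Sga4A.IntegralSection

/-!
# Cohomology of a sheaf supported on a disjoint union of closed subschemes

`Groth.Agent.Sga4h.UlaGen16a.H_subsingleton_of_cover`: `s k : Y k ⟶ Z` finitely many closed
immersions such that every point of the support of `M` lies in the range of exactly one `s k`.
If `H^n(Y k, (s k)⁻¹ M) = 0` for all `k` then `H^n(Z, M) = 0`.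
-/

set_option autoImplicit false

universe u v v' u'

open CategoryTheory CategoryTheory.Limits CategoryTheory.Abelian AlgebraicGeometry Opposite

namespace Groth.Agent.Sga4h.UlaGen16a

section general

variable {A : Type u} [Category.{v} A] [Preadditive A] {B : Type u'} [Category.{v'} B]
  [Preadditive B] (Φ : A ⥤ B) [Φ.Additive] {ι : Type} [Fintype ι] (N : ι → A) [HasBiproduct N]

theorem map_total : ∑ j, Φ.map (biproduct.π N j) ≫ Φ.map (biproduct.ι N j) =
    𝟙 (Φ.obj (⨁ N)) := by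
  rw [← Φ.map_id, ← biproduct.total, Functor.map_sum]
  exact Finset.sum_congr rfl fun j _ => (Φ.map_comp _ _).symm

theorem isZero_map_biproduct (h : ∀ j, IsZero (Φ.obj (N j))) : IsZero (Φ.obj (⨁ N)) := by
  rw [IsZero.iff_id_eq_zero, ← map_total Φ N]
  exact Finset.sum_eq_zero fun j _ => by rw [(h j).eq_of_tgt (Φ.map (biproduct.π N j)) 0, zero_comp]

theorem isIso_map_π (k : ι) (h0 : ∀ j, j ≠ k → IsZero (Φ.obj (N j))) :
    IsIso (Φ.map (biproduct.π N k)) := by
  refine ⟨Φ.map (biproduct.ι N k), ?_, ?_⟩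
  · rw [← map_total Φ N]
    symm
    exact Finset.sum_eq_single k
      (fun j _ hj => by rw [(h0 j hj).eq_of_tgt (Φ.map (biproduct.π N j)) 0, zero_comp])
      (fun h => absurd (Finset.mem_univ k) h)
  · rw [← Φ.map_comp, biproduct.ι_π_self, Φ.map_id]

theorem isIso_map_lift {M : A} (u : ∀ k, M ⟶ N k) (k : ι) (hk : IsIso (Φ.map (u k)))
    (h0 : ∀ j, j ≠ k → IsZero (Φ.obj (N j))) : IsIso (Φ.map (biproduct.lift u)) := by
  have h1 := isIso_map_π Φ N k h0
  have h2 : Φ.map (biproduct.lift u) ≫ Φ.map (biproduct.π N k) = Φ.map (u k) := by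
    rw [← Φ.map_comp, biproduct.lift_π]
  exact IsIso.of_isIso_fac_right h2

theorem subsingleton_ext_biproduct {C : Type u} [Category.{v} C] [Abelian C] [HasExt.{v'} C]
    (X : C) {ι : Type} [Fintype ι] (N : ι → C) [HasBiproduct N] (n : ℕ)
    (h : ∀ k, Subsingleton (Abelian.Ext X (N k) n)) : Subsingleton (Abelian.Ext X (⨁ N) n) :=
  (Abelian.Ext.addEquivBiproduct X (biproduct.isBilimit N) n).toEquiv.subsingleton

end general

open scoped Groth.Agent.Etcore.EtInst
open Groth.Agent.EtpbcA Groth.Agent.Etcore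

variable {Z : Scheme.{u}} {ι : Type} [Fintype ι] {Y : ι → Scheme.{u}} (s : ∀ k, Y k ⟶ Z)
  [∀ k, IsClosedImmersion (s k)]

/-- A sheaf supported on a disjoint union of closed subschemes is the sum of its restrictions. -/
theorem isIso_lift_unit (M : EtCoh.Ab Z)
    (h : ∀ z ∈ EtPBC.supp M, ∃! k, z ∈ Set.range (s k)) :
    IsIso (biproduct.lift fun k => (EtCoh.pullPushAdj (s k)).unit.app M) := by
  have hsupp : ∀ k, EtPBC.supp ((EtCoh.push (s k)).obj ((EtCoh.pull (s k)).obj M)) ⊆
      Set.range (s k) := fun k => IntUnivInj.supp_push (s k) _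
  refine Stalks.isIso_of_stalks _ fun z => ?_
  by_cases hz : z ∈ EtPBC.supp M
  · obtain ⟨k, ⟨y, rfl⟩, huniq⟩ := h z hz
    obtain ⟨Ω, _, _, ζ, hζ⟩ := Artin.exists_point y
    have hζ' : Set.range (ζ ≫ s k) = {s k y} := by
      rw [Artin.range_eq_iff] at hζ ⊢
      rw [Scheme.Hom.comp_apply, hζ]
    refine ⟨Ω, inferInstance, inferInstance, ζ ≫ s k, (Artin.range_eq_iff _ _).1 hζ', ?_⟩
    have hc : IsIso (EtCoh.pullPushAdj (s k)).counit := OpenClosed.isIso_counit_closedImmersion _
    refine isIso_map_lift (EtCoh.stalk (ζ ≫ s k)) _ _ k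
      (IntUnivInj.isIso_stalk_unit (s k) ζ M) fun j hj => ?_
    by_contra hc
    exact hj (huniq j (hsupp j ((Artin.mem_supp_iff _ _ _ hζ').2 hc)))
  · obtain ⟨Ω, _, _, ξ, hξ⟩ := Artin.exists_point z
    have hz' : IsZero ((EtCoh.stalk ξ).obj M) := by
      by_contra hc
      exact hz ((Artin.mem_supp_iff _ _ _ hξ).2 hc)
    have hk : ∀ k, IsZero ((EtCoh.stalk ξ).obj
        ((EtCoh.push (s k)).obj ((EtCoh.pull (s k)).obj M))) := by
      intro k
      by_contra hc
      have hc' := (Artin.mem_supp_iff _ _ _ hξ).2 hc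
      obtain ⟨y, rfl⟩ := hsupp k hc'
      obtain ⟨Ω', _, _, ζ, hζ⟩ := Artin.exists_point y
      have hζ' : Set.range (ζ ≫ s k) = {s k y} := by
        rw [Artin.range_eq_iff] at hζ ⊢
        rw [Scheme.Hom.comp_apply, hζ]
      have hcc : IsIso (EtCoh.pullPushAdj (s k)).counit :=
        OpenClosed.isIso_counit_closedImmersion _
      have := IntUnivInj.isIso_stalk_unit (s k) ζ M
      refine hz ((Artin.mem_supp_iff _ _ _ hζ').2 fun hM => ?_)
      exact (Artin.mem_supp_iff _ _ _ hζ').1 hc'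
        (hM.of_iso (asIso ((EtCoh.stalk (ζ ≫ s k)).map
          ((EtCoh.pullPushAdj (s k)).unit.app M))).symm)
    refine ⟨Ω, inferInstance, inferInstance, ξ, (Artin.range_eq_iff _ _).1 hξ, ?_⟩
    exact hz'.isIso (isZero_map_biproduct _ _ hk) _

/-- `H^n(Z, M) = 0` if `M` is supported on the disjoint union of the closed subschemes `Y k` and
all the `H^n(Y k, M|_{Y k})` vanish. -/
theorem H_subsingleton_of_cover (M : EtCoh.Ab Z)
    (h : ∀ z ∈ EtPBC.supp M, ∃! k, z ∈ Set.range (s k)) (n : ℕ)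
    (hH : ∀ k, Subsingleton (EtCoh.H (Y k) ((EtCoh.pull (s k)).obj M) n)) :
    Subsingleton (EtCoh.H Z M n) := by
  have h1 := isIso_lift_unit s M h
  refine CdEtLeray.H_subsingleton_of_iso
    (asIso (biproduct.lift fun k => (EtCoh.pullPushAdj (s k)).unit.app M)).symm n ?_
  refine subsingleton_ext_biproduct _ _ n fun k => ?_
  have h2 := Groth.Agent.Sga4A.EtSplit.preservesFiniteColimits_push (s k)
  exact (CdExact.H_push_iff (s k) _ n).2 (hH k)

end Groth.Agent.Sga4h.UlaGen16a
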