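import Groth.Agent.Sga4h.UlaRing812
import Groth.Agent.Etrest.StrictLoc
import Mathlib.AlgebraicGeometry.Pullbacks
import Mathlib.AlgebraicGeometry.Morphisms.Integral
import Mathlib.AlgebraicGeometry.Morphisms.OpenImmersion

/-!
# Geometry of `Spec V'`

`V' = integralClosure V L`.

* `isOpenImmersion_gen`, `range_gen`: `Spec L → Spec V'` is the open immersion of the complement of
  the closed point;
* `isIso_of_isPullback`: a `V'`-algebra map `ψ : A → B`, injective and with `π^k B` in the image
  "eventually", is an isomorphism after every base change which factors through `Spec L`.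
-/

set_option autoImplicit false
set_option linter.unusedSectionVars false

universe u

open CategoryTheory CategoryTheory.Limits AlgebraicGeometry IsLocalRing
open scoped TensorProduct

namespace Groth.Agent.Sga4h.UlaRingSch812

open Groth.Agent.Etrest.StrictLoc UlaRing812

section general

variable (R A B L : Type u) [CommRing R] [CommRing A] [CommRing B] [CommRing L] [Algebra R A]
  [Algebra R B] [Algebra R L]

theorem isPullback_tensor : IsPullback (spm (algebraMap A (A ⊗[R] L)))
      (spm (Algebra.TensorProduct.includeRight.toRingHom : L →+* A ⊗[R] L))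
      (spm (algebraMap R A)) (spm (algebraMap R L)) :=
  isPullback_SpecMap_of_isPushout _ _ _ _ (CommRingCat.isPushout_tensorProduct R A L)

variable {R A B} in
theorem isPullback_map (ψ : A →ₐ[R] B) :
    IsPullback (spm (algebraMap B (B ⊗[R] L)))
      (spm (Algebra.TensorProduct.map ψ (AlgHom.id R L)).toRingHom)
      (spm ψ.toRingHom) (spm (algebraMap A (A ⊗[R] L))) := by
  refine IsPullback.of_bot (h₃₁ := spm (algebraMap R L))
    (v₂₁ := spm (Algebra.TensorProduct.includeRight.toRingHom : L →+* A ⊗[R] L))
    (v₂₂ := spm (algebraMap R A)) ?_ ?_ (isPullback_tensor R A L)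
  · have e1 : spm (Algebra.TensorProduct.map ψ (AlgHom.id R L)).toRingHom ≫
        spm (Algebra.TensorProduct.includeRight.toRingHom : L →+* A ⊗[R] L) =
        spm (Algebra.TensorProduct.includeRight.toRingHom : L →+* B ⊗[R] L) := by
      rw [← spm_comp, spm_inj]
      ext x
      simp
    have e2 : spm ψ.toRingHom ≫ spm (algebraMap R A) = spm (algebraMap R B) := by
      rw [← spm_comp, spm_inj]
      exact ψ.comp_algebraMap
    rw [e1, e2]
    exact isPullback_tensor R B L
  · rw [← spm_comp, ← spm_comp, spm_inj]
    ext x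
    simp

variable {R A B} in
/-- generic isomorphism -/
theorem bijective_map (ψ : A →ₐ[R] B) (hψ : Function.Injective ψ) (f : R)
    [IsLocalization.Away f L] (hs : ∀ y : B, ∃ (k : ℕ) (x : A), ψ x = f ^ k • y) :
    Function.Bijective (Algebra.TensorProduct.map ψ (AlgHom.id R L)) := by
  constructor
  · have : Module.Flat R L := IsLocalization.flat L (Submonoid.powers f)
    exact Module.Flat.rTensor_preserves_injective_linearMap (M := L) ψ.toLinearMap hψ
  · intro z
    induction z with
    | zero => exact ⟨0, map_zero _⟩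
    | tmul y l =>
      obtain ⟨k, x, hx⟩ := hs y
      have hu : IsUnit (algebraMap R L (f ^ k)) := by
        rw [map_pow]
        exact (IsLocalization.Away.algebraMap_isUnit f).pow k
      obtain ⟨u, hu⟩ := hu
      refine ⟨x ⊗ₜ (↑u⁻¹ * l), ?_⟩
      change ψ x ⊗ₜ[R] (↑u⁻¹ * l) = y ⊗ₜ[R] l
      rw [hx, TensorProduct.smul_tmul, Algebra.smul_def, ← hu, ← mul_assoc, Units.mul_inv, one_mul]
    | add x y hx hy =>
      obtain ⟨a, rfl⟩ := hx
      obtain ⟨b, rfl⟩ := hy
      exact ⟨a + b, map_add _ _ _⟩

theorem isIso_spm {C C' : Type u} [CommRing C] [CommRing C'] (g : C →+* C')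
    (hg : Function.Bijective g) : IsIso (spm g) := by
  have : IsIso (CommRingCat.ofHom g) := (ConcreteCategory.isIso_iff_bijective _).2 hg
  exact inferInstance

variable {R A B} in
/-- `ψ : A → B` an algebra map which is an isomorphism after `⊗ L`.  A base change `ν` of `Spec ψ`
becomes an isomorphism after every further base change `k` lying over `Spec L`. -/
theorem isIso_of_isPullback_of_bijective (ψ : A →ₐ[R] B)
    (hb : Function.Bijective (Algebra.TensorProduct.map ψ (AlgHom.id R L)))
    {Z' Z W P : Scheme.{u}} (ν : Z' ⟶ Z) (z' : Z' ⟶ Spec (CommRingCat.of B))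
    (z : Z ⟶ Spec (CommRingCat.of A)) (sq : IsPullback z' ν (spm ψ.toRingHom) z)
    (k : W ⟶ Z) (w : W ⟶ Spec (CommRingCat.of L))
    (h : k ≫ z ≫ spm (algebraMap R A) = w ≫ spm (algebraMap R L))
    (fst : P ⟶ Z') (snd : P ⟶ W) (sqP : IsPullback fst snd ν k) : IsIso snd := by
  have h1 := sqP.paste_horiz sq
  let k' : W ⟶ Spec (CommRingCat.of (A ⊗[R] L)) := (isPullback_tensor R A L).lift (k ≫ z) w
    (by rw [Category.assoc, h])
  have hk : k' ≫ spm (algebraMap A (A ⊗[R] L)) = k ≫ z := IsPullback.lift_fst _ _ _ _
  rw [← hk] at h1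
  let m : P ⟶ Spec (CommRingCat.of (B ⊗[R] L)) := (isPullback_map L ψ).lift (fst ≫ z') (snd ≫ k')
    (by rw [h1.w, Category.assoc])
  have hm : m ≫ spm (algebraMap B (B ⊗[R] L)) = fst ≫ z' := IsPullback.lift_fst _ _ _ _
  rw [← hm] at h1
  have h2 := IsPullback.of_right h1 (IsPullback.lift_snd _ _ _ _) (isPullback_map L ψ)
  have := isIso_spm _ hb
  exact MorphismProperty.of_isPullback (P := MorphismProperty.isomorphisms Scheme) h2
    (MorphismProperty.isomorphisms.infer_property _)

end general

section dvr

variable (V K L : Type u) [CommRing V] [IsDomain V] [IsDiscreteValuationRing V]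
  [Field K] [Algebra V K] [IsFractionRing V K]
  [Field L] [Algebra K L] [Algebra V L] [IsScalarTower V K L]

/-- `Spec L ⟶ Spec V'`. -/
noncomputable abbrev gen (V L : Type u) [CommRing V] [Field L] [Algebra V L] :
    Spec (CommRingCat.of L) ⟶ Spec (CommRingCat.of (integralClosure V L)) :=
  spm (algebraMap (integralClosure V L) L)

include K in
theorem isOpenImmersion_gen [Algebra.IsAlgebraic K L] : IsOpenImmersion (gen V L) := by
  obtain ⟨π, hπ⟩ := IsDiscreteValuationRing.exists_irreducible V
  have := isLocalizationAway V K L hπ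
  exact IsOpenImmersion.of_isLocalization (algebraMap V (integralClosure V L) π)

include K in
theorem mem_range_comap_iff [HenselianLocalRing V] [Algebra.IsAlgebraic K L]
    [IsLocalRing (integralClosure V L)] (P : PrimeSpectrum (integralClosure V L)) :
    P ∈ Set.range (PrimeSpectrum.comap (algebraMap (integralClosure V L) L)) ↔
      P ≠ closedPoint (integralClosure V L) := by
  obtain ⟨π, hπ⟩ := IsDiscreteValuationRing.exists_irreducible V
  have := isLocalizationAway V K L hπ
  rw [PrimeSpectrum.localization_away_comap_range L (algebraMap V (integralClosure V L) π),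
    SetLike.mem_coe, PrimeSpectrum.mem_basicOpen, not_iff_not]
  constructor
  · intro h
    rcases eq_bot_or_eq_maximalIdeal V K L P.asIdeal with h1 | h1
    · rw [h1, Ideal.mem_bot] at h
      have h2 := faithfulSMul_integralClosure V K L
      exact absurd (FaithfulSMul.algebraMap_injective V (integralClosure V L)
        (h.trans (map_zero _).symm)) hπ.ne_zero
    · exact PrimeSpectrum.ext h1
  · rintro rfl
    change algebraMap V (integralClosure V L) π ∈ maximalIdeal (integralClosure V L)
    rw [maximalIdeal_eq_radical L hπ.maximalIdeal_eq]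
    exact Ideal.le_radical (Ideal.mem_span_singleton_self _)

include K in
theorem mem_range_gen_iff [HenselianLocalRing V] [Algebra.IsAlgebraic K L]
    [IsLocalRing (integralClosure V L)]
    (P : Spec (CommRingCat.of (integralClosure V L))) :
    P ∈ Set.range (gen V L) ↔ P ≠ (closedPoint (integralClosure V L) :) :=
  mem_range_comap_iff V K L P

/-- The splitting of `V' ⊗ B` in geometric form. -/
theorem exists_split_scheme [IsSepClosed L] [Algebra.IsSeparable K L] (B : Type u) [CommRing B]
    [Algebra V B] [Module.Finite V B] (ι : B →ₐ[V] L) (hι : Function.Injective ι) :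
    ∃ (n : ℕ) (ψ : integralClosure V L ⊗[V] B →ₐ[integralClosure V L]
      (Fin n → integralClosure V L)), IsIntegralHom (spm ψ.toRingHom) ∧ Function.Injective ψ ∧
      ∀ {Z' Z W P : Scheme.{u}} (ν : Z' ⟶ Z)
        (z' : Z' ⟶ Spec (CommRingCat.of (Fin n → integralClosure V L)))
        (z : Z ⟶ Spec (CommRingCat.of (integralClosure V L ⊗[V] B)))
        (_ : IsPullback z' ν (spm ψ.toRingHom) z)
        (k : W ⟶ Z) (w : W ⟶ Spec (CommRingCat.of L))
        (_ : k ≫ z ≫ spm (algebraMap (integralClosure V L) (integralClosure V L ⊗[V] B)) =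
          w ≫ gen V L)
        (fst : P ⟶ Z') (snd : P ⟶ W) (_ : IsPullback fst snd ν k), IsIso snd := by
  obtain ⟨n, ψ, h1, h2⟩ := exists_split V K L B ι hι
  obtain ⟨π, hπ⟩ := IsDiscreteValuationRing.exists_irreducible V
  have := isLocalizationAway V K L hπ
  refine ⟨n, ψ, ?_, h1, ?_⟩
  · rw [IsIntegralHom.SpecMap_iff]
    exact isIntegral_of_algHom V L B n ψ
  · intro Z' Z W P ν z' z sq k w h fst snd sqP
    refine isIso_of_isPullback_of_bijective L ψ (bijective_map L ψ h1
      (algebraMap V (integralClosure V L) π) fun y => ?_) ν z' z sq k w h fst snd sqP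
    obtain ⟨k, x, hx⟩ := h2 π hπ y
    refine ⟨k, x, hx.trans ?_⟩
    rw [← map_pow, algebraMap_smul]

end dvr

end Groth.Agent.Sga4h.UlaRingSch812
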