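import Groth.Agent.Sga4h.NcTransfer
import Groth.Agent.Sga4A.IntegralSection

/-!
# Descent of vanishing along an integral ring extension

`W → B` integral, `f : Z ⟶ Spec W` quasi-compact quasi-separated. A class in `H^q(Z, G)` which dies on `Z ×_W B`
dies on `Z ×_W S` for a finitely generated (hence finite) subalgebra `S` of `B` (`exists_fg_hp_eq_zero`).
`eq_zero_of_class`: if `CC` is a class of sheaves on `Z` such that for `G ∈ CC` all classes of `G` die on `Z ×_W B`, the
unit `G → ρ_* ρ^* G` is mono with cokernel in `CC` for all finitely generated subalgebras, then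
`H^q(Z, G) = 0` for `G ∈ CC`.
-/

set_option autoImplicit false
universe u
open CategoryTheory CategoryTheory.Limits AlgebraicGeometry Opposite Abelian
open scoped Groth.Agent.Etcore.EtInst
open Groth.Agent.Etcore.EtInst Groth.Agent.Etcore.HpullCalc Groth.Agent.Sga4h.NcTransfer
open Groth.Agent.Etcore

namespace Groth.Agent.Sga4h.UlaTower867

section Tower

variable (W B : Type u) [CommRing W] [CommRing B] [Algebra W B]

/-- structure maps of the system of spectra of finitely generated subalgebras -/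
noncomputable def gτ (a : (FGLim.FGSub W B)ᵒᵖ) :
    (PullbackLim.specSys (FGLim.fgSys W B)).obj a ⟶ Spec (CommRingCat.of W) :=
  Spec.map (CommRingCat.ofHom (algebraMap W a.unop.1))

theorem gτ_w ⦃a b : (FGLim.FGSub W B)ᵒᵖ⦄ (h : a ⟶ b) :
    (PullbackLim.specSys (FGLim.fgSys W B)).map h ≫ gτ W B b = gτ W B a := by
  change Spec.map ((FGLim.fgSys W B).map h.unop) ≫
    Spec.map (CommRingCat.ofHom (algebraMap W b.unop.1)) =
    Spec.map (CommRingCat.ofHom (algebraMap W a.unop.1))
  rw [← Spec.map_comp]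
  rfl

theorem gτ_π (a : (FGLim.FGSub W B)ᵒᵖ) :
    (PullbackLim.specCone (FGLim.fgSys W B) (FGLim.fgCocone W B)).π.app a ≫ gτ W B a =
      Spec.map (CommRingCat.ofHom (algebraMap W B)) := by
  change Spec.map ((FGLim.fgCocone W B).ι.app a.unop) ≫
    Spec.map (CommRingCat.ofHom (algebraMap W a.unop.1)) = _
  rw [← Spec.map_comp]
  rfl

/-- the base change of `Z` to a subalgebra -/
noncomputable abbrev stage {Z : Scheme.{u}} (f : Z ⟶ Spec (CommRingCat.of W)) (S : FGLim.FGSub W B) :
    pullback f (Spec.map (CommRingCat.ofHom (algebraMap W S.1))) ⟶ Z :=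
  pullback.fst f (Spec.map (CommRingCat.ofHom (algebraMap W S.1)))

variable {W}

theorem exists_fg_hp_eq_zero {Z : Scheme.{u}} (f : Z ⟶ Spec (CommRingCat.of W)) [QuasiCompact f]
    [QuasiSeparated f] (F : EtCoh.Ab Z) (q : ℕ) (x : HH Z F q)
    (hx : hp (pullback.fst f (Spec.map (CommRingCat.ofHom (algebraMap W B)))) F q x = 0) :
    ∃ S : FGLim.FGSub W B, hp (stage W B f S) F q x = 0 := by
  let T := PullbackLim.specSys (FGLim.fgSys W B)
  let c := PullbackLim.specCone (FGLim.fgSys W B) (FGLim.fgCocone W B)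
  have hc : IsLimit c := PullbackLim.isLimitSpecCone _ _ (FGLim.isColimitFG W B)
  let t : c.pt ⟶ Spec (CommRingCat.of W) := Spec.map (CommRingCat.ofHom (algebraMap W B))
  let c' := PullbackLim.cone T (gτ W B) (gτ_w W B) f c t (gτ_π W B)
  have hc' : IsLimit c' := PullbackLim.isLimitCone T (gτ W B) (gτ_w W B) f c t (gτ_π W B) hc
  let i₀ : FGLim.FGSub W B := ⊥
  let p₀ : pullback f (gτ W B (op i₀)) ⟶ Z := pullback.fst f (gτ W B (op i₀))
  have h4 : hp (c'.π.app (op i₀)) _ q (hp p₀ F q x) = 0 :=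
    (hp_comp_eq_zero_iff (c'.π.app (op i₀)) p₀ (pullback.fst f t)
      (PullbackLim.proj_fst T (gτ W B) f c t (gτ_π W B) (op i₀)) F q x).2 hx
  have hT : ∀ a, CompactSpace (T.obj a) := fun a =>
    inferInstanceAs (CompactSpace (Spec ((FGLim.fgSys W B).obj a.unop)))
  have hT' : ∀ a, QuasiSeparatedSpace (T.obj a) := fun a =>
    inferInstanceAs (QuasiSeparatedSpace (Spec ((FGLim.fgSys W B).obj a.unop)))
  obtain ⟨k, hk, h5⟩ := exists_hp_eq_zero
    (PullbackLim.sys T (gτ W B) (gτ_w W B) f)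
    (fun a b h => PullbackLim.isAffineHom_mapp T (gτ W B) (gτ_w W B) f
      (fun a b h => PullbackLim.isAffineHom_specSys (FGLim.fgSys W B) h) h)
    (fun a => PullbackLim.compactSpace_obj T (gτ W B) (gτ_w W B) f a)
    (fun a => PullbackLim.quasiSeparatedSpace_obj T (gτ W B) (gτ_w W B) f a)
    c' hc' i₀ ((EtCoh.pull p₀).obj F) q (hp p₀ F q x) h4
  exact ⟨k, (hp_comp_eq_zero_iff _ p₀ (pullback.fst f (gτ W B (op k)))
      (PullbackLim.mapp_fst T (gτ W B) (gτ_w W B) f (homOfLE hk).op) F q x).1 h5⟩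

end Tower

/-- A class in degree zero killed by a monomorphism is zero. -/
theorem eq_zero_of_mono_zero {X : Scheme.{u}} {F G : EtCoh.Ab X} (φ : F ⟶ G) [Mono φ] (x : HH X F 0)
    (h : HHmap φ 0 x = 0) : x = 0 := by
  obtain ⟨a, rfl⟩ := (Ext.mk₀_bijective _ _).2 x
  rw [HHmap_apply, Ext.mk₀_comp_mk₀, Ext.mk₀_eq_zero_iff] at h
  rw [(cancel_mono φ).1 (h.trans zero_comp.symm), Ext.mk₀_zero]

/-- Dimension shift: a class killed by a monomorphism `F → G` is zero if `H^q` of the cokernel vanishes. -/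
theorem eq_zero_of_mono_succ {X : Scheme.{u}} {F G : EtCoh.Ab X} (φ : F ⟶ G) [Mono φ] (q : ℕ)
    (hq : ∀ y : HH X (cokernel φ) q, y = 0) (x : HH X F (q + 1)) (h : HHmap φ (q + 1) x = 0) : x = 0 := by
  have hS : (ShortComplex.mk φ (cokernel.π φ) (cokernel.condition φ)).ShortExact :=
    { exact := ShortComplex.exact_of_g_is_cokernel _ (cokernelIsCokernel φ) }
  obtain ⟨y, hy⟩ := Ext.covariant_sequence_exact₁ _ hS x h rfl
  rw [← hy, hq y, Ext.zero_comp]

/-- **Descent of vanishing.** -/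
theorem eq_zero_of_class {W : Type u} (B : Type u) [CommRing W] [CommRing B] [Algebra W B]
    [Algebra.IsIntegral W B] {Z : Scheme.{u}} (f : Z ⟶ Spec (CommRingCat.of W)) [QuasiCompact f]
    [QuasiSeparated f] (CC : EtCoh.Ab Z → Prop)
    (hmono : ∀ G, CC G → ∀ S : FGLim.FGSub W B, Mono ((EtCoh.pullPushAdj (stage W B f S)).unit.app G))
    (hcok : ∀ G, CC G → ∀ S : FGLim.FGSub W B,
      CC (cokernel ((EtCoh.pullPushAdj (stage W B f S)).unit.app G)))
    (hvan : ∀ G, CC G → ∀ (q : ℕ) (x : HH Z G q),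
      hp (pullback.fst f (Spec.map (CommRingCat.ofHom (algebraMap W B)))) G q x = 0)
    (q : ℕ) : ∀ G, CC G → ∀ x : HH Z G q, x = 0 := by
  have hint : ∀ S : FGLim.FGSub W B, PreservesFiniteColimits (EtCoh.push (stage W B f S)) := by
    intro S
    have : Algebra.IsIntegral W S.1 := Algebra.IsIntegral.of_injective S.1.val Subtype.val_injective
    have : IsIntegralHom (Spec.map (CommRingCat.ofHom (algebraMap W S.1))) := by
      rw [IsIntegralHom.SpecMap_iff]
      exact algebraMap_isIntegral_iff.2 inferInstance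
    exact Groth.Agent.Sga4A.EtSplit.preservesFiniteColimits_push _
  induction q with
  | zero =>
    intro G hG x
    obtain ⟨S, hS⟩ := exists_fg_hp_eq_zero B f G 0 x (hvan G hG 0 x)
    have := hint S
    have := hmono G hG S
    exact eq_zero_of_mono_zero _ x (unit_eq_zero_of_hp (stage W B f S) G 0 x hS)
  | succ q ih =>
    intro G hG x
    obtain ⟨S, hS⟩ := exists_fg_hp_eq_zero B f G (q + 1) x (hvan G hG (q + 1) x)
    have := hint S
    have := hmono G hG S
    exact eq_zero_of_mono_succ _ q (ih _ (hcok G hG S)) x (unit_eq_zero_of_hp (stage W B f S) G (q + 1) x hS)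

end Groth.Agent.Sga4h.UlaTower867
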