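import Groth.Agent.Etrest.RDer1

/-!
# Abstract devissage for `F → R L F` after an exact functor

`L ⊣ R`, `L` exact, `P : A₀ ⥤ A` exact, `E : A ⥤ D` exact. `Good adj E F`: `E` turns the unit at `F` into an
isomorphism and kills `R^q R (L F)`, `q > 0`.

`devissage`: if every object `F` of a class `C` embeds in an object `G` with `P G` good and cokernel in `C`,
then `P F` is good for all `F` in `C`.
-/

set_option autoImplicit false
universe v₀ v v' v'' u₀ u u' u''
open CategoryTheory CategoryTheory.Limits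

namespace Groth.Agent.Sga4h.UlaPunctDev

open Groth.Agent.Etrest

variable {A₀ : Type u₀} [Category.{v₀} A₀] [Abelian A₀]
  {A : Type u} [Category.{v} A] [Abelian A] {B : Type u'} [Category.{v'} B] [Abelian B]
  [EnoughInjectives B] {D : Type u''} [Category.{v''} D] [Abelian D]
  {L : A ⥤ B} {R : B ⥤ A} (adj : L ⊣ R) [R.Additive]
  (E : A ⥤ D) [PreservesFiniteLimits E] [PreservesFiniteColimits E]

/-- `E` turns the unit at `F` into an isomorphism and kills the higher derived functors of `R` on `L F`. -/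
def Good (F : A) : Prop :=
  IsIso (E.map (adj.unit.app F)) ∧ ∀ q : ℕ, 0 < q → IsZero (E.obj ((R.rightDerived q).obj (L.obj F)))

section

variable [PreservesFiniteLimits L] [PreservesFiniteColimits L] [PreservesFiniteLimits R]

omit [EnoughInjectives B] [R.Additive] [PreservesFiniteColimits E] [PreservesFiniteLimits L]
  [PreservesFiniteColimits L] [PreservesFiniteLimits R] [Abelian A] [Abelian B] [Abelian D] in
theorem mono_unit {X Y : A} (f : X ⟶ Y) [Mono f] (h : Mono (E.map (adj.unit.app Y))) :
    Mono (E.map (adj.unit.app X)) := by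
  have e : E.map f ≫ E.map (adj.unit.app Y) = E.map (adj.unit.app X) ≫ E.map (R.map (L.map f)) := by
    rw [← E.map_comp, ← E.map_comp]
    exact congrArg E.map (adj.unit.naturality f)
  have : Mono (E.map (adj.unit.app X) ≫ E.map (R.map (L.map f))) := by rw [← e]; infer_instance
  exact mono_of_mono _ (E.map (R.map (L.map f)))

/-- Diagram chase: kernels. -/
theorem isIso_of_kernels {a b c a' b' c' : D} {f : a ⟶ b} {g : b ⟶ c} {f' : a' ⟶ b'} {g' : b' ⟶ c'}
    (α : a ⟶ a') (β : b ⟶ b') (γ : c ⟶ c') (w : f ≫ g = 0) (hE : (ShortComplex.mk f g w).Exact)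
    [Mono f] [Mono f'] (w' : f' ≫ g' = 0) [IsIso β] [Mono γ] (h1 : f ≫ β = α ≫ f')
    (h2 : g ≫ γ = β ≫ g') : IsIso α := by
  have hfm : Mono (ShortComplex.mk f g w).f := inferInstanceAs (Mono f)
  have hkz : (f' ≫ inv β) ≫ g = 0 := by
    rw [← cancel_mono γ, zero_comp, Category.assoc, Category.assoc, h2, IsIso.inv_hom_id_assoc, w']
  have hl : hE.lift (f' ≫ inv β) hkz ≫ f = f' ≫ inv β := hE.lift_f _ _
  have hα : Mono α := by
    have : Mono (α ≫ f') := by rw [← h1]; infer_instance
    exact mono_of_mono α f'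
  set l := hE.lift (f' ≫ inv β) hkz
  have hl2 : l ≫ α = 𝟙 _ := by
    rw [← cancel_mono f', Category.assoc, ← h1, ← Category.assoc, hl, Category.assoc,
      IsIso.inv_hom_id, Category.comp_id, Category.id_comp]
  refine ⟨l, ?_, hl2⟩
  rw [← cancel_mono α, Category.assoc, hl2, Category.comp_id, Category.id_comp]

omit [EnoughInjectives B] [PreservesFiniteColimits L] in
theorem isIso_unit {S : ShortComplex A} (hS : S.ShortExact)
    (h2 : IsIso (E.map (adj.unit.app S.X₂))) (h3 : Mono (E.map (adj.unit.app S.X₃))) :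
    IsIso (E.map (adj.unit.app S.X₁)) := by
  have := hS.mono_f
  refine isIso_of_kernels (f := E.map S.f) (g := E.map S.g) (f' := E.map (R.map (L.map S.f)))
    (g' := E.map (R.map (L.map S.g))) _ (E.map (adj.unit.app S.X₂)) (E.map (adj.unit.app S.X₃))
    (by rw [← E.map_comp, S.zero, E.map_zero]) (hS.exact.map E)
    (by rw [← E.map_comp, ← R.map_comp, ← L.map_comp, S.zero, L.map_zero, R.map_zero, E.map_zero])
    ?_ ?_
  · rw [← E.map_comp, ← E.map_comp]
    exact congrArg E.map (adj.unit.naturality S.f)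
  · rw [← E.map_comp, ← E.map_comp]
    exact congrArg E.map (adj.unit.naturality S.g)

theorem isZero_one {S : ShortComplex A} (hS : S.ShortExact) (h3 : Epi (E.map (adj.unit.app S.X₃)))
    (h : IsZero (E.obj ((R.rightDerived 1).obj (L.obj S.X₂)))) :
    IsZero (E.obj ((R.rightDerived 1).obj (L.obj S.X₁))) := by
  have hSL : (S.map L).ShortExact := hS.map_of_exact L
  have hg : Epi (E.map (R.map (L.map S.g))) := by
    have eg : E.map S.g ≫ E.map (adj.unit.app S.X₃) =
        E.map (adj.unit.app S.X₂) ≫ E.map (R.map (L.map S.g)) := by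
      rw [← E.map_comp, ← E.map_comp]
      exact congrArg E.map (adj.unit.naturality S.g)
    have := hS.epi_g
    have : Epi (E.map (adj.unit.app S.X₂) ≫ E.map (R.map (L.map S.g))) := by
      rw [← eg]; infer_instance
    exact epi_of_epi (E.map (adj.unit.app S.X₂)) _
  have hg' : Epi (E.map ((R.rightDerived 0).map (L.map S.g))) := by
    have e := R.rightDerivedZeroIsoSelf.hom.naturality (L.map S.g)
    have : (R.rightDerived 0).map (L.map S.g) =
        R.rightDerivedZeroIsoSelf.hom.app _ ≫ R.map (L.map S.g) ≫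
          R.rightDerivedZeroIsoSelf.inv.app _ := by
      rw [← Category.assoc, ← e]
      simp
    rw [this, E.map_comp, E.map_comp]
    infer_instance
  have hδ : E.map (RDer1.δ R hSL 0) = 0 := by
    have h0 := congrArg E.map (RDer1.comp_δ R hSL 0)
    rw [E.map_comp, E.map_zero] at h0
    exact (cancel_epi (E.map ((R.rightDerived 0).map (L.map S.g)))).1 (h0.trans comp_zero.symm)
  have h1 := (RDer1.exact₁ R hSL 0).map E
  exact h1.isZero_of_both_zeros hδ (h.eq_of_tgt _ _)

omit [PreservesFiniteLimits R] in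
theorem isZero_succ {S : ShortComplex A} (hS : S.ShortExact) (n : ℕ)
    (h : IsZero (E.obj ((R.rightDerived (n + 1)).obj (L.obj S.X₂))))
    (h' : IsZero (E.obj ((R.rightDerived n).obj (L.obj S.X₃)))) :
    IsZero (E.obj ((R.rightDerived (n + 1)).obj (L.obj S.X₁))) :=
  ((RDer1.exact₁ R (hS.map_of_exact L) n).map E).isZero_of_both_zeros (h'.eq_of_src _ _)
    (h.eq_of_tgt _ _)

variable (P : A₀ ⥤ A) [PreservesFiniteLimits P] [PreservesFiniteColimits P]

theorem devissage (C : A₀ → Prop)
    (hemb : ∀ F, C F → ∃ (G : A₀) (f : F ⟶ G), Mono f ∧ Good adj E (P.obj G) ∧ C (cokernel f))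
    (F : A₀) (hF : C F) : Good adj E (P.obj F) := by
  have hS {F G : A₀} (f : F ⟶ G) [Mono f] :
      ((ShortComplex.mk f (cokernel.π f) (cokernel.condition f)).map P).ShortExact :=
    ShortComplex.ShortExact.map_of_exact (S := ShortComplex.mk f (cokernel.π f) (cokernel.condition f))
      { exact := ShortComplex.exact_cokernel f
        mono_f := ‹Mono f›
        epi_g := inferInstanceAs (Epi (cokernel.π f)) } P
  have s1 : ∀ F, C F → Mono (E.map (adj.unit.app (P.obj F))) := fun F hF => by
    obtain ⟨G, f, hf, hG, -⟩ := hemb F hF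
    have := hG.1
    exact mono_unit adj E (P.map f) inferInstance
  have s2 : ∀ F, C F → IsIso (E.map (adj.unit.app (P.obj F))) := fun F hF => by
    obtain ⟨G, f, hf, hG, hc⟩ := hemb F hF
    exact isIso_unit adj E (hS f) hG.1 (s1 _ hc)
  have s3 : ∀ q : ℕ, ∀ F, C F → IsZero (E.obj ((R.rightDerived (q + 1)).obj (L.obj (P.obj F)))) := by
    intro q
    induction q with
    | zero =>
      intro F hF
      obtain ⟨G, f, hf, hG, hc⟩ := hemb F hF
      have := hG.1
      have := s2 _ hc
      exact isZero_one adj E (hS f) (inferInstanceAs (Epi (E.map (adj.unit.app (P.obj (cokernel f))))))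
        (hG.2 1 one_pos)
    | succ q ih =>
      intro F hF
      obtain ⟨G, f, hf, hG, hc⟩ := hemb F hF
      exact isZero_succ E (hS f) (q + 1) (hG.2 _ (Nat.succ_pos _)) (ih _ hc)
  refine ⟨s2 F hF, fun q hq => ?_⟩
  obtain ⟨q, rfl⟩ := Nat.exists_eq_succ_of_ne_zero hq.ne'
  exact s3 q F hF

end

end Groth.Agent.Sga4h.UlaPunctDev
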