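import Groth.Agent.S1964
import Mathlib.RingTheory.TotallySplit
import Mathlib.FieldTheory.IsSepClosed
import Mathlib.RingTheory.DedekindDomain.IntegralClosure
import Mathlib.RingTheory.Flat.TorsionFree
import Mathlib.RingTheory.DiscreteValuationRing.TFAE

/-!
# The integral closure of a strictly henselian DVR in the separable closure of its fraction field

`V` a discrete valuation ring with fraction field `K`, `L/K` algebraic, `V' = integralClosure V L`.

* `isLocalizationAway`: `V'[1/π] = L`;
* `isLocalRing`, `henselianLocalRing`, `isSepClosed_residueField`, `isLocalHom`, `pow_mem`;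
* `exists_split`: for `B` a finite `V`-algebra embedded in `V'` (`L` separably closed, separable
  over `K`), a `V'`-algebra map `ψ : V' ⊗[V] B → V'^n`, injective, with `π^k V'^n` in the image.
-/

set_option autoImplicit false

universe u

set_option linter.unusedSectionVars false

namespace Groth.Agent.Sga4h.UlaRing812

open IsLocalRing
open scoped TensorProduct

section basic

variable (V K L : Type u) [CommRing V] [IsDomain V] [IsDiscreteValuationRing V]
  [Field K] [Algebra V K] [IsFractionRing V K]
  [Field L] [Algebra K L] [Algebra V L] [IsScalarTower V K L]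

include K in
theorem algebraMap_injective : Function.Injective (algebraMap V L) := by
  rw [IsScalarTower.algebraMap_eq V K L]
  exact (algebraMap K L).injective.comp (IsFractionRing.injective V K)

include K in
theorem faithfulSMul : FaithfulSMul V L :=
  (faithfulSMul_iff_algebraMap_injective V L).2 (algebraMap_injective V K L)

include K in
theorem faithfulSMul_integralClosure : FaithfulSMul V (integralClosure V L) := by
  rw [faithfulSMul_iff_algebraMap_injective]
  intro a b hab
  exact algebraMap_injective V K L (congrArg (algebraMap (integralClosure V L) L) hab)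

/-- `K = V[1/π]`. -/
theorem isLocalization_away_fraction {π : V} (hπ : Irreducible π) :
    IsLocalization.Away π K := by
  have h0 : π ≠ 0 := hπ.ne_zero
  refine ⟨⟨?_, ?_, ?_⟩⟩
  · rintro ⟨_, n, rfl⟩
    rw [map_pow]
    exact (IsUnit.mk0 _ (fun h => h0 (IsFractionRing.injective V K (by rw [h, map_zero])))).pow n
  · intro z
    obtain ⟨x, y, hy, rfl⟩ := IsFractionRing.div_surjective (A := V) z
    obtain ⟨n, u, hu⟩ := IsDiscreteValuationRing.eq_unit_mul_pow_irreducible
      (nonZeroDivisors.ne_zero hy) hπ
    refine ⟨(x * ↑u⁻¹, ⟨π ^ n, n, rfl⟩), ?_⟩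
    have hy0 : algebraMap V K y ≠ 0 := fun h =>
      nonZeroDivisors.ne_zero hy (IsFractionRing.injective V K (by rw [h, map_zero]))
    change algebraMap V K x / algebraMap V K y * algebraMap V K (π ^ n) = _
    rw [div_mul_eq_mul_div, div_eq_iff hy0, ← map_mul, ← map_mul, hu]
    congr 1
    rw [mul_assoc, ← mul_assoc (↑u⁻¹ : V), Units.inv_mul, one_mul]
  · intro x y h
    exact ⟨1, by rw [IsFractionRing.injective V K h]⟩

include K in
/-- Multiplication by a power of the uniformizer makes every element of `L` integral. -/
theorem exists_pow_mul_mem [Algebra.IsAlgebraic K L] {π : V} (hπ : Irreducible π) (z : L) :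
    ∃ (n : ℕ) (w : integralClosure V L), z * algebraMap V L π ^ n = w := by
  have hz : IsAlgebraic V z :=
    (IsFractionRing.isAlgebraic_iff V K L).2 (Algebra.IsAlgebraic.isAlgebraic z)
  obtain ⟨y, hy, hint⟩ := hz.exists_integral_multiple
  obtain ⟨n, u, hu⟩ := IsDiscreteValuationRing.eq_unit_mul_pow_irreducible hy hπ
  refine ⟨n, ⟨z * algebraMap V L π ^ n, ?_⟩, rfl⟩
  rw [mem_integralClosure_iff]
  have h : z * algebraMap V L π ^ n = algebraMap V L ↑u⁻¹ * (y • z) := by
    rw [hu, Algebra.smul_def, map_mul, map_pow, ← mul_assoc, ← mul_assoc, ← map_mul,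
      Units.inv_mul, map_one, one_mul, mul_comm]
  rw [h]
  exact isIntegral_algebraMap.mul hint

include K in
/-- `V'[1/π] = L`. -/
theorem isLocalizationAway [Algebra.IsAlgebraic K L] {π : V} (hπ : Irreducible π) :
    IsLocalization.Away (algebraMap V (integralClosure V L) π) L := by
  have h0 : algebraMap V L π ≠ 0 := fun h =>
    hπ.ne_zero (algebraMap_injective V K L (by rw [h, map_zero]))
  refine ⟨⟨?_, ?_, ?_⟩⟩
  · rintro ⟨_, n, rfl⟩
    rw [map_pow, ← IsScalarTower.algebraMap_apply]
    exact (IsUnit.mk0 _ h0).pow n
  · intro z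
    obtain ⟨n, w, hw⟩ := exists_pow_mul_mem V K L hπ z
    refine ⟨(w, ⟨_, n, rfl⟩), ?_⟩
    change z * algebraMap (integralClosure V L) L (algebraMap V (integralClosure V L) π ^ n) = _
    rw [map_pow, ← IsScalarTower.algebraMap_apply]
    exact hw
  · intro x y h
    exact ⟨1, by rw [Subtype.val_injective h]⟩

variable (B : Type u) [CommRing B] [Algebra V B]

include K L in
/-- A `V`-algebra embedded in `L` is flat over `V`. -/
theorem flat_of_injective (ι : B →ₐ[V] L) (hι : Function.Injective ι) : Module.Flat V B := by
  have : FaithfulSMul V L := faithfulSMul V K L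
  have h1 : Module.IsTorsionFree V L := inferInstance
  have : Module.IsTorsionFree V B := by
    exact Function.Injective.moduleIsTorsionFree ι hι (fun c x => map_smul ι c x)
  infer_instance

end basic

section split

variable (V K L : Type u) [CommRing V] [IsDomain V] [IsDiscreteValuationRing V]
  [Field K] [Algebra V K] [IsFractionRing V K]
  [Field L] [Algebra K L] [Algebra V L] [IsScalarTower V K L]
  (B : Type u) [CommRing B] [Algebra V B] [Module.Finite V B]

omit [IsDiscreteValuationRing V] [Module.Finite V B] in
theorem exists_smul_eq (x : K ⊗[V] B) : ∃ (s : V) (_ : s ≠ 0) (b : B), s • x = 1 ⊗ₜ[V] b := by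
  induction x with
  | zero => exact ⟨1, one_ne_zero, 0, by simp⟩
  | tmul a b =>
    obtain ⟨x, y, hy, rfl⟩ := IsFractionRing.div_surjective (A := V) a
    have hy0 : algebraMap V K y ≠ 0 := fun h =>
      nonZeroDivisors.ne_zero hy (IsFractionRing.injective V K (by rw [h, map_zero]))
    refine ⟨y, nonZeroDivisors.ne_zero hy, x • b, ?_⟩
    rw [TensorProduct.smul_tmul', TensorProduct.tmul_smul, TensorProduct.smul_tmul',
      Algebra.smul_def, Algebra.smul_def, mul_one, mul_div_cancel₀ _ hy0]
  | add x y hx hy =>
    obtain ⟨s, hs, b, h⟩ := hx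
    obtain ⟨s', hs', b', h'⟩ := hy
    refine ⟨s * s', mul_ne_zero hs hs', s' • b + s • b', ?_⟩
    rw [smul_add, mul_comm, mul_smul, h, mul_comm, mul_smul, h', TensorProduct.tmul_add,
      TensorProduct.tmul_smul, TensorProduct.tmul_smul]

/-- The generic fibre of a finite `V`-algebra embedded in a separable extension of `K` is étale. -/
theorem formallyEtale_fraction [Algebra.IsSeparable K L] (ι : B →ₐ[V] L)
    (hι : Function.Injective ι) : Algebra.FormallyEtale K (K ⊗[V] B) := by
  have hfin : Module.Finite K (K ⊗[V] B) := inferInstance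
  let φ : K ⊗[V] B →ₐ[K] L := Algebra.TensorProduct.lift (Algebra.ofId K L) ι
    (fun _ _ => Commute.all _ _)
  have hφ : Function.Injective φ := by
    rw [injective_iff_map_eq_zero]
    intro x hx
    obtain ⟨s, hs, b, h⟩ := exists_smul_eq V K B x
    have h1 : ι b = 0 := by
      have := congrArg φ h
      rw [← algebraMap_smul K s x, map_smul, hx, smul_zero] at this
      simpa [φ] using this.symm
    have h2 : b = 0 := hι (by rw [h1, map_zero])
    have h3 : algebraMap V K s ≠ 0 := fun h =>
      hs (IsFractionRing.injective V K (by rw [h, map_zero]))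
    rw [h2, TensorProduct.tmul_zero, ← algebraMap_smul K s x] at h
    exact (smul_eq_zero_iff_right h3).1 h
  have hdom : IsDomain (K ⊗[V] B) := hφ.isDomain φ.toRingHom
  have hfield : IsField (K ⊗[V] B) := isField_of_isIntegral_of_isField'
    (Field.toIsField K)
  let _ : Field (K ⊗[V] B) := hfield.toField
  have : Algebra.IsSeparable K (K ⊗[V] B) := Algebra.IsSeparable.of_algHom K L φ
  exact Algebra.FormallyEtale.of_isSeparable K _

/-- The inclusion `V' ⊗ B → L ⊗ B`. -/
noncomputable def incl : integralClosure V L ⊗[V] B →ₐ[V] L ⊗[V] B :=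
  Algebra.TensorProduct.map (integralClosure V L).val (AlgHom.id V B)

include K in
theorem incl_injective (ι : B →ₐ[V] L) (hι : Function.Injective ι) :
    Function.Injective (incl V L B) := by
  have := flat_of_injective V K L B ι hι
  have h := Module.Flat.rTensor_preserves_injective_linearMap (M := B)
    (integralClosure V L).val.toLinearMap Subtype.val_injective
  exact h

include K in
theorem exists_pow_smul_incl [Algebra.IsAlgebraic K L] {π : V} (hπ : Irreducible π)
    (z : L ⊗[V] B) : ∃ (k : ℕ) (x : integralClosure V L ⊗[V] B), π ^ k • z = incl V L B x := by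
  induction z with
  | zero => exact ⟨0, 0, by simp⟩
  | tmul a b =>
    obtain ⟨n, w, hw⟩ := exists_pow_mul_mem V K L hπ a
    refine ⟨n, w ⊗ₜ b, ?_⟩
    change _ = (w : L) ⊗ₜ[V] b
    rw [← hw, TensorProduct.smul_tmul', Algebra.smul_def, map_pow, mul_comm]
  | add x y hx hy =>
    obtain ⟨n, w, hw⟩ := hx
    obtain ⟨n', w', hw'⟩ := hy
    refine ⟨n + n', π ^ n' • w + π ^ n • w', ?_⟩
    rw [smul_add, map_add, map_smul, map_smul, ← hw, ← hw', smul_smul, smul_smul, ← pow_add,
      ← pow_add, add_comm n' n]

/-- `V' ⊗ B → V'^n` injective with `π^k V'^n` in the image for `k` large. -/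
theorem exists_split [IsSepClosed L] [Algebra.IsSeparable K L] (ι : B →ₐ[V] L)
    (hι : Function.Injective ι) :
    ∃ (n : ℕ) (ψ : integralClosure V L ⊗[V] B →ₐ[integralClosure V L]
      (Fin n → integralClosure V L)), Function.Injective ψ ∧
      ∀ (π : V) (_ : Irreducible π) (y : Fin n → integralClosure V L),
        ∃ (k : ℕ) (x : integralClosure V L ⊗[V] B), ψ x = π ^ k • y := by
  have hfe := formallyEtale_fraction V K L B ι hι
  have hsplit : Algebra.IsFiniteSplit L (L ⊗[K] (K ⊗[V] B)) := inferInstance
  obtain ⟨n, ⟨e0⟩⟩ := hsplit.nonempty_algEquiv_fun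
  let e : L ⊗[V] B ≃ₐ[L] (Fin n → L) :=
    (Algebra.TensorProduct.cancelBaseChange V K L L B).symm.trans e0
  let f : Fin n → (B →ₐ[V] L) := fun i =>
    (((Pi.evalAlgHom L (fun _ : Fin n => L) i).comp e.toAlgHom).restrictScalars V).comp
      Algebra.TensorProduct.includeRight
  let h : Fin n → (B →ₐ[V] integralClosure V L) := fun i =>
    (f i).codRestrict (integralClosure V L) (fun b => by
      rw [mem_integralClosure_iff]
      exact (Algebra.IsIntegral.isIntegral (R := V) b).map (f i))
  let ψ : integralClosure V L ⊗[V] B →ₐ[integralClosure V L] (Fin n → integralClosure V L) :=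
    AlgHom.pi (fun i => Algebra.TensorProduct.lift
      (AlgHom.id (integralClosure V L) (integralClosure V L)) (h i) (fun _ _ => Commute.all _ _))
  have key : ∀ (x : integralClosure V L ⊗[V] B) (i : Fin n),
      ((ψ x i : integralClosure V L) : L) = e (incl V L B x) i := by
    intro x i
    induction x with
    | zero => simp
    | tmul a b =>
      have h1 : ψ (a ⊗ₜ b) i = a * h i b := by
        simp [ψ]
      have h2 : incl V L B (a ⊗ₜ b) = (a : L) • ((1 : L) ⊗ₜ[V] b) := by
        rw [TensorProduct.smul_tmul', smul_eq_mul, mul_one]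
        rfl
      rw [h1, h2, map_smul, Pi.smul_apply, smul_eq_mul]
      rfl
    | add x y hx hy =>
      rw [map_add, map_add, map_add, Pi.add_apply, Pi.add_apply, ← hx, ← hy]
      rfl
  refine ⟨n, ψ, ?_, ?_⟩
  · intro x y hxy
    apply incl_injective V K L B ι hι
    apply e.injective
    funext i
    rw [← key, ← key, hxy]
  · intro π hπ y
    obtain ⟨k, x, hx⟩ := exists_pow_smul_incl V K L B hπ (e.symm (fun i => (y i : L)))
    refine ⟨k, x, ?_⟩
    funext i
    apply Subtype.val_injective
    refine (key x i).trans ?_
    rw [← hx, ← algebraMap_smul L (π ^ k), map_smul, AlgEquiv.apply_symm_apply, Pi.smul_apply,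
      Pi.smul_apply, algebraMap_smul]
    rfl

/-- The map of `exists_split` is integral. -/
theorem isIntegral_of_algHom (n : ℕ) (ψ : integralClosure V L ⊗[V] B →ₐ[integralClosure V L]
      (Fin n → integralClosure V L)) : ψ.toRingHom.IsIntegral := by
  have h : (algebraMap (integralClosure V L) (Fin n → integralClosure V L)).IsIntegral := by
    have : Algebra.IsIntegral (integralClosure V L) (Fin n → integralClosure V L) := inferInstance
    exact algebraMap_isIntegral_iff.2 this
  refine RingHom.IsIntegral.tower_top (algebraMap (integralClosure V L) _) ψ.toRingHom ?_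
  rwa [show ψ.toRingHom.comp (algebraMap (integralClosure V L) _) =
    algebraMap (integralClosure V L) (Fin n → integralClosure V L) from ψ.comp_algebraMap]

end split

section loc

variable (V L : Type u) [CommRing V] [HenselianLocalRing V] [Field L] [Algebra V L]

theorem henselianLocalRing : HenselianLocalRing (integralClosure V L) :=
  (Groth.Agent.S1964.result V (integralClosure V L)).1

theorem isLocalRing : IsLocalRing (integralClosure V L) :=
  (henselianLocalRing V L).toIsLocalRing

theorem isLocalHom : IsLocalHom (algebraMap V (integralClosure V L)) :=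
  (Groth.Agent.S1964.result V (integralClosure V L)).2.1

theorem isSepClosed_residueField [IsSepClosed (ResidueField V)] [IsLocalRing (integralClosure V L)] :
    IsSepClosed (ResidueField (integralClosure V L)) :=
  ((Groth.Agent.S1964.result V (integralClosure V L)).2.2 inferInstance).1

theorem isUnit_or_pow_mem (b : integralClosure V L) :
    IsUnit b ∨ ∃ d : ℕ, b ^ d ∈ (maximalIdeal V).map (algebraMap V (integralClosure V L)) :=
  Groth.Agent.S1964.isUnit_or_pow_mem V (integralClosure V L) b

variable {V} in
theorem isUnit_or_dvd_pow {π : V} (hπ : maximalIdeal V = Ideal.span {π}) (b : integralClosure V L) :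
    IsUnit b ∨ ∃ d : ℕ, algebraMap V (integralClosure V L) π ∣ b ^ d := by
  refine (isUnit_or_pow_mem V L b).imp id fun ⟨d, hd⟩ => ⟨d, ?_⟩
  rwa [hπ, Ideal.map_span, Set.image_singleton, Ideal.mem_span_singleton] at hd

variable {V} in
theorem maximalIdeal_eq_radical [IsLocalRing (integralClosure V L)] {π : V}
    (hπ : maximalIdeal V = Ideal.span {π}) :
    maximalIdeal (integralClosure V L) =
      (Ideal.span {algebraMap V (integralClosure V L) π}).radical := by
  have hloc := isLocalHom V L
  apply le_antisymm
  · intro b hb
    rcases isUnit_or_dvd_pow L hπ b with h | ⟨d, hd⟩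
    · exact absurd h ((mem_maximalIdeal _).1 hb)
    · exact ⟨d, Ideal.mem_span_singleton.2 hd⟩
  · rw [(maximalIdeal.isMaximal _).isPrime.radical_le_iff, Ideal.span_singleton_le_iff_mem,
      mem_maximalIdeal]
    intro h
    have h1 : IsUnit π := isUnit_of_map_unit (algebraMap V (integralClosure V L)) π h
    have h2 : π ∈ maximalIdeal V := hπ ▸ Ideal.mem_span_singleton_self π
    exact (mem_maximalIdeal _).1 h2 h1

end loc

section points

variable (V K L : Type u) [CommRing V] [IsDomain V] [IsDiscreteValuationRing V]
  [HenselianLocalRing V] [Field K] [Algebra V K] [IsFractionRing V K]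
  [Field L] [Algebra K L] [Algebra V L] [IsScalarTower V K L]

include K in
/-- `Spec V'` has two points. -/
theorem eq_bot_or_eq_maximalIdeal [Algebra.IsAlgebraic K L] [IsLocalRing (integralClosure V L)]
    (P : Ideal (integralClosure V L)) [P.IsPrime] :
    P = ⊥ ∨ P = maximalIdeal (integralClosure V L) := by
  obtain ⟨π, hπ⟩ := IsDiscreteValuationRing.exists_irreducible V
  by_cases h : algebraMap V (integralClosure V L) π ∈ P
  · right
    refine le_antisymm (le_maximalIdeal (Ideal.IsPrime.ne_top inferInstance)) ?_
    rw [maximalIdeal_eq_radical L hπ.maximalIdeal_eq, Ideal.IsPrime.radical_le_iff inferInstance,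
      Ideal.span_singleton_le_iff_mem]
    exact h
  · left
    rw [eq_bot_iff]
    intro b hb
    by_contra hb0
    have hb1 : (b : L) ≠ 0 := fun h => hb0 (by
      rw [Ideal.mem_bot]
      exact Subtype.val_injective h)
    obtain ⟨n, w, hw⟩ := exists_pow_mul_mem V K L hπ ((b : L)⁻¹)
    have h1 : algebraMap V (integralClosure V L) π ^ n = b * w := by
      apply Subtype.val_injective
      change algebraMap V L π ^ n = (b : L) * (w : L)
      rw [← hw, ← mul_assoc, mul_inv_cancel₀ hb1, one_mul]
    have h2 : algebraMap V (integralClosure V L) π ^ n ∈ P := by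
      rw [h1]
      exact Ideal.mul_mem_right _ _ hb
    exact h (Ideal.IsPrime.mem_of_pow_mem inferInstance _ h2)

end points

end Groth.Agent.Sga4h.UlaRing812
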