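import Mathlib.CategoryTheory.Triangulated.Functor
import Mathlib.CategoryTheory.Triangulated.Triangulated
import Mathlib.CategoryTheory.Triangulated.HomologicalFunctor

/-!
# Universal morphisms `Φ M ⟶ K` for a triangulated functor `Φ`

`IsUF Φ ε` : `Hom(N, M) ⟶ Hom(Φ N, K)` is bijective for all `N`. Stability under shifts, and the five
lemma for morphisms of triangles `Φ T ⟶ T'`.
-/

set_option autoImplicit false

open CategoryTheory CategoryTheory.Limits Pretriangulated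

universe v₁ v₂ u₁ u₂

namespace Groth.Agent.Sga4h.UnivTri

variable {C : Type u₁} [Category.{v₁} C] {D : Type u₂} [Category.{v₂} D]

/-- `M` represents `N ↦ Hom(Φ N, K)` via `ε : Φ M ⟶ K`. -/
def IsUF (Φ : C ⥤ D) {M : C} {K : D} (ε : Φ.obj M ⟶ K) : Prop :=
  ∀ N : C, Function.Bijective (fun b : N ⟶ M => Φ.map b ≫ ε)

section shift

variable [HasShift C ℤ] [HasShift D ℤ] {Φ : C ⥤ D} [Φ.CommShift ℤ]

/-- Shift of `ε : Φ M ⟶ K`. -/
noncomputable def shiftArr {M : C} {K : D} (ε : Φ.obj M ⟶ K) (n : ℤ) :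
    Φ.obj (M⟦n⟧) ⟶ K⟦n⟧ :=
  (Φ.commShiftIso n).hom.app M ≫ ε⟦n⟧'

lemma IsUF.shift {M : C} {K : D} {ε : Φ.obj M ⟶ K} (h : IsUF Φ ε) (n : ℤ) :
    IsUF Φ (shiftArr ε n) := by
  -- it suffices to treat `N⟦n⟧`
  suffices h2 : ∀ N : C, Function.Bijective (fun b : N⟦n⟧ ⟶ M⟦n⟧ => Φ.map b ≫ shiftArr ε n) by
    intro N
    let e : (N⟦-n⟧)⟦n⟧ ≅ N := (shiftFunctorCompIsoId C (-n) n (by simp)).app N
    obtain ⟨h3, h4⟩ := h2 (N⟦-n⟧)
    constructor
    · intro b b' hb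
      rw [← cancel_epi e.hom]
      apply h3
      dsimp only at hb ⊢
      rw [Φ.map_comp, Φ.map_comp, Category.assoc, Category.assoc, hb]
    · intro c
      obtain ⟨b, hb⟩ := h4 (Φ.map e.hom ≫ c)
      refine ⟨e.inv ≫ b, ?_⟩
      dsimp only at hb ⊢
      rw [Φ.map_comp, Category.assoc, hb, ← Φ.map_comp_assoc, e.inv_hom_id,
        CategoryTheory.Functor.map_id, Category.id_comp]
  intro N
  have key : ∀ b : N ⟶ M, Φ.map (b⟦n⟧') ≫ shiftArr ε n =
      (Φ.commShiftIso n).hom.app N ≫ (Φ.map b ≫ ε)⟦n⟧' := by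
    intro b
    rw [shiftArr, Functor.map_comp]
    have := (Φ.commShiftIso n).hom.naturality b
    simp only [Functor.comp_map] at this
    rw [reassoc_of% this]
  constructor
  · intro b b' hb
    obtain ⟨b, rfl⟩ := (shiftFunctor C n).map_surjective b
    obtain ⟨b', rfl⟩ := (shiftFunctor C n).map_surjective b'
    dsimp only at hb
    rw [key, key, cancel_epi] at hb
    rw [(h N).1 ((shiftFunctor D n).map_injective hb)]
  · intro c
    obtain ⟨c', hc'⟩ := (shiftFunctor D n).map_surjective ((Φ.commShiftIso n).inv.app N ≫ c)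
    obtain ⟨b, hb⟩ := (h N).2 c'
    refine ⟨b⟦n⟧', ?_⟩
    dsimp only at hb ⊢
    rw [key, hb, hc', Iso.hom_inv_id_app_assoc]

end shift

section five

variable [HasZeroObject C] [Preadditive C] [HasShift C ℤ] [∀ n : ℤ, (shiftFunctor C n).Additive]
  [Pretriangulated C]
  [HasZeroObject D] [Preadditive D] [HasShift D ℤ] [∀ n : ℤ, (shiftFunctor D n).Additive]
  [Pretriangulated D] {Φ : C ⥤ D} [Φ.CommShift ℤ] [Φ.Additive]

/-- Five lemma. -/
theorem isUF_hom₃ {T : Triangle C} {T' : Triangle D} (hT : T ∈ distTriang C)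
    (hT' : T' ∈ distTriang D) (ε₁ : Φ.obj T.obj₁ ⟶ T'.obj₁) (ε₂ : Φ.obj T.obj₂ ⟶ T'.obj₂)
    (ε₃ : Φ.obj T.obj₃ ⟶ T'.obj₃) (c₁ : Φ.map T.mor₁ ≫ ε₂ = ε₁ ≫ T'.mor₁)
    (c₂ : Φ.map T.mor₂ ≫ ε₃ = ε₂ ≫ T'.mor₂)
    (c₃ : Φ.map T.mor₃ ≫ shiftArr ε₁ 1 = ε₃ ≫ T'.mor₃) (h₁ : IsUF Φ ε₁)
    (h₂ : IsUF Φ ε₂) : IsUF Φ ε₃ := by
  have c₄ : Φ.map (T.mor₁⟦(1 : ℤ)⟧') ≫ shiftArr ε₂ 1 = shiftArr ε₁ 1 ≫ T'.mor₁⟦(1 : ℤ)⟧' := by
    have := (Φ.commShiftIso (1 : ℤ)).hom.naturality T.mor₁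
    simp only [Functor.comp_map] at this
    simp only [shiftArr]
    rw [reassoc_of% this, ← Functor.map_comp, c₁, Functor.map_comp, Category.assoc]
  have h₄ := h₁.shift 1
  have h₅ := h₂.shift 1
  intro N
  constructor
  · -- injectivity
    suffices H : ∀ b : N ⟶ T.obj₃, Φ.map b ≫ ε₃ = 0 → b = 0 by
      intro b b' hb
      rw [← sub_eq_zero]
      apply H
      rw [Functor.map_sub, Preadditive.sub_comp, sub_eq_zero]
      exact hb
    intro b hb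
    have e1 : b ≫ T.mor₃ = 0 := by
      apply (h₄ N).1
      dsimp only
      rw [Functor.map_comp, Category.assoc, c₃, reassoc_of% hb]
      simp
    obtain ⟨c, rfl⟩ := Triangle.coyoneda_exact₃ _ hT b e1
    have e2 : (Φ.map c ≫ ε₂) ≫ T'.mor₂ = 0 := by
      rw [Category.assoc, ← c₂, ← Functor.map_comp_assoc, hb]
    obtain ⟨d', hd'⟩ := Triangle.coyoneda_exact₂ _ hT' _ e2
    obtain ⟨d, rfl⟩ := (h₁ N).2 d'
    have e3 : c = d ≫ T.mor₁ := by
      apply (h₂ N).1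
      dsimp only at hd' ⊢
      rw [hd', Functor.map_comp, Category.assoc, Category.assoc, c₁]
    rw [e3, Category.assoc, comp_distTriang_mor_zero₁₂ _ hT, comp_zero]
  · intro c
    obtain ⟨b₁, hb₁⟩ := (h₄ N).2 (c ≫ T'.mor₃)
    dsimp only at hb₁
    have e1 : b₁ ≫ T.mor₁⟦(1 : ℤ)⟧' = 0 := by
      apply (h₅ N).1
      dsimp only
      rw [Functor.map_comp, Category.assoc, c₄, reassoc_of% hb₁,
        comp_distTriang_mor_zero₃₁ _ hT']
      simp
    obtain ⟨b, rfl⟩ := Triangle.coyoneda_exact₁ _ hT b₁ e1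
    have e2 : (c - Φ.map b ≫ ε₃) ≫ T'.mor₃ = 0 := by
      rw [Preadditive.sub_comp, ← hb₁, Functor.map_comp, Category.assoc, Category.assoc, c₃,
        sub_self]
    obtain ⟨e', he'⟩ := Triangle.coyoneda_exact₃ _ hT' _ e2
    obtain ⟨e, rfl⟩ := (h₂ N).2 e'
    refine ⟨b + e ≫ T.mor₂, ?_⟩
    dsimp only at he' ⊢
    rw [Functor.map_add, Functor.map_comp, Preadditive.add_comp, Category.assoc, c₂,
      ← Category.assoc, ← he']
    abel

end five

end Groth.Agent.Sga4h.UnivTri
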