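import Groth.Agent.Etrest.RDer3
import Groth.Agent.Cohder.KZDevissage

/-!
# Way-out lemma for left t-exact triangulated functors, and composites of right derived functors

* `WeakSerre Q`: closed under isomorphisms, zero, kernels, cokernels, extensions.
* `wayOut`: `F : D(A) ⥤ D(B)` triangulated and left t-exact, `H^q(F(M[0])) ∈ Q` for `M ∈ P`. Then
  `H^q(F K) ∈ Q` for every bounded below `K` with all `H^i(K) ∈ P`.
* `rightDerived_comp`: `R^q G X ∈ P` for all `q` and `R^p G' (P) ⊆ Q` imply `R^n (G ⋙ G') X ∈ Q`.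
-/

set_option autoImplicit false
universe w w' w'' v v' v'' u u' u''
open CategoryTheory CategoryTheory.Limits

namespace Groth.Agent.Sga4h.WayOut

/-- A weak Serre class: closed under isomorphisms, zero objects, kernels, cokernels and extensions. -/
structure WeakSerre {B : Type u'} [Category.{v'} B] [Abelian B] (Q : ObjectProperty B) : Prop where
  iso : ∀ {X Y : B}, (X ≅ Y) → Q X → Q Y
  zero : ∀ X : B, IsZero X → Q X
  ker : ∀ {X Y : B} (f : X ⟶ Y), Q X → Q Y → Q (kernel f)
  coker : ∀ {X Y : B} (f : X ⟶ Y), Q X → Q Y → Q (cokernel f)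
  ext : ∀ S : ShortComplex B, S.ShortExact → Q S.X₁ → Q S.X₃ → Q S.X₂

section mid

variable {B : Type u'} [Category.{v'} B] [Abelian B] {Q : ObjectProperty B} (hQ : WeakSerre Q)

include hQ

/-- The five-term property of a weak Serre class. -/
theorem WeakSerre.mid {X₀ X₁ X₂ X₃ X₄ : B} (f₀ : X₀ ⟶ X₁) (f₁ : X₁ ⟶ X₂) (f₂ : X₂ ⟶ X₃) (f₃ : X₃ ⟶ X₄)
    (w₀ : f₀ ≫ f₁ = 0) (w₁ : f₁ ≫ f₂ = 0) (w₂ : f₂ ≫ f₃ = 0)
    (h₀ : (ShortComplex.mk f₀ f₁ w₀).Exact) (h₁ : (ShortComplex.mk f₁ f₂ w₁).Exact)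
    (h₂ : (ShortComplex.mk f₂ f₃ w₂).Exact)
    (q₀ : Q X₀) (q₁ : Q X₁) (q₃ : Q X₃) (q₄ : Q X₄) : Q X₂ := by
  -- the image of `f₁` is the cokernel of `f₀`; the image of `f₂` is the kernel of `f₃`
  have e₁ : Mono (cokernel.desc f₀ f₁ w₀) := h₀.mono_cokernelDesc
  have e₂ : Epi (kernel.lift f₃ f₂ w₂) := h₂.epi_kernelLift
  let S : ShortComplex B := ShortComplex.mk (cokernel.desc f₀ f₁ w₀) (kernel.lift f₃ f₂ w₂) (by
    rw [← cancel_epi (cokernel.π f₀), ← cancel_mono (kernel.ι f₃)]
    simp [w₁])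
  have hS : S.ShortExact :=
    { exact := by
        have h : (ShortComplex.mk f₁ f₂ w₁).Exact := h₁
        rw [ShortComplex.exact_iff_exact_up_to_refinements] at h ⊢
        intro A x hx
        have hx' : x ≫ f₂ = 0 := by
          have := hx =≫ kernel.ι f₃
          simpa [S] using this
        obtain ⟨A', π, hπ, y, hy⟩ := h x hx'
        refine ⟨A', π, hπ, y ≫ cokernel.π f₀, ?_⟩
        simpa [S] using hy
      mono_f := e₁
      epi_g := e₂ }
  exact hQ.ext S hS (hQ.coker f₀ q₀ q₁) (hQ.ker f₃ q₃ q₄)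

end mid

section wayOut

open Pretriangulated DerivedCategory

variable {A : Type u} [Category.{v} A] [Abelian A] [HasDerivedCategory.{w} A]
  {B : Type u'} [Category.{v'} B] [Abelian B] [HasDerivedCategory.{w'} B]

/-- The five-term property applied to the homology sequence of a distinguished triangle. -/
theorem homology_mid {Q : ObjectProperty B} (hQ : WeakSerre Q) (T : Triangle (DerivedCategory B))
    (hT : T ∈ distTriang _) (n : ℤ)
    (h₀ : Q ((homologyFunctor B (n - 1)).obj T.obj₃)) (h₁ : Q ((homologyFunctor B n).obj T.obj₁))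
    (h₃ : Q ((homologyFunctor B n).obj T.obj₃)) (h₄ : Q ((homologyFunctor B (n + 1)).obj T.obj₁)) :
    Q ((homologyFunctor B n).obj T.obj₂) :=
  hQ.mid _ _ _ _ _ _ _ (HomologySequence.exact₁ T hT (n - 1) n (by lia))
    (HomologySequence.exact₂ T hT n)
    (HomologySequence.exact₃ T hT n (n + 1) rfl) h₀ h₁ h₃ h₄

/-- The five-term property, first object of a triangle. -/
theorem homology_mid₁ {Q : ObjectProperty B} (hQ : WeakSerre Q) (T : Triangle (DerivedCategory B))
    (hT : T ∈ distTriang _) (n : ℤ)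
    (h₀ : Q ((homologyFunctor B (n - 1)).obj T.obj₂)) (h₁ : Q ((homologyFunctor B (n - 1)).obj T.obj₃))
    (h₃ : Q ((homologyFunctor B n).obj T.obj₂)) (h₄ : Q ((homologyFunctor B n).obj T.obj₃)) :
    Q ((homologyFunctor B n).obj T.obj₁) :=
  hQ.mid _ _ _ _ _ _ _ (HomologySequence.exact₃ T hT (n - 1) n (by lia))
    (HomologySequence.exact₁ T hT (n - 1) n (by lia))
    (HomologySequence.exact₂ T hT n) h₀ h₁ h₃ h₄

/-- The five-term property, third object of a triangle. -/
theorem homology_mid₃ {Q : ObjectProperty B} (hQ : WeakSerre Q) (T : Triangle (DerivedCategory B))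
    (hT : T ∈ distTriang _) (n : ℤ)
    (h₀ : Q ((homologyFunctor B n).obj T.obj₁)) (h₁ : Q ((homologyFunctor B n).obj T.obj₂))
    (h₃ : Q ((homologyFunctor B (n + 1)).obj T.obj₁)) (h₄ : Q ((homologyFunctor B (n + 1)).obj T.obj₂)) :
    Q ((homologyFunctor B n).obj T.obj₃) :=
  hQ.mid _ _ _ _ _ _ _ (HomologySequence.exact₂ T hT n)
    (HomologySequence.exact₃ T hT n (n + 1) rfl)
    (HomologySequence.exact₁ T hT n (n + 1) rfl) h₀ h₁ h₃ h₄

variable (F : DerivedCategory A ⥤ DerivedCategory B) [F.CommShift ℤ] [F.IsTriangulated]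

omit [F.IsTriangulated] in
/-- Homology of `F(M[-a])` is homology of `F(M[0])`, shifted. -/
theorem nonempty_iso_homology_single (M : A) (a q q' : ℤ) (h : a + q' = q) :
    Nonempty ((homologyFunctor B q).obj (F.obj ((singleFunctor A a).obj M)) ≅
      (homologyFunctor B q').obj (F.obj ((singleFunctor A 0).obj M))) := by
  -- `M[-a]⟦a⟧ = M[0]`
  let e : ((singleFunctor A a).obj M)⟦a⟧ ≅ (singleFunctor A 0).obj M :=
    ((singleFunctors A).shiftIso a 0 a (by lia)).app M
  let e₁ : (F.obj ((singleFunctor A a).obj M))⟦a⟧ ≅ F.obj ((singleFunctor A 0).obj M) :=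
    ((F.commShiftIso a).app _).symm ≪≫ F.mapIso e
  exact ⟨(((homologyFunctor B 0).shiftIso a q' q h).app _).symm ≪≫
    (homologyFunctor B q').mapIso e₁⟩

/-- The way-out lemma. -/
theorem wayOut {P : ObjectProperty A} {Q : ObjectProperty B} (hQ : WeakSerre Q)
    (hP : ∀ {X Y : A}, (X ≅ Y) → P X → P Y)
    (hF : ∀ (K : DerivedCategory A) (a : ℤ), K.IsGE a → (F.obj K).IsGE a)
    (h : ∀ M : A, P M → ∀ q : ℤ, Q ((homologyFunctor B q).obj (F.obj ((singleFunctor A 0).obj M))))
    (K : DerivedCategory A) (a : ℤ) [hK : K.IsGE a] (hPK : ∀ i : ℤ, a ≤ i → P ((homologyFunctor A i).obj K))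
    (q : ℤ) : Q ((homologyFunctor B q).obj (F.obj K)) := by
  have key : ∀ (k : ℕ) (a : ℤ) (K : DerivedCategory A), K.IsGE a →
      (∀ i : ℤ, a ≤ i → P ((homologyFunctor A i).obj K)) → ∀ q : ℤ, q < a + k →
      Q ((homologyFunctor B q).obj (F.obj K)) := by
    intro k
    induction k with
    | zero =>
      intro a K hK _ q hq
      have := hF K a hK
      exact hQ.zero _ (DerivedCategory.isZero_of_isGE _ a q (by simpa using hq))
    | succ k ih =>
      intro a K hK hPK q hq
      obtain ⟨X, Y, hX, hY, f, g, δ, hT⟩ := Cohder.KZDevissage.exists_trunc K a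
      have hXa : X.IsGE a := Cohder.KZDevissage.trunc₁_isGE hT a a
      have hf : IsIso ((homologyFunctor A a).map f) := Cohder.KZDevissage.isIso_trunc₁ hT a a le_rfl
      obtain ⟨M, ⟨e⟩⟩ := exists_iso_singleFunctor_obj_of_isGE_of_isLE X a
      have hM : P M := hP ((asIso ((homologyFunctor A a).map f)).symm ≪≫
        (homologyFunctor A a).mapIso e ≪≫ (singleFunctorCompHomologyFunctorIso A a).app M) (hPK a le_rfl)
      have hX' : ∀ q : ℤ, Q ((homologyFunctor B q).obj (F.obj X)) := by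
        intro q
        obtain ⟨e'⟩ := nonempty_iso_homology_single F M a q (q - a) (by lia)
        exact hQ.iso ((homologyFunctor B q).mapIso (F.mapIso e) ≪≫ e').symm (h M hM (q - a))
      have hY' : ∀ q : ℤ, q < a + 1 + k → Q ((homologyFunctor B q).obj (F.obj Y)) := by
        refine ih (a + 1) Y hY ?_
        intro i hi
        have := Cohder.KZDevissage.isIso_trunc₂ hT a i (by lia)
        exact hP (asIso ((homologyFunctor A i).map g)) (hPK i (by lia))
      have hFT := F.map_distinguished _ hT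
      exact homology_mid hQ _ hFT q (hY' (q - 1) (by push_cast at hq; lia)) (hX' q)
        (hY' q (by push_cast at hq; lia)) (hX' (q + 1))
  exact key ((q - a).toNat + 1) a K hK hPK q (by push_cast; lia)

end wayOut

section comp

open DerivedCategory Etrest.RDer3

variable {A : Type u} [Category.{v} A] [Abelian A] {B : Type u'} [Category.{v'} B] [Abelian B]
  {C : Type u''} [Category.{v''} C] [Abelian C] (G : A ⥤ B) [G.Additive] (G' : B ⥤ C) [G'.Additive]

attribute [local instance] HasDerivedCategory.standard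

/-- `H^q(TR G' K) ∈ Q` if `R^p G'(P) ⊆ Q` and `K` is bounded below with cohomology in `P`. -/
theorem homology_TR [EnoughInjectives B] [HasKInj B] {P : ObjectProperty B} {Q : ObjectProperty C}
    (hQ : WeakSerre Q) (hP : ∀ {X Y : B}, (X ≅ Y) → P X → P Y)
    (h : ∀ M : B, P M → ∀ q : ℕ, Q ((G'.rightDerived q).obj M))
    (K : DerivedCategory B) (a : ℤ) [K.IsGE a] (hPK : ∀ i : ℤ, a ≤ i → P ((homologyFunctor B i).obj K))
    (q : ℤ) : Q ((homologyFunctor C q).obj ((TR G').obj K)) := by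
  refine wayOut (TR G') hQ hP (fun K a hK => TR_isGE G' K a) ?_ K a hPK q
  intro M hM q
  by_cases hq : q < 0
  · exact hQ.zero _ (isZero_HTRsingle G' M q hq)
  · obtain ⟨n, rfl⟩ := Int.eq_ofNat_of_zero_le (not_lt.1 hq)
    exact hQ.iso ((HTRsingle G' n).app M).symm (h M hM n)

/-- Leray: `R^q G X ∈ P` for all `q` and `R^p G' (P) ⊆ Q` imply `R^n (G ⋙ G') X ∈ Q`. -/
theorem rightDerived_comp [EnoughInjectives A] [HasKInj A] [EnoughInjectives B] [HasKInj B]
    (hG : ∀ I : CochainComplex A ℤ, I.IsKInjective →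
      CochainComplex.IsKInjective ((G.mapHomologicalComplex (.up ℤ)).obj I))
    {P : ObjectProperty B} {Q : ObjectProperty C} (hQ : WeakSerre Q)
    (hP : ∀ {X Y : B}, (X ≅ Y) → P X → P Y)
    (h : ∀ M : B, P M → ∀ q : ℕ, Q ((G'.rightDerived q).obj M))
    (X : A) (hX : ∀ q : ℕ, P ((G.rightDerived q).obj X)) (n : ℕ) :
    Q (((G ⋙ G').rightDerived n).obj X) := by
  have h₁ : ((TR G).obj ((singleFunctor A 0).obj X)).IsGE 0 := TR_isGE G _ 0
  have h₂ := homology_TR G' hQ hP h ((TR G).obj ((singleFunctor A 0).obj X)) 0 (fun i hi => by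
    obtain ⟨k, rfl⟩ := Int.eq_ofNat_of_zero_le hi
    exact hP ((HTRsingle G k).app X).symm (hX k)) n
  exact hQ.iso ((homologyFunctor C (n : ℤ)).mapIso ((TRcomp G G' hG).app _).symm ≪≫
    (HTRsingle (G ⋙ G') n).app X) h₂

end comp

end Groth.Agent.Sga4h.WayOut
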