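import Groth.Agent.Sga4h.TameExt
import Mathlib.RingTheory.RootsOfUnity.AlgebraicallyClosed
import Mathlib.FieldTheory.Normal.Closure
import Mathlib.FieldTheory.PrimitiveElement

/-!
# The wild part of the Galois group of a strictly henselian discretely valued field

`R` strictly henselian DVR with fraction field `K`, uniformizer `π`, `Ω` a Galois extension of `K`,
`ℓ` a prime invertible in `R`. If a subextension `K₁` contains a root of `X ^ ℓ ^ a - π` for all
`a`, then every finite subextension of `Ω / K₁` has degree prime to `ℓ`.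
-/

set_option autoImplicit false

universe u

namespace Groth.Agent.Sga4h.WildPro

open IsLocalRing Polynomial

/-- Roots of unity of order invertible in a strictly henselian local domain lie in it. -/
theorem exists_isPrimitiveRoot (R : Type u) [CommRing R] [IsDomain R]
    (hR : EtCoh.IsStrictlyHenselianLocalRing R) (m : ℕ) (hm : IsUnit (m : R)) :
    ∃ ζ : R, IsPrimitiveRoot ζ m := by
  obtain ⟨h1, h2⟩ := hR
  have hm0 : m ≠ 0 := by
    rintro rfl
    simp at hm
  have hmk : NeZero (m : ResidueField R) := by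
    constructor
    have := hm.map (residue R)
    rw [map_natCast] at this
    exact this.ne_zero
  obtain ⟨z, hz⟩ := (IsSepClosed.hasEnoughRootsOfUnity (ResidueField R) m).prim
  obtain ⟨b₀, hb₀⟩ := residue_surjective z
  have hmon : (X ^ m - C (1 : R)).Monic := monic_X_pow_sub_C _ hm0
  have h3 : (X ^ m - C (1 : R)).eval b₀ ∈ maximalIdeal R := by
    rw [← residue_eq_zero_iff]
    simp [hb₀, hz.pow_eq_one]
  have hbu : IsUnit b₀ := by
    by_contra hcon
    have : residue R b₀ = 0 := by
      rw [residue_eq_zero_iff]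
      exact hcon
    rw [hb₀] at this
    exact hz.isUnit hm0 |>.ne_zero this
  have h4 : IsUnit ((X ^ m - C (1 : R)).derivative.eval b₀) := by
    simp only [derivative_sub, derivative_X_pow, derivative_C, sub_zero, eval_mul, eval_natCast,
      eval_pow, eval_X, map_natCast]
    exact hm.mul (hbu.pow _)
  obtain ⟨b, hb, hbb⟩ := HenselianLocalRing.is_henselian _ hmon b₀ h3 h4
  refine ⟨b, ?_, fun k hk => ?_⟩
  · simpa [IsRoot.def, sub_eq_zero] using hb
  · apply hz.dvd_of_pow_eq_one
    have h5 : residue R b = z := by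
      rw [← hb₀, ← sub_eq_zero, ← map_sub, residue_eq_zero_iff]
      exact hbb
    rw [← h5, ← map_pow, hk, map_one]

/-- Two roots of `X ^ m - a` differ by an element of `R`. -/
theorem exists_eq_mul (R : Type u) [CommRing R] [IsDomain R]
    (hR : EtCoh.IsStrictlyHenselianLocalRing R) (m : ℕ) (hm : IsUnit (m : R))
    {Ω : Type*} [Field Ω] [Algebra R Ω] [FaithfulSMul R Ω] {x y a : Ω} (ha : a ≠ 0)
    (hx : x ^ m = a) (hy : y ^ m = a) : ∃ r : R, x = algebraMap R Ω r * y := by
  obtain ⟨ζ, hζ⟩ := exists_isPrimitiveRoot R hR m hm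
  have hm0 : m ≠ 0 := by
    rintro rfl
    simp at hm
  have : NeZero m := ⟨hm0⟩
  have hζ' : IsPrimitiveRoot (algebraMap R Ω ζ) m :=
    hζ.map_of_injective (FaithfulSMul.algebraMap_injective R Ω)
  have hy0 : y ≠ 0 := by
    rintro rfl
    rw [zero_pow hm0] at hy
    exact ha hy.symm
  have h1 : (x / y) ^ m = 1 := by rw [div_pow, hx, hy, div_self ha]
  obtain ⟨i, -, hi⟩ := hζ'.eq_pow_of_pow_eq_one h1
  refine ⟨ζ ^ i, ?_⟩
  rw [map_pow, hi, div_mul_cancel₀ _ hy0]

open IntermediateField in
/-- Extensions of fields containing all `ℓ ^ a`-th roots of a uniformizer have degree prime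
to `ℓ`. -/
theorem not_dvd_finrank (R K Ω : Type u) [CommRing R] [IsDomain R] [IsDiscreteValuationRing R]
    [Field K] [Algebra R K] [IsFractionRing R K] [Field Ω] [Algebra K Ω] [Algebra R Ω]
    [IsScalarTower R K Ω] [IsGalois K Ω] (hR : EtCoh.IsStrictlyHenselianLocalRing R)
    (ℓ : ℕ) [hℓ : Fact ℓ.Prime] (hu : IsUnit (ℓ : R)) {π : R} (hπ : Irreducible π)
    (K₁ : IntermediateField K Ω) (h1 : ∀ a : ℕ, ∃ z ∈ K₁, z ^ (ℓ ^ a) = algebraMap R Ω π)
    (M : IntermediateField K₁ Ω) [FiniteDimensional K₁ M] :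
    ¬ ℓ ∣ Module.finrank K₁ M := by
  classical
  intro hdvd
  obtain ⟨θ, hθ⟩ := Field.exists_primitive_element K₁ M
  let f := minpoly K₁ (θ : Ω)
  have hθint : IsIntegral K₁ (θ : Ω) := Algebra.IsIntegral.isIntegral _
  have hd : f.natDegree = Module.finrank K₁ M := by
    have h2 : f = minpoly K₁ θ := (minpoly.algebraMap_eq (B := M) (B' := Ω)
      (algebraMap M Ω).injective θ)
    rw [h2, ← Field.primitive_element_iff_minpoly_natDegree_eq K₁ θ]
    exact hθ
  let S : Set Ω := {(θ : Ω)} ∪ (fun i => ((f.coeff i : K₁) : Ω)) '' (Finset.range (f.natDegree + 1))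
  have hSfin : S.Finite := (Set.finite_singleton _).union ((Finset.finite_toSet _).image _)
  let N := adjoin K S
  have hN : FiniteDimensional K N := by
    have : Finite S := hSfin
    exact finiteDimensional_adjoin fun x _ => Algebra.IsIntegral.isIntegral x
  let M₀ : IntermediateField K Ω := normalClosure K N Ω
  have hM₀ : N ≤ M₀ := N.le_normalClosure
  have hfd : FiniteDimensional K M₀ := normalClosure.is_finiteDimensional K N Ω
  have hnorm : Normal K M₀ := normalClosure.normal K N Ω
  have hgal : IsGalois K M₀ := ⟨⟩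
  have hst : IsScalarTower R K M₀ := inferInstance
  obtain ⟨a, z, hz, hza⟩ := TameExt.exists_tame R K M₀ hR ℓ hu hπ
  apply hza
  have hSN : S ⊆ M₀ := (subset_adjoin K S).trans hM₀
  -- `z` lies in `K₁`
  have hzK : (z : Ω) ∈ K₁ := by
    obtain ⟨w, hw, hwa⟩ := h1 a
    have hz' : (z : Ω) ^ (ℓ ^ a) = algebraMap R Ω π := by
      have h3 := congrArg (algebraMap M₀ Ω) hz
      rw [map_pow, IsScalarTower.algebraMap_apply R K M₀,
        ← IsScalarTower.algebraMap_apply K M₀ Ω, ← IsScalarTower.algebraMap_apply R K Ω] at h3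
      exact h3
    have hπ0 : algebraMap R Ω π ≠ 0 := by
      rw [IsScalarTower.algebraMap_apply R K Ω, Ne, map_eq_zero]
      intro h
      exact hπ.ne_zero ((IsFractionRing.injective R K) (by rw [h, map_zero]))
    have hfs : FaithfulSMul R Ω := by
      rw [faithfulSMul_iff_algebraMap_injective, IsScalarTower.algebraMap_eq R K Ω]
      exact (algebraMap K Ω).injective.comp (IsFractionRing.injective R K)
    obtain ⟨r, hr⟩ := exists_eq_mul R hR (ℓ ^ a) (by rw [Nat.cast_pow]; exact hu.pow a)
      hπ0 hz' hwa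
    rw [hr]
    refine mul_mem ?_ hw
    rw [IsScalarTower.algebraMap_apply R K Ω]
    exact K₁.algebraMap_mem _
  let E : IntermediateField K M₀ := K₁.comap M₀.val
  have hzE : K⟮z⟯ ≤ E := by
    rw [adjoin_simple_le_iff]
    exact hzK
  refine dvd_trans ?_ (finrank_dvd_of_le_left hzE)
  refine hdvd.trans ?_
  rw [← hd]
  let φ : E →+* K₁ := ((algebraMap M₀ Ω).comp (algebraMap E M₀)).codRestrict K₁ (fun x => x.2)
  let _ : Algebra E K₁ := φ.toAlgebra
  have hst1 : IsScalarTower E K₁ Ω := .of_algebraMap_eq fun _ => rfl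
  have hst2 : IsScalarTower E M₀ Ω := .of_algebraMap_eq fun _ => rfl
  let θ₀ : M₀ := ⟨θ, hSN (Or.inl rfl)⟩
  have hθ₀ : IsIntegral E θ₀ := Algebra.IsIntegral.isIntegral _
  have hlift : f ∈ Polynomial.lifts (algebraMap E K₁) := by
    rw [lifts_iff_coeff_lifts]
    intro i
    by_cases hi : i < f.natDegree + 1
    · have hmem : ((f.coeff i : K₁) : Ω) ∈ M₀ :=
        hSN (Or.inr ⟨i, by simpa using hi, rfl⟩)
      exact ⟨⟨⟨_, hmem⟩, (f.coeff i).2⟩, rfl⟩
    · rw [coeff_eq_zero_of_natDegree_lt (by omega)]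
      exact ⟨0, map_zero _⟩
  obtain ⟨f₀, hf₀, hdeg, hmonic⟩ := lifts_and_natDegree_eq_and_monic hlift
    (minpoly.monic hθint)
  have hroot : Polynomial.aeval θ₀ f₀ = 0 := by
    apply (algebraMap M₀ Ω).injective
    rw [map_zero, ← Polynomial.aeval_algebraMap_apply]
    have h5 : Polynomial.aeval (θ : Ω) (f₀.map (algebraMap E K₁)) = 0 := by
      rw [hf₀]
      exact minpoly.aeval _ _
    rw [Polynomial.aeval_map_algebraMap] at h5
    exact h5
  have hle1 : minpoly E θ₀ ∣ f₀ := minpoly.dvd _ _ hroot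
  have hle2 : f ∣ (minpoly E θ₀).map (algebraMap E K₁) := by
    apply minpoly.dvd
    rw [Polynomial.aeval_map_algebraMap]
    have h6 := congrArg (algebraMap M₀ Ω) (minpoly.aeval E θ₀)
    rw [map_zero, ← Polynomial.aeval_algebraMap_apply] at h6
    exact h6
  have hdeg' : f.natDegree = (minpoly E θ₀).natDegree := by
    apply le_antisymm
    · have := natDegree_le_of_dvd hle2 ((minpoly.monic hθ₀).map _).ne_zero
      rwa [natDegree_map] at this
    · rw [← hdeg]
      exact natDegree_le_of_dvd hle1 hmonic.ne_zero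
  rw [hdeg']
  exact minpoly.degree_dvd hθ₀

end Groth.Agent.Sga4h.WildPro
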