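import Groth.Agent.Sga4h.HomExt

/-!
# Change of the zero morphisms structure (kernel speed)

A category such as `EtModW.Mod Λ S` carries two (propositionally equal) structures of zero
morphisms: the one found by instance search and the one of the abelian structure.  Statements about
`ShortComplex.ShortExact` for the two structures should be compared with `shortExact_cast` (no
unfolding: `HasZeroMorphisms C` is a subsingleton), never by definitional unfolding (two minutes of
kernel time).

* `shortExact_cast`, `exact_cast`, `zero_cast`;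
* `homSE`, `jSE` : `HomExt.homShFMap_shortExact`, `HomExt.jHomMap_shortExact` for the abelian
  structure.
-/

set_option autoImplicit false
universe u v

open CategoryTheory CategoryTheory.Limits AlgebraicGeometry Opposite

namespace Groth.Agent.Sga4h.X144Cast

open Groth.Agent.Sga4h.ModRestr Groth.Agent.Sga4h.HomSh Groth.Agent.Sga4h.HomExt

section General

/-- Change of the zero morphisms structure in a short exact sequence. -/
theorem shortExact_cast {C : Type u} [Category.{v} C] (Z Z' : HasZeroMorphisms C) {X₁ X₂ X₃ : C}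
    (f : X₁ ⟶ X₂) (g : X₂ ⟶ X₃)
    (w : f ≫ g = (@HasZeroMorphisms.zero C _ Z X₁ X₃).zero)
    (w' : f ≫ g = (@HasZeroMorphisms.zero C _ Z' X₁ X₃).zero)
    (h : @ShortComplex.ShortExact C _ Z (@ShortComplex.mk C _ Z X₁ X₂ X₃ f g w)) :
    @ShortComplex.ShortExact C _ Z' (@ShortComplex.mk C _ Z' X₁ X₂ X₃ f g w') := by
  obtain rfl : Z = Z' := Subsingleton.elim _ _
  exact h

/-- Change of the zero morphisms structure in an exact sequence. -/
theorem exact_cast {C : Type u} [Category.{v} C] (Z Z' : HasZeroMorphisms C) {X₁ X₂ X₃ : C}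
    (f : X₁ ⟶ X₂) (g : X₂ ⟶ X₃)
    (w : f ≫ g = (@HasZeroMorphisms.zero C _ Z X₁ X₃).zero)
    (w' : f ≫ g = (@HasZeroMorphisms.zero C _ Z' X₁ X₃).zero)
    (h : @ShortComplex.Exact C _ Z (@ShortComplex.mk C _ Z X₁ X₂ X₃ f g w)) :
    @ShortComplex.Exact C _ Z' (@ShortComplex.mk C _ Z' X₁ X₂ X₃ f g w') := by
  obtain rfl : Z = Z' := Subsingleton.elim _ _
  exact h

/-- Change of the zero morphisms structure in an equality `f = 0`. -/
theorem zero_cast {C : Type u} [Category.{v} C] (Z Z' : HasZeroMorphisms C) {X₁ X₃ : C}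
    (f : X₁ ⟶ X₃)
    (w : f = (@HasZeroMorphisms.zero C _ Z X₁ X₃).zero) :
    f = (@HasZeroMorphisms.zero C _ Z' X₁ X₃).zero := by
  obtain rfl : Z = Z' := Subsingleton.elim _ _
  exact w

end General

variable {Λ : Type (u + 1)} [CommRing Λ] {S U : Scheme.{u}}

/-- The zero morphisms structure found by instance search. -/
noncomputable abbrev Z0 (Λ : Type (u + 1)) [CommRing Λ] (S : Scheme.{u}) :
    HasZeroMorphisms (EtModW.Mod Λ S) := inferInstance

attribute [local instance 5000] CategoryTheory.Abelian.toPreadditive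
  CategoryTheory.Preadditive.preadditiveHasZeroMorphisms

/-- From the abelian structure to the default structure. -/
theorem toZ0 {A B C : EtModW.Mod Λ S} {f : A ⟶ B} {g : B ⟶ C} (w : f ≫ g = 0)
    (h : (ShortComplex.mk f g w).ShortExact) :
    (@ShortComplex.mk _ _ (Z0 Λ S) _ _ _ f g (zero_cast _ (Z0 Λ S) _ w)).ShortExact :=
  shortExact_cast _ (Z0 Λ S) _ _ _ _ h

theorem homZ {A B C : EtModW.Mod Λ S} {f : A ⟶ B} {g : B ⟶ C} (w : f ≫ g = 0) :
    homShFMap g ≫ homShFMap f = 0 :=
  homShFMap_zero (S := ShortComplex.mk f g w)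

theorem jZ (j : U ⟶ S) [Etale j] {A B C : EtModW.Mod Λ S} {f : A ⟶ B} {g : B ⟶ C}
    (w : f ≫ g = 0) : jHomMap j g ≫ jHomMap j f = 0 :=
  jHomMap_zero j (S := ShortComplex.mk f g w)

theorem homSE {A B C : EtModW.Mod Λ S} {f : A ⟶ B} {g : B ⟶ C} (w : f ≫ g = 0)
    (h : (ShortComplex.mk f g w).ShortExact) (I : EtModW.Mod Λ S) (hI : Injective I) :
    (ShortComplex.mk ((homShFMap g).app I) ((homShFMap f).app I)
      (congr_app (homZ w) I)).ShortExact :=
  shortExact_cast (Z0 Λ S) _ _ _ _ _
    (homShFMap_shortExact (S := @ShortComplex.mk _ _ (Z0 Λ S) _ _ _ f g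
      (zero_cast _ (Z0 Λ S) _ w)) (toZ0 w h) I hI)

theorem jSE (j : U ⟶ S) [Etale j] {A B C : EtModW.Mod Λ S} {f : A ⟶ B} {g : B ⟶ C}
    (w : f ≫ g = 0) (h : (ShortComplex.mk f g w).ShortExact) (I : EtModW.Mod Λ S)
    (hI : Injective I) :
    (ShortComplex.mk ((jHomMap j g).app I) ((jHomMap j f).app I)
      (congr_app (jZ j w) I)).ShortExact :=
  shortExact_cast (Z0 Λ S) _ _ _ _ _
    (jHomMap_shortExact j (S := @ShortComplex.mk _ _ (Z0 Λ S) _ _ _ f g
      (zero_cast _ (Z0 Λ S) _ w)) (toZ0 w h) I hI)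

/-- An exact functor given on the default structure maps short exact sequences to short exact
sequences. -/
theorem resSE (j : U ⟶ S) [Etale j] {A B C : EtModW.Mod Λ S} {f : A ⟶ B} {g : B ⟶ C}
    (w : f ≫ g = 0) (h : (ShortComplex.mk f g w).ShortExact) :
    ∃ w', (@ShortComplex.mk _ _ (Z0 Λ U) _ _ _ ((res Λ j).map f) ((res Λ j).map g)
      w').ShortExact :=
  ⟨_, (toZ0 w h).map_of_exact (res Λ j)⟩

end Groth.Agent.Sga4h.X144Cast
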