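import Groth.Agent.Etrest.ModFT

/-!
# The cokernel of finite type locally constant sheaves of `Λ`-modules
-/

set_option autoImplicit false
universe u
open CategoryTheory CategoryTheory.Limits AlgebraicGeometry Opposite

namespace Groth.Agent.Sga4h.X144Cok

variable (Λ : Type (u + 1)) [CommRing Λ]

/-- (COK) -/
theorem ftlc_of_shortExact {X : Scheme.{u}} [IsNoetherianRing Λ]
    (T : ShortComplex (EtModW.Mod Λ X)) (hT : T.ShortExact)
    (h1 : EtModW.IsFTLocConst _ T.X₁) (h2 : EtModW.IsFTLocConst _ T.X₂) :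
    EtModW.IsFTLocConst _ T.X₃ :=
  Etrest.ModFT.ftlc_of_iso
    ((cokernelIsCokernel T.f).coconePointUniqueUpToIso hT.gIsCokernel)
    (Etrest.ModFT.ftlc_cokernel T.f h1 h2)

end Groth.Agent.Sga4h.X144Cok
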