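import Groth.Agent.Sga4h.FunLES
import Mathlib.CategoryTheory.Abelian.Refinements
import Mathlib.Algebra.Homology.ShortComplex.ExactFunctor

/-!
# Abstract counting lemma for S3144

Two sequences of functors `PC ⟶ PG ⟶ PM`, `QC ⟶ QG ⟶ QM`, short exact on injectives, and a morphism
`η` between them which is an isomorphism on the left and an epimorphism in the middle and on the right
(on injectives).
-/

set_option autoImplicit false

open CategoryTheory CategoryTheory.Limits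

namespace Groth.Agent.Sga4h.X144Count

universe v₁ u₁ v₂ u₂ v₃ u₃

open Groth.Agent.Sga4h.FunLES

section KerF

variable {𝒜 : Type u₁} {ℬ : Type u₂} [Category.{v₁} 𝒜] [Category.{v₂} ℬ] [Abelian 𝒜] [Abelian ℬ]

/-- The pointwise kernel of a natural transformation. -/
noncomputable def kerF {P Q : 𝒜 ⥤ ℬ} (η : P ⟶ Q) : 𝒜 ⥤ ℬ where
  obj M := kernel (η.app M)
  map f := kernel.map _ _ (P.map f) (Q.map f) (η.naturality f).symm
  map_id M := by
    rw [← cancel_mono (kernel.ι (η.app M))]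
    simp
  map_comp f g := by
    rw [← cancel_mono (kernel.ι _)]
    simp

/-- The inclusion of the pointwise kernel. -/
noncomputable def kerι {P Q : 𝒜 ⥤ ℬ} (η : P ⟶ Q) : kerF η ⟶ P where
  app M := kernel.ι (η.app M)
  naturality M N f := by simp [kerF]

instance kerι_mono {P Q : 𝒜 ⥤ ℬ} (η : P ⟶ Q) (M : 𝒜) : Mono ((kerι η).app M) :=
  inferInstanceAs (Mono (kernel.ι (η.app M)))

theorem kerι_naturality {P Q : 𝒜 ⥤ ℬ} (η : P ⟶ Q) {M N : 𝒜} (f : M ⟶ N) :
    (kerF η).map f ≫ (kerι η).app N = (kerι η).app M ≫ P.map f := (kerι η).naturality f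

instance kerF_additive {P Q : 𝒜 ⥤ ℬ} [P.Additive] [Q.Additive] (η : P ⟶ Q) :
    (kerF η).Additive where
  map_add {M N f g} := by
    rw [← cancel_mono ((kerι η).app N), Preadditive.add_comp, kerι_naturality, kerι_naturality,
      kerι_naturality, P.map_add, Preadditive.comp_add]

theorem kerι_zero {P Q : 𝒜 ⥤ ℬ} (η : P ⟶ Q) (M : 𝒜) : (kerι η).app M ≫ η.app M = 0 :=
  kernel.condition _

theorem kerι_shortExact {P Q : 𝒜 ⥤ ℬ} (η : P ⟶ Q) (M : 𝒜) (h : Epi (η.app M)) :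
    (ShortComplex.mk ((kerι η).app M) (η.app M) (kerι_zero η M)).ShortExact :=
  { exact := ShortComplex.exact_kernel (η.app M)
    mono_f := inferInstanceAs (Mono (kernel.ι (η.app M)))
    epi_g := h }

/-- The square, on objects. -/
theorem sq_app {P Q P' Q' : 𝒜 ⥤ ℬ} {η : P ⟶ Q} {η' : P' ⟶ Q'} {b : P ⟶ P'} {b' : Q ⟶ Q'}
    (h : b ≫ η' = η ≫ b') (M : 𝒜) : b.app M ≫ η'.app M = η.app M ≫ b'.app M := congr_app h M

/-- The map induced on pointwise kernels. -/
noncomputable def kerMap {P Q P' Q' : 𝒜 ⥤ ℬ} (η : P ⟶ Q) (η' : P' ⟶ Q') (b : P ⟶ P') (b' : Q ⟶ Q')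
    (h : b ≫ η' = η ≫ b') : kerF η ⟶ kerF η' where
  app M := kernel.map (η.app M) (η'.app M) (b.app M) (b'.app M) (sq_app h M).symm
  naturality M N f := by
    rw [← cancel_mono ((kerι η').app N), Category.assoc, Category.assoc, kerι_naturality]
    have e1 : kernel.map (η.app N) (η'.app N) (b.app N) (b'.app N) (sq_app h N).symm ≫
        (kerι η').app N = (kerι η).app N ≫ b.app N := kernel.lift_ι _ _ _
    have e2 : kernel.map (η.app M) (η'.app M) (b.app M) (b'.app M) (sq_app h M).symm ≫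
        (kerι η').app M = (kerι η).app M ≫ b.app M := kernel.lift_ι _ _ _
    erw [e1]
    rw [← Category.assoc, kerι_naturality, Category.assoc, b.naturality, ← Category.assoc, ← e2]
    exact Category.assoc _ _ _

end KerF

section Snake

variable {ℬ : Type u₂} [Category.{v₂} ℬ] [Abelian ℬ]

/-- A special case of the snake lemma. -/
theorem isIso_kernel_map {C G M C' G' M' : ℬ} (a : C ⟶ G) (b : G ⟶ M) (w : a ≫ b = 0)
    (a' : C' ⟶ G') (b' : G' ⟶ M') (w' : a' ≫ b' = 0) (hP : (ShortComplex.mk a b w).ShortExact)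
    (hQ : (ShortComplex.mk a' b' w').ShortExact) (ηC : C ⟶ C') (ηG : G ⟶ G') (ηM : M ⟶ M')
    (h1 : a ≫ ηG = ηC ≫ a') (h2 : b ≫ ηM = ηG ≫ b') [IsIso ηC] :
    IsIso (kernel.map ηG ηM b b' h2.symm) := by
  have hmono : Mono (kernel.map ηG ηM b b' h2.symm) := by
    rw [Preadditive.mono_iff_cancel_zero]
    intro X x hx
    have h3 : (x ≫ kernel.ι ηG) ≫ b = 0 := by
      rw [Category.assoc, ← kernel.lift_ι (f := ηM) (kernel.ι ηG ≫ b) (by
        rw [Category.assoc, h2, kernel.condition_assoc, zero_comp]), ← Category.assoc]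
      rw [show x ≫ kernel.lift ηM (kernel.ι ηG ≫ b) _ = 0 from hx, zero_comp]
    have hex : (ShortComplex.mk a b w).Exact := hP.exact
    have hm : Mono a := hP.mono_f
    obtain ⟨y, hy⟩ : ∃ y : X ⟶ C, y ≫ a = x ≫ kernel.ι ηG :=
      ⟨hex.lift _ h3, hex.lift_f _ h3⟩
    have hm' : Mono a' := hQ.mono_f
    have h4 : y ≫ ηC = 0 := by
      rw [← cancel_mono a', Category.assoc, ← h1, ← Category.assoc, hy, Category.assoc,
        kernel.condition, comp_zero, zero_comp]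
    have h5 : y = 0 := by rw [← cancel_mono ηC, h4, zero_comp]
    rw [← cancel_mono (kernel.ι ηG), ← hy, h5, zero_comp, zero_comp]
  have hepi : Epi (kernel.map ηG ηM b b' h2.symm) := by
    rw [epi_iff_surjective_up_to_refinements]
    intro X z
    have he : Epi b := hP.epi_g
    obtain ⟨X₁, π₁, hπ₁, x, hx⟩ := surjective_up_to_refinements_of_epi b (z ≫ kernel.ι ηM)
    have h3 : (x ≫ ηG) ≫ b' = 0 := by
      rw [Category.assoc, ← h2, ← Category.assoc, ← hx, Category.assoc, Category.assoc,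
        kernel.condition, comp_zero, comp_zero]
    have hex : (ShortComplex.mk a' b' w').Exact := hQ.exact
    have hm' : Mono a' := hQ.mono_f
    obtain ⟨y, hy⟩ : ∃ y : X₁ ⟶ C', y ≫ a' = x ≫ ηG := ⟨hex.lift _ h3, hex.lift_f _ h3⟩
    have h6 : (x - (y ≫ inv ηC) ≫ a) ≫ ηG = 0 := by
      rw [Preadditive.sub_comp, Category.assoc, h1, ← hy, Category.assoc, IsIso.inv_hom_id_assoc,
        sub_self]
    refine ⟨X₁, π₁, hπ₁, kernel.lift ηG _ h6, ?_⟩
    rw [← cancel_mono (kernel.ι ηM)]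
    have h7 : kernel.map ηG ηM b b' h2.symm ≫ kernel.ι ηM = kernel.ι ηG ≫ b := kernel.lift_ι _ _ _
    rw [Category.assoc, Category.assoc, h7, ← Category.assoc (kernel.lift _ _ _), kernel.lift_ι,
      Preadditive.sub_comp, Category.assoc (y ≫ inv ηC), w, comp_zero, sub_zero, ← hx]
  exact isIso_of_mono_of_epi _

end Snake

section Derived

variable {𝒜 : Type u₁} {ℬ : Type u₂} [Category.{v₁} 𝒜] [Category.{v₂} ℬ] [Abelian 𝒜] [Abelian ℬ]
  [HasInjectiveResolutions 𝒜]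

/-- A natural transformation which is an isomorphism on injectives induces isomorphisms on derived
functors. -/
theorem isIso_rightDerived {F G : 𝒜 ⥤ ℬ} [F.Additive] [G.Additive] (γ : F ⟶ G)
    (h : ∀ I : 𝒜, Injective I → IsIso (γ.app I)) (M : 𝒜) (n : ℕ) :
    IsIso ((NatTrans.rightDerived γ n).app M) := by
  rw [app_eq]
  have h1 : ∀ i, IsIso (((NatTrans.mapHomologicalComplex γ (ComplexShape.up ℕ)).app
        (injectiveResolution M).cocomplex).f i) := fun i => h _ ((injectiveResolution M).injective i)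
  have h2 : IsIso ((NatTrans.mapHomologicalComplex γ (ComplexShape.up ℕ)).app
        (injectiveResolution M).cocomplex) := HomologicalComplex.Hom.isIso_of_components _
  have h3 : IsIso (mapH γ M n) := by
    unfold mapH
    infer_instance
  infer_instance

/-- The isomorphism of derived functors. -/
noncomputable def derIso {F G : 𝒜 ⥤ ℬ} [F.Additive] [G.Additive] (γ : F ⟶ G)
    (h : ∀ I : 𝒜, Injective I → IsIso (γ.app I)) (M : 𝒜) (n : ℕ) :
    (F.rightDerived n).obj M ≅ (G.rightDerived n).obj M :=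
  haveI := isIso_rightDerived γ h M n
  asIso ((NatTrans.rightDerived γ n).app M)

end Derived

/-- (CNT) -/
theorem abstract_count {𝒜 : Type u₁} {ℬ : Type u₂} {𝒞 : Type u₃} [Category.{v₁} 𝒜] [Category.{v₂} ℬ] [Category.{v₃} 𝒞]
    [Abelian 𝒜] [Abelian ℬ] [Abelian 𝒞] [HasInjectiveResolutions 𝒜]
    (PC PG PM QC QG QM : 𝒜 ⥤ ℬ) [PC.Additive] [PG.Additive] [PM.Additive] [QC.Additive] [QG.Additive] [QM.Additive]
    (a : PC ⟶ PG) (b : PG ⟶ PM) (hab : a ≫ b = 0) (a' : QC ⟶ QG) (b' : QG ⟶ QM) (hab' : a' ≫ b' = 0)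
    (ηC : PC ⟶ QC) (ηG : PG ⟶ QG) (ηM : PM ⟶ QM) (h1 : a ≫ ηG = ηC ≫ a') (h2 : b ≫ ηM = ηG ≫ b')
    (hP : ∀ I : 𝒜, Injective I → (ShortComplex.mk (a.app I) (b.app I) (congr_app hab I)).ShortExact)
    (hQ : ∀ I : 𝒜, Injective I → (ShortComplex.mk (a'.app I) (b'.app I) (congr_app hab' I)).ShortExact)
    (hηC : ∀ I : 𝒜, Injective I → IsIso (ηC.app I)) (hηG : ∀ I : 𝒜, Injective I → Epi (ηG.app I))
    (hηM : ∀ I : 𝒜, Injective I → Epi (ηM.app I))
    (σ : ℬ ⥤ 𝒞) [σ.Additive] [PreservesFiniteLimits σ] [PreservesFiniteColimits σ] (L : 𝒜)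
    (hM : ∀ q, 1 ≤ q → IsZero (σ.obj ((PM.rightDerived q).obj L)))
    (hM0 : IsIso (σ.map ((NatTrans.rightDerived ηM 0).app L)))
    (hG2 : ∀ q, 2 ≤ q → IsZero (σ.obj ((QG.rightDerived q).obj L)))
    (hC2 : ∀ q, 2 ≤ q → IsZero (σ.obj ((QC.rightDerived q).obj L))) :
    (∀ q, 2 ≤ q → IsZero (σ.obj ((PG.rightDerived q).obj L))) ∧
    ∃ T : ShortComplex 𝒞, T.ShortExact ∧ Nonempty (T.X₁ ≅ σ.obj ((PG.rightDerived 1).obj L)) ∧
      Nonempty (T.X₂ ≅ σ.obj ((QG.rightDerived 1).obj L)) ∧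
      Nonempty (T.X₃ ≅ σ.obj ((QM.rightDerived 1).obj L)) := by
  have wP : ∀ M, a.app M ≫ b.app M = 0 := fun M => congr_app hab M
  -- vanishing for `PG`
  have hPC : ∀ q, 2 ≤ q → IsZero (σ.obj ((PC.rightDerived q).obj L)) := fun q hq =>
    (hC2 q hq).of_iso (σ.mapIso (derIso ηC hηC L q))
  have hPG : ∀ q, 2 ≤ q → IsZero (σ.obj ((PG.rightDerived q).obj L)) := fun q hq => by
    have hex := (exact₂ a b wP hP L q).map σ
    exact hex.isZero_of_both_zeros ((hPC q hq).eq_of_src _ _) ((hM q (by omega)).eq_of_tgt _ _)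
  refine ⟨hPG, ?_⟩
  -- the kernels
  let TG := kerF ηG
  let TM := kerF ηM
  let t : TG ⟶ TM := kerMap ηG ηM b b' h2
  have ht : ∀ I : 𝒜, Injective I → IsIso (t.app I) := fun I hI => by
    have := hηC I hI
    exact isIso_kernel_map (a.app I) (b.app I) (congr_app hab I) (a'.app I) (b'.app I)
      (congr_app hab' I) (hP I hI) (hQ I hI) (ηC.app I) (ηG.app I) (ηM.app I)
      (congr_app h1 I) (congr_app h2 I)
  have sG : ∀ I : 𝒜, Injective I →
      (ShortComplex.mk ((kerι ηG).app I) (ηG.app I) (kerι_zero ηG I)).ShortExact :=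
    fun I hI => kerι_shortExact ηG I (hηG I hI)
  have sM : ∀ I : 𝒜, Injective I →
      (ShortComplex.mk ((kerι ηM).app I) (ηM.app I) (kerι_zero ηM I)).ShortExact :=
    fun I hI => kerι_shortExact ηM I (hηM I hI)
  -- degree one of `TM`
  have hT1 : IsZero (σ.obj ((TM.rightDerived 1).obj L)) := by
    have e1 := (exact₃ (kerι ηM) ηM (kerι_zero ηM) sM L 0).map σ
    have e2 := (exact₁ (kerι ηM) ηM (kerι_zero ηM) sM L 0).map σ
    have h3 : σ.map (δ (kerι ηM) ηM (kerι_zero ηM) sM L 0) = 0 := by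
      have h4 : σ.map ((NatTrans.rightDerived ηM 0).app L) ≫
          σ.map (δ (kerι ηM) ηM (kerι_zero ηM) sM L 0) = 0 := by
        rw [← Functor.map_comp, comp_δ, Functor.map_zero]
      rwa [← cancel_epi (σ.map ((NatTrans.rightDerived ηM 0).app L)), comp_zero]
    exact e2.isZero_of_both_zeros h3 ((hM 1 le_rfl).eq_of_tgt _ _)
  -- degree two of `TM`
  have i2 : IsIso (σ.map (δ (kerι ηM) ηM (kerι_zero ηM) sM L 1)) := by
    have e1 := (exact₃ (kerι ηM) ηM (kerι_zero ηM) sM L 1).map σ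
    have e2 := (exact₁ (kerι ηM) ηM (kerι_zero ηM) sM L 1).map σ
    have m1 : Mono (σ.map (δ (kerι ηM) ηM (kerι_zero ηM) sM L 1)) :=
      e1.mono_g ((hM 1 le_rfl).eq_of_src _ _)
    have m2 : Epi (σ.map (δ (kerι ηM) ηM (kerι_zero ηM) sM L 1)) :=
      e2.epi_f ((hM 2 (by omega)).eq_of_tgt _ _)
    exact isIso_of_mono_of_epi _
  have hT1G : IsZero (σ.obj ((TG.rightDerived 1).obj L)) :=
    hT1.of_iso (σ.mapIso (derIso t ht L 1))
  have f2 := (exact₂ (kerι ηG) ηG (kerι_zero ηG) sG L 1).map σ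
  have f3 := (exact₃ (kerι ηG) ηG (kerι_zero ηG) sG L 1).map σ
  have f1 := (exact₁ (kerι ηG) ηG (kerι_zero ηG) sG L 1).map σ
  have hse : ((ShortComplex.mk ((NatTrans.rightDerived ηG 1).app L)
      (δ (kerι ηG) ηG (kerι_zero ηG) sG L 1) (comp_δ _ _ _ _ _ _)).map σ).ShortExact :=
    { exact := f3
      mono_f := f2.mono_g (hT1G.eq_of_src _ _)
      epi_g := f1.epi_f ((hPG 2 le_rfl).eq_of_tgt _ _) }
  refine ⟨_, hse, ⟨Iso.refl _⟩, ⟨Iso.refl _⟩, ⟨?_⟩⟩
  exact σ.mapIso (derIso t ht L 2) ≪≫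
      (asIso (σ.map (δ (kerι ηM) ηM (kerι_zero ηM) sM L 1))).symm

end Groth.Agent.Sga4h.X144Count
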