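import Groth.Agent.Sga4h.X144Dual
import Mathlib.Algebra.Module.Injective

/-!
# Duality over a general finite ring; self-injectivity of `ℤ/n`; the opaque copy `LL n` of `ℤ/n`
-/

set_option autoImplicit false
universe u v

open CategoryTheory CategoryTheory.Limits AlgebraicGeometry Opposite
open Groth.Agent.Sga4h.ModRestr Groth.Agent.Sga4h.HomSh

namespace Groth.Agent.Sga4h.X144Dual2

open Groth.Agent.Sga4h.X144Const Groth.Agent.Etrest.ModLoc Groth.Agent.Sga4h.X144Alg

theorem isIso_bidual_gen {X : Scheme.{u}} (Λ : Type (u + 1)) [CommRing Λ] [Finite Λ]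
    (hΛ : ∀ (M : Type (u + 1)) [AddCommGroup M] [Module Λ M] [Finite M],
      Function.Bijective (Module.Dual.eval Λ M))
    (A : EtModW.Mod Λ X) (hA : EtModW.IsFTLocConst Λ A) :
    IsIso (X144Const.bidual A (EtModW.constMod Λ X Λ)) := by
  apply isIso_of_constVia
  intro x
  rw [ftlc_iff] at hA
  obtain ⟨U, u, M, _, _, _, φ, hu, hφ⟩ := hA x
  obtain ⟨ψ₀, hψ₀⟩ := exists_constVia_constMod (Λ := Λ) X Λ
  have : Finite M := Module.finite_of_finite Λ
  let ψ := (Etrest.ModGerm.res Λ _ (toT U)).comp ψ₀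
  have hψ : IsConstVia _ _ U ψ := hψ₀.res (toT U)
  refine ⟨U, u, M, inferInstance, inferInstance, φ, hu, hφ, ?_⟩
  rw [bidual_comp hφ hψ]
  have : Finite (M →ₗ[Λ] Λ) := Finite.of_injective (fun f : M →ₗ[Λ] Λ => (f : M → Λ))
    DFunLike.coe_injective
  exact (isConstVia_theta (isConstVia_theta hφ hψ) hψ).comp_equiv
    (LinearEquiv.ofBijective _ (hΛ M))

section Extend

variable (n : ℕ) [NeZero n] {A : Type v} [AddCommGroup A] [Finite A] (hA : ∀ a : A, n • a = 0)

include hA in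
/-- Additive maps to `ℤ/n` extend from subgroups. -/
theorem exists_extend (H : AddSubgroup A) (f : H →+ ZMod n) :
    ∃ g : A →+ ZMod n, ∀ x : H, g x = f x := by
  have := hasEnough_exponent n hA
  let H' : Subgroup (Multiplicative A) := AddSubgroup.toSubgroup H
  let φ : H' →* (Multiplicative (ZMod n))ˣ :=
    { toFun := fun x => toUnits (Multiplicative.ofAdd (f ⟨x.1.toAdd, x.2⟩))
      map_one' := by
        have : (⟨(1 : H').1.toAdd, (1 : H').2⟩ : H) = 0 := rfl
        rw [this, map_zero, ofAdd_zero, map_one]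
      map_mul' := fun x y => by
        have : (⟨(x * y).1.toAdd, (x * y).2⟩ : H) = ⟨x.1.toAdd, x.2⟩ + ⟨y.1.toAdd, y.2⟩ := rfl
        rw [this, map_add, ofAdd_add, map_mul] }
  obtain ⟨ψ, hψ⟩ := MonoidHom.domRestrict_surjective (Multiplicative (ZMod n)) H' φ
  refine ⟨AddMonoidHom.toMultiplicative.symm
    ((toUnits (G := Multiplicative (ZMod n))).symm.toMonoidHom.comp ψ), fun x => ?_⟩
  have h1 : ψ (Multiplicative.ofAdd (x : A)) = toUnits (Multiplicative.ofAdd (f x)) :=
    DFunLike.congr_fun hψ (⟨Multiplicative.ofAdd (x : A), x.2⟩ : H')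
  change (toUnits (G := Multiplicative (ZMod n))).symm (ψ (Multiplicative.ofAdd (x : A))) =
    Multiplicative.ofAdd (f x)
  rw [h1, MulEquiv.symm_apply_apply]

end Extend

theorem injective_zmod (n : ℕ) [NeZero n] :
    Module.Injective.{u + 1} (ULift.{u + 1} (ZMod n)) (ULift.{u + 1} (ZMod n)) := by
  apply Module.Baer.injective
  intro I g
  obtain ⟨h, hh⟩ := exists_extend n
    (nsmul_eq_zero.{u + 1} n (ULift.{u + 1} (ZMod n))) I.toAddSubgroup
      (dualEquiv.{u + 1} n I g)
  refine ⟨(dualEquiv.{u + 1} n (ULift.{u + 1} (ZMod n))).symm h, fun x hx => ?_⟩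
  apply ULift.ext
  exact hh ⟨x, hx⟩

/-- An irreducible copy of `ℤ/n`. -/
def LL (n : ℕ) : Type (u + 1) := ULift.{u + 1} (ZMod n)

noncomputable instance (n : ℕ) : CommRing (LL.{u} n) := inferInstanceAs (CommRing (ULift.{u + 1} (ZMod n)))

instance finite_LL (n : ℕ) [NeZero n] : Finite (LL.{u} n) :=
  inferInstanceAs (Finite (ULift.{u + 1} (ZMod n)))

theorem natCast_LL (n : ℕ) : (n : LL.{u} n) = 0 :=
  ULift.ext _ _ (ZMod.natCast_self n)

theorem injective_LL (n : ℕ) [NeZero n] : Module.Injective.{u + 1} (LL.{u} n) (LL.{u} n) :=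
  injective_zmod.{u} n

theorem card_dual_LL (n : ℕ) [NeZero n] (M : Type v) [AddCommGroup M] [Module (LL.{u} n) M]
    [Finite M] : Nat.card (M →ₗ[LL.{u} n] LL.{u} n) = Nat.card M :=
  letI : Module (ULift.{u + 1} (ZMod n)) M := inferInstanceAs (Module (LL.{u} n) M)
  card_dual.{u + 1} n M

theorem eval_bijective_LL (n : ℕ) [NeZero n] (M : Type v) [AddCommGroup M] [Module (LL.{u} n) M]
    [Finite M] : Function.Bijective (Module.Dual.eval (LL.{u} n) M) :=
  letI : Module (ULift.{u + 1} (ZMod n)) M := inferInstanceAs (Module (LL.{u} n) M)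
  eval_bijective.{u + 1} n M

theorem isIso_bidual_LL (n : ℕ) [NeZero n] {X : Scheme.{u}} (A : EtModW.Mod (LL.{u} n) X)
    (hA : EtModW.IsFTLocConst (LL.{u} n) A) :
    IsIso (X144Const.bidual A (EtModW.constMod (LL.{u} n) X (LL.{u} n))) :=
  isIso_bidual_gen _ (fun M => eval_bijective_LL n M) A hA

end Groth.Agent.Sga4h.X144Dual2
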