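import Groth.Agent.Sga4h.HomAcyc
import Groth.Agent.Sga4h.HomExt
import Groth.Agent.Sga4h.DualEt
import Groth.Agent.Sga4h.FunLES
import Groth.Agent.Sga4h.X144Const
import Groth.Agent.Sga4h.ModRestr
import Groth.Agent.Etcore.LPullComp
import Groth.Agent.Etcore.LVan
import Mathlib.RingTheory.PrincipalIdealDomain
import Mathlib.Algebra.Module.Injective
import Mathlib.RingTheory.Ideal.AssociatedPrime.Finiteness

/-!
# Local `Ext` of locally constant sheaves into a self-injective noetherian ring (for S3144)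

* `homShFUnit`: `homShF Λ ≅ 𝟭`;
* `ext_const`: `R^q(homShF M) Λ = 0` for `q > 0`, `M` finite over the self-injective noetherian ring `Λ`;
* `ext_ftlc`: the same for a finite type locally constant sheaf `A`.
-/

set_option autoImplicit false
universe u

open CategoryTheory CategoryTheory.Limits AlgebraicGeometry Opposite MonoidalCategory

namespace Groth.Agent.Sga4h.X144Ext

open Groth.Agent.Sga4h.ModDTensor Groth.Agent.Sga4h.HomPre Groth.Agent.Sga4h.HomSh Groth.Agent.Sga4h.HomRes
  Groth.Agent.Sga4h.HomAcyc Groth.Agent.Sga4h.DualEt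

section Abstract

universe v₁ v₂ u₁ u₂

variable {A : Type u₁} {B : Type u₂} [Category.{v₁} A] [Category.{v₂} B] [Abelian A] [Abelian B]
  [HasInjectiveResolutions A] {P Q R : A ⥤ B} [P.Additive] [Q.Additive] [R.Additive] (α : P ⟶ Q) (β : Q ⟶ R)
  (w : ∀ M, α.app M ≫ β.app M = 0)
  (h : ∀ I : A, Injective I → (ShortComplex.mk (α.app I) (β.app I) (w I)).ShortExact)

include w h

/-- If `R^n P M = 0` and `R^n R M = 0` then `R^n Q M = 0`. -/
theorem isZero_mid (M : A) (n : ℕ) (h1 : IsZero ((P.rightDerived n).obj M))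
    (h3 : IsZero ((R.rightDerived n).obj M)) : IsZero ((Q.rightDerived n).obj M) :=
  (FunLES.exact₂ α β w h M n).isZero_of_both_zeros (h1.eq_of_src _ _) (h3.eq_of_tgt _ _)

/-- If `R^n R M = 0` and `R^{n+1} Q M = 0` then `R^{n+1} P M = 0`. -/
theorem isZero_left (M : A) (n : ℕ) (h1 : IsZero ((R.rightDerived n).obj M))
    (h2 : IsZero ((Q.rightDerived (n + 1)).obj M)) : IsZero ((P.rightDerived (n + 1)).obj M) :=
  (FunLES.exact₁ α β w h M n).isZero_of_both_zeros (h1.eq_of_src _ _) (h2.eq_of_tgt _ _)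

/-- If `Q M ⟶ R M` is epi and `R^1 Q M = 0` then `R^1 P M = 0`. -/
theorem isZero_left_one [PreservesFiniteLimits Q] [PreservesFiniteLimits R] (M : A)
    (h1 : Epi (β.app M)) (h2 : IsZero ((Q.rightDerived 1).obj M)) :
    IsZero ((P.rightDerived 1).obj M) := by
  have e1 := FunLES.epi_δ₀ α β w h M h2
  have e2 := FunLES.comp_δ₀ α β w h M
  have e3 : FunLES.δ₀ α β w h M = 0 := by rw [← cancel_epi (β.app M), e2, comp_zero]
  exact IsZero.of_epi_eq_zero _ e3

end Abstract

section Unit

variable {X : Scheme.{u}} (Λ : Type (u + 1)) [CommRing Λ]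

/-- `Λ ⊗ - ≅ 𝟭`. -/
noncomputable def tensorUnitIso :
    (EtModD.tensorBi Λ X).obj (EtModW.constMod Λ X Λ) ≅ 𝟭 (EtModW.Mod Λ X) :=
  tensorShIso (𝟙_ (PMod Λ X)) ≪≫
    Functor.isoWhiskerLeft (inc Λ X)
      (Functor.isoWhiskerRight (leftUnitorNatIso (PMod Λ X)) (sh Λ X) ≪≫ Functor.leftUnitor _) ≪≫
    asIso (sheafificationAdjunction X.smallEtaleTopology (ModuleCat.{u + 1} Λ)).counit

/-- `homSh Λ H ≅ H`. -/
noncomputable def homShFUnit : homShF (EtModW.constMod Λ X Λ) ≅ 𝟭 (EtModW.Mod Λ X) :=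
  (homShAdj (EtModW.constMod Λ X Λ)).rightAdjointUniq
    (Adjunction.id.ofNatIsoLeft (tensorUnitIso Λ).symm)

instance preservesFiniteLimits_homShFUnit :
    PreservesFiniteLimits (homShF (EtModW.constMod Λ X Λ)) :=
  preservesFiniteLimits_of_natIso (homShFUnit Λ).symm

instance preservesFiniteColimits_homShFUnit :
    PreservesFiniteColimits (homShF (EtModW.constMod Λ X Λ)) :=
  preservesFiniteColimits_of_natIso (homShFUnit Λ).symm

theorem isZero_unit (H : EtModW.Mod Λ X) (q : ℕ) (hq : 1 ≤ q) :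
    IsZero (((homShF (EtModW.constMod Λ X Λ)).rightDerived q).obj H) := by
  obtain ⟨q, rfl⟩ : ∃ r, q = r + 1 := ⟨q - 1, by omega⟩
  exact FunLES.isZero_rightDerived_of_exact _ H q

end Unit

section Const

variable {X : Scheme.{u}} {Λ : Type (u + 1)} [CommRing Λ]

/-- The constant sections of a constant sheaf. -/
noncomputable def cst (N : Type (u + 1)) [AddCommGroup N] [Module Λ N] (V : X.Etale) :
    N →ₗ[Λ] EtModW.sect Λ (EtModW.constMod Λ X N) V :=
  ((toSheafify X.smallEtaleTopology ((Functor.const X.Etaleᵒᵖ).obj (ModuleCat.of Λ N))).app (op V)).hom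

theorem map_cst (N : Type (u + 1)) [AddCommGroup N] [Module Λ N] {V W : X.Etale} (g : W ⟶ V)
    (a : N) : (EtModW.constMod Λ X N).obj.map g.op (cst N V a) = cst (Λ := Λ) N W a :=
  (ConcreteCategory.congr_hom ((toSheafify X.smallEtaleTopology
    ((Functor.const X.Etaleᵒᵖ).obj (ModuleCat.of Λ N))).naturality g.op) a).symm

/-- Sections of a constant sheaf are locally constant sections. -/
theorem exists_cst (N : Type (u + 1)) [AddCommGroup N] [Module Λ N] (V : X.Etale)
    (t : EtModW.sect Λ (EtModW.constMod Λ X N) V) (x : V.left) :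
    ∃ (W : X.Etale) (g : W ⟶ V), (∃ w : W.left, g.left w = x) ∧
      ∃ a : N, (EtModW.constMod Λ X N).obj.map g.op t = cst N W a := by
  have h := Presheaf.imageSieve_mem X.smallEtaleTopology
    (toSheafify X.smallEtaleTopology ((Functor.const X.Etaleᵒᵖ).obj (ModuleCat.of Λ N))) (U := op V) t
  obtain ⟨W, g, hw, ⟨a, ha⟩⟩ := Dix.EtaleSieve.exists_of_mem V _ h x
  exact ⟨W, g, hw, a, ha.symm⟩

theorem cst_injective (N : Type (u + 1)) [AddCommGroup N] [Module Λ N] (V : X.Etale)
    (x : V.left) : Function.Injective (cst (Λ := Λ) N V) := by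
  intro a b hab
  have h := Presheaf.equalizerSieve_mem X.smallEtaleTopology
    (toSheafify X.smallEtaleTopology ((Functor.const X.Etaleᵒᵖ).obj (ModuleCat.of Λ N)))
    (X := op V) a b hab
  obtain ⟨W, g, -, hg⟩ := Dix.EtaleSieve.exists_of_mem V _ h x
  exact hg

theorem hev_cst (N : Type (u + 1)) [AddCommGroup N] [Module Λ N] {H : EtModW.Mod Λ X} {V W : X.Etale}
    (φ : (homSh (EtModW.constMod Λ X N) H).obj.obj (op V)) (g : W ⟶ V) (a : N) :
    hev φ g (cst N W a) = H.obj.map g.op (hev φ (𝟙 V) (cst N V a)) := by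
  have h := ev_naturality_apply (A := (EtModW.constMod Λ X N).obj) (H := H.obj) φ (𝟙 V) g (cst N V a)
  have h1 : (EtModW.constMod Λ X N).obj.map g.op (cst N V a) = cst (Λ := Λ) N W a := map_cst N g a
  rw [h1, Category.comp_id] at h
  exact h

/-- Two sections of `homSh C H`, `C` constant, which agree on constant sections are equal. -/
theorem hext_cst (N : Type (u + 1)) [AddCommGroup N] [Module Λ N] (H : EtModW.Mod Λ X) (V : X.Etale)
    (φ ψ : (homSh (EtModW.constMod Λ X N) H).obj.obj (op V))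
    (h : ∀ a : N, hev φ (𝟙 V) (cst N V a) = hev ψ (𝟙 V) (cst N V a)) : φ = ψ := by
  refine ext_ev (fun W g => ?_)
  ext c
  rw [← sub_eq_zero]
  refine Etcore.LVan.eq_zero_of_van (F := H) _ (fun x => ?_)
  obtain ⟨V', k, ⟨v, hv⟩, a, ha⟩ := exists_cst N W c x
  refine ⟨V', k, v, hv, ?_⟩
  have e (θ : (homSh (EtModW.constMod Λ X N) H).obj.obj (op V)) :
      H.obj.map k.op ((hev θ g).hom c) = H.obj.map (k ≫ g).op (hev θ (𝟙 V) (cst N V a)) := by
    have h1 := ev_naturality_apply (A := (EtModW.constMod Λ X N).obj) (H := H.obj) θ g k c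
    rw [← h1, ← hev_cst N θ (k ≫ g) a, ← ha]
  refine (map_sub _ _ _).trans ?_
  rw [sub_eq_zero]
  exact (e φ).trans ((congrArg _ (h a)).trans (e ψ).symm)

/-- The morphism of constant sheaves attached to a linear map. -/
noncomputable def cmap {N L : Type (u + 1)} [AddCommGroup N] [Module Λ N] [AddCommGroup L] [Module Λ L]
    (f : N →ₗ[Λ] L) : EtModW.constMod Λ X N ⟶ EtModW.constMod Λ X L :=
  (constantSheaf X.smallEtaleTopology (ModuleCat.{u + 1} Λ)).map (ModuleCat.ofHom f)

theorem cmap_cst {N L : Type (u + 1)} [AddCommGroup N] [Module Λ N] [AddCommGroup L] [Module Λ L]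
    (f : N →ₗ[Λ] L) (V : X.Etale) (a : N) :
    (cmap (X := X) f).hom.app (op V) (cst N V a) = cst L V (f a) :=
  (ConcreteCategory.congr_hom (NatTrans.congr_app (toSheafify_naturality X.smallEtaleTopology
    ((Functor.const X.Etaleᵒᵖ).map (ModuleCat.ofHom f))) (op V)) a).symm

/-- A section of `homSh N L` over `V` is given by a linear map `N → L` near each point, if `N` is
finitely generated. -/
theorem exists_linear (N L : Type (u + 1)) [AddCommGroup N] [Module Λ N] [AddCommGroup L] [Module Λ L]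
    [Module.Finite Λ N] (V : X.Etale)
    (φ : (homSh (EtModW.constMod Λ X N) (EtModW.constMod Λ X L)).obj.obj (op V)) (x : V.left) :
    ∃ (W : X.Etale) (g : W ⟶ V), (∃ w : W.left, g.left w = x) ∧ ∃ f : N →ₗ[Λ] L,
      (homSh (EtModW.constMod Λ X N) (EtModW.constMod Λ X L)).obj.map g.op φ = ofHom W (cmap f) := by
  classical
  have key : ∀ T : Finset N, ∃ (W : X.Etale) (g : W ⟶ V), (∃ w : W.left, g.left w = x) ∧
      ∀ a ∈ T, ∃ b : L, cst L W b = (EtModW.constMod Λ X L).obj.map g.op (hev φ (𝟙 V) (cst N V a)) := by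
    intro T
    induction T using Finset.induction_on with
    | empty => exact ⟨V, 𝟙 V, ⟨x, rfl⟩, fun a ha => absurd ha (Finset.notMem_empty a)⟩
    | insert a T ha ih =>
      obtain ⟨W, g, ⟨w, hw⟩, h⟩ := ih
      obtain ⟨W', g', ⟨w', hw'⟩, b, hb⟩ := exists_cst L W
        ((EtModW.constMod Λ X L).obj.map g.op (hev φ (𝟙 V) (cst N V a))) w
      have hm (t : EtModW.sect Λ (EtModW.constMod Λ X L) V) :
          (EtModW.constMod Λ X L).obj.map (g' ≫ g).op t =
          (EtModW.constMod Λ X L).obj.map g'.op ((EtModW.constMod Λ X L).obj.map g.op t) := by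
        rw [op_comp, Functor.map_comp]
        rfl
      refine ⟨W', g' ≫ g, ⟨w', ?_⟩, fun c hc => ?_⟩
      · rw [← hw, ← hw']
        rfl
      · rcases Finset.mem_insert.1 hc with rfl | hc
        · exact ⟨b, ((hm _).trans hb).symm⟩
        · obtain ⟨b', hb'⟩ := h c hc
          refine ⟨b', Eq.trans ?_ (hm _).symm⟩
          rw [← hb']
          exact (map_cst L g' b').symm
  obtain ⟨T, hT⟩ := (Module.finite_def (R := Λ) (M := N)).1 inferInstance
  obtain ⟨W, g, ⟨w, hw⟩, h⟩ := key T
  let θ : N →ₗ[Λ] EtModW.sect Λ (EtModW.constMod Λ X L) W :=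
    ((EtModW.constMod Λ X L).obj.map g.op).hom ∘ₗ (hev φ (𝟙 V)).hom ∘ₗ cst N V
  have hθ : ∀ a, θ a ∈ LinearMap.range (cst (Λ := Λ) L W) := by
    intro a
    have ha : a ∈ Submodule.span Λ (T : Set N) := hT ▸ Submodule.mem_top
    induction ha using Submodule.span_induction with
    | mem a ha => exact h a ha
    | zero => rw [map_zero]; exact zero_mem _
    | add a b _ _ h1 h2 => rw [map_add]; exact add_mem h1 h2
    | smul r a _ h1 => rw [map_smul]; exact Submodule.smul_mem _ r h1
  have inj := cst_injective (Λ := Λ) L W w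
  let F : N →ₗ[Λ] L := (LinearEquiv.ofInjective (cst (Λ := Λ) L W) inj).symm.toLinearMap ∘ₗ
    θ.codRestrict _ hθ
  have hF : ∀ a, cst L W (F a) = θ a := fun a =>
    congrArg Subtype.val ((LinearEquiv.ofInjective (cst (Λ := Λ) L W) inj).apply_symm_apply
      (θ.codRestrict _ hθ a))
  refine ⟨W, g, ⟨w, hw⟩, F, ?_⟩
  refine hext_cst N _ W _ _ (fun a => ?_)
  have h1 : hev ((homSh (EtModW.constMod Λ X N) (EtModW.constMod Λ X L)).obj.map g.op φ) (𝟙 W)
      (cst N W a) = hev φ (𝟙 W ≫ g) (cst N W a) := rfl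
  rw [h1, Category.id_comp, hev_cst]
  exact (hF a).symm.trans (cmap_cst F W a).symm

/-- If linear maps `N → E` extend along `i : N → L`, then `homSh L E → homSh N E` is an epimorphism. -/
theorem epi_homSh {N L E : Type (u + 1)} [AddCommGroup N] [Module Λ N] [AddCommGroup L] [Module Λ L]
    [AddCommGroup E] [Module Λ E] [Module.Finite Λ N] (i : N →ₗ[Λ] L)
    (hE : ∀ f : N →ₗ[Λ] E, ∃ f' : L →ₗ[Λ] E, f' ∘ₗ i = f) :
    Epi (homShMap₂ (cmap (X := X) i) (𝟙 (EtModW.constMod Λ X E))) := by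
  let S : ShortComplex (EtModW.Mod Λ X) := ShortComplex.mk
    (homShMap₂ (cmap (X := X) i) (𝟙 (EtModW.constMod Λ X E)))
    (0 : _ ⟶ homSh (EtModW.constMod Λ X N) (EtModW.constMod Λ X E)) comp_zero
  have hS : S.Exact := by
    refine ModSeq.exact_of_local S (fun V φ _ x => ?_)
    obtain ⟨W, g, hw, f, hf⟩ := exists_linear N E V φ x
    obtain ⟨f', rfl⟩ := hE f
    refine ⟨W, g, hw, ofHom W (cmap f'), ?_⟩
    refine Eq.trans ?_ hf.symm
    refine hext_cst N _ W _ _ (fun a => ?_)
    have h1 : hev ((homShMap₂ (cmap (X := X) i) (𝟙 (EtModW.constMod Λ X E))).hom.app (op W)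
        (ofHom W (cmap f'))) (𝟙 W) (cst N W a) =
        (cmap (X := X) f').hom.app (op W) ((cmap (X := X) i).hom.app (op W) (cst N W a)) := rfl
    have h2 : hev (ofHom W (cmap (X := X) (f' ∘ₗ i))) (𝟙 W) (cst N W a) =
        (cmap (X := X) (f' ∘ₗ i)).hom.app (op W) (cst N W a) := rfl
    rw [h1, h2, cmap_cst, cmap_cst, cmap_cst]
    rfl
  exact hS.epi_f rfl

end Const

section Exact

variable {X : Scheme.{u}} {Λ : Type (u + 1)} [CommRing Λ]

/-- A short exact sequence of modules. -/
noncomputable def modSeq {N L M : Type (u + 1)} [AddCommGroup N] [Module Λ N] [AddCommGroup L]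
    [Module Λ L] [AddCommGroup M] [Module Λ M] (i : N →ₗ[Λ] L) (p : L →ₗ[Λ] M)
    (h : Function.Exact i p) : ShortComplex (ModuleCat.{u + 1} Λ) :=
  ShortComplex.mk (ModuleCat.ofHom i) (ModuleCat.ofHom p) (by
    ext a
    exact h.apply_apply_eq_zero a)

theorem modSeq_shortExact {N L M : Type (u + 1)} [AddCommGroup N] [Module Λ N] [AddCommGroup L]
    [Module Λ L] [AddCommGroup M] [Module Λ M] (i : N →ₗ[Λ] L) (p : L →ₗ[Λ] M)
    (h : Function.Exact i p) (hi : Function.Injective i) (hp : Function.Surjective p) :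
    (modSeq i p h).ShortExact where
  exact := (ShortComplex.ShortExact.moduleCat_exact_iff_function_exact _).2 h
  mono_f := (ModuleCat.mono_iff_injective _).2 hi
  epi_g := (ModuleCat.epi_iff_surjective _).2 hp

instance preservesFiniteLimits_constantSheaf :
    PreservesFiniteLimits (constantSheaf X.smallEtaleTopology (ModuleCat.{u + 1} Λ)) := by
  delta constantSheaf
  infer_instance

instance preservesFiniteColimits_constantSheaf :
    PreservesFiniteColimits (constantSheaf X.smallEtaleTopology (ModuleCat.{u + 1} Λ)) := by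
  delta constantSheaf
  infer_instance

instance additive_constantSheaf :
    (constantSheaf X.smallEtaleTopology (ModuleCat.{u + 1} Λ)).Additive :=
  Functor.additive_of_preserves_binary_products _

theorem cmap_zero {N L M : Type (u + 1)} [AddCommGroup N] [Module Λ N] [AddCommGroup L]
    [Module Λ L] [AddCommGroup M] [Module Λ M] (i : N →ₗ[Λ] L) (p : L →ₗ[Λ] M)
    (h : Function.Exact i p) : cmap (X := X) i ≫ cmap p = 0 :=
  ((modSeq i p h).map (constantSheaf X.smallEtaleTopology (ModuleCat.{u + 1} Λ))).zero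

theorem cmap_shortExact {N L M : Type (u + 1)} [AddCommGroup N] [Module Λ N] [AddCommGroup L]
    [Module Λ L] [AddCommGroup M] [Module Λ M] (i : N →ₗ[Λ] L) (p : L →ₗ[Λ] M)
    (h : Function.Exact i p) (hi : Function.Injective i) (hp : Function.Surjective p) :
    (ShortComplex.mk (cmap (X := X) i) (cmap p) (cmap_zero i p h)).ShortExact :=
  (modSeq_shortExact i p h hi hp).map_of_exact
    (constantSheaf X.smallEtaleTopology (ModuleCat.{u + 1} Λ))

/-- `R^n(homShF -) H` vanishes for an extension. -/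
theorem isZero_ext_mid {A B C : EtModW.Mod Λ X} {f : A ⟶ B} {g : B ⟶ C} {w : f ≫ g = 0}
    (hS : (ShortComplex.mk f g w).ShortExact) (H : EtModW.Mod Λ X)
    (n : ℕ) (h1 : IsZero (((homShF A).rightDerived n).obj H))
    (h3 : IsZero (((homShF C).rightDerived n).obj H)) :
    IsZero (((homShF B).rightDerived n).obj H) :=
  isZero_mid (homShFMap g) (homShFMap f) (fun M => homSh_zero (S := ShortComplex.mk f g w) M)
    (fun I _ => homSh_shortExact hS I) H n h3 h1

/-- Degree shifting. -/
theorem isZero_ext_succ {A B C : EtModW.Mod Λ X} {f : A ⟶ B} {g : B ⟶ C} {w : f ≫ g = 0}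
    (hS : (ShortComplex.mk f g w).ShortExact) (H : EtModW.Mod Λ X)
    (n : ℕ) (h1 : IsZero (((homShF A).rightDerived n).obj H))
    (h2 : IsZero (((homShF B).rightDerived (n + 1)).obj H)) :
    IsZero (((homShF C).rightDerived (n + 1)).obj H) :=
  isZero_left (homShFMap g) (homShFMap f) (fun M => homSh_zero (S := ShortComplex.mk f g w) M)
    (fun I _ => homSh_shortExact hS I) H n h1 h2

/-- Degree one: if `homSh B H → homSh A H` is epi. -/
theorem isZero_ext_one {A B C : EtModW.Mod Λ X} {f : A ⟶ B} {g : B ⟶ C} {w : f ≫ g = 0}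
    (hS : (ShortComplex.mk f g w).ShortExact) (H : EtModW.Mod Λ X)
    (he : Epi (homShMap₂ f (𝟙 H))) (h2 : IsZero (((homShF B).rightDerived 1).obj H)) :
    IsZero (((homShF C).rightDerived 1).obj H) := by
  have i2 : PreservesFiniteLimits (homShF B) := HomExt.preservesFiniteLimits_homShF _
  have i1 : PreservesFiniteLimits (homShF A) := HomExt.preservesFiniteLimits_homShF _
  exact isZero_left_one (homShFMap g) (homShFMap f) (fun M => homSh_zero (S := ShortComplex.mk f g w) M)
    (fun I _ => homSh_shortExact hS I) H he h2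

/-- `R^q(homShF M) H = 0` for `q > 0` and all finite modules `M`, if this holds for cyclic ones. -/
theorem isZero_of_cyclic [IsNoetherianRing Λ] (H : EtModW.Mod Λ X) (n : ℕ)
    (h : ∀ (M : Type (u + 1)) [AddCommGroup M] [Module Λ M] (p : Λ →ₗ[Λ] M), Function.Surjective p →
      IsZero (((homShF (EtModW.constMod Λ X M)).rightDerived n).obj H))
    (M : Type (u + 1)) [AddCommGroup M] [Module Λ M] [hM : Module.Finite Λ M] :
    IsZero (((homShF (EtModW.constMod Λ X M)).rightDerived n).obj H) := by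
  refine IsNoetherianRing.induction_on_isQuotientEquivQuotientPrime (A := Λ) hM
    (motive := fun M _ _ _ => IsZero (((homShF (EtModW.constMod Λ X M)).rightDerived n).obj H)) ?_ ?_ ?_
  · intro M _ _ _ _
    exact h M 0 (fun y => ⟨0, Subsingleton.elim _ _⟩)
  · intro M _ _ _ p e
    exact h M (e.symm.toLinearMap ∘ₗ p.1.mkQ) (e.symm.surjective.comp (Submodule.mkQ_surjective _))
  · intro N _ _ _ L _ _ _ M _ _ _ f g hf hg hfg h1 h3
    exact isZero_ext_mid (cmap_shortExact f g hfg hf hg) H n h1 h3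

theorem isZero_const_one [IsNoetherianRing Λ] (hΛ : Module.Injective.{u + 1} Λ Λ)
    (M : Type (u + 1)) [AddCommGroup M] [Module Λ M] [Module.Finite Λ M] :
      IsZero (((homShF (EtModW.constMod Λ X M)).rightDerived 1).obj (EtModW.constMod Λ X Λ)) := by
  refine isZero_of_cyclic _ _ (fun M _ _ p hp => ?_) M
  have hS := cmap_shortExact (X := X) (LinearMap.ker p).subtype p
    (LinearMap.exact_subtype_ker_map p) (Submodule.injective_subtype _) hp
  refine isZero_ext_one hS _ ?_ (isZero_unit Λ _ 1 le_rfl)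
  refine epi_homSh (LinearMap.ker p).subtype (fun f => ?_)
  obtain ⟨f', hf'⟩ := hΛ.out (LinearMap.ker p).subtype (Submodule.injective_subtype _) f
  exact ⟨f', LinearMap.ext hf'⟩

theorem isZero_const_step [IsNoetherianRing Λ] (n : ℕ)
    (ih : ∀ (M : Type (u + 1)) [AddCommGroup M] [Module Λ M] [Module.Finite Λ M],
      IsZero (((homShF (EtModW.constMod Λ X M)).rightDerived n).obj (EtModW.constMod Λ X Λ)))
    (M : Type (u + 1)) [AddCommGroup M] [Module Λ M] [Module.Finite Λ M] :
      IsZero (((homShF (EtModW.constMod Λ X M)).rightDerived (n + 1)).obj (EtModW.constMod Λ X Λ)) := by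
  refine isZero_of_cyclic _ _ (fun M _ _ p hp => ?_) M
  have hS := cmap_shortExact (X := X) (LinearMap.ker p).subtype p
    (LinearMap.exact_subtype_ker_map p) (Submodule.injective_subtype _) hp
  exact isZero_ext_succ hS _ n (ih (LinearMap.ker p)) (isZero_unit Λ _ (n + 1) (by omega))

/-- `R^q(homShF M) Λ = 0` for `q > 0` and `M` finite, `Λ` noetherian and self-injective. -/
theorem ext_const {X : Scheme.{u}} (Λ : Type (u + 1)) [CommRing Λ] [IsNoetherianRing Λ]
    (hΛ : Module.Injective.{u + 1} Λ Λ) (M : Type (u + 1)) [AddCommGroup M] [Module Λ M]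
    [Module.Finite Λ M] (q : ℕ) (hq : 1 ≤ q) :
    IsZero (((homShF (EtModW.constMod Λ X M)).rightDerived q).obj (EtModW.constMod Λ X Λ)) := by
  revert M
  induction q, hq using Nat.le_induction with
  | base => intro M _ _ _; exact isZero_const_one hΛ M
  | succ n _ ih => intro M _ _ _; exact isZero_const_step n (fun M _ _ _ => ih M) M

end Exact

section Local

variable {X : Scheme.{u}} {Λ : Type (u + 1)} [CommRing Λ]

/-- A sheaf with zero restriction to the members of an étale covering is zero. -/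
theorem isZero_of_res (F : EtModW.Mod Λ X)
    (h : ∀ x : X, ∃ (U : X.Etale) (u : U.left), U.hom u = x ∧
      IsZero ((ModRestr.res Λ U.hom).obj F)) : IsZero F := by
  have h0 : ∀ (V : X.Etale) (s : EtModW.sect Λ F V), s = 0 := by
    intro V s
    refine Etcore.LVan.eq_zero_of_van s fun x => ?_
    obtain ⟨U, w, hw, hz⟩ := h (V.hom x)
    obtain ⟨z, hz1, -⟩ := Scheme.Pullback.exists_preimage_pullback (f := V.hom) (g := U.hom) x w hw.symm
    let c : (EtShriek.compEtale U.hom).obj ((EtCoh.bc U.hom).obj V) ⟶ V :=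
      (EtaleRes.compBcAdj U.hom).counit.app V
    have hid : 𝟙 ((ModRestr.res Λ U.hom).obj F) = 0 := hz.eq_of_src _ _
    refine ⟨_, c, z, hz1, ?_⟩
    exact congrArg (fun k : (ModRestr.res Λ U.hom).obj F ⟶ (ModRestr.res Λ U.hom).obj F =>
      (k.hom.app (op ((EtCoh.bc U.hom).obj V))).hom (Etcore.LVan.res F c s)) hid
  rw [IsZero.iff_id_eq_zero]
  apply Sheaf.hom_ext
  ext V s
  exact (h0 V.unop s).trans (h0 V.unop _).symm

/-- An étale scheme over `X` with a map to (the image of) an étale `U`-scheme is an étale `U`-scheme. -/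
theorem exists_over (U : X.Etale) {V : U.left.Etale} {W : X.Etale}
    (k : W ⟶ (EtShriek.compEtale U.hom).obj V) : ∃ (W' : U.left.Etale) (k' : W' ⟶ V)
      (e : (EtShriek.compEtale U.hom).obj W' ⟶ W),
      e ≫ k = (EtShriek.compEtale U.hom).map k' ∧ ∀ w : W.left, ∃ w' : W'.left, e.left w' = w := by
  let a : W.left ⟶ U.left := k.left ≫ V.hom
  have hw : a ≫ U.hom = W.hom := (Category.assoc _ _ _).trans (MorphismProperty.Over.w k)
  have i1 : Etale (X := U.left) (Y := X) U.hom := U.prop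
  have i2 : Etale (a ≫ U.hom) := by rw [hw]; exact W.prop
  have i3 : Etale a := Etale.of_comp a U.hom
  let W' : U.left.Etale := Scheme.Etale.mk a
  refine ⟨W', MorphismProperty.Over.homMk (A := W') (B := V) k.left rfl,
    MorphismProperty.Over.homMk (A := (EtShriek.compEtale U.hom).obj W') (B := W) (𝟙 W.left)
      ((Category.id_comp _).trans hw.symm), ?_, fun w => ⟨w, rfl⟩⟩
  apply MorphismProperty.Over.Hom.ext
  exact Category.id_comp _

/-- If `φ : M → F(U)` exhibits `F|_U` as constant then the restriction of `F` to `U` is constant. -/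
theorem nonempty_res_iso {F : EtModW.Mod Λ X} {U : X.Etale} {M : Type (u + 1)} [AddCommGroup M]
    [Module Λ M] {φ : M →ₗ[Λ] EtModW.sect Λ F U} (h : Etrest.ModLoc.IsConstVia Λ F U φ) :
    Nonempty ((ModRestr.res Λ U.hom).obj F ≅ EtModW.constMod Λ U.left M) := by
  let c : (EtShriek.compEtale U.hom).obj (X144Const.tU U.left) ⟶ U :=
    MorphismProperty.Over.homMk (A := (EtShriek.compEtale U.hom).obj (X144Const.tU U.left)) (B := U)
      (𝟙 U.left) rfl
  let φ' : M →ₗ[Λ] EtModW.sect Λ ((ModRestr.res Λ U.hom).obj F) (X144Const.tU U.left) :=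
    (Etrest.ModGerm.res Λ F c).comp φ
  refine X144Const.nonempty_iso_constMod_iff.2 ⟨φ', ?_⟩
  refine Etrest.ModLoc.IsConstVia.of_sections φ' ?_ ?_
  · intro V g v m hm
    refine h.injective ((EtShriek.compEtale U.hom).map g ≫ c) v (m := m) (m' := 0) ?_
    rw [map_zero, map_zero, Etrest.ModGerm.res_comp]
    exact hm
  · intro V g v s
    obtain ⟨W, k, w, m, hw, hs⟩ := h.surjective ((EtShriek.compEtale U.hom).map g ≫ c) v s
    obtain ⟨W', k', e, he, hsur⟩ := exists_over U k
    obtain ⟨w', rfl⟩ := hsur w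
    refine ⟨W', k', w', m, ?_, ?_⟩
    · have h1 : (e ≫ k).left w' = k'.left w' := by rw [he]; rfl
      rw [← h1, ← hw]
      rfl
    · have h2 := congrArg (Etrest.ModGerm.res Λ F e) hs
      rw [← Etrest.ModGerm.res_comp, ← Etrest.ModGerm.res_comp, ← Category.assoc, he] at h2
      refine h2.trans ?_
      rw [← Category.assoc, Etrest.ModGerm.res_comp]
      rfl

end Local

section Ftlc

variable {X : Scheme.{u}} {Λ : Type (u + 1)} [CommRing Λ]

theorem isZero_of_iso_const [IsNoetherianRing Λ] (hΛ : Module.Injective.{u + 1} Λ Λ)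
    {A K : EtModW.Mod Λ X} {M : Type (u + 1)} [AddCommGroup M] [Module Λ M] [Module.Finite Λ M]
    (e : A ≅ EtModW.constMod Λ X M) (k : K ≅ EtModW.constMod Λ X Λ) (q : ℕ) (hq : 1 ≤ q) :
    IsZero (((homShF A).rightDerived q).obj K) :=
  (ext_const Λ hΛ M q hq).of_iso (((HomExt.extCongr e q).app K) ≪≫
    ((homShF (EtModW.constMod Λ X M)).rightDerived q).mapIso k)

theorem isZero_of_comp_iso {C D D' E : Type*} [Category* C] [Category* D] [Category* D'] [Category* E]
    {F : C ⥤ D} {G : D ⥤ E} {F' : C ⥤ D'} {G' : D' ⥤ E} (e : F ⋙ G ≅ F' ⋙ G') (X : C)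
    (h : IsZero (G'.obj (F'.obj X))) : IsZero (G.obj (F.obj X)) := h.of_iso (e.app X)

theorem isZero_res {V : Scheme.{u}} (p : V ⟶ X) [Etale p] [IsNoetherianRing Λ] (hΛ : Module.Injective.{u + 1} Λ Λ)
    {A : EtModW.Mod Λ X} {M : Type (u + 1)} [AddCommGroup M] [Module Λ M] [Module.Finite Λ M]
    (e : (ModRestr.res Λ p).obj A ≅ EtModW.constMod Λ V M) (q : ℕ) (hq : 1 ≤ q) :
    IsZero ((ModRestr.res Λ p).obj (((homShF A).rightDerived q).obj (EtModW.constMod Λ X Λ))) :=
  isZero_of_comp_iso (HomExt.resExt p A q) _ (isZero_of_iso_const hΛ e (ModRestr.resConst Λ p Λ) q hq)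

/-- A finite type locally constant sheaf is constant on an étale covering. -/
theorem exists_res_iso (F : EtModW.Mod Λ X) (hF : EtModW.IsFTLocConst Λ F) (x : X) :
    ∃ (V : Scheme.{u}) (p : V ⟶ X) (_ : Etale p) (v : V) (M : Type (u + 1)) (_ : AddCommGroup M)
      (_ : Module Λ M) (_ : Module.Finite Λ M), p v = x ∧
        Nonempty ((ModRestr.res Λ p).obj F ≅ EtModW.constMod Λ V M) := by
  obtain ⟨U, u, M, i1, i2, i3, φ, hu, hφ⟩ := (Etrest.ModLoc.ftlc_iff F).1 hF x
  exact ⟨U.left, U.hom, U.prop, u, M, i1, i2, i3, hu, nonempty_res_iso hφ⟩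

/-- A sheaf with zero restriction to the members of an étale covering is zero. -/
theorem isZero_of_res' (F : EtModW.Mod Λ X)
    (h : ∀ x : X, ∃ (V : Scheme.{u}) (p : V ⟶ X) (_ : Etale p) (v : V), p v = x ∧
      IsZero ((ModRestr.res Λ p).obj F)) : IsZero F := by
  refine isZero_of_res F (fun x => ?_)
  obtain ⟨V, p, hp, v, hv, hz⟩ := h x
  exact ⟨Scheme.Etale.mk p, v, hv, hz⟩

/-- `R^q(homShF A) Λ = 0` for `q > 0`, `A` locally constant of finite type, `Λ` noetherian and
self-injective. -/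
theorem ext_ftlc {X : Scheme.{u}} (Λ : Type (u + 1)) [CommRing Λ] [IsNoetherianRing Λ]
    (hΛ : Module.Injective.{u + 1} Λ Λ) (A : EtModW.Mod Λ X) (hA : EtModW.IsFTLocConst Λ A)
    (q : ℕ) (hq : 1 ≤ q) :
    IsZero (((homShF A).rightDerived q).obj (EtModW.constMod Λ X Λ)) := by
  refine isZero_of_res' _ (fun x => ?_)
  obtain ⟨V, p, hp, v, M, _, _, _, hv, ⟨e⟩⟩ := exists_res_iso A hA x
  exact ⟨V, p, hp, v, hv, isZero_res p hΛ e q hq⟩

end Ftlc
end Groth.Agent.Sga4h.X144Ext
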