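import Groth.Agent.Sga4h.HomRes
import Groth.Agent.Sga4h.ModSeq
import Groth.Agent.Etrest.ModGerm
import Mathlib.AlgebraicGeometry.Morphisms.OpenImmersion

/-!
# Extension by zero along an open immersion and the internal Hom

* `mono_counit` : `j_! j^* A ⟶ A` is a monomorphism;
* `surjective_unit_homSh` : `Hom(A, I) ⟶ j_* j^* Hom(A, I)` is surjective on sections for `I` injective;
* `injective_unit_homSh` : the same map is injective on sections if the stalks of the first variable
  vanish outside the open.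
-/

set_option autoImplicit false
universe u
open CategoryTheory CategoryTheory.Limits AlgebraicGeometry Opposite

namespace Groth.Agent.Sga4h.X144Shr

open Groth.Agent.Sga4h.ModRestr Groth.Agent.Sga4h.HomSh Groth.Agent.Etrest.ModGerm
  Groth.Agent.EtpbcA.Germ Groth.Agent.Etrest.ModAb Groth.Agent.Sga4h.EtaleRes
  Groth.Agent.Etcore.ShriekExact

variable (Λ : Type (u + 1)) [CommRing Λ]

/-- The left Kan extension of a presheaf along `compEtale j` vanishes on objects which do not factor. -/
theorem isZero_lan {X U : Scheme.{u}} (j : U ⟶ X) [Etale j] (P : U.Etaleᵒᵖ ⥤ ModuleCat.{u + 1} Λ)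
    (V : X.Etale) (h : IsEmpty (LiftIdx j V)) :
    IsZero (((EtShriek.compEtale j).op.lan.obj P).obj (op V)) := by
  have e := (lanEvalIso (E := ModuleCat.{u + 1} Λ) (EtShriek.compEtale j).op (op V)).app P
  refine IsZero.of_iso ?_ e
  have hE : IsEmpty (CostructuredArrow (EtShriek.compEtale j).op (op V)) := by
    refine ⟨fun c => ?_⟩
    have hc : (discFunctor j V).Final := inferInstance
    obtain ⟨q⟩ := (hc.out c).is_nonempty
    exact h.false q.right.as
  refine (IsZero.iff_id_eq_zero _).2 ?_
  refine colimit.hom_ext (fun c => ?_)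
  exact (hE.false c).elim

theorem isLocallySurjective_toSheafify' {X : Scheme.{u}} (P : X.Etaleᵒᵖ ⥤ ModuleCat.{u + 1} Λ)
    {W : X.Etale} (s : EtModW.sect Λ ((presheafToSheaf X.smallEtaleTopology (ModuleCat.{u + 1} Λ)).obj P) W)
    (w : W.left) :
    ∃ (V : X.Etale) (g : V ⟶ W) (v : V.left) (σ : P.obj (op V)), g.left v = w ∧
      (toSheafify X.smallEtaleTopology P).app (op V) σ =
        Etrest.ModGerm.res Λ ((presheafToSheaf X.smallEtaleTopology (ModuleCat.{u + 1} Λ)).obj P) g s := by
  have h : Presheaf.IsLocallySurjective X.smallEtaleTopology (toSheafify X.smallEtaleTopology P) :=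
    inferInstance
  have h2 := h.imageSieve_mem (U := W) s
  rw [mem_iff] at h2
  obtain ⟨V, g, ⟨σ, hσ⟩, v, hv⟩ := h2 w
  exact ⟨V, g, v, σ, hv, hσ⟩

/-- Sections of `j_! B` vanish locally at points outside the image of `j`. -/
theorem ext_local_zero {X U : Scheme.{u}} (j : U ⟶ X) [Etale j] (B : EtModW.Mod Λ U) (W : X.Etale)
    (s : EtModW.sect Λ ((ext Λ j).obj B) W) (w : W.left) (hw : W.hom w ∉ Set.range j) :
    ∃ (V : X.Etale) (g : V ⟶ W), (∃ v : V.left, g.left v = w) ∧
      Etrest.ModGerm.res Λ ((ext Λ j).obj B) g s = 0 := by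
  let P := (EtShriek.compEtale j).op.lan.obj B.obj
  let e : (ext Λ j).obj B ≅ (presheafToSheaf X.smallEtaleTopology (ModuleCat.{u + 1} Λ)).obj P :=
    (Functor.sheafPullbackConstruction.sheafPullbackIso
      (EtShriek.compEtale j) (ModuleCat.{u + 1} Λ) U.smallEtaleTopology
        X.smallEtaleTopology).app B
  obtain ⟨V, g, v, σ, hv, hσ⟩ := isLocallySurjective_toSheafify' Λ P (e.hom.hom.app (op W) s) w
  refine ⟨V, g, ⟨v, hv⟩, ?_⟩
  have hE : IsEmpty (LiftIdx j V) := by
    refine ⟨fun φ => hw ?_⟩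
    have h1 : g.left ≫ W.hom = V.hom := MorphismProperty.Over.w g
    rw [← hv, ← Scheme.Hom.comp_apply, h1, ← φ.down.2, Scheme.Hom.comp_apply]
    exact ⟨_, rfl⟩
  have h0 : σ = 0 := by
    have := ModuleCat.subsingleton_of_isZero (isZero_lan Λ j B.obj V hE)
    exact Subsingleton.elim _ _
  rw [h0, map_zero] at hσ
  have h1 : e.hom.hom.app (op V) (Etrest.ModGerm.res Λ ((ext Λ j).obj B) g s) = 0 := by
    refine Eq.trans ?_ hσ.symm
    exact ev_res Λ e.hom g s
  have h2 := ModSeq.injective_of_mono e.hom V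
  exact h2 (h1.trans (map_zero _).symm)

theorem isIso_res_counit {X U : Scheme.{u}} (j : U ⟶ X) [Etale j] [Mono j] (A : EtModW.Mod Λ X) :
    IsIso ((res Λ j).map ((extResAdj Λ j).counit.app A)) := by
  have h := (extResAdj Λ j).right_triangle_components A
  have : IsIso ((extResAdj Λ j).unit.app ((res Λ j).obj A)) := inferInstance
  exact IsIso.of_isIso_fac_left h

/-- (JSH) -/
theorem mono_counit {X U : Scheme.{u}} (j : U ⟶ X) [IsOpenImmersion j] (A : EtModW.Mod Λ X) :
    Mono ((extResAdj Λ j).counit.app A) := by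
  refine ModSeq.mono_of_injective _ (fun W s hs => ?_)
  refine sect_ext Λ ((ext Λ j).obj ((ModRestr.res Λ j).obj A)) s 0 (fun w => ?_)
  by_cases hw : W.hom w ∈ Set.range j
  · obtain ⟨x, hx⟩ := hw
    obtain ⟨y, hy1, hy2⟩ := Scheme.Pullback.exists_preimage_pullback w x hx.symm
    refine ⟨(EtShriek.compEtale j).obj ((EtCoh.bc j).obj W), (compBcAdj j).counit.app W,
      ⟨y, hy1⟩, ?_⟩
    have h1 : ((extResAdj Λ j).counit.app A).hom.app
        (op ((EtShriek.compEtale j).obj ((EtCoh.bc j).obj W)))
        (Etrest.ModGerm.res Λ ((ext Λ j).obj ((ModRestr.res Λ j).obj A))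
          ((compBcAdj j).counit.app W) s) = 0 := by
      refine (ev_res Λ ((extResAdj Λ j).counit.app A) ((compBcAdj j).counit.app W) s).trans ?_
      refine (congrArg _ hs).trans (map_zero _)
    have h2 := isIso_res_counit Λ j A
    have h3 := ModSeq.injective_of_mono ((ModRestr.res Λ j).map ((extResAdj Λ j).counit.app A))
      ((EtCoh.bc j).obj W)
    rw [map_zero]
    exact h3 (h1.trans (map_zero _).symm)
  · obtain ⟨V, g, hv, hg⟩ := ext_local_zero Λ j _ W s w hw
    exact ⟨V, g, hv, by rw [hg, map_zero]⟩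

/-- sections of the restricted internal Hom at `compEtale j (bc j W)` -/
theorem unit_homSh_apply {X U : Scheme.{u}} (j : U ⟶ X) [Etale j] (A H : EtModW.Mod Λ X)
    (W : X.Etale) (φ : (homSh A H).obj.obj (op W)) :
    ((resPushAdj Λ j).unit.app (homSh A H)).hom.app (op W) φ =
      (homSh A H).obj.map ((compBcAdj j).counit.app W).op φ := rfl

section Sur

variable {Λ}
variable {X : Scheme.{u}} {A I : EtModW.Mod Λ X} {W W' : X.Etale} (c : W' ⟶ W)
  [Etale c.left]

open Groth.Agent.EtpbcA.OverSite

/-- The canonical map of the total space of `T ⟶ W'.left ⟶ W.left` to `W'`. -/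
noncomputable def gT (T : W'.left.Etale) :
    (EtShriek.compEtale (str W)).obj ((EtShriek.compEtale c.left).obj T) ⟶ W' :=
  MorphismProperty.Over.homMk T.hom (by
    have h1 : c.left ≫ W.hom = W'.hom := MorphismProperty.Over.w c
    exact (congrArg (fun k => T.hom ≫ k) h1.symm).trans (Category.assoc _ _ _).symm)

theorem gT_map {T T' : W'.left.Etale} (k : T' ⟶ T) :
    (EtShriek.compEtale (str W)).map ((EtShriek.compEtale c.left).map k) ≫ gT c T = gT c T' := by
  apply MorphismProperty.Over.Hom.ext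
  exact MorphismProperty.Over.w k

/-- The morphism of sheaves on `W'` given by a section of the internal Hom. -/
noncomputable def theta (φ : (homSh A I).obj.obj (op W')) :
    (ModRestr.res Λ c.left).obj ((ModRestr.res Λ (str W)).obj A) ⟶
    (ModRestr.res Λ c.left).obj ((ModRestr.res Λ (str W)).obj I) :=
  ⟨{ app := fun T => HomPre.ev (A := A.obj) (H := I.obj) φ (gT c T.unop)
     naturality := fun T T' k => by
      have h := HomPre.ev_naturality (A := A.obj) (H := I.obj) φ (gT c T.unop)
        ((EtShriek.compEtale (str W)).map ((EtShriek.compEtale c.left).map k.unop))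
      rw [gT_map] at h
      exact h }⟩

theorem theta_app (φ : (homSh A I).obj.obj (op W')) (T : W'.left.Etale) :
    (theta c φ).hom.app (op T) = HomPre.ev (A := A.obj) (H := I.obj) φ (gT c T) := rfl

/-- A morphism to `W'` as an object of the small etale site of `W'.left`. -/
noncomputable def toT {W'' : X.Etale} (g : W'' ⟶ W') : W'.left.Etale :=
  (ofOver W').obj (Over.mk g)

/-- The identification of `W''` with the object of the small etale site of `X` given by `toT g`. -/
noncomputable def toTIso {W'' : X.Etale} (g : W'' ⟶ W') :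
    W'' ⟶ (EtShriek.compEtale (str W)).obj ((EtShriek.compEtale c.left).obj (toT g)) :=
  MorphismProperty.Over.homMk (𝟙 W''.left) (by
    have h1 : c.left ≫ W.hom = W'.hom := MorphismProperty.Over.w c
    have h2 : g.left ≫ W'.hom = W''.hom := MorphismProperty.Over.w g
    refine (Category.id_comp _).trans ?_
    change (g.left ≫ c.left) ≫ W.hom = W''.hom
    rw [Category.assoc, h1, h2])

theorem toTIso_gT {W'' : X.Etale} (g : W'' ⟶ W') : toTIso c g ≫ gT c (toT g) = g := by
  apply MorphismProperty.Over.Hom.ext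
  exact Category.id_comp _

theorem isIso_toTIso {W'' : X.Etale} (g : W'' ⟶ W') : IsIso (toTIso c g) := by
  have h1 : c.left ≫ W.hom = W'.hom := MorphismProperty.Over.w c
  have h2 : g.left ≫ W'.hom = W''.hom := MorphismProperty.Over.w g
  have h3 : (Iso.refl W''.left).hom ≫ ((EtShriek.compEtale (str W)).obj
      ((EtShriek.compEtale c.left).obj (toT g))).hom = W''.hom := by
    refine (Category.id_comp _).trans ?_
    change (g.left ≫ c.left) ≫ W.hom = W''.hom
    rw [Category.assoc, h1, h2]
  let e : W'' ≅ (EtShriek.compEtale (str W)).obj ((EtShriek.compEtale c.left).obj (toT g)) :=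
    MorphismProperty.Over.isoMk (Iso.refl _) h3
  have : toTIso c g = e.hom := MorphismProperty.Over.Hom.ext rfl
  rw [this]
  infer_instance

theorem exists_extension [IsOpenImmersion c.left] [Injective I]
    (φ : (homSh A I).obj.obj (op W')) :
    ∃ ψ : (homSh A I).obj.obj (op W), (homSh A I).obj.map c.op ψ = φ := by
  have hI : Injective ((ModRestr.res Λ (str W)).obj I) := injective_res Λ (str W) I
  have hm := mono_counit Λ c.left ((ModRestr.res Λ (str W)).obj A)
  let θ' := ((extResAdj Λ c.left).homEquiv _ _).symm (theta c φ)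
  let η : (ModRestr.res Λ (str W)).obj A ⟶ (ModRestr.res Λ (str W)).obj I :=
    Injective.factorThru θ' ((extResAdj Λ c.left).counit.app ((ModRestr.res Λ (str W)).obj A))
  have hη : (extResAdj Λ c.left).counit.app ((ModRestr.res Λ (str W)).obj A) ≫ η = θ' :=
    Injective.comp_factorThru _ _
  have h1 : (ModRestr.res Λ c.left).map η = theta c φ := by
    have h2 : (extResAdj Λ c.left).homEquiv _ _
        ((extResAdj Λ c.left).counit.app ((ModRestr.res Λ (str W)).obj A) ≫ η) = theta c φ := by
      rw [hη]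
      exact ((extResAdj Λ c.left).homEquiv _ _).apply_symm_apply _
    rw [← h2, Adjunction.homEquiv_unit, Functor.map_comp]
    exact ((extResAdj Λ c.left).right_triangle_components_assoc _ _).symm
  obtain ⟨ψ, hψ⟩ := (HomRes.secHom_bijective (A := A) (H := I) W).2 η
  refine ⟨ψ, ?_⟩
  refine HomPre.ext_ev (W := W') (fun W'' g => ?_)
  have h3 : HomPre.ev (A := A.obj) (H := I.obj) ψ (gT c (toT g) ≫ c) =
      HomPre.ev (A := A.obj) (H := I.obj) φ (gT c (toT g)) := by
    rw [← theta_app, ← h1, ← hψ]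
    rfl
  have := isIso_toTIso c g
  have h4 := HomPre.ev_naturality (A := A.obj) (H := I.obj) φ (gT c (toT g)) (toTIso c g)
  have h5 := HomPre.ev_naturality (A := A.obj) (H := I.obj) ψ (gT c (toT g) ≫ c) (toTIso c g)
  rw [toTIso_gT, ← h3, ← h5, ← Category.assoc, toTIso_gT, cancel_epi] at h4
  exact h4.symm

end Sur

/-- (SUR) -/
theorem surjective_unit_homSh {X U : Scheme.{u}} (j : U ⟶ X) [IsOpenImmersion j]
    (A I : EtModW.Mod Λ X) [Injective I] (W : X.Etale) :
    Function.Surjective (((resPushAdj Λ j).unit.app (homSh A I)).hom.app (op W)) := by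
  intro φ
  have : IsOpenImmersion ((compBcAdj j).counit.app W).left :=
    inferInstanceAs (IsOpenImmersion (pullback.fst W.hom j))
  exact exists_extension ((compBcAdj j).counit.app W) φ


/-- A geometric point of `X` lifts to any point above it of an etale `X`-scheme. -/
theorem exists_fib {X : Scheme.{u}} {Ω : Type u} [Field Ω] [IsSepClosed Ω]
    (ξ : Spec (CommRingCat.of Ω) ⟶ X) (W : X.Etale) (x : W.left) (hx : W.hom x = ξ default) :
    ∃ t : Fib ξ W, pt ξ t = x := by
  obtain ⟨l, hl, hl'⟩ := Scheme.exists_fac_of_etale_of_isSepClosed W.hom ξ x hx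
  exact ⟨Over.homMk l hl, hl'⟩

/-- (INJ) -/
theorem injective_unit_homSh {X U : Scheme.{u}} (j : U ⟶ X) [IsOpenImmersion j]
    (C H : EtModW.Mod Λ X)
    (hC : ∀ z : X, z ∉ Set.range j.base → ∃ (Ω : Type u) (_ : Field Ω) (_ : IsSepClosed Ω)
      (ξ : Spec (.of Ω) ⟶ X), (∀ t, ξ t = z) ∧ IsZero ((EtModW.stalk Λ ξ).obj C))
    (W : X.Etale) :
    Function.Injective (((resPushAdj Λ j).unit.app (homSh C H)).hom.app (op W)) := by
  refine (injective_iff_map_eq_zero (((resPushAdj Λ j).unit.app (homSh C H)).hom.app (op W)).hom).2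
    (fun φ hφ => ?_)
  have hφ' : (homSh C H).obj.map ((compBcAdj j).counit.app W).op φ = 0 := hφ
  refine HomPre.ext_ev (W := W) (fun W₁ g => ?_)
  ext s : 2
  change (HomPre.ev (A := C.obj) (H := H.obj) φ g).hom s = 0
  refine sect_ext Λ H _ _ (fun x => ?_)
  by_cases hx : W₁.hom x ∈ Set.range j
  · obtain ⟨y, hy⟩ := hx
    obtain ⟨w, hw1, hw2⟩ := Scheme.Pullback.exists_preimage_pullback x y hy.symm
    refine ⟨(EtShriek.compEtale j).obj ((EtCoh.bc j).obj W₁), (compBcAdj j).counit.app W₁,
      ⟨w, hw1⟩, ?_⟩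
    rw [map_zero]
    have h1 := HomPre.ev_naturality_apply (A := C.obj) (H := H.obj) φ g
      ((compBcAdj j).counit.app W₁) s
    refine h1.symm.trans ?_
    have h2 : (compBcAdj j).counit.app W₁ ≫ g =
        (EtShriek.compEtale j).map ((EtCoh.bc j).map g) ≫ (compBcAdj j).counit.app W :=
      ((compBcAdj j).counit.naturality g).symm
    rw [h2]
    have h3 := HomPre.ev_map (A := C.obj) (H := H.obj) φ ((compBcAdj j).counit.app W)
      ((EtShriek.compEtale j).map ((EtCoh.bc j).map g))
    have h4 : HomPre.ev (A := C.obj) (H := H.obj) φ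
        ((EtShriek.compEtale j).map ((EtCoh.bc j).map g) ≫ (compBcAdj j).counit.app W) = 0 := by
      refine h3.symm.trans ?_
      refine Eq.trans ?_ (HomPre.ev_zero (A := C.obj) (H := H.obj)
        ((EtShriek.compEtale j).map ((EtCoh.bc j).map g)))
      exact congrArg (fun k => HomPre.ev (A := C.obj) (H := H.obj) k
        ((EtShriek.compEtale j).map ((EtCoh.bc j).map g))) hφ'
    rw [h4]
    rfl
  · obtain ⟨Ω, _, _, ξ, hξ, h0⟩ := hC _ hx
    obtain ⟨t, ht⟩ := exists_fib ξ W₁ x (hξ _).symm
    have h1 : germ Λ ξ C t s = 0 := by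
      have := ModuleCat.subsingleton_of_isZero h0
      exact Subsingleton.elim _ _
    obtain ⟨V, g', v, hv, hg'⟩ := (germ_eq_zero_iff Λ ξ C t s).1 h1
    refine ⟨V, g', ⟨pt ξ v, by rw [← Groth.Agent.EtpbcA.Germ.pt_fmap, hv, ht]⟩, ?_⟩
    rw [map_zero]
    have h2 := HomPre.ev_naturality_apply (A := C.obj) (H := H.obj) φ g g' s
    refine h2.symm.trans ?_
    refine (congrArg (HomPre.ev (A := C.obj) (H := H.obj) φ (g' ≫ g)).hom hg').trans (map_zero _)

end Groth.Agent.Sga4h.X144Shr
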