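import Groth.Agent.Sga4h.HomExt
import Groth.Agent.Sga4h.X144Cast
import Groth.Agent.Sga4h.X144Count
import Groth.Agent.Sga4h.X144Dual
import Groth.Agent.Sga4h.X144Dual2
import Groth.Agent.Sga4h.X144Nrm
import Groth.Agent.Sga4h.X144Clopen
import Groth.Agent.Sga4h.X144Cok
import Groth.Agent.Sga4h.X144Cst
import Groth.Agent.Sga4h.X144Shr
import Groth.Agent.Sga4h.X144Ext
import Groth.Agent.Etrest.ModFT
import Groth.Agent.Etcore.LPullComp

/-!
# The core of S3144 at a bad point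
-/

set_option autoImplicit false
universe u

open CategoryTheory CategoryTheory.Limits AlgebraicGeometry Opposite

namespace Groth.Agent.Sga4h.X144Core

open Groth.Agent.Sga4h.ModRestr Groth.Agent.Sga4h.HomSh Groth.Agent.Sga4h.HomExt
open Groth.Agent.Etcore


variable {Λ : Type (u + 1)} [CommRing Λ] {S U : Scheme.{u}}

/-- Sheaves which are direct images of finite type locally constant sheaves on `U`. -/
structure Nice (j : U ⟶ S) [IsOpenImmersion j] (G : EtModW.Mod Λ S) : Prop where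
  isIso : IsIso ((resPushAdj Λ j).unit.app G)
  ftlc : EtModW.IsFTLocConst _ ((res Λ j).obj G)

theorem isIso_unit_of_iso (j : U ⟶ S) [Etale j] {G G' : EtModW.Mod Λ S} (e : G ≅ G')
    (h : IsIso ((resPushAdj Λ j).unit.app G)) : IsIso ((resPushAdj Λ j).unit.app G') := by
  have h1 := (resPushAdj Λ j).unit.naturality e.hom
  have h2 : IsIso (e.hom ≫ (resPushAdj Λ j).unit.app G') := by
    have h3 : e.hom ≫ (resPushAdj Λ j).unit.app G' =
      (resPushAdj Λ j).unit.app G ≫ (EtModW.push Λ j).map ((res Λ j).map e.hom) := h1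
    rw [h3]
    infer_instance
  exact IsIso.of_isIso_comp_left e.hom _

theorem isIso_unit_push (j : U ⟶ S) [IsOpenImmersion j] (B : EtModW.Mod Λ U) :
    IsIso ((resPushAdj Λ j).unit.app ((EtModW.push Λ j).obj B)) := by
  have h := (resPushAdj Λ j).right_triangle_components B
  have h2 : IsIso ((EtModW.push Λ j).map ((resPushAdj Λ j).counit.app B)) := inferInstance
  have h3 : IsIso ((resPushAdj Λ j).unit.app ((EtModW.push Λ j).obj B) ≫
      (EtModW.push Λ j).map ((resPushAdj Λ j).counit.app B)) := by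
    rw [h]
    exact IsIso.id _
  exact IsIso.of_isIso_comp_right _ ((EtModW.push Λ j).map ((resPushAdj Λ j).counit.app B))

theorem nice_push (j : U ⟶ S) [IsOpenImmersion j] (B : EtModW.Mod Λ U)
    (hB : EtModW.IsFTLocConst Λ B) : Nice j ((EtModW.push Λ j).obj B) where
  isIso := isIso_unit_push j B
  ftlc := LPullComp.isFTLC_of_iso ((asIso ((resPushAdj Λ j).counit.app B)).symm) hB

theorem nice_of_iso (j : U ⟶ S) [IsOpenImmersion j] {G G' : EtModW.Mod Λ S} (e : G ≅ G')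
    (h : Nice j G) : Nice j G' where
  isIso := isIso_unit_of_iso j e h.isIso
  ftlc := LPullComp.isFTLC_of_iso ((res Λ j).mapIso e) h.ftlc

/-- `R^0` of the unit `Hom(A, -) ⟶ j_* j^* Hom(A, -)`. -/
theorem isIso_rightDerived_zero (j : U ⟶ S) [IsOpenImmersion j] (A H : EtModW.Mod Λ S)
    (h : IsIso ((resPushAdj Λ j).unit.app (homSh A H))) :
    IsIso ((NatTrans.rightDerived (toJHom j A) 0).app H) := by
  have : PreservesFiniteLimits (jHom j A) :=
    inferInstanceAs (PreservesFiniteLimits (homShF A ⋙ res Λ j ⋙ EtModW.push Λ j))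
  have h1 := Groth.Agent.Sga4h.FunLES.toZero_naturality (toJHom j A) H
  have h4 : IsIso ((toJHom j A).app H) := h
  have h5 : IsIso ((homShF A).toRightDerivedZero.app H ≫
      (NatTrans.rightDerived (toJHom j A) 0).app H) := by
    rw [← h1]
    infer_instance
  exact IsIso.of_isIso_comp_left ((homShF A).toRightDerivedZero.app H) _

theorem nice_const [IsLocallyNoetherian S]
    (hreg : ∀ s : S, IsRegularLocalRing (S.presheaf.stalk s))
    (hdim : ∀ s : S, ringKrullDim (S.presheaf.stalk s) ≤ 1)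
    (j : U ⟶ S) [IsOpenImmersion j] (hU : Dense (Set.range j.base)) (M : Type (u + 1))
    [AddCommGroup M] [Module Λ M] [Module.Finite Λ M] :
    Nice j (EtModW.constMod Λ S M) where
  isIso := X144Nrm.isIso_unit_const hreg hdim j hU Λ M
  ftlc := LPullComp.isFTLC_of_iso (resConst Λ j M).symm (X144Dual.ftlc_const Λ M)

/-- The coefficient rings: finite Frobenius rings. -/
structure GoodRing (Λ : Type (u + 1)) [CommRing Λ] : Prop where
  fin : Finite Λ
  inj : Module.Injective.{u + 1} Λ Λ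
  card : ∀ (M : Type (u + 1)) [AddCommGroup M] [Module Λ M] [Finite M],
    Nat.card (M →ₗ[Λ] Λ) = Nat.card M
  refl : ∀ (M : Type (u + 1)) [AddCommGroup M] [Module Λ M] [Finite M],
    Function.Bijective (Module.Dual.eval Λ M)

theorem GoodRing.noeth (h : GoodRing Λ) : IsNoetherianRing Λ :=
  have := h.fin
  inferInstance

/-- Higher `Ext` of `A|U` and `Λ_S|U`. -/
theorem ext_res (hΛ : GoodRing Λ) (j : U ⟶ S) [IsOpenImmersion j] (A : EtModW.Mod Λ S)
    (hA : EtModW.IsFTLocConst _ ((res Λ j).obj A)) (q : ℕ) (hq : 1 ≤ q) :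
    IsZero (((homShF ((res Λ j).obj A)).rightDerived q).obj
      ((res Λ j).obj (EtModW.constMod Λ S Λ))) :=
  have := hΛ.noeth
  (X144Ext.ext_ftlc Λ hΛ.inj _ hA q hq).of_iso
    (((homShF ((res Λ j).obj A)).rightDerived q).mapIso (resConst Λ j Λ))

theorem jHom_iso (hΛ : GoodRing Λ) (j : U ⟶ S) [IsOpenImmersion j] (A : EtModW.Mod Λ S)
    (hA : EtModW.IsFTLocConst _ ((res Λ j).obj A)) (q : ℕ) :
    Nonempty (((jHom j A).rightDerived q).obj (EtModW.constMod Λ S Λ) ≅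
      (EtModW.Rpush Λ j q).obj (homSh ((res Λ j).obj A) (EtModW.constMod Λ U Λ))) := by
  obtain ⟨e⟩ := jHom_rightDerived j A (EtModW.constMod Λ S Λ) (ext_res hΛ j A hA) q
  exact ⟨e ≪≫ (EtModW.Rpush Λ j q).mapIso (homShCongr (Iso.refl _) (resConst Λ j Λ))⟩

theorem epi_toJHom (j : U ⟶ S) [IsOpenImmersion j] (A I : EtModW.Mod Λ S) (hI : Injective I) :
    Epi ((toJHom j A).app I) :=
  ModSeq.epi_of_surjective _ (fun W s => X144Shr.surjective_unit_homSh Λ j A I W s)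

theorem isIso_toJHom (j : U ⟶ S) [IsOpenImmersion j] (C I : EtModW.Mod Λ S) (hI : Injective I)
    (hC : ∀ z : S, z ∉ Set.range j.base → ∃ (Ω : Type u) (_ : Field Ω) (_ : IsSepClosed Ω)
      (ξ : Spec (.of Ω) ⟶ S), (∀ t, ξ t = z) ∧ IsZero ((EtModW.stalk Λ ξ).obj C)) :
    IsIso ((toJHom j C).app I) := by
  have h1 := epi_toJHom j C I hI
  have h2 : Mono ((toJHom j C).app I) := ModSeq.mono_of_injective _ (fun W s hs =>
    X144Shr.injective_unit_homSh Λ j C I hC W (hs.trans (map_zero _).symm))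
  exact isIso_of_mono_of_epi _

attribute [local instance 5000] CategoryTheory.Abelian.toPreadditive
  CategoryTheory.Preadditive.preadditiveHasZeroMorphisms

/-- The local input at a geometric point `ξ` above a bad point. -/
structure PtData (Λ : Type (u + 1)) [CommRing Λ] (j : U ⟶ S) {Ω : Type u} [Field Ω]
    [IsSepClosed Ω] (ξ : Spec (.of Ω) ⟶ S) : Prop where
  two : ∀ B : EtModW.Mod Λ U, EtModW.IsFTLocConst Λ B → ∀ q, 2 ≤ q →
    IsZero ((EtModW.stalk Λ ξ).obj ((EtModW.Rpush Λ j q).obj B))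
  fin0 : ∀ B : EtModW.Mod Λ U, EtModW.IsFTLocConst Λ B →
    Finite ((EtModW.stalk Λ ξ).obj ((EtModW.push Λ j).obj B))
  fin1 : ∀ B : EtModW.Mod Λ U, EtModW.IsFTLocConst Λ B →
    Finite ((EtModW.stalk Λ ξ).obj ((EtModW.Rpush Λ j 1).obj B))
  card : ∀ B : EtModW.Mod Λ U, EtModW.IsFTLocConst Λ B →
    Nat.card ((EtModW.stalk Λ ξ).obj ((EtModW.push Λ j).obj B)) =
      Nat.card ((EtModW.stalk Λ ξ).obj ((EtModW.Rpush Λ j 1).obj B))

theorem mono_of_stalk [IrreducibleSpace S] (j : U ⟶ S) [IsOpenImmersion j]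
    (hU : Dense (Set.range j.base)) (G : EtModW.Mod Λ S) (hG : Nice j G) {Ω : Type u} [Field Ω]
    [IsSepClosed Ω] (ξ : Spec (.of Ω) ⟶ S) (M : Type (u + 1)) [AddCommGroup M] [Module Λ M]
    (f : EtModW.constMod Λ S M ⟶ G) (hf : IsIso ((EtModW.stalk Λ ξ).map f)) : Mono f := by
  have hne : Nonempty U := by
    obtain ⟨x, ⟨y, rfl⟩⟩ := hU.nonempty
    exact ⟨y⟩
  have h1 := hG.isIso
  have h2 : Mono ((EtModW.stalk Λ ξ).map (f ≫ (resPushAdj Λ j).unit.app G)) := by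
    rw [Functor.map_comp]
    infer_instance
  have h3 := X144Clopen.irr_mono Λ j _ hG.ftlc M (f ≫ (resPushAdj Λ j).unit.app G) ξ h2
  exact mono_of_mono f ((resPushAdj Λ j).unit.app G)

/-- The cokernel of `M ⟶ G` vanishes at the bad point. -/
theorem isZero_stalk {Ω : Type u} [Field Ω] [IsSepClosed Ω] (ξ : Spec (.of Ω) ⟶ S)
    {A B C : EtModW.Mod Λ S} {f : A ⟶ B} {g : B ⟶ C} (w : f ≫ g = 0) [Epi g]
    (hf : IsIso ((EtModW.stalk Λ ξ).map f)) : IsZero ((EtModW.stalk Λ ξ).obj C) := by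
  have h1 : Epi ((EtModW.stalk Λ ξ).map g) := inferInstance
  have h2 : (EtModW.stalk Λ ξ).map f ≫ (EtModW.stalk Λ ξ).map g = 0 := by
    rw [← Functor.map_comp, w, Functor.map_zero]
  have h3 : (EtModW.stalk Λ ξ).map g = 0 := by
    rwa [← cancel_epi ((EtModW.stalk Λ ξ).map f), comp_zero]
  exact IsZero.of_epi_eq_zero _ h3

theorem ftlc_coker (hΛ : GoodRing Λ) (j : U ⟶ S) [IsOpenImmersion j]
    {A B C : EtModW.Mod Λ S} {f : A ⟶ B} {g : B ⟶ C} (w : f ≫ g = 0)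
    (h : (ShortComplex.mk f g w).ShortExact)
    (hA : EtModW.IsFTLocConst Λ ((res Λ j).obj A)) (hB : EtModW.IsFTLocConst Λ ((res Λ j).obj B)) :
    EtModW.IsFTLocConst Λ ((res Λ j).obj C) := by
  have hno := hΛ.noeth
  obtain ⟨w', h'⟩ := X144Cast.resSE j w h
  exact X144Cok.ftlc_of_shortExact Λ _ h' hA hB

theorem isIso_unit_dual (hΛ : GoodRing Λ) [IsLocallyNoetherian S]
    (hreg : ∀ s : S, IsRegularLocalRing (S.presheaf.stalk s))
    (hdim : ∀ s : S, ringKrullDim (S.presheaf.stalk s) ≤ 1)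
    (j : U ⟶ S) [IsOpenImmersion j] (hU : Dense (Set.range j.base)) (M : Type (u + 1))
    [AddCommGroup M] [Module Λ M] [Finite M] :
    IsIso ((resPushAdj Λ j).unit.app
      (homSh (EtModW.constMod Λ S M) (EtModW.constMod Λ S Λ))) := by
  have hno := hΛ.noeth
  have hMf : Module.Finite Λ M := inferInstance
  obtain ⟨e⟩ := X144Const.nonempty_homSh_const (Λ := Λ) (X := S) (M := M) (N := Λ)
  have hfin : Finite (M →ₗ[Λ] Λ) := by
    have := hΛ.fin
    exact Finite.of_injective (fun f : M →ₗ[Λ] Λ => (f : M → Λ)) DFunLike.coe_injective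
  exact isIso_unit_of_iso j e.symm (nice_const hreg hdim j hU (M →ₗ[Λ] Λ)).isIso

theorem core_seq' (hΛ : GoodRing Λ) [IsLocallyNoetherian S]
    (hreg : ∀ s : S, IsRegularLocalRing (S.presheaf.stalk s))
    (hdim : ∀ s : S, ringKrullDim (S.presheaf.stalk s) ≤ 1)
    (j : U ⟶ S) [IsOpenImmersion j] (hU : Dense (Set.range j.base)) (z : S)
    (hz : ∀ w : S, w ∉ Set.range j.base ↔ w = z) {Ω : Type u} [Field Ω]
    [IsSepClosed Ω] (ξ : Spec (.of Ω) ⟶ S) (hξ : ∀ t, ξ t = z) (hp : PtData Λ j ξ)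
    (G : EtModW.Mod Λ S) (hG : Nice j G) (M : Type (u + 1)) [AddCommGroup M] [Module Λ M]
    [Finite M] (f : EtModW.constMod Λ S M ⟶ G) (hf : IsIso ((EtModW.stalk Λ ξ).map f))
    (C : EtModW.Mod Λ S) (g : G ⟶ C) (w : f ≫ g = 0)
    (hT : (ShortComplex.mk f g w).ShortExact) :
    (∀ q, 2 ≤ q → IsZero ((EtModW.stalk Λ ξ).obj
      (((homShF G).rightDerived q).obj (EtModW.constMod Λ S Λ)))) ∧
    ∃ T : ShortComplex (ModuleCat.{u + 1} Λ), T.ShortExact ∧
      Nonempty (T.X₁ ≅ (EtModW.stalk Λ ξ).obj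
        (((homShF G).rightDerived 1).obj (EtModW.constMod Λ S Λ))) ∧
      Nonempty (T.X₂ ≅ (EtModW.stalk Λ ξ).obj ((EtModW.Rpush Λ j 1).obj
        (homSh ((res Λ j).obj G) (EtModW.constMod Λ U Λ)))) ∧
      Nonempty (T.X₃ ≅ (EtModW.stalk Λ ξ).obj ((EtModW.Rpush Λ j 1).obj
        (homSh (EtModW.constMod Λ U M) (EtModW.constMod Λ U Λ)))) := by
  have hno := hΛ.noeth
  have hMf : Module.Finite Λ M := inferInstance
  have hMn : Nice j (EtModW.constMod Λ S M) := nice_const hreg hdim j hU M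
  have hg : Epi g := hT.epi_g
  have hC0 : IsZero ((EtModW.stalk Λ ξ).obj C) := isZero_stalk ξ w hf
  have hC : ∀ w : S, w ∉ Set.range j.base → ∃ (Ω : Type u) (_ : Field Ω) (_ : IsSepClosed Ω)
      (ξ : Spec (.of Ω) ⟶ S), (∀ t, ξ t = w) ∧ IsZero ((EtModW.stalk Λ ξ).obj C) := by
    intro w hw
    obtain rfl := (hz w).1 hw
    exact ⟨Ω, inferInstance, inferInstance, ξ, hξ, hC0⟩
  have hCf : EtModW.IsFTLocConst Λ ((res Λ j).obj C) := ftlc_coker hΛ j w hT hMn.ftlc hG.ftlc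
  have hunit := isIso_unit_dual hΛ hreg hdim j hU M
  have a1 : ∀ q, 1 ≤ q → IsZero ((EtModW.stalk Λ ξ).obj
      (((homShF (EtModW.constMod Λ S M)).rightDerived q).obj (EtModW.constMod Λ S Λ))) :=
    fun q hq => (EtModW.stalk Λ ξ).map_isZero (X144Ext.ext_const Λ hΛ.inj M q hq)
  have a2 : IsIso ((EtModW.stalk Λ ξ).map ((NatTrans.rightDerived
      (toJHom j (EtModW.constMod Λ S M)) 0).app (EtModW.constMod Λ S Λ))) := by
    have := isIso_rightDerived_zero j _ _ hunit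
    infer_instance
  have a3 : ∀ (A : EtModW.Mod Λ S), EtModW.IsFTLocConst Λ ((res Λ j).obj A) → ∀ q, 2 ≤ q →
      IsZero ((EtModW.stalk Λ ξ).obj
        (((jHom j A).rightDerived q).obj (EtModW.constMod Λ S Λ))) := fun A hA q hq => by
    obtain ⟨e⟩ := jHom_iso hΛ j A hA q
    exact (hp.two _ (X144Const.ftlc_homSh hA (X144Dual.ftlc_const Λ Λ)) q hq).of_iso
      ((EtModW.stalk Λ ξ).mapIso e)
  have hcount := X144Count.abstract_count (homShF C) (homShF G) (homShF (EtModW.constMod Λ S M))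
    (jHom j C) (jHom j G) (jHom j (EtModW.constMod Λ S M))
    (homShFMap g) (homShFMap f) (X144Cast.homZ w)
    (jHomMap j g) (jHomMap j f) (X144Cast.jZ j w)
    (toJHom j C) (toJHom j G) (toJHom j (EtModW.constMod Λ S M))
    (homShFMap_toJHom j g) (homShFMap_toJHom j f)
    (X144Cast.homSE w hT) (X144Cast.jSE j w hT)
    (fun I hI => isIso_toJHom j C I hI hC) (fun I hI => epi_toJHom j G I hI)
    (fun I hI => epi_toJHom j (EtModW.constMod Λ S M) I hI)
    (EtModW.stalk Λ ξ) (EtModW.constMod Λ S Λ) a1 a2 (a3 G hG.ftlc) (a3 C hCf)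
  obtain ⟨h2, T', hT', ⟨e1⟩, ⟨e2⟩, ⟨e3⟩⟩ := hcount
  obtain ⟨eG⟩ := jHom_iso hΛ j G hG.ftlc 1
  obtain ⟨eM⟩ := jHom_iso hΛ j _ hMn.ftlc 1
  exact ⟨h2, T', hT', ⟨e1⟩, ⟨e2 ≪≫ (EtModW.stalk Λ ξ).mapIso eG⟩,
    ⟨e3 ≪≫ (EtModW.stalk Λ ξ).mapIso (eM ≪≫ (EtModW.Rpush Λ j 1).mapIso
      (homShCongr (resConst Λ j M) (Iso.refl _)))⟩⟩

theorem core_seq (hΛ : GoodRing Λ) [IsLocallyNoetherian S] [IrreducibleSpace S]
    (hreg : ∀ s : S, IsRegularLocalRing (S.presheaf.stalk s))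
    (hdim : ∀ s : S, ringKrullDim (S.presheaf.stalk s) ≤ 1)
    (j : U ⟶ S) [IsOpenImmersion j] (hU : Dense (Set.range j.base)) (z : S)
    (hz : ∀ w : S, w ∉ Set.range j.base ↔ w = z) {Ω : Type u} [Field Ω]
    [IsSepClosed Ω] (ξ : Spec (.of Ω) ⟶ S) (hξ : ∀ t, ξ t = z) (hp : PtData Λ j ξ)
    (G : EtModW.Mod Λ S) (hG : Nice j G) (M : Type (u + 1)) [AddCommGroup M] [Module Λ M]
    [Finite M] (f : EtModW.constMod Λ S M ⟶ G) (hf : IsIso ((EtModW.stalk Λ ξ).map f)) :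
    (∀ q, 2 ≤ q → IsZero ((EtModW.stalk Λ ξ).obj
      (((homShF G).rightDerived q).obj (EtModW.constMod Λ S Λ)))) ∧
    ∃ T : ShortComplex (ModuleCat.{u + 1} Λ), T.ShortExact ∧
      Nonempty (T.X₁ ≅ (EtModW.stalk Λ ξ).obj
        (((homShF G).rightDerived 1).obj (EtModW.constMod Λ S Λ))) ∧
      Nonempty (T.X₂ ≅ (EtModW.stalk Λ ξ).obj ((EtModW.Rpush Λ j 1).obj
        (homSh ((res Λ j).obj G) (EtModW.constMod Λ U Λ)))) ∧
      Nonempty (T.X₃ ≅ (EtModW.stalk Λ ξ).obj ((EtModW.Rpush Λ j 1).obj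
        (homSh (EtModW.constMod Λ U M) (EtModW.constMod Λ U Λ)))) := by
  have hfm := mono_of_stalk j hU G hG ξ M f hf
  exact core_seq' hΛ hreg hdim j hU z hz ξ hξ hp G hG M f hf (cokernel f) (cokernel.π f)
    (cokernel.condition f)
    { exact := ShortComplex.exact_of_g_is_cokernel _ (cokernelIsCokernel f)
      mono_f := hfm
      epi_g := inferInstanceAs (Epi (cokernel.π f)) }

/-- Cardinalities in a short exact sequence of modules. -/
theorem card_shortExact (T : ShortComplex (ModuleCat.{u + 1} Λ)) (hT : T.ShortExact)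
    (h2 : Finite T.X₂) : Finite T.X₁ ∧ Nat.card T.X₂ = Nat.card T.X₁ * Nat.card T.X₃ := by
  have h1 : Function.Injective T.f.hom := (ModuleCat.mono_iff_injective _).1 hT.mono_f
  have h3 : Function.Surjective T.g.hom := (ModuleCat.epi_iff_surjective _).1 hT.epi_g
  have h4 : LinearMap.ker T.g.hom = LinearMap.range T.f.hom :=
    ((ShortComplex.moduleCat_exact_iff_range_eq_ker _).1 hT.exact).symm
  refine ⟨Finite.of_injective _ h1, ?_⟩
  have e1 : T.X₁ ≃ LinearMap.ker T.g.hom := by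
    rw [h4]
    exact (LinearEquiv.ofInjective T.f.hom h1).toEquiv
  have e3 : (T.X₂ ⧸ LinearMap.ker T.g.hom) ≃ T.X₃ :=
    (LinearMap.quotKerEquivOfSurjective T.g.hom h3).toEquiv
  rw [Nat.card_congr e1, ← Nat.card_congr e3]
  exact (Submodule.card_eq_card_quotient_mul_card (LinearMap.ker T.g.hom))

/-- Cardinality of isomorphic modules. -/
theorem card_iso {A B : ModuleCat.{u + 1} Λ} (e : A ≅ B) : Nat.card A = Nat.card B :=
  Nat.card_congr e.toLinearEquiv.toEquiv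

theorem finite_iso {A B : ModuleCat.{u + 1} Λ} (e : A ≅ B) (h : Finite A) : Finite B :=
  Finite.of_equiv _ e.toLinearEquiv.toEquiv

theorem count (hΛ : GoodRing Λ) [IsLocallyNoetherian S] [IrreducibleSpace S]
    (hreg : ∀ s : S, IsRegularLocalRing (S.presheaf.stalk s))
    (hdim : ∀ s : S, ringKrullDim (S.presheaf.stalk s) ≤ 1)
    (j : U ⟶ S) [IsOpenImmersion j] (hU : Dense (Set.range j.base)) (z : S)
    (hz : ∀ w : S, w ∉ Set.range j.base ↔ w = z) {Ω : Type u} [Field Ω]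
    [IsSepClosed Ω] (ξ : Spec (.of Ω) ⟶ S) (hξ : ∀ t, ξ t = z) (hp : PtData Λ j ξ)
    (G D : EtModW.Mod Λ S) (hG : Nice j G) (hD : Nice j D)
    (e : (res Λ j).obj D ≅ homSh ((res Λ j).obj G) (EtModW.constMod Λ U Λ))
    (M : Type (u + 1)) [AddCommGroup M] [Module Λ M]
    [Finite M] (f : EtModW.constMod Λ S M ⟶ G) (hf : IsIso ((EtModW.stalk Λ ξ).map f)) :
    (∀ q, 2 ≤ q → IsZero ((EtModW.stalk Λ ξ).obj
      (((homShF G).rightDerived q).obj (EtModW.constMod Λ S Λ)))) ∧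
    Finite ((EtModW.stalk Λ ξ).obj
      (((homShF G).rightDerived 1).obj (EtModW.constMod Λ S Λ))) ∧
    Finite ((EtModW.stalk Λ ξ).obj D) ∧ Finite ((EtModW.stalk Λ ξ).obj G) ∧
    Nat.card ((EtModW.stalk Λ ξ).obj D) =
      Nat.card ((EtModW.stalk Λ ξ).obj
        (((homShF G).rightDerived 1).obj (EtModW.constMod Λ S Λ))) *
      Nat.card ((EtModW.stalk Λ ξ).obj G) := by
  have hno := hΛ.noeth
  have hMf : Module.Finite Λ M := inferInstance
  obtain ⟨h2, T, hT, ⟨e1⟩, ⟨e2⟩, ⟨e3⟩⟩ := core_seq hΛ hreg hdim j hU z hz ξ hξ hp G hG M f hf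
  have i1 := hD.isIso
  have i2 := hG.isIso
  have hfD : EtModW.IsFTLocConst Λ (homSh ((res Λ j).obj G) (EtModW.constMod Λ U Λ)) :=
    X144Const.ftlc_homSh hG.ftlc (X144Dual.ftlc_const Λ Λ)
  -- the stalk of `D`
  have eD : (EtModW.stalk Λ ξ).obj D ≅ (EtModW.stalk Λ ξ).obj ((EtModW.push Λ j).obj
      (homSh ((res Λ j).obj G) (EtModW.constMod Λ U Λ))) :=
    (EtModW.stalk Λ ξ).mapIso (asIso ((resPushAdj Λ j).unit.app D) ≪≫
      (EtModW.push Λ j).mapIso e)
  have eG : (EtModW.stalk Λ ξ).obj G ≅ (EtModW.stalk Λ ξ).obj ((EtModW.push Λ j).obj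
      ((res Λ j).obj G)) :=
    (EtModW.stalk Λ ξ).mapIso (asIso ((resPushAdj Λ j).unit.app G))
  have hcD : Nat.card ((EtModW.stalk Λ ξ).obj D) = Nat.card T.X₂ := by
    rw [card_iso eD, hp.card _ hfD, card_iso e2]
  have hfin2 : Finite T.X₂ := finite_iso e2.symm (hp.fin1 _ hfD)
  obtain ⟨hfin1, hcard⟩ := card_shortExact T hT hfin2
  -- the stalk of the dual of `M`
  obtain ⟨em⟩ := X144Const.nonempty_homSh_const (Λ := Λ) (X := U) (M := M) (N := Λ)
  have hfin : Finite (M →ₗ[Λ] Λ) := by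
    have := hΛ.fin
    exact Finite.of_injective (fun f : M →ₗ[Λ] Λ => (f : M → Λ)) DFunLike.coe_injective
  have hmn : Nice j (EtModW.constMod Λ S (M →ₗ[Λ] Λ)) := nice_const hreg hdim j hU _
  have i3 := hmn.isIso
  obtain ⟨es⟩ := X144Cst.nonempty_stalk_const Λ (X := S) (M →ₗ[Λ] Λ) ξ
  obtain ⟨es'⟩ := X144Cst.nonempty_stalk_const Λ (X := S) M ξ
  have hfM : EtModW.IsFTLocConst Λ (homSh (EtModW.constMod Λ U M) (EtModW.constMod Λ U Λ)) :=
    X144Const.ftlc_homSh (X144Dual.ftlc_const Λ M) (X144Dual.ftlc_const Λ Λ)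
  have eM : (EtModW.stalk Λ ξ).obj ((EtModW.push Λ j).obj
      (homSh (EtModW.constMod Λ U M) (EtModW.constMod Λ U Λ))) ≅
      ModuleCat.of Λ (M →ₗ[Λ] Λ) :=
    (EtModW.stalk Λ ξ).mapIso ((EtModW.push Λ j).mapIso (em ≪≫ (resConst Λ j _).symm) ≪≫
      (asIso ((resPushAdj Λ j).unit.app (EtModW.constMod Λ S (M →ₗ[Λ] Λ)))).symm) ≪≫ es
  have hc3 : Nat.card T.X₃ = Nat.card ((EtModW.stalk Λ ξ).obj G) := by
    rw [card_iso e3, ← hp.card _ hfM, card_iso eM]
    refine (hΛ.card M).trans ?_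
    exact (card_iso es').symm.trans (card_iso (asIso ((EtModW.stalk Λ ξ).map f)))
  refine ⟨h2, finite_iso e1 hfin1, finite_iso eD.symm (hp.fin0 _ hfD),
    finite_iso eG.symm (hp.fin0 _ hG.ftlc), ?_⟩
  rw [hcD, hcard, card_iso e1, hc3]

/-- Vanishing at the bad point of a good neighbourhood. -/
theorem vanish_local (hΛ : GoodRing Λ) [IsLocallyNoetherian S] [IrreducibleSpace S]
    (hreg : ∀ s : S, IsRegularLocalRing (S.presheaf.stalk s))
    (hdim : ∀ s : S, ringKrullDim (S.presheaf.stalk s) ≤ 1)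
    (j : U ⟶ S) [IsOpenImmersion j] (hU : Dense (Set.range j.base)) (z : S)
    (hz : ∀ w : S, w ∉ Set.range j.base ↔ w = z) {Ω : Type u} [Field Ω]
    [IsSepClosed Ω] (ξ : Spec (.of Ω) ⟶ S) (hξ : ∀ t, ξ t = z) (hp : PtData Λ j ξ)
    (G D : EtModW.Mod Λ S) (hG : Nice j G) (hD : Nice j D)
    (e : (res Λ j).obj D ≅ homSh ((res Λ j).obj G) (EtModW.constMod Λ U Λ))
    (M : Type (u + 1)) [AddCommGroup M] [Module Λ M]
    [Finite M] (f : EtModW.constMod Λ S M ⟶ G) (hf : IsIso ((EtModW.stalk Λ ξ).map f))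
    (M' : Type (u + 1)) [AddCommGroup M'] [Module Λ M']
    [Finite M'] (f' : EtModW.constMod Λ S M' ⟶ D) (hf' : IsIso ((EtModW.stalk Λ ξ).map f'))
    (q : ℕ) (hq : 1 ≤ q) :
    IsZero ((EtModW.stalk Λ ξ).obj
      (((homShF G).rightDerived q).obj (EtModW.constMod Λ S Λ))) := by
  obtain ⟨h2, hf1, hfD, hfG, hc⟩ :=
    count hΛ hreg hdim j hU z hz ξ hξ hp G D hG hD e M f hf
  rcases Nat.lt_or_ge q 2 with hq2 | hq2
  swap
  · exact h2 q hq2
  obtain rfl : q = 1 := by omega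
  have hfin := hΛ.fin
  have hbid : IsIso (X144Const.bidual ((res Λ j).obj G) (EtModW.constMod Λ U Λ)) :=
    X144Dual2.isIso_bidual_gen Λ hΛ.refl _ hG.ftlc
  have e' : (res Λ j).obj G ≅ homSh ((res Λ j).obj D) (EtModW.constMod Λ U Λ) :=
    asIso (X144Const.bidual ((res Λ j).obj G) (EtModW.constMod Λ U Λ)) ≪≫
      homShCongr e.symm (Iso.refl _)
  obtain ⟨-, hf1', -, -, hc'⟩ :=
    count hΛ hreg hdim j hU z hz ξ hξ hp D G hD hG e' M' f' hf'
  have hpos : 0 < Nat.card ((EtModW.stalk Λ ξ).obj G) := Nat.card_pos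
  rw [hc, ← mul_assoc] at hc'
  have h1 : Nat.card ((EtModW.stalk Λ ξ).obj
        (((homShF D).rightDerived 1).obj (EtModW.constMod Λ S Λ))) *
      Nat.card ((EtModW.stalk Λ ξ).obj
        (((homShF G).rightDerived 1).obj (EtModW.constMod Λ S Λ))) = 1 := by
    have h3 : 1 * Nat.card ((EtModW.stalk Λ ξ).obj G) = _ := (one_mul _).trans hc'
    exact (Nat.eq_of_mul_eq_mul_right hpos h3).symm
  have h4 := Nat.eq_one_of_mul_eq_one_left h1
  have h5 : Subsingleton ((EtModW.stalk Λ ξ).obj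
      (((homShF G).rightDerived 1).obj (EtModW.constMod Λ S Λ))) :=
    (Nat.card_eq_one_iff_unique.1 h4).1
  exact ModuleCat.isZero_of_subsingleton _

end Groth.Agent.Sga4h.X144Core
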