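import Groth.Agent.Sga4h.HomExt
import Groth.Agent.Sga4h.X144Cast
import Groth.Agent.Sga4h.X144Const
import Groth.Agent.Etcore.LFreeGen

/-!
# (E1): `Hom(P, Λ) → Hom(N, Λ)` is an epimorphism of sheaves for `N ⊆ P` finitely generated and `Λ`
self-injective

* `cst M : M → (constMod M)(X)`, `isConstVia_cst`, `ev_constMap_cst`: naturality in `M`.
* `theta_nat`: `homShMap₂` and `theta`.
* `epi_homSh_const`.
-/

set_option autoImplicit false
universe u

open CategoryTheory CategoryTheory.Limits AlgebraicGeometry Opposite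

namespace Groth.Agent.Sga4h.X144E1

open Groth.Agent.Sga4h.ModRestr Groth.Agent.Sga4h.HomSh Groth.Agent.Sga4h.HomExt
open Groth.Agent.Etrest.ModGerm Groth.Agent.Etrest.ModLoc Groth.Agent.Sga4h.X144Const

variable (Λ : Type (u+1)) [CommRing Λ] {X : Scheme.{u}}

section Cst

variable {Λ}

variable (X) in
/-- The canonical map `M → (constMod M)(X)`. -/
noncomputable def cst (M : Type (u + 1)) [AddCommGroup M] [Module Λ M] :
    M →ₗ[Λ] EtModW.sect Λ (EtModW.constMod Λ X M) (tU X) :=
  ((toSheafify X.smallEtaleTopology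
    ((Functor.const X.Etaleᵒᵖ).obj (ModuleCat.of Λ M))).app (op (tU X))).hom

variable (X) in
theorem constToGlob_cst (M : Type (u + 1)) [AddCommGroup M] [Module Λ M] :
    constToGlob (cst (Λ := Λ) X M) = toSheafify X.smallEtaleTopology
      ((Functor.const X.Etaleᵒᵖ).obj (ModuleCat.of Λ M)) := by
  ext V m
  rw [constToGlob_app]
  exact (NatTrans.naturality_apply (toSheafify X.smallEtaleTopology
      ((Functor.const X.Etaleᵒᵖ).obj (ModuleCat.of Λ M))) (toT V.unop).op m).symm

variable (X) in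
theorem isConstVia_cst (M : Type (u + 1)) [AddCommGroup M] [Module Λ M] :
    IsConstVia Λ (EtModW.constMod Λ X M) (tU X) (cst X M) := by
  rw [← isLocallyBijective_constToGlob, constToGlob_cst]
  exact GrothendieckTopology.W_toSheafify _ _

theorem ev_constMap_cst {N P : Type (u + 1)} [AddCommGroup N] [Module Λ N] [AddCommGroup P]
    [Module Λ P] (f : N →ₗ[Λ] P) (n : N) :
    ev Λ ((constantSheaf X.smallEtaleTopology (ModuleCat.{u + 1} Λ)).map (ModuleCat.ofHom f))
      (tU X) (cst X N n) = cst X P (f n) := by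
  have h := toSheafify_naturality X.smallEtaleTopology
    ((Functor.const X.Etaleᵒᵖ).map (ModuleCat.ofHom f))
  have h1 := congrArg (fun c => c.app (op (tU X)) n) h
  exact h1.symm

end Cst

section Theta

variable {Λ}
variable {A B H : EtModW.Mod Λ X} {U : X.Etale} {M N : Type (u + 1)} [AddCommGroup M] [Module Λ M]
  [AddCommGroup N] [Module Λ N]

theorem pre_homShMap₂ (α : A ⟶ B) (φ : M →ₗ[Λ] EtModW.sect Λ A U)
    (s : EtModW.sect Λ (homSh B H) U) :
    pre H φ (ev Λ (homShMap₂ α (𝟙 H)) U s) = pre H ((ev Λ α U).comp φ) s := rfl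

theorem ev_id (s : EtModW.sect Λ A U) : ev Λ (𝟙 A) U s = s := rfl

end Theta

/-- (E1) -/
theorem epi_homSh_const [IsNoetherianRing Λ] (hΛ : Module.Injective.{u+1} Λ Λ)
    (N P : Type (u+1)) [AddCommGroup N] [Module Λ N] [Module.Finite Λ N]
    [AddCommGroup P] [Module Λ P] [Module.Finite Λ P] (f : N →ₗ[Λ] P) (hf : Function.Injective f) :
    Epi (homShMap₂ ((constantSheaf X.smallEtaleTopology (ModuleCat.{u+1} Λ)).map
      (ModuleCat.ofHom f)) (𝟙 (EtModW.constMod Λ X Λ))) := by
  rw [Etcore.LFreeGen.epi_iff]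
  intro U t x
  have hN := isConstVia_cst (Λ := Λ) X N
  have hP := isConstVia_cst (Λ := Λ) X P
  have hL := isConstVia_cst (Λ := Λ) X Λ
  obtain ⟨W, k, w, χ, hw, e⟩ := (isConstVia_theta hN hL).surjective (toT U) x t
  obtain ⟨χ', hχ'⟩ := hΛ.out f hf χ
  refine ⟨W, k, w, res Λ _ (k ≫ toT U) (theta hP (cst X Λ) χ'), hw, ?_⟩
  have key : ev Λ (homShMap₂ ((constantSheaf X.smallEtaleTopology (ModuleCat.{u+1} Λ)).map
      (ModuleCat.ofHom f)) (𝟙 (EtModW.constMod Λ X Λ))) (tU X) (theta hP (cst X Λ) χ') =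
      theta hN (cst X Λ) χ := by
    refine (pre_bijective hN).1 ?_
    rw [pre_homShMap₂, pre_theta]
    ext n
    rw [pre_apply, LinearMap.comp_apply, ev_constMap_cst, ← pre_apply, pre_theta]
    change cst X Λ (χ' (f n)) = cst X Λ (χ n)
    rw [hχ']
  change ev Λ (homShMap₂ ((constantSheaf X.smallEtaleTopology (ModuleCat.{u+1} Λ)).map
      (ModuleCat.ofHom f)) (𝟙 (EtModW.constMod Λ X Λ))) W
      (res Λ _ (k ≫ toT U) (theta hP (cst X Λ) χ')) = res Λ _ k t
  rw [ev_res, key, e]

end Groth.Agent.Sga4h.X144E1
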