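import Groth.Agent.Sga4h.HomExt
import Groth.Agent.Sga4h.X144Cast
import Groth.Agent.Sga4h.X144Const
import Groth.Agent.Sga4h.X144Nbd

/-!
# Higher `Ext` sheaves of finite type locally constant sheaves (for S3144)

* `exists_res_const`: a finite type locally constant sheaf restricted to some étale neighbourhood is constant.
* `ext_ftlc`: the reduction of the vanishing of `Ext^q(A, Λ)`, `A` finite type locally constant, to constant sheaves.
-/

set_option autoImplicit false
universe u
open CategoryTheory CategoryTheory.Limits AlgebraicGeometry Opposite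
open Groth.Agent.Sga4h.ModRestr Groth.Agent.Sga4h.HomSh Groth.Agent.Sga4h.HomExt

namespace Groth.Agent.Sga4h.X144E3

open Groth.Agent.Etrest

section lift

variable {V X : Scheme.{u}} (p : V ⟶ X) [Etale p]

/-- Étale schemes over `compEtale W` come from étale schemes over `W`. -/
theorem exists_lift_compEtale (W : V.Etale) (Z : X.Etale) (k : Z ⟶ (EtShriek.compEtale p).obj W)
    (z : Z.left) : ∃ (Z' : V.Etale) (k' : Z' ⟶ W) (e : (EtShriek.compEtale p).obj Z' ⟶ Z)
      (z' : Z'.left), k'.left z' = k.left z ∧ (EtShriek.compEtale p).map k' = e ≫ k := by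
  have hk : AlgebraicGeometry.Etale k.left := Etbase.EtSite.etale_left k
  have hW : AlgebraicGeometry.Etale W.hom := W.prop
  let kl : Z.left ⟶ W.left := k.left
  have hkl : AlgebraicGeometry.Etale kl := hk
  let Z' : V.Etale := Scheme.Etale.mk (kl ≫ W.hom)
  let k' : Z' ⟶ W := MorphismProperty.Over.homMk kl rfl trivial
  have hkw : k.left ≫ W.hom ≫ p = Z.hom := Over.w k.hom
  let e : (EtShriek.compEtale p).obj Z' ⟶ Z := MorphismProperty.Over.homMk (𝟙 Z.left) (by
    change 𝟙 Z.left ≫ Z.hom = (kl ≫ W.hom) ≫ p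
    rw [Category.id_comp, Category.assoc]
    exact hkw.symm) trivial
  have he : (EtShriek.compEtale p).map k' = e ≫ k := by
    apply (Scheme.Etale.forget _ ⋙ Over.forget _).map_injective
    exact (Category.id_comp kl).symm
  exact ⟨Z', k', e, z, rfl, he⟩

/-- The canonical map. -/
noncomputable def toMk : (EtShriek.compEtale p).obj (X144Const.tU V) ⟶ Scheme.Etale.mk p :=
  MorphismProperty.Over.homMk (𝟙 V) (by
    change 𝟙 V ≫ p = 𝟙 V ≫ p
    rfl) trivial

variable {p} {Λ : Type (u+1)} [CommRing Λ]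

theorem res_iso_const (A : EtModW.Mod Λ X) {M : Type (u+1)} [AddCommGroup M] [Module Λ M]
    (φ : M →ₗ[Λ] EtModW.sect Λ A (Scheme.Etale.mk p)) (h : ModLoc.IsConstVia Λ A (Scheme.Etale.mk p) φ) :
    Nonempty ((res Λ p).obj A ≅ EtModW.constMod Λ V M) := by
  rw [X144Const.nonempty_iso_constMod_iff]
  let φ' : M →ₗ[Λ] EtModW.sect Λ ((res Λ p).obj A) (X144Const.tU V) :=
    (ModGerm.res Λ A (toMk p)).comp φ
  have hφ' : ∀ {W : V.Etale} (g : W ⟶ X144Const.tU V) (m : M),
      ModGerm.res Λ ((res Λ p).obj A) g (φ' m) =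
        ModGerm.res Λ A ((EtShriek.compEtale p).map g ≫ toMk p) (φ m) := fun g m =>
    (ModGerm.res_comp Λ A (toMk p) ((EtShriek.compEtale p).map g) (φ m)).symm
  refine ⟨φ', ModLoc.IsConstVia.of_sections φ' ?_ ?_⟩
  · intro W g w m hm
    rw [hφ'] at hm
    refine h.injective ((EtShriek.compEtale p).map g ≫ toMk p) w ?_
    rw [hm, map_zero, map_zero]
    rfl
  · intro W g w s
    obtain ⟨Z, k, z, m, hz, hm⟩ := h.surjective ((EtShriek.compEtale p).map g ≫ toMk p) w s
    obtain ⟨Z', k', e, z', hz', he⟩ := exists_lift_compEtale p W Z k z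
    refine ⟨Z', k', z', m, hz'.trans hz, ?_⟩
    rw [hφ']
    change ModGerm.res Λ A ((EtShriek.compEtale p).map k') s = _
    rw [he, ModGerm.res_comp, hm, ← ModGerm.res_comp]
    congr 2
    rw [Functor.map_comp, he]
    simp only [Category.assoc]

end lift

variable (Λ : Type (u+1)) [CommRing Λ] {X : Scheme.{u}}

/-- A finite type locally constant sheaf is constant on étale neighbourhoods. -/
theorem exists_res_const (A : EtModW.Mod Λ X) (hA : EtModW.IsFTLocConst Λ A) (x : X) :
    ∃ (V : Scheme.{u}) (p : V ⟶ X) (_ : Etale p) (v : V) (_ : p v = x) (M : Type (u+1))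
      (_ : AddCommGroup M) (_ : Module Λ M) (_ : Module.Finite Λ M),
      Nonempty ((res Λ p).obj A ≅ EtModW.constMod Λ V M) := by
  rw [ModLoc.ftlc_iff] at hA
  obtain ⟨U, v, M, _, _, _, φ, hv, hφ⟩ := hA x
  exact ⟨U.left, U.hom, U.prop, v, hv, M, inferInstance, inferInstance, inferInstance,
    @res_iso_const U.left X U.hom U.prop Λ _ A M _ _ φ hφ⟩

theorem isZero_res_ext {V : Scheme.{u}} (p : V ⟶ X) [Etale p] (A : EtModW.Mod Λ X)
    (M : Type (u+1)) [AddCommGroup M] [Module Λ M] (e : (res Λ p).obj A ≅ EtModW.constMod Λ V M)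
    (q : ℕ) (h : IsZero (((homShF (EtModW.constMod Λ V M)).rightDerived q).obj (EtModW.constMod Λ V Λ))) :
    IsZero ((res Λ p).obj (((homShF A).rightDerived q).obj (EtModW.constMod Λ X Λ))) := by
  have e1 := (resExt p A q).app (EtModW.constMod Λ X Λ)
  have e2 := (extCongr e q).app ((res Λ p).obj (EtModW.constMod Λ X Λ))
  have e3 := ((homShF (EtModW.constMod Λ V M)).rightDerived q).mapIso (resConst Λ p Λ)
  exact h.of_iso (e1 ≪≫ e2 ≪≫ e3)

/-- (E3) -/
theorem ext_ftlc [IsNoetherianRing Λ]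
    (ext_const : ∀ {X : Scheme.{u}} (M : Type (u+1)) [AddCommGroup M] [Module Λ M] [Module.Finite Λ M] (q : ℕ) (_ : 1 ≤ q),
      IsZero (((homShF (EtModW.constMod Λ X M)).rightDerived q).obj (EtModW.constMod Λ X Λ)))
    (A : EtModW.Mod Λ X) (hA : EtModW.IsFTLocConst Λ A) (q : ℕ) (hq : 1 ≤ q) :
    IsZero (((homShF A).rightDerived q).obj (EtModW.constMod Λ X Λ)) := by
  apply X144Nbd.isZero_of_local
  intro x
  obtain ⟨V, p, hp, v, hv, M, _, _, _, ⟨e⟩⟩ := exists_res_const Λ A hA x
  obtain ⟨Ω, _, _, ξ, t, ht⟩ := Groth.Agent.EtpbcA.Germ.exists_geomPt (X := V) (U := EtCoh.top V) v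
  have h1 : ξ default = v := by
    have h2 := Groth.Agent.EtpbcA.Germ.hom_pt ξ t
    rw [ht] at h2
    exact h2.symm
  refine ⟨V, p, hp, Ω, inferInstance, inferInstance, ξ, fun t => ?_, ?_⟩
  · rw [Subsingleton.elim t default, Scheme.Hom.comp_apply, h1, hv]
  · exact (EtModW.stalk Λ ξ).map_isZero (isZero_res_ext Λ p A M e q (ext_const M q hq))

end Groth.Agent.Sga4h.X144E3
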