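import Groth.Agent.Sga4h.X144Const
import Groth.Agent.Sga4h.HomExt
import Groth.Agent.Sga4h.FunLES
import Groth.Agent.Sga4h.X144Cst
import Groth.Agent.Sga4h.LVanExact
import Groth.Agent.Sga4h.DbcLoc539

/-!
# Vanishing of the local `Ext` sheaves of locally constant sheaves of modules over a self-injective ring

* `epi_homShF_free`, `epi_homShMap_const`, `preservesFiniteColimits_free`, `ext_free`.
-/

set_option autoImplicit false
universe u

open CategoryTheory CategoryTheory.Limits AlgebraicGeometry Opposite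

namespace Groth.Agent.Sga4h.X144ExtA539

open Groth.Agent.Etrest.ModGerm Groth.Agent.Etrest.ModLoc
open Groth.Agent.Sga4h.HomPre Groth.Agent.Sga4h.HomSh Groth.Agent.Sga4h.HomExt
open Groth.Agent.Sga4h.X144Const Groth.Agent.Sga4h.X144Clopen

variable {Λ : Type (u + 1)} [CommRing Λ] {X : Scheme.{u}}

section Const

variable (M : Type (u + 1)) [AddCommGroup M] [Module Λ M]

theorem isConstVia_csec (U : X.Etale) : IsConstVia Λ (EtModW.constMod Λ X M) U (csec Λ M U) := by
  refine IsConstVia.of_sections _ ?_ ?_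
  · intro V g v m h
    rw [res_csec] at h
    exact csec_injective Λ v (h.trans (map_zero _).symm)
  · intro V g v s
    obtain ⟨W, k, w, m, hw, hm⟩ := exists_csec Λ s v
    exact ⟨W, k, w, m, hw, by rw [hm, res_csec]⟩

variable (Λ X) in
/-- The constant sheaf functor. -/
noncomputable abbrev cst : ModuleCat.{u + 1} Λ ⥤ EtModW.Mod Λ X :=
  constantSheaf X.smallEtaleTopology (ModuleCat.{u + 1} Λ)

instance preservesFiniteLimits_cst : PreservesFiniteLimits (cst Λ X) := by
  delta cst constantSheaf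
  infer_instance

instance preservesFiniteColimits_cst : PreservesFiniteColimits (cst Λ X) := by
  delta cst constantSheaf
  infer_instance

instance additive_cst : (cst Λ X).Additive :=
  Functor.additive_of_preserves_binary_products _

variable {M} {N : Type (u + 1)} [AddCommGroup N] [Module Λ N]

theorem ev_cst_map (l : M →ₗ[Λ] N) (U : X.Etale) (m : M) :
    ev Λ ((cst Λ X).map (ModuleCat.ofHom l)) U (csec Λ M U m) = csec Λ N U (l m) := by
  have h := toSheafify_naturality X.smallEtaleTopology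
    ((Functor.const X.Etaleᵒᵖ).map (ModuleCat.ofHom l))
  have h1 := congrArg (fun k => (k.app (op U)).hom m) h
  exact h1.symm

end Const

theorem lev_map₂ {A B H H' : EtModW.Mod Λ X} (f : A ⟶ B) (k : H ⟶ H') {U V : X.Etale}
    (s : EtModW.sect Λ (homSh B H) U) (g : V ⟶ U) (a : EtModW.sect Λ A V) :
    lev (A := A) (H := H') (ev Λ (homShMap₂ f k) U s) g a = ev Λ k V (lev s g (ev Λ f V a)) := rfl

theorem van_zero {F : EtModW.Mod Λ X} {U : X.Etale} (x : U.left) :
    Groth.Agent.Etcore.LVan.Van F (0 : EtModW.sect Λ F U) x :=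
  ⟨U, 𝟙 U, x, rfl, map_zero _⟩

/-- `Hom((Λ^b)_X, -)` preserves epimorphisms. -/
theorem epi_homShF_free (b : ℕ) {H H' : EtModW.Mod Λ X} (k : H ⟶ H') [Epi k] :
    Epi ((homShF (EtModW.constMod Λ X (Fin b → Λ))).map k) := by
  refine LVanExact.epi_of_local _ fun T s t => ?_
  let f := pre H' (csec Λ (Fin b → Λ) T) s
  obtain ⟨V, g, v, hv, hg⟩ := EtpbcA.ConsVan.exists_common_finite t
    (fun (i : Fin b) (V : X.Etale) (g : V ⟶ T) => ∃ s' : EtModW.sect Λ H V,
      ev Λ k V s' = res Λ H' g (f (Pi.single i 1)))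
    (by
      rintro i V W g l ⟨s', hs'⟩
      refine ⟨res Λ H l s', ?_⟩
      rw [ev_res, hs', ← res_comp])
    (by
      intro i
      obtain ⟨V, g, v, s', hv, hs'⟩ := LVanExact.exists_local_lift k (f (Pi.single i 1)) t
      exact ⟨V, g, v, hv, s', hs'⟩)
  choose s' hs' using hg
  let f' : (Fin b → Λ) →ₗ[Λ] EtModW.sect Λ H V := (Pi.basisFun Λ (Fin b)).constr Λ s'
  let σ := (preEquiv H (isConstVia_csec (Λ := Λ) (Fin b → Λ) V)).symm f'
  have hσ : pre H (csec Λ (Fin b → Λ) V) σ = f' :=
    (preEquiv H (isConstVia_csec (Λ := Λ) (Fin b → Λ) V)).apply_symm_apply f'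
  refine ⟨V, g, v, σ, hv, ?_⟩
  have key : ev Λ ((homShF (EtModW.constMod Λ X (Fin b → Λ))).map k) V σ =
      res Λ (homSh (EtModW.constMod Λ X (Fin b → Λ)) H') g s := by
    refine (pre_bijective (H := H') (isConstVia_csec (Λ := Λ) (Fin b → Λ) V)).1 ?_
    have e1 : csec Λ (Fin b → Λ) V = (res Λ (EtModW.constMod Λ X (Fin b → Λ)) g).comp
        (csec Λ (Fin b → Λ) T) := LinearMap.ext fun m => (res_csec Λ g m).symm
    have e2 : pre H' (csec Λ (Fin b → Λ) V)
        (ev Λ ((homShF (EtModW.constMod Λ X (Fin b → Λ))).map k) V σ) =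
        (ev Λ k V).comp (pre H (csec Λ (Fin b → Λ) V) σ) := rfl
    have e3 : pre H' (csec Λ (Fin b → Λ) V)
        (res Λ (homSh (EtModW.constMod Λ X (Fin b → Λ)) H') g s) = (res Λ H' g).comp f := by
      rw [e1, pre_res]
    rw [e2, e3, hσ]
    refine (Pi.basisFun Λ (Fin b)).ext fun i => ?_
    rw [LinearMap.comp_apply, Module.Basis.constr_basis, hs', LinearMap.comp_apply,
      Pi.basisFun_apply]
  have key2 : Groth.Agent.Etcore.LVan.ev ((homShF (EtModW.constMod Λ X (Fin b → Λ))).map k) V σ -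
      Groth.Agent.Etcore.LVan.res ((homShF (EtModW.constMod Λ X (Fin b → Λ))).obj H') g s = 0 :=
    sub_eq_zero.2 key
  exact key2 ▸ van_zero v

/-- `Hom(l, I_X)` is an epimorphism for `l` injective, `I` injective. -/
theorem epi_homShMap_const {K N I : Type (u + 1)} [AddCommGroup K] [Module Λ K] [Module.Finite Λ K]
    [AddCommGroup N] [Module Λ N] [AddCommGroup I] [Module Λ I] (hI : Module.Injective.{u + 1} Λ I)
    (l : K →ₗ[Λ] N) (hl : Function.Injective l) :
    Epi ((homShFMap ((cst Λ X).map (ModuleCat.ofHom l))).app (EtModW.constMod Λ X I)) := by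
  refine LVanExact.epi_of_local _ fun T s t => ?_
  obtain ⟨W, k, w, q, hw, e⟩ := (isConstVia_theta (isConstVia_csec (Λ := Λ) K T)
    (isConstVia_csec (Λ := Λ) I T)).surjective (𝟙 T) t s
  obtain ⟨q', hq'⟩ := hI.out l hl q
  let σ : EtModW.sect Λ (homSh (EtModW.constMod Λ X N) (EtModW.constMod Λ X I)) W :=
    theta (isConstVia_csec (Λ := Λ) N W) (csec Λ I W) q'
  refine ⟨W, k, w, σ, hw, ?_⟩
  have key : ev Λ ((homShFMap ((cst Λ X).map (ModuleCat.ofHom l))).app (EtModW.constMod Λ X I)) W σ =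
      res Λ (homSh (EtModW.constMod Λ X K) (EtModW.constMod Λ X I)) k s := by
    rw [e]
    refine (pre_bijective (H := EtModW.constMod Λ X I) (isConstVia_csec (Λ := Λ) K W)).1 ?_
    have e1 : csec Λ K W = (res Λ (EtModW.constMod Λ X K) (k ≫ 𝟙 T)).comp (csec Λ K T) :=
      LinearMap.ext fun m => (res_csec Λ (k ≫ 𝟙 T) m).symm
    have e3 : pre (EtModW.constMod Λ X I) (csec Λ K W)
        (res Λ (homSh (EtModW.constMod Λ X K) (EtModW.constMod Λ X I)) (k ≫ 𝟙 T)
          (theta (isConstVia_csec (Λ := Λ) K T) (csec Λ I T) q)) =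
        (res Λ (EtModW.constMod Λ X I) (k ≫ 𝟙 T)).comp ((csec Λ I T).comp q) := by
      rw [e1, pre_res, pre_theta]
    rw [e3]
    refine LinearMap.ext fun m => ?_
    have e4 : pre (EtModW.constMod Λ X I) (csec Λ K W)
        (ev Λ ((homShFMap ((cst Λ X).map (ModuleCat.ofHom l))).app (EtModW.constMod Λ X I)) W σ) m =
        lev σ (𝟙 W) (ev Λ ((cst Λ X).map (ModuleCat.ofHom l)) W (csec Λ K W m)) := rfl
    rw [e4, ev_cst_map, ← pre_apply (H := EtModW.constMod Λ X I) (csec Λ N W) σ (l m)]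
    have e5 : pre (EtModW.constMod Λ X I) (csec Λ N W) σ = (csec Λ I W).comp q' := pre_theta _ _ _
    rw [e5]
    change csec Λ I W (q' (l m)) = res Λ (EtModW.constMod Λ X I) (k ≫ 𝟙 T) (csec Λ I T (q m))
    rw [hq', res_csec]
  have key2 : Groth.Agent.Etcore.LVan.ev
      ((homShFMap ((cst Λ X).map (ModuleCat.ofHom l))).app (EtModW.constMod Λ X I)) W σ -
      Groth.Agent.Etcore.LVan.res ((homShF (EtModW.constMod Λ X K)).obj (EtModW.constMod Λ X I)) k s = 0 :=
    sub_eq_zero.2 key
  exact key2 ▸ van_zero w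

section Ext

attribute [local instance 5000] CategoryTheory.Abelian.toPreadditive
  CategoryTheory.Preadditive.preadditiveHasZeroMorphisms

theorem preservesFiniteColimits_free (b : ℕ) :
    PreservesFiniteColimits (homShF (EtModW.constMod Λ X (Fin b → Λ))) := by
  have h : ∀ S : ShortComplex (EtModW.Mod Λ X), S.ShortExact →
      (S.map (homShF (EtModW.constMod Λ X (Fin b → Λ)))).ShortExact := by
    intro S hS
    have := hS.mono_f
    have := hS.epi_g
    exact
      { exact := hS.exact.map_of_mono_of_preservesKernel _ inferInstance inferInstance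
        mono_f := inferInstanceAs (Mono ((homShF (EtModW.constMod Λ X (Fin b → Λ))).map S.f))
        epi_g := epi_homShF_free b S.g }
  have h2 := ((homShF (EtModW.constMod Λ X (Fin b → Λ))).exact_tfae.out 0 3).1 h
  exact h2.2

/-- Local `Ext` sheaves of a free constant sheaf. -/
theorem ext_free (b : ℕ) (H : EtModW.Mod Λ X) (q : ℕ) :
    IsZero (((homShF (EtModW.constMod Λ X (Fin b → Λ))).rightDerived (q + 1)).obj H) := by
  have := preservesFiniteColimits_free (Λ := Λ) (X := X) b
  exact FunLES.isZero_rightDerived_of_exact _ H q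

end Ext

end Groth.Agent.Sga4h.X144ExtA539
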